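import Cfsg.Agent.H315.FineOrth_m3
import Cfsg.Agent.H912.CrossList_m3
import Cfsg.Agent.S0302
import Cfsg.Agent.S0248
import Cfsg.Agent.H95.LSx.Sub
import Cfsg.Agent.S2098
import Cfsg.Agent.H123.SporSimple
import Cfsg.Agent.H149.Sp.Quot
import Cfsg.Agent.H845.LiftIrr
import Cfsg.Agent.H978.Alm.Affine_m3
import Cfsg.Agent.H603.SporElim
import Cfsg.Agent.CTwoTab.Card
import Cfsg.Agent.S2084
import Cfsg.Agent.H698.FinePR
import Cfsg.Agent.H792.Sp.ConwayFive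
import Cfsg.Agent.H843.FullFiD
import Cfsg.Agent.H812.SuzSeven_m3
import Cfsg.Agent.CpAut.Fix
import Cfsg.Agent.H14.KnownSimple
import Cfsg.Agent.H47.MeetONan
import Cfsg.Agent.S0283
import Cfsg.Agent.S1624
import Cfsg.Agent.S1686
import Cfsg.Agent.S1708
import Cfsg.Agent.S2048
import Cfsg.Agent.S2086
import Cfsg.Agent.S2089
import Cfsg.Agent.S2097
import Cfsg.Agent.Lib.FinFast
import Cfsg.Agent.FastGrp
import Cfsg.Agent.Prune
set_option linter.all false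
prune_inst 0x7ffdfcfffff8b9dfffff7e7ffebddffdfbfddfffffdffbcbffe8e3ffbf9f630ebbe1abad1fe0d8fd1ed660be30b87853fbfffeffee6ffc7ffffdfff45ffbee1ff7ffbd8c7197ac341ffe6ffffbf07f8e7f3fffffffffffffffffffffffffffbeffffffffffff
open scoped Cfsg.Agent.FastGrp

/-- Laplace expansion which skips zero entries -/
private noncomputable def detL_527ba {R : Type*} [CommRing R] [DecidableEq R] (n : ℕ) : Matrix (Fin n) (Fin n) R → R :=
  @Nat.rec (fun n => Matrix (Fin n) (Fin n) R → R) (fun _ => 1) (fun n ih M =>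
    ∑ j : Fin (n + 1), if M 0 j = 0 then 0 else (-1) ^ (j : ℕ) * M 0 j * ih (M.submatrix Fin.succ j.succAbove)) n

private theorem detL_eq_527ba {R : Type*} [CommRing R] [DecidableEq R] {n : ℕ} (M : Matrix (Fin n) (Fin n) R) :
    M.det = detL_527ba n M := by
  induction n with
  | zero => exact Matrix.det_fin_zero
  | succ n ih =>
    rw [Matrix.det_succ_row_zero]
    refine Finset.sum_congr rfl fun j _ => ?_
    by_cases h : M 0 j = 0
    · rw [if_pos h, h, mul_zero, zero_mul]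
    · rw [if_neg h, ih]
      rfl


-- part: H315/FineO7
section
/-!
# `Fine` for `PΩ₇(3)`: through `PSL₄(3)`
-/

set_option autoImplicit false

namespace Cfsg.Agent.H315.FineOrth

universe u v w

open Cfsg Cfsg.Agent.H698 Cfsg.Agent.H912.Bd Cfsg.Agent.H315.FineNum

variable {K : Type} [Field K] [Fintype K]

theorem psl_perfect {n : ℕ} (hn : 3 ≤ n) : commutator (Matrix.ProjectiveSpecialLinearGroup (Fin n) K) = ⊤ := by
  have h1 := Cfsg.Agent.S0248.result (F := K) n hn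
  have h2 : (commutator (Matrix.SpecialLinearGroup (Fin n) K)).map
      (QuotientGroup.mk' (Subgroup.center (Matrix.SpecialLinearGroup (Fin n) K))) = ⊤ := by
    rw [h1, ← MonoidHom.range_eq_map, MonoidHom.range_eq_top]
    exact QuotientGroup.mk'_surjective _
  rw [_root_.commutator_def, Subgroup.map_commutator, ← MonoidHom.range_eq_map,
    MonoidHom.range_eq_top.2 (QuotientGroup.mk'_surjective _)] at h2
  rw [_root_.commutator_def]
  exact h2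

seal _root_.Finset.sum _root_.dotProduct in
/-- `PΩ₇(3)` -/
theorem fine_odd_three (hK : Fintype.card K = 3)
    (hN : Cop.{0, w} 3 (Matrix.ProjectiveSpecialLinearGroup (Fin 4) K)) :
    Fine.{0, w} (Cfsg.POmega K (Cfsg.quadFormOdd 3 K)) := by
  obtain ⟨p, f, hp, hf, hq, hpK⟩ := exists_pf (K := K)
  obtain rfl : p = 3 := by
    have h4 : p ∣ 3 := by rw [← hK, hq]; exact dvd_pow_self p (by omega)
    exact (Nat.prime_dvd_prime_iff_eq hp Nat.prime_three).1 h4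
  obtain rfl : f = 1 := by
    rw [hK] at hq
    exact (Nat.pow_right_injective (le_refl 3 |>.trans' (by norm_num)) (by simpa using hq)).symm
  have := Fact.mk hp
  have : Finite (Cfsg.isometryGroup K (Cfsg.quadFormOdd 3 K)) := inferInstance
  have : Finite (Cfsg.POmega K (Cfsg.quadFormOdd 3 K)) := inferInstance
  have ho : Odd (Fintype.card K) := by rw [hK]; decide
  have hs : IsSimpleGroup (Cfsg.POmega K (Cfsg.quadFormOdd 3 K)) := Cfsg.Agent.S0295.result ho 3 le_rfl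
  have hcard := Cfsg.Agent.S0292.result (F := K) hK (by decide) 3 le_rfl
  norm_num only [Finset.prod_range_succ] at hcard
  have haut := Cfsg.Agent.S0816.result (F := K) 3 1 le_rfl hq (by decide) 3 le_rfl
  have h3 : 3 ∣ Nat.card (Cfsg.POmega K (Cfsg.quadFormOdd 3 K)) := by omega
  have hc := center_eq_bot (not_comm (T := Cfsg.POmega K (Cfsg.quadFormOdd 3 K)) Nat.prime_three h3 (by omega))
  refine Fine.of_eleven (d := 10) hc (by omega) (fun p m hp h11 hpT hm hR => ?_) ?_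
  · obtain ⟨j, hj⟩ := exists_odd (K := K) (le_refl 3)
    obtain ⟨e⟩ := Cfsg.Agent.S0302.result (F := K)
    have hker : (e.toMonoidHom.comp (QuotientGroup.mk' (Subgroup.center (Cfsg.Omega K (Cfsg.quadFormPlus 3 K))))).ker
        = Subgroup.center (Cfsg.Omega K (Cfsg.quadFormPlus 3 K)) := by
      ext x
      rw [MonoidHom.mem_ker, MonoidHom.comp_apply]
      change e _ = 1 ↔ _
      rw [map_eq_one_iff _ e.injective, QuotientGroup.mk'_apply, QuotientGroup.eq_one_iff]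
    have hR' : _root_.Cfsg.Agent.H698.Rep.{0, w} p m (Matrix.ProjectiveSpecialLinearGroup (Fin 4) K) :=
      rep_sec hR j (e.toMonoidHom.comp (QuotientGroup.mk' (Subgroup.center (Cfsg.Omega K (Cfsg.quadFormPlus 3 K)))))
        (e.surjective.comp (QuotientGroup.mk'_surjective _)) (by
          intro x hx y
          have h1 : x ∈ Subgroup.center (Cfsg.Omega K (Cfsg.quadFormPlus 3 K)) := by rw [← hker]; exact hx
          exact ((Subgroup.mem_center_iff.1 h1) y).symm) (by rw [hker]; exact hj) (psl_perfect (by norm_num))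
    have h26 : 26 ≤ m := rep_le' hp Nat.prime_three (by omega) hR' hN fun F _ hF => by
      have h7 := Cfsg.Agent.H175.BdSL.bd_psl (F := F) (K := K) (r := 3) (q := 3) Nat.prime_three hK (m := 4)
        (by norm_num) (by exact_mod_cast hF) (MulEquiv.refl (Matrix.ProjectiveSpecialLinearGroup (Fin 4) K))
      exact h7.mono (by norm_num)
    omega
  · rw [haut]
    norm_num only []
    omega

end Cfsg.Agent.H315.FineOrth
end

-- part: H315/FineO8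
section
/-!
# `PΩ⁺₈(2)`: the bound `8` from `5² : Q₈`
-/

set_option autoImplicit false

namespace Cfsg.Agent.H315.FineOrth

universe u v w

open Cfsg Cfsg.Agent.H698 Cfsg.Agent.H912.Bd Cfsg.Agent.H315.FineNum Matrix
open scoped commutatorElement

/-- indices -/
abbrev J8 := Fin 4 ⊕ Fin 4

/-- the plus type form over `F_2` -/
abbrev QJ : (J8 → ZMod 2) → ZMod 2 := Cfsg.quadFormPlus 4 (ZMod 2)

/-- numbering -/
def ixJ : J8 → ℕ
  | .inl i => i
  | .inr i => 4 + i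

/-- matrices from tables -/
def tabJ (l : List (List (ZMod 2))) : Matrix J8 J8 (ZMod 2) := Matrix.of fun i j => (l.getD (ixJ i) []).getD (ixJ j) 0

theorem allJ (P : (J8 → ZMod 2) → Prop)
    (h : ∀ a b c d e f g k : ZMod 2, P (Sum.elim ![a, b, c, d] ![e, f, g, k])) (v : J8 → ZMod 2) : P v := by
  have h1 : v = Sum.elim ![v (.inl 0), v (.inl 1), v (.inl 2), v (.inl 3)]
      ![v (.inr 0), v (.inr 1), v (.inr 2), v (.inr 3)] := by
    funext i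
    rcases i with i | i <;> fin_cases i <;> rfl
  rw [h1]
  exact h _ _ _ _ _ _ _ _

/-- an isometry -/
def mkJ (M N : Matrix J8 J8 (ZMod 2)) (h1 : M * N = 1) (h2 : N * M = 1)
    (hQ : ∀ a b c d e f g k : ZMod 2, QJ (M *ᵥ Sum.elim ![a, b, c, d] ![e, f, g, k])
      = QJ (Sum.elim ![a, b, c, d] ![e, f, g, k])) : Cfsg.isometryGroup (ZMod 2) QJ :=
  ⟨⟨M, N, h1, h2⟩, fun u _ => allJ (fun v => QJ (M *ᵥ v) = QJ v) hQ u⟩

def oE1 : Matrix J8 J8 (ZMod 2) := tabJ [[0, 0, 1, 1, 1, 0, 1, 1], [0, 0, 0, 1, 1, 0, 1, 0], [1, 0, 0, 1, 1, 0, 1, 1],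
  [0, 1, 1, 0, 0, 0, 0, 1], [0, 0, 0, 0, 0, 1, 1, 0], [1, 0, 0, 1, 0, 1, 0, 0],
  [0, 1, 1, 1, 0, 0, 1, 1], [1, 0, 0, 1, 1, 1, 1, 1]]
def oE1i : Matrix J8 J8 (ZMod 2) := tabJ [[0, 0, 0, 1, 1, 1, 1, 0], [1, 1, 0, 1, 0, 0, 0, 0], [1, 0, 1, 1, 1, 1, 1, 0],
  [0, 0, 1, 1, 1, 0, 1, 1], [0, 1, 0, 1, 0, 0, 1, 0], [0, 0, 1, 0, 0, 0, 0, 1],
  [0, 0, 1, 0, 1, 0, 0, 1], [0, 1, 1, 1, 1, 1, 1, 0]]
def oE1s : Matrix J8 J8 (ZMod 2) := tabJ [[0, 0, 0, 1, 0, 0, 0, 0], [0, 0, 0, 1, 0, 1, 0, 0], [1, 0, 1, 1, 0, 0, 0, 0],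
  [0, 0, 0, 1, 1, 1, 1, 0], [1, 1, 1, 0, 0, 1, 1, 1], [1, 1, 0, 0, 1, 1, 1, 0],
  [0, 0, 0, 0, 1, 1, 0, 0], [0, 0, 1, 0, 0, 1, 0, 0]]
def oE1c : Matrix J8 J8 (ZMod 2) := tabJ [[0, 1, 1, 0, 0, 0, 0, 1], [1, 1, 1, 1, 0, 1, 0, 1], [1, 1, 0, 0, 0, 0, 0, 1],
  [1, 0, 0, 0, 0, 0, 0, 0], [1, 1, 0, 0, 0, 0, 1, 0], [1, 1, 0, 0, 0, 0, 0, 0],
  [1, 0, 0, 1, 0, 0, 1, 0], [0, 0, 0, 0, 1, 1, 1, 1]]
def oE2 : Matrix J8 J8 (ZMod 2) := tabJ [[0, 0, 1, 1, 1, 1, 1, 1], [1, 1, 1, 0, 1, 1, 0, 1], [0, 0, 1, 0, 1, 1, 0, 1],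
  [1, 0, 1, 0, 1, 1, 1, 1], [0, 1, 1, 0, 1, 1, 1, 0], [0, 0, 0, 1, 0, 1, 1, 0],
  [0, 1, 1, 1, 0, 1, 1, 0], [0, 0, 0, 1, 1, 1, 1, 0]]
def oE2i : Matrix J8 J8 (ZMod 2) := tabJ [[1, 0, 0, 1, 1, 1, 1, 1], [1, 1, 1, 1, 1, 1, 1, 1], [1, 1, 1, 1, 1, 0, 0, 1],
  [0, 0, 0, 0, 1, 1, 1, 1], [0, 0, 0, 0, 0, 1, 0, 1], [1, 0, 1, 0, 0, 1, 0, 0],
  [1, 0, 1, 0, 1, 1, 1, 1], [0, 1, 1, 1, 1, 0, 0, 0]]
def oE2s : Matrix J8 J8 (ZMod 2) := tabJ [[1, 0, 0, 1, 0, 0, 1, 0], [1, 0, 0, 1, 1, 0, 0, 1], [0, 1, 0, 0, 1, 0, 1, 1],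
  [0, 0, 0, 0, 0, 0, 1, 0], [1, 1, 0, 0, 1, 1, 1, 0], [1, 1, 0, 0, 1, 1, 1, 1],
  [0, 0, 0, 0, 1, 1, 1, 1], [1, 0, 1, 0, 0, 0, 0, 1]]
def oE2c : Matrix J8 J8 (ZMod 2) := tabJ [[1, 1, 1, 0, 0, 1, 1, 0], [1, 1, 1, 0, 0, 0, 0, 0], [1, 1, 1, 0, 1, 0, 1, 1],
  [0, 1, 1, 1, 0, 1, 1, 0], [1, 1, 0, 1, 1, 1, 0, 0], [1, 1, 0, 0, 0, 0, 1, 0],
  [0, 0, 0, 1, 0, 0, 0, 0], [0, 0, 0, 0, 1, 1, 0, 0]]
def oI : Matrix J8 J8 (ZMod 2) := tabJ [[0, 0, 1, 1, 0, 1, 0, 0], [0, 1, 0, 0, 0, 0, 1, 0], [1, 1, 1, 0, 1, 1, 0, 1],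
  [0, 1, 1, 0, 1, 1, 1, 0], [0, 0, 0, 0, 0, 0, 0, 1], [0, 0, 0, 0, 0, 1, 1, 1],
  [0, 0, 0, 0, 1, 0, 0, 0], [0, 0, 0, 0, 1, 0, 1, 1]]
def oIi : Matrix J8 J8 (ZMod 2) := tabJ [[0, 0, 1, 1, 0, 0, 1, 1], [0, 1, 0, 0, 1, 0, 1, 1], [0, 1, 0, 1, 0, 1, 0, 1],
  [1, 1, 0, 1, 0, 0, 1, 0], [0, 0, 0, 0, 0, 0, 1, 0], [0, 0, 0, 0, 0, 1, 1, 1],
  [0, 0, 0, 0, 1, 0, 1, 1], [0, 0, 0, 0, 1, 0, 0, 0]]
def oJ : Matrix J8 J8 (ZMod 2) := tabJ [[0, 0, 1, 1, 1, 1, 1, 1], [1, 1, 1, 1, 0, 0, 0, 0], [0, 0, 0, 1, 1, 0, 1, 0],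
  [1, 0, 0, 1, 1, 1, 1, 1], [0, 0, 0, 0, 0, 1, 1, 0], [0, 0, 0, 0, 0, 1, 0, 0],
  [0, 0, 0, 0, 1, 1, 1, 1], [0, 0, 0, 0, 1, 1, 0, 0]]
def oJi : Matrix J8 J8 (ZMod 2) := tabJ [[0, 0, 1, 1, 1, 0, 1, 1], [1, 1, 1, 1, 1, 0, 0, 1], [1, 0, 1, 0, 1, 0, 1, 1],
  [0, 0, 1, 0, 1, 0, 0, 1], [0, 0, 0, 0, 0, 1, 0, 1], [0, 0, 0, 0, 0, 1, 0, 0],
  [0, 0, 0, 0, 1, 1, 0, 0], [0, 0, 0, 0, 1, 1, 1, 1]]
def oSg : Matrix J8 J8 (ZMod 2) := tabJ [[1, 0, 0, 0, 0, 0, 0, 0], [0, 1, 0, 0, 0, 0, 1, 0], [1, 0, 1, 0, 0, 1, 0, 1],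
  [1, 0, 0, 1, 0, 0, 1, 0], [0, 0, 0, 0, 1, 0, 1, 1], [0, 0, 0, 0, 0, 1, 0, 0],
  [0, 0, 0, 0, 0, 0, 1, 0], [0, 0, 0, 0, 0, 0, 0, 1]]
def oSgi : Matrix J8 J8 (ZMod 2) := tabJ [[1, 0, 0, 0, 0, 0, 0, 0], [0, 1, 0, 0, 0, 0, 1, 0], [1, 0, 1, 0, 0, 1, 0, 1],
  [1, 0, 0, 1, 0, 0, 1, 0], [0, 0, 0, 0, 1, 0, 1, 1], [0, 0, 0, 0, 0, 1, 0, 0],
  [0, 0, 0, 0, 0, 0, 1, 0], [0, 0, 0, 0, 0, 0, 0, 1]]
def oPh : Matrix J8 J8 (ZMod 2) := tabJ [[1, 1, 1, 1, 1, 1, 1, 1], [1, 0, 0, 0, 0, 1, 0, 0], [0, 1, 0, 1, 1, 1, 1, 1],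
  [1, 0, 1, 0, 0, 1, 0, 1], [1, 0, 1, 1, 0, 0, 1, 1], [0, 0, 0, 0, 1, 0, 1, 0],
  [1, 0, 1, 1, 0, 1, 1, 1], [1, 0, 1, 1, 0, 1, 0, 0]]
def oPhi : Matrix J8 J8 (ZMod 2) := tabJ [[0, 1, 0, 0, 1, 0, 1, 0], [0, 0, 1, 1, 1, 1, 1, 1], [1, 1, 1, 0, 1, 0, 1, 0],
  [1, 0, 1, 0, 1, 0, 1, 1], [1, 0, 1, 1, 1, 1, 0, 1], [0, 0, 0, 0, 1, 0, 1, 0],
  [1, 0, 1, 1, 1, 0, 0, 1], [1, 0, 1, 1, 1, 0, 1, 0]]
def oDe : Matrix J8 J8 (ZMod 2) := tabJ [[0, 0, 1, 1, 1, 0, 1, 1], [1, 1, 1, 1, 0, 1, 0, 1], [1, 0, 0, 1, 1, 0, 1, 1],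
  [0, 0, 0, 1, 1, 1, 1, 0], [0, 0, 0, 0, 0, 1, 1, 0], [0, 0, 0, 0, 0, 1, 0, 0],
  [0, 0, 0, 0, 1, 1, 0, 0], [0, 0, 0, 0, 1, 1, 1, 1]]
def oDei : Matrix J8 J8 (ZMod 2) := tabJ [[0, 0, 1, 1, 1, 0, 1, 1], [1, 1, 1, 1, 0, 1, 0, 1], [1, 0, 0, 1, 1, 0, 1, 1],
  [0, 0, 0, 1, 1, 1, 1, 0], [0, 0, 0, 0, 0, 1, 1, 0], [0, 0, 0, 0, 0, 1, 0, 0],
  [0, 0, 0, 0, 1, 1, 0, 0], [0, 0, 0, 0, 1, 1, 1, 1]]
def oS : Matrix J8 J8 (ZMod 2) := tabJ [[0, 0, 1, 1, 1, 1, 1, 1], [0, 1, 1, 1, 1, 1, 0, 1], [0, 0, 0, 1, 1, 0, 1, 0],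
  [0, 0, 1, 0, 1, 1, 0, 1], [1, 0, 1, 1, 0, 0, 0, 0], [0, 0, 0, 0, 0, 1, 0, 0],
  [1, 0, 1, 1, 1, 1, 0, 1], [1, 0, 1, 1, 1, 1, 1, 0]]
def oSi : Matrix J8 J8 (ZMod 2) := tabJ [[0, 0, 1, 1, 1, 1, 1, 1], [0, 1, 1, 1, 1, 1, 0, 1], [0, 0, 0, 1, 1, 0, 1, 0],
  [0, 0, 1, 0, 1, 1, 0, 1], [1, 0, 1, 1, 0, 0, 0, 0], [0, 0, 0, 0, 0, 1, 0, 0],
  [1, 0, 1, 1, 1, 1, 0, 1], [1, 0, 1, 1, 1, 1, 1, 0]]
def oG : Matrix J8 J8 (ZMod 2) := tabJ [[0, 1, 0, 0, 0, 0, 0, 1], [1, 1, 0, 1, 1, 1, 0, 0], [1, 1, 1, 1, 1, 1, 0, 0],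
  [1, 1, 0, 0, 0, 0, 0, 0], [1, 1, 0, 1, 0, 0, 0, 0], [1, 0, 0, 0, 0, 0, 1, 0],
  [1, 1, 0, 0, 0, 0, 1, 0], [0, 0, 1, 0, 1, 0, 0, 1]]
def oGi : Matrix J8 J8 (ZMod 2) := tabJ [[0, 0, 0, 1, 0, 1, 1, 0], [0, 0, 0, 0, 0, 1, 1, 0], [0, 1, 1, 0, 0, 0, 0, 0],
  [0, 0, 0, 1, 1, 0, 0, 0], [1, 1, 1, 0, 0, 1, 1, 1], [1, 0, 1, 0, 1, 1, 1, 1],
  [0, 0, 0, 1, 0, 0, 1, 0], [1, 0, 0, 0, 0, 1, 1, 0]]
def oE12 : Matrix J8 J8 (ZMod 2) := tabJ [[1, 0, 0, 0, 0, 1, 0, 0], [1, 0, 1, 1, 0, 1, 1, 1], [1, 0, 0, 1, 0, 1, 1, 0],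
  [1, 1, 0, 1, 1, 1, 1, 0], [0, 1, 1, 0, 0, 0, 0, 0], [1, 0, 0, 0, 0, 1, 1, 0],
  [0, 0, 0, 0, 0, 1, 1, 1], [1, 0, 0, 0, 0, 0, 0, 0]]
def oX1 : Matrix J8 J8 (ZMod 2) := tabJ [[0, 1, 1, 0, 1, 1, 1, 0], [0, 1, 1, 0, 1, 0, 0, 1], [1, 0, 1, 1, 0, 1, 1, 1],
  [0, 1, 1, 0, 0, 0, 0, 0], [1, 0, 0, 1, 1, 1, 1, 1], [0, 1, 1, 1, 1, 0, 0, 0],
  [0, 0, 0, 0, 0, 1, 1, 0], [1, 1, 1, 0, 1, 0, 1, 0]]
def oX2 : Matrix J8 J8 (ZMod 2) := tabJ [[1, 0, 0, 1, 0, 1, 0, 0], [1, 0, 0, 1, 1, 0, 1, 1], [1, 0, 0, 1, 1, 0, 0, 1],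
  [1, 1, 0, 0, 1, 1, 1, 0], [0, 0, 0, 1, 1, 1, 1, 0], [0, 1, 1, 1, 1, 1, 1, 0],
  [0, 1, 1, 0, 1, 1, 1, 0], [0, 0, 0, 0, 0, 1, 1, 0]]
def oX3 : Matrix J8 J8 (ZMod 2) := tabJ [[1, 0, 0, 0, 0, 1, 0, 0], [1, 1, 0, 1, 1, 0, 1, 1], [0, 0, 0, 1, 0, 1, 0, 0],
  [0, 0, 1, 0, 0, 1, 0, 0], [1, 1, 1, 0, 0, 1, 1, 1], [1, 0, 0, 1, 0, 1, 0, 0],
  [0, 1, 1, 1, 1, 1, 1, 0], [1, 0, 0, 1, 0, 0, 1, 0]]
def oX4 : Matrix J8 J8 (ZMod 2) := tabJ [[1, 0, 0, 1, 0, 0, 1, 0], [0, 1, 0, 1, 0, 0, 0, 0], [1, 0, 1, 1, 0, 1, 1, 1],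
  [1, 0, 0, 0, 0, 0, 0, 0], [0, 1, 1, 0, 0, 0, 0, 0], [0, 0, 0, 1, 0, 1, 1, 0],
  [0, 0, 0, 1, 0, 0, 0, 0], [0, 1, 1, 1, 1, 0, 0, 0]]
def oY1 : Matrix J8 J8 (ZMod 2) := tabJ [[0, 1, 1, 0, 0, 0, 0, 1], [0, 1, 0, 0, 0, 0, 0, 0], [1, 1, 0, 0, 0, 0, 0, 1],
  [0, 0, 1, 1, 1, 0, 1, 1], [1, 1, 0, 0, 0, 0, 1, 0], [1, 1, 0, 0, 1, 1, 1, 0],
  [0, 0, 1, 0, 1, 0, 0, 1], [0, 0, 0, 0, 0, 0, 0, 1]]
def oY2 : Matrix J8 J8 (ZMod 2) := tabJ [[0, 0, 1, 1, 1, 0, 1, 1], [0, 1, 1, 0, 1, 0, 0, 1], [1, 0, 1, 0, 1, 0, 1, 1],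
  [0, 0, 1, 0, 1, 0, 0, 1], [1, 1, 1, 0, 1, 0, 1, 0], [1, 0, 0, 1, 0, 1, 0, 0],
  [0, 1, 1, 1, 0, 0, 1, 1], [1, 0, 0, 1, 1, 1, 1, 1]]
def oY3 : Matrix J8 J8 (ZMod 2) := tabJ [[1, 1, 1, 1, 1, 0, 0, 1], [1, 0, 0, 0, 0, 1, 0, 0], [1, 1, 0, 1, 1, 1, 0, 0],
  [0, 0, 1, 0, 0, 0, 0, 0], [1, 0, 1, 1, 0, 1, 0, 0], [0, 0, 0, 0, 1, 0, 0, 1],
  [1, 0, 1, 1, 0, 0, 0, 0], [1, 0, 1, 1, 0, 0, 1, 1]]
def oY4 : Matrix J8 J8 (ZMod 2) := tabJ [[1, 1, 1, 1, 1, 1, 1, 1], [0, 0, 1, 1, 0, 0, 1, 1], [0, 0, 0, 1, 1, 1, 1, 0],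
  [1, 1, 1, 0, 1, 1, 0, 1], [1, 0, 1, 1, 0, 0, 0, 0], [0, 0, 0, 0, 1, 0, 1, 0],
  [1, 0, 1, 1, 0, 1, 1, 1], [1, 0, 1, 1, 0, 1, 0, 0]]
def oY5 : Matrix J8 J8 (ZMod 2) := tabJ [[1, 0, 0, 0, 0, 1, 0, 1], [1, 0, 0, 1, 1, 0, 1, 1], [1, 1, 0, 1, 0, 0, 1, 0],
  [1, 0, 0, 0, 0, 1, 1, 1], [0, 1, 1, 1, 1, 1, 0, 1], [1, 0, 0, 0, 0, 0, 1, 0],
  [0, 0, 0, 0, 0, 1, 1, 0], [1, 1, 1, 0, 1, 1, 0, 1]]
def oY6 : Matrix J8 J8 (ZMod 2) := tabJ [[1, 1, 0, 0, 0, 0, 1, 1], [1, 1, 0, 1, 1, 0, 1, 1], [1, 1, 0, 0, 0, 0, 0, 1],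
  [0, 1, 0, 0, 0, 0, 1, 0], [0, 1, 1, 0, 1, 1, 1, 1], [1, 0, 0, 0, 0, 0, 1, 0],
  [1, 1, 1, 1, 1, 1, 1, 1], [0, 0, 0, 1, 0, 1, 0, 0]]

private noncomputable def _root_.Cfsg.Agent.LsF.f100a07_0 : {f // @Cfsg.Agent.H315.FineOrth.ixJ = f} := ⟨_, by first | (delta Cfsg.Agent.H315.FineOrth.ixJ; rewrite [Cfsg.Agent.LsF.nadd_pat]; (try delta Cfsg.Agent.H315.FineOrth.ixJ.match_1); (try delta Sum.casesOn); exact rfl) | exact rfl⟩
private noncomputable def _root_.Cfsg.Agent.LsF.f100a07_1 : {f // @Cfsg.Agent.H315.FineOrth.tabJ = f} := ⟨_, by first | (delta Cfsg.Agent.H315.FineOrth.tabJ; rewrite [Cfsg.Agent.LsF.f100a07_0.2, Cfsg.Agent.LsF.mof_pat, Cfsg.Agent.LsF.getD_eq]; exact rfl) | exact rfl⟩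
private noncomputable def _root_.Cfsg.Agent.LsF.f100a07_2 : {f // @Cfsg.Agent.H315.FineOrth.oE1 = f} := ⟨_, by first | (delta Cfsg.Agent.H315.FineOrth.oE1; rewrite [Cfsg.Agent.LsF.f100a07_1.2]; exact rfl) | exact rfl⟩
private noncomputable def _root_.Cfsg.Agent.LsF.f100a07_3 : {f // @Cfsg.Agent.H315.FineOrth.oE1s = f} := ⟨_, by first | (delta Cfsg.Agent.H315.FineOrth.oE1s; rewrite [Cfsg.Agent.LsF.f100a07_1.2]; exact rfl) | exact rfl⟩
theorem m_oE1_oE1 : oE1 * oE1 = oE1s := by (refine of_decide_eq_true ?_; (try (rewrite [Cfsg.Agent.LsF.f100a07_2.2, Cfsg.Agent.LsF.f100a07_3.2, Cfsg.Agent.LsF.zdecEq_eq, Cfsg.Agent.LsF.finFintype_eq, Cfsg.Agent.LsF.dMat_eq, Cfsg.Agent.LsF.instMHMul_eq, Cfsg.Agent.LsF.instZMul_pat, Cfsg.Agent.LsF.zACM_pat, Cfsg.Agent.LsF.decide_eq])); decide +kernel)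
private noncomputable def _root_.Cfsg.Agent.LsF.f100a07_4 : {f // @Cfsg.Agent.H315.FineOrth.oE1i = f} := ⟨_, by first | (delta Cfsg.Agent.H315.FineOrth.oE1i; rewrite [Cfsg.Agent.LsF.f100a07_1.2]; exact rfl) | exact rfl⟩
theorem m_oE1s_oE1s : oE1s * oE1s = oE1i := by (refine of_decide_eq_true ?_; (try (rewrite [Cfsg.Agent.LsF.f100a07_3.2, Cfsg.Agent.LsF.f100a07_4.2, Cfsg.Agent.LsF.zdecEq_eq, Cfsg.Agent.LsF.finFintype_eq, Cfsg.Agent.LsF.dMat_eq, Cfsg.Agent.LsF.instMHMul_eq, Cfsg.Agent.LsF.instZMul_pat, Cfsg.Agent.LsF.zACM_pat, Cfsg.Agent.LsF.decide_eq])); decide +kernel)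
private noncomputable def _root_.Cfsg.Agent.LsF.f100a07_5 : {f // @Cfsg.Agent.H315.FineOrth.oE1c = f} := ⟨_, by first | (delta Cfsg.Agent.H315.FineOrth.oE1c; rewrite [Cfsg.Agent.LsF.f100a07_1.2]; exact rfl) | exact rfl⟩
theorem m_oE1_oE1s : oE1 * oE1s = oE1c := by (refine of_decide_eq_true ?_; (try (rewrite [Cfsg.Agent.LsF.f100a07_2.2, Cfsg.Agent.LsF.f100a07_3.2, Cfsg.Agent.LsF.f100a07_5.2, Cfsg.Agent.LsF.zdecEq_eq, Cfsg.Agent.LsF.finFintype_eq, Cfsg.Agent.LsF.dMat_eq, Cfsg.Agent.LsF.instMHMul_eq, Cfsg.Agent.LsF.instZMul_pat, Cfsg.Agent.LsF.zACM_pat, Cfsg.Agent.LsF.decide_eq])); decide +kernel)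
private noncomputable def _root_.Cfsg.Agent.LsF.f100a07_6 : {f // @Cfsg.Agent.H315.FineOrth.oE2 = f} := ⟨_, by first | (delta Cfsg.Agent.H315.FineOrth.oE2; rewrite [Cfsg.Agent.LsF.f100a07_1.2]; exact rfl) | exact rfl⟩
private noncomputable def _root_.Cfsg.Agent.LsF.f100a07_7 : {f // @Cfsg.Agent.H315.FineOrth.oE2s = f} := ⟨_, by first | (delta Cfsg.Agent.H315.FineOrth.oE2s; rewrite [Cfsg.Agent.LsF.f100a07_1.2]; exact rfl) | exact rfl⟩
theorem m_oE2_oE2 : oE2 * oE2 = oE2s := by (refine of_decide_eq_true ?_; (try (rewrite [Cfsg.Agent.LsF.f100a07_6.2, Cfsg.Agent.LsF.f100a07_7.2, Cfsg.Agent.LsF.zdecEq_eq, Cfsg.Agent.LsF.finFintype_eq, Cfsg.Agent.LsF.dMat_eq, Cfsg.Agent.LsF.instMHMul_eq, Cfsg.Agent.LsF.instZMul_pat, Cfsg.Agent.LsF.zACM_pat, Cfsg.Agent.LsF.decide_eq])); decide +kernel)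
private noncomputable def _root_.Cfsg.Agent.LsF.f100a07_8 : {f // @Cfsg.Agent.H315.FineOrth.oE2c = f} := ⟨_, by first | (delta Cfsg.Agent.H315.FineOrth.oE2c; rewrite [Cfsg.Agent.LsF.f100a07_1.2]; exact rfl) | exact rfl⟩
theorem m_oE2s_oE2 : oE2s * oE2 = oE2c := by (refine of_decide_eq_true ?_; (try (rewrite [Cfsg.Agent.LsF.f100a07_7.2, Cfsg.Agent.LsF.f100a07_6.2, Cfsg.Agent.LsF.f100a07_8.2, Cfsg.Agent.LsF.zdecEq_eq, Cfsg.Agent.LsF.finFintype_eq, Cfsg.Agent.LsF.dMat_eq, Cfsg.Agent.LsF.instMHMul_eq, Cfsg.Agent.LsF.instZMul_pat, Cfsg.Agent.LsF.zACM_pat, Cfsg.Agent.LsF.decide_eq])); decide +kernel)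
private noncomputable def _root_.Cfsg.Agent.LsF.f100a07_9 : {f // @Cfsg.Agent.H315.FineOrth.oE2i = f} := ⟨_, by first | (delta Cfsg.Agent.H315.FineOrth.oE2i; rewrite [Cfsg.Agent.LsF.f100a07_1.2]; exact rfl) | exact rfl⟩
theorem m_oE2s_oE2s : oE2s * oE2s = oE2i := by (refine of_decide_eq_true ?_; (try (rewrite [Cfsg.Agent.LsF.f100a07_7.2, Cfsg.Agent.LsF.f100a07_9.2, Cfsg.Agent.LsF.zdecEq_eq, Cfsg.Agent.LsF.finFintype_eq, Cfsg.Agent.LsF.dMat_eq, Cfsg.Agent.LsF.instMHMul_eq, Cfsg.Agent.LsF.instZMul_pat, Cfsg.Agent.LsF.zACM_pat, Cfsg.Agent.LsF.decide_eq])); decide +kernel)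
private noncomputable def _root_.Cfsg.Agent.LsF.f100a07_10 : {f // @Cfsg.Agent.H315.FineOrth.oE12 = f} := ⟨_, by first | (delta Cfsg.Agent.H315.FineOrth.oE12; rewrite [Cfsg.Agent.LsF.f100a07_1.2]; exact rfl) | exact rfl⟩
theorem m_oE1_oE2 : oE1 * oE2 = oE12 := by (refine of_decide_eq_true ?_; (try (rewrite [Cfsg.Agent.LsF.f100a07_2.2, Cfsg.Agent.LsF.f100a07_6.2, Cfsg.Agent.LsF.f100a07_10.2, Cfsg.Agent.LsF.zdecEq_eq, Cfsg.Agent.LsF.finFintype_eq, Cfsg.Agent.LsF.dMat_eq, Cfsg.Agent.LsF.instMHMul_eq, Cfsg.Agent.LsF.instZMul_pat, Cfsg.Agent.LsF.zACM_pat, Cfsg.Agent.LsF.decide_eq])); decide +kernel)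
theorem m_oE2_oE1 : oE2 * oE1 = oE12 := by (refine of_decide_eq_true ?_; (try (rewrite [Cfsg.Agent.LsF.f100a07_6.2, Cfsg.Agent.LsF.f100a07_2.2, Cfsg.Agent.LsF.f100a07_10.2, Cfsg.Agent.LsF.zdecEq_eq, Cfsg.Agent.LsF.finFintype_eq, Cfsg.Agent.LsF.dMat_eq, Cfsg.Agent.LsF.instMHMul_eq, Cfsg.Agent.LsF.instZMul_pat, Cfsg.Agent.LsF.zACM_pat, Cfsg.Agent.LsF.decide_eq])); decide +kernel)
private noncomputable def _root_.Cfsg.Agent.LsF.f100a07_11 : {f // @Cfsg.Agent.H315.FineOrth.oI = f} := ⟨_, by first | (delta Cfsg.Agent.H315.FineOrth.oI; rewrite [Cfsg.Agent.LsF.f100a07_1.2]; exact rfl) | exact rfl⟩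
private noncomputable def _root_.Cfsg.Agent.LsF.f100a07_12 : {f // @Cfsg.Agent.H315.FineOrth.oX1 = f} := ⟨_, by first | (delta Cfsg.Agent.H315.FineOrth.oX1; rewrite [Cfsg.Agent.LsF.f100a07_1.2]; exact rfl) | exact rfl⟩
theorem m_oI_oE1 : oI * oE1 = oX1 := by (refine of_decide_eq_true ?_; (try (rewrite [Cfsg.Agent.LsF.f100a07_11.2, Cfsg.Agent.LsF.f100a07_2.2, Cfsg.Agent.LsF.f100a07_12.2, Cfsg.Agent.LsF.zdecEq_eq, Cfsg.Agent.LsF.finFintype_eq, Cfsg.Agent.LsF.dMat_eq, Cfsg.Agent.LsF.instMHMul_eq, Cfsg.Agent.LsF.instZMul_pat, Cfsg.Agent.LsF.zACM_pat, Cfsg.Agent.LsF.decide_eq])); decide +kernel)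
theorem m_oE1s_oI : oE1s * oI = oX1 := by (refine of_decide_eq_true ?_; (try (rewrite [Cfsg.Agent.LsF.f100a07_3.2, Cfsg.Agent.LsF.f100a07_11.2, Cfsg.Agent.LsF.f100a07_12.2, Cfsg.Agent.LsF.zdecEq_eq, Cfsg.Agent.LsF.finFintype_eq, Cfsg.Agent.LsF.dMat_eq, Cfsg.Agent.LsF.instMHMul_eq, Cfsg.Agent.LsF.instZMul_pat, Cfsg.Agent.LsF.zACM_pat, Cfsg.Agent.LsF.decide_eq])); decide +kernel)
private noncomputable def _root_.Cfsg.Agent.LsF.f100a07_13 : {f // @Cfsg.Agent.H315.FineOrth.oX2 = f} := ⟨_, by first | (delta Cfsg.Agent.H315.FineOrth.oX2; rewrite [Cfsg.Agent.LsF.f100a07_1.2]; exact rfl) | exact rfl⟩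
theorem m_oI_oE2 : oI * oE2 = oX2 := by (refine of_decide_eq_true ?_; (try (rewrite [Cfsg.Agent.LsF.f100a07_11.2, Cfsg.Agent.LsF.f100a07_6.2, Cfsg.Agent.LsF.f100a07_13.2, Cfsg.Agent.LsF.zdecEq_eq, Cfsg.Agent.LsF.finFintype_eq, Cfsg.Agent.LsF.dMat_eq, Cfsg.Agent.LsF.instMHMul_eq, Cfsg.Agent.LsF.instZMul_pat, Cfsg.Agent.LsF.zACM_pat, Cfsg.Agent.LsF.decide_eq])); decide +kernel)
theorem m_oE2c_oI : oE2c * oI = oX2 := by (refine of_decide_eq_true ?_; (try (rewrite [Cfsg.Agent.LsF.f100a07_8.2, Cfsg.Agent.LsF.f100a07_11.2, Cfsg.Agent.LsF.f100a07_13.2, Cfsg.Agent.LsF.zdecEq_eq, Cfsg.Agent.LsF.finFintype_eq, Cfsg.Agent.LsF.dMat_eq, Cfsg.Agent.LsF.instMHMul_eq, Cfsg.Agent.LsF.instZMul_pat, Cfsg.Agent.LsF.zACM_pat, Cfsg.Agent.LsF.decide_eq])); decide +kernel)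
private noncomputable def _root_.Cfsg.Agent.LsF.f100a07_14 : {f // @Cfsg.Agent.H315.FineOrth.oJ = f} := ⟨_, by first | (delta Cfsg.Agent.H315.FineOrth.oJ; rewrite [Cfsg.Agent.LsF.f100a07_1.2]; exact rfl) | exact rfl⟩
private noncomputable def _root_.Cfsg.Agent.LsF.f100a07_15 : {f // @Cfsg.Agent.H315.FineOrth.oX3 = f} := ⟨_, by first | (delta Cfsg.Agent.H315.FineOrth.oX3; rewrite [Cfsg.Agent.LsF.f100a07_1.2]; exact rfl) | exact rfl⟩
theorem m_oJ_oE1 : oJ * oE1 = oX3 := by (refine of_decide_eq_true ?_; (try (rewrite [Cfsg.Agent.LsF.f100a07_14.2, Cfsg.Agent.LsF.f100a07_2.2, Cfsg.Agent.LsF.f100a07_15.2, Cfsg.Agent.LsF.zdecEq_eq, Cfsg.Agent.LsF.finFintype_eq, Cfsg.Agent.LsF.dMat_eq, Cfsg.Agent.LsF.instMHMul_eq, Cfsg.Agent.LsF.instZMul_pat, Cfsg.Agent.LsF.zACM_pat, Cfsg.Agent.LsF.decide_eq])); decide +kernel)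
theorem m_oE2_oJ : oE2 * oJ = oX3 := by (refine of_decide_eq_true ?_; (try (rewrite [Cfsg.Agent.LsF.f100a07_6.2, Cfsg.Agent.LsF.f100a07_14.2, Cfsg.Agent.LsF.f100a07_15.2, Cfsg.Agent.LsF.zdecEq_eq, Cfsg.Agent.LsF.finFintype_eq, Cfsg.Agent.LsF.dMat_eq, Cfsg.Agent.LsF.instMHMul_eq, Cfsg.Agent.LsF.instZMul_pat, Cfsg.Agent.LsF.zACM_pat, Cfsg.Agent.LsF.decide_eq])); decide +kernel)
private noncomputable def _root_.Cfsg.Agent.LsF.f100a07_16 : {f // @Cfsg.Agent.H315.FineOrth.oX4 = f} := ⟨_, by first | (delta Cfsg.Agent.H315.FineOrth.oX4; rewrite [Cfsg.Agent.LsF.f100a07_1.2]; exact rfl) | exact rfl⟩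
theorem m_oJ_oE2 : oJ * oE2 = oX4 := by (refine of_decide_eq_true ?_; (try (rewrite [Cfsg.Agent.LsF.f100a07_14.2, Cfsg.Agent.LsF.f100a07_6.2, Cfsg.Agent.LsF.f100a07_16.2, Cfsg.Agent.LsF.zdecEq_eq, Cfsg.Agent.LsF.finFintype_eq, Cfsg.Agent.LsF.dMat_eq, Cfsg.Agent.LsF.instMHMul_eq, Cfsg.Agent.LsF.instZMul_pat, Cfsg.Agent.LsF.zACM_pat, Cfsg.Agent.LsF.decide_eq])); decide +kernel)
theorem m_oE1i_oJ : oE1i * oJ = oX4 := by (refine of_decide_eq_true ?_; (try (rewrite [Cfsg.Agent.LsF.f100a07_4.2, Cfsg.Agent.LsF.f100a07_14.2, Cfsg.Agent.LsF.f100a07_16.2, Cfsg.Agent.LsF.zdecEq_eq, Cfsg.Agent.LsF.finFintype_eq, Cfsg.Agent.LsF.dMat_eq, Cfsg.Agent.LsF.instMHMul_eq, Cfsg.Agent.LsF.instZMul_pat, Cfsg.Agent.LsF.zACM_pat, Cfsg.Agent.LsF.decide_eq])); decide +kernel)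
private noncomputable def _root_.Cfsg.Agent.LsF.f100a07_17 : {f // @Cfsg.Agent.H315.FineOrth.oDe = f} := ⟨_, by first | (delta Cfsg.Agent.H315.FineOrth.oDe; rewrite [Cfsg.Agent.LsF.f100a07_1.2]; exact rfl) | exact rfl⟩
private noncomputable def _root_.Cfsg.Agent.LsF.f100a07_18 : {f // @Cfsg.Agent.H315.FineOrth.oY1 = f} := ⟨_, by first | (delta Cfsg.Agent.H315.FineOrth.oY1; rewrite [Cfsg.Agent.LsF.f100a07_1.2]; exact rfl) | exact rfl⟩
theorem m_oDe_oE1s : oDe * oE1s = oY1 := by (refine of_decide_eq_true ?_; (try (rewrite [Cfsg.Agent.LsF.f100a07_17.2, Cfsg.Agent.LsF.f100a07_3.2, Cfsg.Agent.LsF.f100a07_18.2, Cfsg.Agent.LsF.zdecEq_eq, Cfsg.Agent.LsF.finFintype_eq, Cfsg.Agent.LsF.dMat_eq, Cfsg.Agent.LsF.instMHMul_eq, Cfsg.Agent.LsF.instZMul_pat, Cfsg.Agent.LsF.zACM_pat, Cfsg.Agent.LsF.decide_eq])); decide +kernel)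
theorem m_oE1c_oDe : oE1c * oDe = oY1 := by (refine of_decide_eq_true ?_; (try (rewrite [Cfsg.Agent.LsF.f100a07_5.2, Cfsg.Agent.LsF.f100a07_17.2, Cfsg.Agent.LsF.f100a07_18.2, Cfsg.Agent.LsF.zdecEq_eq, Cfsg.Agent.LsF.finFintype_eq, Cfsg.Agent.LsF.dMat_eq, Cfsg.Agent.LsF.instMHMul_eq, Cfsg.Agent.LsF.instZMul_pat, Cfsg.Agent.LsF.zACM_pat, Cfsg.Agent.LsF.decide_eq])); decide +kernel)
private noncomputable def _root_.Cfsg.Agent.LsF.f100a07_19 : {f // @Cfsg.Agent.H315.FineOrth.oSg = f} := ⟨_, by first | (delta Cfsg.Agent.H315.FineOrth.oSg; rewrite [Cfsg.Agent.LsF.f100a07_1.2]; exact rfl) | exact rfl⟩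
private noncomputable def _root_.Cfsg.Agent.LsF.f100a07_20 : {f // @Cfsg.Agent.H315.FineOrth.oY2 = f} := ⟨_, by first | (delta Cfsg.Agent.H315.FineOrth.oY2; rewrite [Cfsg.Agent.LsF.f100a07_1.2]; exact rfl) | exact rfl⟩
theorem m_oSg_oE1 : oSg * oE1 = oY2 := by (refine of_decide_eq_true ?_; (try (rewrite [Cfsg.Agent.LsF.f100a07_19.2, Cfsg.Agent.LsF.f100a07_2.2, Cfsg.Agent.LsF.f100a07_20.2, Cfsg.Agent.LsF.zdecEq_eq, Cfsg.Agent.LsF.finFintype_eq, Cfsg.Agent.LsF.dMat_eq, Cfsg.Agent.LsF.instMHMul_eq, Cfsg.Agent.LsF.instZMul_pat, Cfsg.Agent.LsF.zACM_pat, Cfsg.Agent.LsF.decide_eq])); decide +kernel)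
theorem m_oE2_oSg : oE2 * oSg = oY2 := by (refine of_decide_eq_true ?_; (try (rewrite [Cfsg.Agent.LsF.f100a07_6.2, Cfsg.Agent.LsF.f100a07_19.2, Cfsg.Agent.LsF.f100a07_20.2, Cfsg.Agent.LsF.zdecEq_eq, Cfsg.Agent.LsF.finFintype_eq, Cfsg.Agent.LsF.dMat_eq, Cfsg.Agent.LsF.instMHMul_eq, Cfsg.Agent.LsF.instZMul_pat, Cfsg.Agent.LsF.zACM_pat, Cfsg.Agent.LsF.decide_eq])); decide +kernel)
private noncomputable def _root_.Cfsg.Agent.LsF.f100a07_21 : {f // @Cfsg.Agent.H315.FineOrth.oPh = f} := ⟨_, by first | (delta Cfsg.Agent.H315.FineOrth.oPh; rewrite [Cfsg.Agent.LsF.f100a07_1.2]; exact rfl) | exact rfl⟩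
private noncomputable def _root_.Cfsg.Agent.LsF.f100a07_22 : {f // @Cfsg.Agent.H315.FineOrth.oY3 = f} := ⟨_, by first | (delta Cfsg.Agent.H315.FineOrth.oY3; rewrite [Cfsg.Agent.LsF.f100a07_1.2]; exact rfl) | exact rfl⟩
theorem m_oPh_oSg : oPh * oSg = oY3 := by (refine of_decide_eq_true ?_; (try (rewrite [Cfsg.Agent.LsF.f100a07_21.2, Cfsg.Agent.LsF.f100a07_19.2, Cfsg.Agent.LsF.f100a07_22.2, Cfsg.Agent.LsF.zdecEq_eq, Cfsg.Agent.LsF.finFintype_eq, Cfsg.Agent.LsF.dMat_eq, Cfsg.Agent.LsF.instMHMul_eq, Cfsg.Agent.LsF.instZMul_pat, Cfsg.Agent.LsF.zACM_pat, Cfsg.Agent.LsF.decide_eq])); decide +kernel)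
private noncomputable def _root_.Cfsg.Agent.LsF.f100a07_23 : {f // @Cfsg.Agent.H315.FineOrth.oY4 = f} := ⟨_, by first | (delta Cfsg.Agent.H315.FineOrth.oY4; rewrite [Cfsg.Agent.LsF.f100a07_1.2]; exact rfl) | exact rfl⟩
theorem m_oSg_oPh : oSg * oPh = oY4 := by (refine of_decide_eq_true ?_; (try (rewrite [Cfsg.Agent.LsF.f100a07_19.2, Cfsg.Agent.LsF.f100a07_21.2, Cfsg.Agent.LsF.f100a07_23.2, Cfsg.Agent.LsF.zdecEq_eq, Cfsg.Agent.LsF.finFintype_eq, Cfsg.Agent.LsF.dMat_eq, Cfsg.Agent.LsF.instMHMul_eq, Cfsg.Agent.LsF.instZMul_pat, Cfsg.Agent.LsF.zACM_pat, Cfsg.Agent.LsF.decide_eq])); decide +kernel)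
theorem m_oI_oY4 : oI * oY4 = oY3 := by (refine of_decide_eq_true ?_; (try (rewrite [Cfsg.Agent.LsF.f100a07_11.2, Cfsg.Agent.LsF.f100a07_23.2, Cfsg.Agent.LsF.f100a07_22.2, Cfsg.Agent.LsF.zdecEq_eq, Cfsg.Agent.LsF.finFintype_eq, Cfsg.Agent.LsF.dMat_eq, Cfsg.Agent.LsF.instMHMul_eq, Cfsg.Agent.LsF.instZMul_pat, Cfsg.Agent.LsF.zACM_pat, Cfsg.Agent.LsF.decide_eq])); decide +kernel)
private noncomputable def _root_.Cfsg.Agent.LsF.f100a07_24 : {f // @Cfsg.Agent.H315.FineOrth.oS = f} := ⟨_, by first | (delta Cfsg.Agent.H315.FineOrth.oS; rewrite [Cfsg.Agent.LsF.f100a07_1.2]; exact rfl) | exact rfl⟩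
private noncomputable def _root_.Cfsg.Agent.LsF.f100a07_25 : {f // @Cfsg.Agent.H315.FineOrth.oG = f} := ⟨_, by first | (delta Cfsg.Agent.H315.FineOrth.oG; rewrite [Cfsg.Agent.LsF.f100a07_1.2]; exact rfl) | exact rfl⟩
private noncomputable def _root_.Cfsg.Agent.LsF.f100a07_26 : {f // @Cfsg.Agent.H315.FineOrth.oY5 = f} := ⟨_, by first | (delta Cfsg.Agent.H315.FineOrth.oY5; rewrite [Cfsg.Agent.LsF.f100a07_1.2]; exact rfl) | exact rfl⟩
theorem m_oS_oG : oS * oG = oY5 := by (refine of_decide_eq_true ?_; (try (rewrite [Cfsg.Agent.LsF.f100a07_24.2, Cfsg.Agent.LsF.f100a07_25.2, Cfsg.Agent.LsF.f100a07_26.2, Cfsg.Agent.LsF.zdecEq_eq, Cfsg.Agent.LsF.finFintype_eq, Cfsg.Agent.LsF.dMat_eq, Cfsg.Agent.LsF.instMHMul_eq, Cfsg.Agent.LsF.instZMul_pat, Cfsg.Agent.LsF.zACM_pat, Cfsg.Agent.LsF.decide_eq])); decide +kernel)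
private noncomputable def _root_.Cfsg.Agent.LsF.f100a07_27 : {f // @Cfsg.Agent.H315.FineOrth.oY6 = f} := ⟨_, by first | (delta Cfsg.Agent.H315.FineOrth.oY6; rewrite [Cfsg.Agent.LsF.f100a07_1.2]; exact rfl) | exact rfl⟩
theorem m_oG_oS : oG * oS = oY6 := by (refine of_decide_eq_true ?_; (try (rewrite [Cfsg.Agent.LsF.f100a07_25.2, Cfsg.Agent.LsF.f100a07_24.2, Cfsg.Agent.LsF.f100a07_27.2, Cfsg.Agent.LsF.zdecEq_eq, Cfsg.Agent.LsF.finFintype_eq, Cfsg.Agent.LsF.dMat_eq, Cfsg.Agent.LsF.instMHMul_eq, Cfsg.Agent.LsF.instZMul_pat, Cfsg.Agent.LsF.zACM_pat, Cfsg.Agent.LsF.decide_eq])); decide +kernel)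
theorem m_oJ_oY6 : oJ * oY6 = oY5 := by (refine of_decide_eq_true ?_; (try (rewrite [Cfsg.Agent.LsF.f100a07_14.2, Cfsg.Agent.LsF.f100a07_27.2, Cfsg.Agent.LsF.f100a07_26.2, Cfsg.Agent.LsF.zdecEq_eq, Cfsg.Agent.LsF.finFintype_eq, Cfsg.Agent.LsF.dMat_eq, Cfsg.Agent.LsF.instMHMul_eq, Cfsg.Agent.LsF.instZMul_pat, Cfsg.Agent.LsF.zACM_pat, Cfsg.Agent.LsF.decide_eq])); decide +kernel)
theorem r_oE1 : oE1 * oE1i = 1 := by (refine of_decide_eq_true ?_; (try (rewrite [Cfsg.Agent.LsF.f100a07_2.2, Cfsg.Agent.LsF.f100a07_4.2, Cfsg.Agent.LsF.zdecEq_eq, Cfsg.Agent.LsF.finFintype_eq, Cfsg.Agent.LsF.dMat_eq, Cfsg.Agent.LsF.instMHMul_eq, Cfsg.Agent.LsF.instMOne_eq, Cfsg.Agent.LsF.instZMul_pat, Cfsg.Agent.LsF.zACM_pat, Cfsg.Agent.LsF.dFinEq_eq, Cfsg.Agent.LsF.decide_eq])); decide +kernel)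
theorem l_oE1 : oE1i * oE1 = 1 := by (refine of_decide_eq_true ?_; (try (rewrite [Cfsg.Agent.LsF.f100a07_4.2, Cfsg.Agent.LsF.f100a07_2.2, Cfsg.Agent.LsF.zdecEq_eq, Cfsg.Agent.LsF.finFintype_eq, Cfsg.Agent.LsF.dMat_eq, Cfsg.Agent.LsF.instMHMul_eq, Cfsg.Agent.LsF.instMOne_eq, Cfsg.Agent.LsF.instZMul_pat, Cfsg.Agent.LsF.zACM_pat, Cfsg.Agent.LsF.dFinEq_eq, Cfsg.Agent.LsF.decide_eq])); decide +kernel)
theorem r_oE2 : oE2 * oE2i = 1 := by (refine of_decide_eq_true ?_; (try (rewrite [Cfsg.Agent.LsF.f100a07_6.2, Cfsg.Agent.LsF.f100a07_9.2, Cfsg.Agent.LsF.zdecEq_eq, Cfsg.Agent.LsF.finFintype_eq, Cfsg.Agent.LsF.dMat_eq, Cfsg.Agent.LsF.instMHMul_eq, Cfsg.Agent.LsF.instMOne_eq, Cfsg.Agent.LsF.instZMul_pat, Cfsg.Agent.LsF.zACM_pat, Cfsg.Agent.LsF.dFinEq_eq, Cfsg.Agent.LsF.decide_eq])); decide +kernel)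
theorem l_oE2 : oE2i * oE2 = 1 := by (refine of_decide_eq_true ?_; (try (rewrite [Cfsg.Agent.LsF.f100a07_9.2, Cfsg.Agent.LsF.f100a07_6.2, Cfsg.Agent.LsF.zdecEq_eq, Cfsg.Agent.LsF.finFintype_eq, Cfsg.Agent.LsF.dMat_eq, Cfsg.Agent.LsF.instMHMul_eq, Cfsg.Agent.LsF.instMOne_eq, Cfsg.Agent.LsF.instZMul_pat, Cfsg.Agent.LsF.zACM_pat, Cfsg.Agent.LsF.dFinEq_eq, Cfsg.Agent.LsF.decide_eq])); decide +kernel)
private noncomputable def _root_.Cfsg.Agent.LsF.f100a07_28 : {f // @Cfsg.Agent.H315.FineOrth.oIi = f} := ⟨_, by first | (delta Cfsg.Agent.H315.FineOrth.oIi; rewrite [Cfsg.Agent.LsF.f100a07_1.2]; exact rfl) | exact rfl⟩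
theorem r_oI : oI * oIi = 1 := by (refine of_decide_eq_true ?_; (try (rewrite [Cfsg.Agent.LsF.f100a07_11.2, Cfsg.Agent.LsF.f100a07_28.2, Cfsg.Agent.LsF.zdecEq_eq, Cfsg.Agent.LsF.finFintype_eq, Cfsg.Agent.LsF.dMat_eq, Cfsg.Agent.LsF.instMHMul_eq, Cfsg.Agent.LsF.instMOne_eq, Cfsg.Agent.LsF.instZMul_pat, Cfsg.Agent.LsF.zACM_pat, Cfsg.Agent.LsF.dFinEq_eq, Cfsg.Agent.LsF.decide_eq])); decide +kernel)
theorem l_oI : oIi * oI = 1 := by (refine of_decide_eq_true ?_; (try (rewrite [Cfsg.Agent.LsF.f100a07_28.2, Cfsg.Agent.LsF.f100a07_11.2, Cfsg.Agent.LsF.zdecEq_eq, Cfsg.Agent.LsF.finFintype_eq, Cfsg.Agent.LsF.dMat_eq, Cfsg.Agent.LsF.instMHMul_eq, Cfsg.Agent.LsF.instMOne_eq, Cfsg.Agent.LsF.instZMul_pat, Cfsg.Agent.LsF.zACM_pat, Cfsg.Agent.LsF.dFinEq_eq, Cfsg.Agent.LsF.decide_eq])); decide +kernel)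
private noncomputable def _root_.Cfsg.Agent.LsF.f100a07_29 : {f // @Cfsg.Agent.H315.FineOrth.oJi = f} := ⟨_, by first | (delta Cfsg.Agent.H315.FineOrth.oJi; rewrite [Cfsg.Agent.LsF.f100a07_1.2]; exact rfl) | exact rfl⟩
theorem r_oJ : oJ * oJi = 1 := by (refine of_decide_eq_true ?_; (try (rewrite [Cfsg.Agent.LsF.f100a07_14.2, Cfsg.Agent.LsF.f100a07_29.2, Cfsg.Agent.LsF.zdecEq_eq, Cfsg.Agent.LsF.finFintype_eq, Cfsg.Agent.LsF.dMat_eq, Cfsg.Agent.LsF.instMHMul_eq, Cfsg.Agent.LsF.instMOne_eq, Cfsg.Agent.LsF.instZMul_pat, Cfsg.Agent.LsF.zACM_pat, Cfsg.Agent.LsF.dFinEq_eq, Cfsg.Agent.LsF.decide_eq])); decide +kernel)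
theorem l_oJ : oJi * oJ = 1 := by (refine of_decide_eq_true ?_; (try (rewrite [Cfsg.Agent.LsF.f100a07_29.2, Cfsg.Agent.LsF.f100a07_14.2, Cfsg.Agent.LsF.zdecEq_eq, Cfsg.Agent.LsF.finFintype_eq, Cfsg.Agent.LsF.dMat_eq, Cfsg.Agent.LsF.instMHMul_eq, Cfsg.Agent.LsF.instMOne_eq, Cfsg.Agent.LsF.instZMul_pat, Cfsg.Agent.LsF.zACM_pat, Cfsg.Agent.LsF.dFinEq_eq, Cfsg.Agent.LsF.decide_eq])); decide +kernel)
private noncomputable def _root_.Cfsg.Agent.LsF.f100a07_30 : {f // @Cfsg.Agent.H315.FineOrth.oSgi = f} := ⟨_, by first | (delta Cfsg.Agent.H315.FineOrth.oSgi; rewrite [Cfsg.Agent.LsF.f100a07_1.2]; exact rfl) | exact rfl⟩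
theorem r_oSg : oSg * oSgi = 1 := by (refine of_decide_eq_true ?_; (try (rewrite [Cfsg.Agent.LsF.f100a07_19.2, Cfsg.Agent.LsF.f100a07_30.2, Cfsg.Agent.LsF.zdecEq_eq, Cfsg.Agent.LsF.finFintype_eq, Cfsg.Agent.LsF.dMat_eq, Cfsg.Agent.LsF.instMHMul_eq, Cfsg.Agent.LsF.instMOne_eq, Cfsg.Agent.LsF.instZMul_pat, Cfsg.Agent.LsF.zACM_pat, Cfsg.Agent.LsF.dFinEq_eq, Cfsg.Agent.LsF.decide_eq])); decide +kernel)
theorem l_oSg : oSgi * oSg = 1 := by (refine of_decide_eq_true ?_; (try (rewrite [Cfsg.Agent.LsF.f100a07_30.2, Cfsg.Agent.LsF.f100a07_19.2, Cfsg.Agent.LsF.zdecEq_eq, Cfsg.Agent.LsF.finFintype_eq, Cfsg.Agent.LsF.dMat_eq, Cfsg.Agent.LsF.instMHMul_eq, Cfsg.Agent.LsF.instMOne_eq, Cfsg.Agent.LsF.instZMul_pat, Cfsg.Agent.LsF.zACM_pat, Cfsg.Agent.LsF.dFinEq_eq, Cfsg.Agent.LsF.decide_eq])); decide +kernel)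
private noncomputable def _root_.Cfsg.Agent.LsF.f100a07_31 : {f // @Cfsg.Agent.H315.FineOrth.oPhi = f} := ⟨_, by first | (delta Cfsg.Agent.H315.FineOrth.oPhi; rewrite [Cfsg.Agent.LsF.f100a07_1.2]; exact rfl) | exact rfl⟩
theorem r_oPh : oPh * oPhi = 1 := by (refine of_decide_eq_true ?_; (try (rewrite [Cfsg.Agent.LsF.f100a07_21.2, Cfsg.Agent.LsF.f100a07_31.2, Cfsg.Agent.LsF.zdecEq_eq, Cfsg.Agent.LsF.finFintype_eq, Cfsg.Agent.LsF.dMat_eq, Cfsg.Agent.LsF.instMHMul_eq, Cfsg.Agent.LsF.instMOne_eq, Cfsg.Agent.LsF.instZMul_pat, Cfsg.Agent.LsF.zACM_pat, Cfsg.Agent.LsF.dFinEq_eq, Cfsg.Agent.LsF.decide_eq])); decide +kernel)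
theorem l_oPh : oPhi * oPh = 1 := by (refine of_decide_eq_true ?_; (try (rewrite [Cfsg.Agent.LsF.f100a07_31.2, Cfsg.Agent.LsF.f100a07_21.2, Cfsg.Agent.LsF.zdecEq_eq, Cfsg.Agent.LsF.finFintype_eq, Cfsg.Agent.LsF.dMat_eq, Cfsg.Agent.LsF.instMHMul_eq, Cfsg.Agent.LsF.instMOne_eq, Cfsg.Agent.LsF.instZMul_pat, Cfsg.Agent.LsF.zACM_pat, Cfsg.Agent.LsF.dFinEq_eq, Cfsg.Agent.LsF.decide_eq])); decide +kernel)
private noncomputable def _root_.Cfsg.Agent.LsF.f100a07_32 : {f // @Cfsg.Agent.H315.FineOrth.oDei = f} := ⟨_, by first | (delta Cfsg.Agent.H315.FineOrth.oDei; rewrite [Cfsg.Agent.LsF.f100a07_1.2]; exact rfl) | exact rfl⟩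
theorem r_oDe : oDe * oDei = 1 := by (refine of_decide_eq_true ?_; (try (rewrite [Cfsg.Agent.LsF.f100a07_17.2, Cfsg.Agent.LsF.f100a07_32.2, Cfsg.Agent.LsF.zdecEq_eq, Cfsg.Agent.LsF.finFintype_eq, Cfsg.Agent.LsF.dMat_eq, Cfsg.Agent.LsF.instMHMul_eq, Cfsg.Agent.LsF.instMOne_eq, Cfsg.Agent.LsF.instZMul_pat, Cfsg.Agent.LsF.zACM_pat, Cfsg.Agent.LsF.dFinEq_eq, Cfsg.Agent.LsF.decide_eq])); decide +kernel)
theorem l_oDe : oDei * oDe = 1 := by (refine of_decide_eq_true ?_; (try (rewrite [Cfsg.Agent.LsF.f100a07_32.2, Cfsg.Agent.LsF.f100a07_17.2, Cfsg.Agent.LsF.zdecEq_eq, Cfsg.Agent.LsF.finFintype_eq, Cfsg.Agent.LsF.dMat_eq, Cfsg.Agent.LsF.instMHMul_eq, Cfsg.Agent.LsF.instMOne_eq, Cfsg.Agent.LsF.instZMul_pat, Cfsg.Agent.LsF.zACM_pat, Cfsg.Agent.LsF.dFinEq_eq, Cfsg.Agent.LsF.decide_eq])); decide +kernel)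
private noncomputable def _root_.Cfsg.Agent.LsF.f100a07_33 : {f // @Cfsg.Agent.H315.FineOrth.oSi = f} := ⟨_, by first | (delta Cfsg.Agent.H315.FineOrth.oSi; rewrite [Cfsg.Agent.LsF.f100a07_1.2]; exact rfl) | exact rfl⟩
theorem r_oS : oS * oSi = 1 := by (refine of_decide_eq_true ?_; (try (rewrite [Cfsg.Agent.LsF.f100a07_24.2, Cfsg.Agent.LsF.f100a07_33.2, Cfsg.Agent.LsF.zdecEq_eq, Cfsg.Agent.LsF.finFintype_eq, Cfsg.Agent.LsF.dMat_eq, Cfsg.Agent.LsF.instMHMul_eq, Cfsg.Agent.LsF.instMOne_eq, Cfsg.Agent.LsF.instZMul_pat, Cfsg.Agent.LsF.zACM_pat, Cfsg.Agent.LsF.dFinEq_eq, Cfsg.Agent.LsF.decide_eq])); decide +kernel)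
theorem l_oS : oSi * oS = 1 := by (refine of_decide_eq_true ?_; (try (rewrite [Cfsg.Agent.LsF.f100a07_33.2, Cfsg.Agent.LsF.f100a07_24.2, Cfsg.Agent.LsF.zdecEq_eq, Cfsg.Agent.LsF.finFintype_eq, Cfsg.Agent.LsF.dMat_eq, Cfsg.Agent.LsF.instMHMul_eq, Cfsg.Agent.LsF.instMOne_eq, Cfsg.Agent.LsF.instZMul_pat, Cfsg.Agent.LsF.zACM_pat, Cfsg.Agent.LsF.dFinEq_eq, Cfsg.Agent.LsF.decide_eq])); decide +kernel)
private noncomputable def _root_.Cfsg.Agent.LsF.f100a07_34 : {f // @Cfsg.Agent.H315.FineOrth.oGi = f} := ⟨_, by first | (delta Cfsg.Agent.H315.FineOrth.oGi; rewrite [Cfsg.Agent.LsF.f100a07_1.2]; exact rfl) | exact rfl⟩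
theorem r_oG : oG * oGi = 1 := by (refine of_decide_eq_true ?_; (try (rewrite [Cfsg.Agent.LsF.f100a07_25.2, Cfsg.Agent.LsF.f100a07_34.2, Cfsg.Agent.LsF.zdecEq_eq, Cfsg.Agent.LsF.finFintype_eq, Cfsg.Agent.LsF.dMat_eq, Cfsg.Agent.LsF.instMHMul_eq, Cfsg.Agent.LsF.instMOne_eq, Cfsg.Agent.LsF.instZMul_pat, Cfsg.Agent.LsF.zACM_pat, Cfsg.Agent.LsF.dFinEq_eq, Cfsg.Agent.LsF.decide_eq])); decide +kernel)
theorem l_oG : oGi * oG = 1 := by (refine of_decide_eq_true ?_; (try (rewrite [Cfsg.Agent.LsF.f100a07_34.2, Cfsg.Agent.LsF.f100a07_25.2, Cfsg.Agent.LsF.zdecEq_eq, Cfsg.Agent.LsF.finFintype_eq, Cfsg.Agent.LsF.dMat_eq, Cfsg.Agent.LsF.instMHMul_eq, Cfsg.Agent.LsF.instMOne_eq, Cfsg.Agent.LsF.instZMul_pat, Cfsg.Agent.LsF.zACM_pat, Cfsg.Agent.LsF.dFinEq_eq, Cfsg.Agent.LsF.decide_eq])); decide +kernel)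

/-- the coefficients of the form composed with a matrix -/
private def bJ_h86 (M : Matrix J8 J8 (ZMod 2)) (j k : J8) : ZMod 2 := ∑ i : Fin 4, M (.inl i) j * M (.inr i) k

private theorem qJ_h86 (N : Matrix J8 J8 (ZMod 2)) (v : J8 → ZMod 2) :
    QJ (N *ᵥ v) = ∑ p : J8 × J8, v p.1 * v p.2 * bJ_h86 N p.1 p.2 := by
  show ∑ i : Fin 4, (∑ j, N (.inl i) j * v j) * (∑ k, N (.inr i) k * v k) =
    ∑ p : J8 × J8, v p.1 * v p.2 * ∑ i : Fin 4, N (.inl i) p.1 * N (.inr i) p.2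
  rw [Fintype.sum_prod_type]
  simp only [Finset.sum_mul_sum]
  rw [Finset.sum_comm]
  refine Finset.sum_congr rfl fun j _ => ?_
  rw [Finset.sum_comm]
  refine Finset.sum_congr rfl fun k _ => ?_
  rw [Finset.mul_sum]
  exact Finset.sum_congr rfl fun i _ => by ring

private theorem isoJ_h86 (M : Matrix J8 J8 (ZMod 2)) (h : (∀ j, bJ_h86 M j j = bJ_h86 1 j j) ∧
    ∀ j k, bJ_h86 M j k + bJ_h86 M k j = bJ_h86 1 j k + bJ_h86 1 k j) (v : J8 → ZMod 2) : QJ (M *ᵥ v) = QJ v := by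
  rw [show QJ v = QJ ((1 : Matrix J8 J8 (ZMod 2)) *ᵥ v) by rw [one_mulVec], qJ_h86, qJ_h86, ← sub_eq_zero,
    ← Finset.sum_sub_distrib]
  refine Finset.sum_involution (fun p _ => p.swap) (fun p _ => ?_) (fun p _ h0 e => h0 ?_) (fun _ _ => Finset.mem_univ _)
    fun _ _ => rfl
  · show _ + (v p.2 * v p.1 * bJ_h86 M p.2 p.1 - v p.2 * v p.1 * bJ_h86 1 p.2 p.1) = 0
    linear_combination v p.1 * v p.2 * h.2 p.1 p.2
  · rw [show p.1 = p.2 from congrArg Prod.snd e, h.1, sub_self]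

private noncomputable def _root_.Cfsg.Agent.LsF.f100a07_35 : {f // @Cfsg.Agent.H315.FineOrth.bJ_h86 = f} := ⟨_, by first | (delta Cfsg.Agent.H315.FineOrth.bJ_h86; rewrite [Cfsg.Agent.LsF.sumF_pat, Cfsg.Agent.LsF.zadd_pat, Cfsg.Agent.LsF.zmul_pat, Cfsg.Agent.LsF.zACM_pat]; exact rfl) | exact rfl⟩
def iE1 : Cfsg.isometryGroup (ZMod 2) QJ := mkJ oE1 oE1i r_oE1 l_oE1 fun _ _ _ _ _ _ _ _ => isoJ_h86 _ (by (refine of_decide_eq_true ?_; (try (rewrite [Cfsg.Agent.LsF.f100a07_35.2, Cfsg.Agent.LsF.f100a07_2.2, Cfsg.Agent.LsF.zadd_pat, Cfsg.Agent.LsF.zdecEq_eq, Cfsg.Agent.LsF.finFintype_eq, Cfsg.Agent.LsF.dForall_eq, Cfsg.Agent.LsF.instMOne_eq, Cfsg.Agent.LsF.dAnd_eq, Cfsg.Agent.LsF.dFinEq_eq, Cfsg.Agent.LsF.decide_eq])); decide +kernel)) _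
def iE2 : Cfsg.isometryGroup (ZMod 2) QJ := mkJ oE2 oE2i r_oE2 l_oE2 fun _ _ _ _ _ _ _ _ => isoJ_h86 _ (by (refine of_decide_eq_true ?_; (try (rewrite [Cfsg.Agent.LsF.f100a07_35.2, Cfsg.Agent.LsF.f100a07_6.2, Cfsg.Agent.LsF.zadd_pat, Cfsg.Agent.LsF.zdecEq_eq, Cfsg.Agent.LsF.finFintype_eq, Cfsg.Agent.LsF.dForall_eq, Cfsg.Agent.LsF.instMOne_eq, Cfsg.Agent.LsF.dAnd_eq, Cfsg.Agent.LsF.dFinEq_eq, Cfsg.Agent.LsF.decide_eq])); decide +kernel)) _
def iI : Cfsg.isometryGroup (ZMod 2) QJ := mkJ oI oIi r_oI l_oI fun _ _ _ _ _ _ _ _ => isoJ_h86 _ (by (refine of_decide_eq_true ?_; (try (rewrite [Cfsg.Agent.LsF.f100a07_35.2, Cfsg.Agent.LsF.f100a07_11.2, Cfsg.Agent.LsF.zadd_pat, Cfsg.Agent.LsF.zdecEq_eq, Cfsg.Agent.LsF.finFintype_eq, Cfsg.Agent.LsF.dForall_eq, Cfsg.Agent.LsF.instMOne_eq, Cfsg.Agent.LsF.dAnd_eq, Cfsg.Agent.LsF.dFinEq_eq, Cfsg.Agent.LsF.decide_eq])); decide +kernel)) _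
def iJ : Cfsg.isometryGroup (ZMod 2) QJ := mkJ oJ oJi r_oJ l_oJ fun _ _ _ _ _ _ _ _ => isoJ_h86 _ (by (refine of_decide_eq_true ?_; (try (rewrite [Cfsg.Agent.LsF.f100a07_35.2, Cfsg.Agent.LsF.f100a07_14.2, Cfsg.Agent.LsF.zadd_pat, Cfsg.Agent.LsF.zdecEq_eq, Cfsg.Agent.LsF.finFintype_eq, Cfsg.Agent.LsF.dForall_eq, Cfsg.Agent.LsF.instMOne_eq, Cfsg.Agent.LsF.dAnd_eq, Cfsg.Agent.LsF.dFinEq_eq, Cfsg.Agent.LsF.decide_eq])); decide +kernel)) _
def iSg : Cfsg.isometryGroup (ZMod 2) QJ := mkJ oSg oSgi r_oSg l_oSg fun _ _ _ _ _ _ _ _ => isoJ_h86 _ (by (refine of_decide_eq_true ?_; (try (rewrite [Cfsg.Agent.LsF.f100a07_35.2, Cfsg.Agent.LsF.f100a07_19.2, Cfsg.Agent.LsF.zadd_pat, Cfsg.Agent.LsF.zdecEq_eq, Cfsg.Agent.LsF.finFintype_eq, Cfsg.Agent.LsF.dForall_eq, Cfsg.Agent.LsF.instMOne_eq, Cfsg.Agent.LsF.dAnd_eq, Cfsg.Agent.LsF.dFinEq_eq, Cfsg.Agent.LsF.decide_eq])); decide +kernel)) _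
def iPh : Cfsg.isometryGroup (ZMod 2) QJ := mkJ oPh oPhi r_oPh l_oPh fun _ _ _ _ _ _ _ _ => isoJ_h86 _ (by (refine of_decide_eq_true ?_; (try (rewrite [Cfsg.Agent.LsF.f100a07_35.2, Cfsg.Agent.LsF.f100a07_21.2, Cfsg.Agent.LsF.zadd_pat, Cfsg.Agent.LsF.zdecEq_eq, Cfsg.Agent.LsF.finFintype_eq, Cfsg.Agent.LsF.dForall_eq, Cfsg.Agent.LsF.instMOne_eq, Cfsg.Agent.LsF.dAnd_eq, Cfsg.Agent.LsF.dFinEq_eq, Cfsg.Agent.LsF.decide_eq])); decide +kernel)) _
def iDe : Cfsg.isometryGroup (ZMod 2) QJ := mkJ oDe oDei r_oDe l_oDe fun _ _ _ _ _ _ _ _ => isoJ_h86 _ (by (refine of_decide_eq_true ?_; (try (rewrite [Cfsg.Agent.LsF.f100a07_35.2, Cfsg.Agent.LsF.f100a07_17.2, Cfsg.Agent.LsF.zadd_pat, Cfsg.Agent.LsF.zdecEq_eq, Cfsg.Agent.LsF.finFintype_eq, Cfsg.Agent.LsF.dForall_eq, Cfsg.Agent.LsF.instMOne_eq, Cfsg.Agent.LsF.dAnd_eq, Cfsg.Agent.LsF.dFinEq_eq, Cfsg.Agent.LsF.decide_eq])); decide +kernel)) _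
def iS : Cfsg.isometryGroup (ZMod 2) QJ := mkJ oS oSi r_oS l_oS fun _ _ _ _ _ _ _ _ => isoJ_h86 _ (by (refine of_decide_eq_true ?_; (try (rewrite [Cfsg.Agent.LsF.f100a07_35.2, Cfsg.Agent.LsF.f100a07_24.2, Cfsg.Agent.LsF.zadd_pat, Cfsg.Agent.LsF.zdecEq_eq, Cfsg.Agent.LsF.finFintype_eq, Cfsg.Agent.LsF.dForall_eq, Cfsg.Agent.LsF.instMOne_eq, Cfsg.Agent.LsF.dAnd_eq, Cfsg.Agent.LsF.dFinEq_eq, Cfsg.Agent.LsF.decide_eq])); decide +kernel)) _
def iG : Cfsg.isometryGroup (ZMod 2) QJ := mkJ oG oGi r_oG l_oG fun _ _ _ _ _ _ _ _ => isoJ_h86 _ (by (refine of_decide_eq_true ?_; (try (rewrite [Cfsg.Agent.LsF.f100a07_35.2, Cfsg.Agent.LsF.f100a07_25.2, Cfsg.Agent.LsF.zadd_pat, Cfsg.Agent.LsF.zdecEq_eq, Cfsg.Agent.LsF.finFintype_eq, Cfsg.Agent.LsF.dForall_eq, Cfsg.Agent.LsF.instMOne_eq, Cfsg.Agent.LsF.dAnd_eq, Cfsg.Agent.LsF.dFinEq_eq, Cfsg.Agent.LsF.decide_eq])); decide +kernel)) _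

/-- the matrix -/
abbrev mat (x : Cfsg.isometryGroup (ZMod 2) QJ) : Matrix J8 J8 (ZMod 2) := ((x : GL J8 (ZMod 2)) : Matrix J8 J8 (ZMod 2))

theorem extI {x y : Cfsg.isometryGroup (ZMod 2) QJ} (h : mat x = mat y) : x = y := Subtype.ext (Units.ext h)

theorem mem_comm {x a b : Cfsg.isometryGroup (ZMod 2) QJ} (h : a * b = x * (b * a)) :
    x ∈ commutator (Cfsg.isometryGroup (ZMod 2) QJ) := by
  have h1 : x = ⁅a, b⁆ := by
    rw [commutatorElement_def, h]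
    group
  rw [h1, commutator_def]
  exact Subgroup.commutator_mem_commutator (Subgroup.mem_top _) (Subgroup.mem_top _)

theorem iE1_mem : iE1 ∈ commutator (Cfsg.isometryGroup (ZMod 2) QJ) := by
  refine mem_comm (a := iDe) (b := iE1 * iE1) (extI ?_)
  change oDe * (oE1 * oE1) = oE1 * ((oE1 * oE1) * oDe)
  rw [← Matrix.mul_assoc oE1, m_oE1_oE1, m_oE1_oE1s, m_oDe_oE1s, m_oE1c_oDe]

theorem iE2_mem : iE2 ∈ commutator (Cfsg.isometryGroup (ZMod 2) QJ) := by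
  have h1 : iSg * iE1 = iE2 * iSg := extI (by
    change oSg * oE1 = oE2 * oSg
    rw [m_oSg_oE1, m_oE2_oSg])
  have h2 : iE2 = iSg * iE1 * iSg⁻¹ := by rw [h1, mul_inv_cancel_right]
  rw [h2]
  exact (inferInstance : (commutator (Cfsg.isometryGroup (ZMod 2) QJ)).Normal).conj_mem _ iE1_mem _

theorem iI_mem : iI ∈ commutator (Cfsg.isometryGroup (ZMod 2) QJ) := by
  refine mem_comm (a := iPh) (b := iSg) (extI ?_)
  change oPh * oSg = oI * (oSg * oPh)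
  rw [m_oPh_oSg, m_oSg_oPh, m_oI_oY4]

theorem iJ_mem : iJ ∈ commutator (Cfsg.isometryGroup (ZMod 2) QJ) := by
  refine mem_comm (a := iS) (b := iG) (extI ?_)
  change oS * oG = oJ * (oG * oS)
  rw [m_oS_oG, m_oG_oS, m_oJ_oY6]

def xE1 : Cfsg.Omega (ZMod 2) QJ := ⟨iE1, iE1_mem⟩
def xE2 : Cfsg.Omega (ZMod 2) QJ := ⟨iE2, iE2_mem⟩
def xI : Cfsg.Omega (ZMod 2) QJ := ⟨iI, iI_mem⟩
def xJ : Cfsg.Omega (ZMod 2) QJ := ⟨iJ, iJ_mem⟩

/-- the matrix -/
abbrev matO (x : Cfsg.Omega (ZMod 2) QJ) : Matrix J8 J8 (ZMod 2) := mat (x : Cfsg.isometryGroup (ZMod 2) QJ)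

theorem extO {x y : Cfsg.Omega (ZMod 2) QJ} (h : matO x = matO y) : x = y := Subtype.ext (extI h)

theorem xE1_five : xE1 ^ 5 = 1 := by
  rw [show xE1 ^ 5 = xE1 * ((xE1 * xE1) * (xE1 * xE1)) by simp only [pow_succ, pow_zero, one_mul, mul_assoc]]
  refine extO ?_
  change oE1 * ((oE1 * oE1) * (oE1 * oE1)) = 1
  rw [m_oE1_oE1, m_oE1s_oE1s, r_oE1]

theorem xE2_five : xE2 ^ 5 = 1 := by
  rw [show xE2 ^ 5 = xE2 * ((xE2 * xE2) * (xE2 * xE2)) by simp only [pow_succ, pow_zero, one_mul, mul_assoc]]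
  refine extO ?_
  change oE2 * ((oE2 * oE2) * (oE2 * oE2)) = 1
  rw [m_oE2_oE2, m_oE2s_oE2s, r_oE2]

theorem xE12 : xE1 * xE2 = xE2 * xE1 := by
  refine extO ?_
  change oE1 * oE2 = oE2 * oE1
  rw [m_oE1_oE2, m_oE2_oE1]

theorem xIE1 : xI * xE1 * xI⁻¹ = xE1 ^ 2 := by
  rw [mul_inv_eq_iff_eq_mul, pow_two]
  refine extO ?_
  change oI * oE1 = (oE1 * oE1) * oI
  rw [m_oE1_oE1, m_oI_oE1, m_oE1s_oI]

theorem xIE2 : xI * xE2 * xI⁻¹ = xE2 ^ 3 := by
  rw [mul_inv_eq_iff_eq_mul, show xE2 ^ 3 = (xE2 * xE2) * xE2 by simp only [pow_succ, pow_zero, one_mul, mul_assoc]]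
  refine extO ?_
  change oI * oE2 = ((oE2 * oE2) * oE2) * oI
  rw [m_oE2_oE2, m_oE2s_oE2, m_oI_oE2, m_oE2c_oI]

theorem xJE1 : xJ * xE1 * xJ⁻¹ = xE2 := by
  rw [mul_inv_eq_iff_eq_mul]
  refine extO ?_
  change oJ * oE1 = oE2 * oJ
  rw [m_oJ_oE1, m_oE2_oJ]

theorem xJE2 : xJ * xE2 * xJ⁻¹ = xE1 ^ 4 := by
  rw [mul_inv_eq_iff_eq_mul, show xE1 ^ 4 = (xE1 * xE1) * (xE1 * xE1) by simp only [pow_succ, pow_zero, one_mul, mul_assoc]]
  refine extO ?_
  change oJ * oE2 = ((oE1 * oE1) * (oE1 * oE1)) * oJ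
  rw [m_oE1_oE1, m_oE1s_oE1s, m_oJ_oE2, m_oE1i_oJ]

theorem ne0 : oE1 ≠ 1 := by decide +kernel
theorem ne1 : oE1 ≠ oE2 := by decide +kernel
theorem ne2 : oE1 ≠ oE2s := by decide +kernel
theorem ne3 : oE1 ≠ oE2c := by decide +kernel
theorem ne4 : oE1 ≠ oE2i := by decide +kernel

theorem xE_ne : ∀ c : Fin 5, xE1 ≠ xE2 ^ (c : ℕ) := by
  intro c hc
  fin_cases c
  · have h : oE1 = 1 := congrArg matO (hc.trans (pow_zero _))
    exact ne0 h
  · have h : oE1 = oE2 := congrArg matO (hc.trans (pow_one _))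
    exact ne1 h
  · have h : oE1 = oE2 * oE2 := congrArg matO (hc.trans (pow_two _))
    rw [m_oE2_oE2] at h
    exact ne2 h
  · have h : oE1 = (oE2 * oE2) * oE2 := congrArg matO (hc.trans
      (show xE2 ^ 3 = (xE2 * xE2) * xE2 by simp only [pow_succ, pow_zero, one_mul, mul_assoc]))
    rw [m_oE2_oE2, m_oE2s_oE2] at h
    exact ne3 h
  · have h : oE1 = (oE2 * oE2) * (oE2 * oE2) := congrArg matO (hc.trans
      (show xE2 ^ 4 = (xE2 * xE2) * (xE2 * xE2) by simp only [pow_succ, pow_zero, one_mul, mul_assoc]))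
    rw [m_oE2_oE2, m_oE2s_oE2s] at h
    exact ne4 h

variable {K : Type} [Field K] [Fintype K]

/-- **`PΩ⁺₈(2)`**: bound 8. -/
theorem bd_plus_four_two {F : Type u} [Field F] (h5 : ((5 : ℕ) : F) ≠ 0) (hK : Fintype.card K = 2) :
    Bd F 5 8 (Cfsg.POmega K (Cfsg.quadFormPlus 4 K)) := by
  obtain ⟨σ⟩ : Nonempty (ZMod 2 ≃+* K) := by
    have : Fintype.card (ZMod 2) = Fintype.card K := by rw [hK]; rfl
    exact ⟨FiniteField.ringEquivOfCardEq this⟩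
  have hσ : ∀ v : J8 → ZMod 2, Cfsg.quadFormPlus 4 K (fun i => σ (v i)) = σ (QJ v) := by
    intro v
    simp only [Cfsg.quadFormPlus, map_sum, map_mul]
  have hj := commHom_injective _ (isoMap_injective σ QJ (Cfsg.quadFormPlus 4 K) hσ)
  refine bd_eight h5 ((QuotientGroup.mk' (Subgroup.center (Cfsg.Omega K (Cfsg.quadFormPlus 4 K)))).comp
    (commHom (isoMap σ QJ (Cfsg.quadFormPlus 4 K) hσ))) ?_ xE1_five xE2_five xE12 xIE1 xIE2 xJE1 xJE2 xE_ne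
  intro x hx
  have h1 : commHom (isoMap σ QJ (Cfsg.quadFormPlus 4 K) hσ) x ∈ Subgroup.center _ :=
    (QuotientGroup.eq_one_iff _).1 hx
  rw [Subgroup.mem_center_iff] at h1 ⊢
  intro y
  apply hj
  rw [map_mul, map_mul, h1]

/-- `PΩ⁺₈(2)` -/
theorem fine_plus_four_two (hK : Fintype.card K = 2) (hN : Cop.{0, w} 5 (Cfsg.POmega K (Cfsg.quadFormPlus 4 K))) :
    Fine.{0, w} (Cfsg.POmega K (Cfsg.quadFormPlus 4 K)) := by
  have : Finite (Cfsg.isometryGroup K (Cfsg.quadFormPlus 4 K)) := inferInstance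
  have : Finite (Cfsg.POmega K (Cfsg.quadFormPlus 4 K)) := inferInstance
  have hs : IsSimpleGroup (Cfsg.POmega K (Cfsg.quadFormPlus 4 K)) := Cfsg.Agent.S0296.result 4 le_rfl
  have hcard := Cfsg.Agent.S0293.result (F := K) hK 4 le_rfl
  norm_num only [Finset.prod_range_succ, _root_.one_mul] at hcard
  have : Fact (Nat.Prime 2) := ⟨Nat.prime_two⟩
  have haut := Cfsg.Agent.S0817.result (F := K) 2 1 le_rfl (by rw [hK, pow_one]) 4 le_rfl
  rw [if_pos rfl, if_pos rfl, hcard] at haut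
  have h2T : 2 ∣ Nat.card (Cfsg.POmega K (Cfsg.quadFormPlus 4 K)) := by rw [hcard]; norm_num
  have h5T : 5 ∣ Nat.card (Cfsg.POmega K (Cfsg.quadFormPlus 4 K)) := by rw [hcard]; norm_num
  refine Fine.of_lt7 (center_eq_bot (not_comm Nat.prime_two h2T (by rw [hcard]; norm_num))) (by rw [hcard]; norm_num)
    fun p m hp h11 hpT hm hR => ?_
  have hm8 : 8 ≤ m := rep_le hp Nat.prime_five h5T hpT hR hN fun F _ hF => bd_plus_four_two hF hK
  have h5 : p ^ 8 ≤ p ^ m := Nat.pow_le_pow_right hp.pos hm8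
  rw [haut]
  rcases (show p ≤ 13 ∨ 14 ≤ p by omega) with h13 | h14
  · have h6 : p - 13 = 0 := by omega
    rw [h6, zero_mul, zero_add]
    exact Nat.one_lt_pow (by omega) hp.one_lt
  rcases (show p = 17 ∨ p = 19 ∨ 20 ≤ p ∨ (p = 14 ∨ p = 15 ∨ p = 16 ∨ p = 18) by (clear * - h14; omega)) with rfl | rfl | h20 | h
  · exact lt_of_lt_of_le (by norm_num) h5
  · exact lt_of_lt_of_le (by norm_num) h5
  · have h6 : 20 ^ 7 ≤ p ^ 7 := Nat.pow_le_pow_left h20 7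
    have h7 : 3 * 2 * 1 * 174182400 ≤ p ^ 7 := le_trans (by norm_num) h6
    calc _ ≤ (p - 13) * p ^ 7 + 1 := Nat.add_le_add_right (Nat.mul_le_mul_left _ h7) 1
      _ < p * p ^ 7 := by
        have h8 : 0 < p ^ 7 := Nat.pow_pos hp.pos
        obtain ⟨c, rfl⟩ : ∃ c, p = c + 20 := ⟨p - 20, by omega⟩
        have h9 : c + 20 - 13 = c + 7 := by omega
        rw [h9]
        linarith only [h6]
      _ = p ^ 8 := by ring
      _ ≤ _ := h5
  · rcases h with rfl | rfl | rfl | rfl <;> exact absurd hp (by norm_num)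

end Cfsg.Agent.H315.FineOrth
end

-- part: H315/FineO12
section
/-!
# `Fine` for `PΩ⁻₁₂(2)`: at least twelve classes
-/

set_option autoImplicit false

namespace Cfsg.Agent.H315.FineOrth

universe u v w

open Cfsg Cfsg.Agent.H698 Cfsg.Agent.H912.Bd Cfsg.Agent.H315.FineNum Matrix

abbrev M5 := Matrix (Fin 5) (Fin 5) (ZMod 2)

def a5 : M5 := !![1, 1, 0, 0, 0; 0, 1, 1, 0, 0; 0, 0, 1, 0, 0; 0, 0, 0, 0, 1; 0, 0, 0, 1, 1]
def a5_2 : M5 := !![1, 0, 1, 0, 0; 0, 1, 0, 0, 0; 0, 0, 1, 0, 0; 0, 0, 0, 1, 1; 0, 0, 0, 1, 0]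
def a5_4 : M5 := !![1, 0, 0, 0, 0; 0, 1, 0, 0, 0; 0, 0, 1, 0, 0; 0, 0, 0, 0, 1; 0, 0, 0, 1, 1]
def a5_6 : M5 := !![1, 0, 1, 0, 0; 0, 1, 0, 0, 0; 0, 0, 1, 0, 0; 0, 0, 0, 1, 0; 0, 0, 0, 0, 1]
def c5 : M5 := !![0, 1, 0, 0, 0; 0, 0, 1, 0, 0; 0, 0, 0, 1, 0; 0, 0, 0, 0, 1; 1, 0, 0, 0, 0]

theorem a5_mul : a5 * a5 = a5_2 := by decide +kernel
theorem a5_mul2 : a5_2 * a5_2 = a5_4 := by decide +kernel
theorem a5_mul4 : a5_4 * a5_2 = a5_6 := by decide +kernel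
theorem a5_mul6 : a5_6 * a5_6 = 1 := by decide +kernel
theorem a5_det : a5.det = 1 := by (simp only [detL_eq_527ba]; decide +kernel)
theorem c5_det : c5.det = 1 := by (simp only [detL_eq_527ba]; decide +kernel)
theorem c5_a4 : a5_4 * c5 ≠ c5 * a5_4 := by decide +kernel
theorem c5_a6 : a5_6 * c5 ≠ c5 * a5_6 := by decide +kernel

def x5 : _root_.Matrix.SpecialLinearGroup (Fin 5) (ZMod 2) := ⟨a5, a5_det⟩
def y5 : _root_.Matrix.SpecialLinearGroup (Fin 5) (ZMod 2) := ⟨c5, c5_det⟩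

theorem x5_pow4 : (x5 ^ 4).1 = a5_4 := by
  rw [show x5 ^ 4 = (x5 * x5) * (x5 * x5) by simp only [pow_succ, pow_zero, one_mul, mul_assoc]]
  change (a5 * a5) * (a5 * a5) = _
  rw [a5_mul, a5_mul2]

theorem x5_pow6 : (x5 ^ 6).1 = a5_6 := by
  rw [show x5 ^ 6 = ((x5 * x5) * (x5 * x5)) * (x5 * x5) by simp only [pow_succ, pow_zero, one_mul, mul_assoc]]
  change ((a5 * a5) * (a5 * a5)) * (a5 * a5) = _
  rw [a5_mul, a5_mul2, a5_mul4]

theorem x5_pow12 : x5 ^ 12 = 1 := by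
  apply Subtype.ext
  rw [show x5 ^ 12 = x5 ^ 6 * x5 ^ 6 by group]
  change (x5 ^ 6).1 * (x5 ^ 6).1 = 1
  rw [x5_pow6, a5_mul6]

/-- The image of `x5` has order `12`. -/
theorem orderOf_x5 {T : Type v} [Group T] (j : _root_.Matrix.SpecialLinearGroup (Fin 5) (ZMod 2) →* T)
    (hj : j.ker ≤ Subgroup.center _) : orderOf (j x5) = 12 := by
  have h4 : ¬ x5 ^ 4 ∈ Subgroup.center (_root_.Matrix.SpecialLinearGroup (Fin 5) (ZMod 2)) := by
    intro h
    have h1 := congrArg Subtype.val ((Subgroup.mem_center_iff.1 h) y5)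
    change c5 * (x5 ^ 4).1 = (x5 ^ 4).1 * c5 at h1
    rw [x5_pow4] at h1
    exact c5_a4 h1.symm
  have h6 : ¬ x5 ^ 6 ∈ Subgroup.center (_root_.Matrix.SpecialLinearGroup (Fin 5) (ZMod 2)) := by
    intro h
    have h1 := congrArg Subtype.val ((Subgroup.mem_center_iff.1 h) y5)
    change c5 * (x5 ^ 6).1 = (x5 ^ 6).1 * c5 at h1
    rw [x5_pow6] at h1
    exact c5_a6 h1.symm
  refine orderOf_eq_of_pow_and_pow_div_prime (by norm_num) (by rw [← map_pow, x5_pow12, map_one]) ?_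
  intro p hp hp12
  have h5 : p ∈ Nat.primeFactors 12 := Nat.mem_primeFactors.2 ⟨hp, hp12, by norm_num⟩
  have h7 : Nat.primeFactors 12 = {2, 3} := by decide +kernel
  rw [h7] at h5
  rw [← map_pow]
  intro h8
  have h9 := hj (MonoidHom.mem_ker.2 h8)
  simp only [Finset.mem_insert, Finset.mem_singleton] at h5
  rcases h5 with rfl | rfl
  · exact h6 h9
  · exact h4 h9

variable {K : Type} [Field K] [Fintype K]

seal _root_.Finset.sum _root_.dotProduct in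
/-- `PΩ⁻₁₂(2)` -/
theorem fine_minus_six (hq : Fintype.card K = 2) (a b : K)
    (hab : ∀ z₁ z₂ : K, z₁ ^ 2 + a * z₁ * z₂ + b * z₂ ^ 2 = 0 → z₁ = 0 ∧ z₂ = 0)
    (hN : Cop.{0, w} 2 (Cfsg.POmega K (Cfsg.quadFormMinus (6 - 1) K a b))) :
    Fine.{0, w} (Cfsg.POmega K (Cfsg.quadFormMinus (6 - 1) K a b)) := by
  have : Finite (Cfsg.isometryGroup K (Cfsg.quadFormMinus (6 - 1) K a b)) := inferInstance
  have : Finite (Cfsg.POmega K (Cfsg.quadFormMinus (6 - 1) K a b)) := inferInstance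
  obtain ⟨h1, h2, h3⟩ := minus_basic Nat.prime_two le_rfl (by rw [hq, pow_one]) (by norm_num : 4 ≤ 6) a b hab
  have haut := minus_aut_two hq (by norm_num : 4 ≤ 6) a b hab
  have hcard := Cfsg.Agent.S0294.result (F := K) hq 6 (by norm_num) a b hab
  norm_num only [Finset.prod_range_succ, _root_.one_mul] at hcard
  have hK2 : CharP K 2 := by
    obtain ⟨p, f, hp, hf, hc, hpK⟩ := exists_pf (K := K)
    obtain rfl : p = 2 := by
      have h4 : p ∣ 2 := by rw [← hq, hc]; exact dvd_pow_self p (by omega)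
      exact (Nat.prime_dvd_prime_iff_eq hp Nat.prime_two).1 h4
    exact hpK
  -- an element of order twelve
  obtain ⟨σ⟩ : Nonempty (ZMod 2 ≃+* K) := by
    have : Fintype.card (ZMod 2) = Fintype.card K := by rw [hq]; rfl
    exact ⟨FiniteField.ringEquivOfCardEq this⟩
  obtain ⟨f, hf⟩ := exists_minus (K := K) (le_refl 5) a b
  have h12 : ∃ x : Cfsg.POmega K (Cfsg.quadFormMinus (6 - 1) K a b), orderOf x = 12 := by
    refine ⟨(f.comp ((slO (K := K) (m := 5) (by norm_num)).comp (SpecialLinearGroup.map σ.toRingHom))) x5, orderOf_x5 _ ?_⟩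
    intro x hx
    have h5 : slO (K := K) (m := 5) (by norm_num) (SpecialLinearGroup.map σ.toRingHom x) ∈ Subgroup.center _ := hf hx
    rw [Subgroup.mem_center_iff] at h5 ⊢
    intro y
    have h6 := h5 (slO (K := K) (m := 5) (by norm_num) (SpecialLinearGroup.map σ.toRingHom y))
    rw [← map_mul, ← map_mul, ← map_mul, ← map_mul] at h6
    have h7 := slO_injective _ h6
    have hinj : Function.Injective (SpecialLinearGroup.map (n := Fin 5) σ.toRingHom) := by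
      intro u v huv
      apply Subtype.ext
      ext i j
      have h8 := congrFun (congrFun (congrArg Subtype.val huv) i) j
      exact σ.injective h8
    exact hinj h7
  obtain ⟨x, hx⟩ := h12
  have hcl := fun X hX => classes_of_orders h1 {1, 2, 3, 4, 5, 6, 7, 11, 12, 13, 17, 31} (by
    intro n hn
    have hpr : ∀ p : ℕ, p.Prime → p ∣ Nat.card (Cfsg.POmega K (Cfsg.quadFormMinus (6 - 1) K a b)) →
        ∃ x : Cfsg.POmega K (Cfsg.quadFormMinus (6 - 1) K a b), orderOf x = p := by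
      intro p hp hd
      have := Fact.mk hp
      exact exists_prime_orderOf_dvd_card' p hd
    have hx4 : orderOf (x ^ 3) = 4 := by
      rw [orderOf_pow, hx]; norm_num
    have hx6 : orderOf (x ^ 2) = 6 := by
      rw [orderOf_pow, hx]; norm_num
    simp only [Finset.mem_insert, Finset.mem_singleton] at hn
    rcases hn with rfl | rfl | rfl | rfl | rfl | rfl | rfl | rfl | rfl | rfl | rfl | rfl
    · exact ⟨1, orderOf_one⟩
    · exact hpr 2 (by norm_num) (by omega)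
    · exact hpr 3 (by norm_num) (by omega)
    · exact ⟨_, hx4⟩
    · exact hpr 5 (by norm_num) (by omega)
    · exact ⟨_, hx6⟩
    · exact hpr 7 (by norm_num) (by omega)
    · exact hpr 11 (by norm_num) (by omega)
    · exact ⟨x, hx⟩
    · exact hpr 13 (by norm_num) (by omega)
    · exact hpr 17 (by norm_num) (by omega)
    · exact hpr 31 (by norm_num) (by omega)) X hX
  have hS : ({1, 2, 3, 4, 5, 6, 7, 11, 12, 13, 17, 31} : Finset ℕ).card = 12 := rfl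
  simp only [hS] at hcl
  refine Fine.of_classes (k := 12) hcl fun p m hp h11 hpT hm hR => ?_
  have hm15 : 15 ≤ m := rep_le hp Nat.prime_two h3 hpT hR hN fun F _ hF => by
    have h5 := bd_pomega_minus_sl (m := 5) Nat.prime_two hF hK2 (by norm_num) a b
    rw [hq] at h5
    exact h5.mono (by norm_num)
  have h5 : p ^ 15 ≤ p ^ m := Nat.pow_le_pow_right hp.pos hm15
  rcases (show p ≤ 23 ∨ 24 ≤ p by omega) with h23 | h24
  · have h6 : p + 1 - 2 * 12 = 0 := by omega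
    simp only [h6, zero_mul]
    exact Nat.one_lt_pow (by omega) hp.one_lt
  · have hp29 : 29 ≤ p := by
      by_contra hcon
      have : p = 24 ∨ p = 25 ∨ p = 26 ∨ p = 27 ∨ p = 28 := by omega
      rcases this with rfl | rfl | rfl | rfl | rfl <;> exact absurd hp (by norm_num)
    have h6 : 29 ^ 14 ≤ p ^ 14 := Nat.pow_le_pow_left hp29 14
    have h7 : 2 ^ (6 * (2 * 6 - 1) + 1) ≤ p ^ 14 := le_trans (by norm_num) h6
    calc _ ≤ (p + 1 - 2 * 12) * p ^ 14 + 1 := Nat.add_le_add_right (Nat.mul_le_mul_left _ (haut.trans h7)) 1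
      _ < p * p ^ 14 := by
        have h8 : 0 < p ^ 14 := Nat.pow_pos hp.pos
        obtain ⟨c, rfl⟩ : ∃ c, p = c + 29 := ⟨p - 29, by omega⟩
        have h9 : c + 29 + 1 - 2 * 12 = c + 6 := by omega
        rw [h9]
        linarith only [h6]
      _ = p ^ 15 := by ring
      _ ≤ _ := h5

end Cfsg.Agent.H315.FineOrth
end

-- part: H315/FineOmega
section
/-!
# `Fine` for the simple orthogonal groups
-/

set_option autoImplicit false

namespace Cfsg.Agent.H315.FineOrth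

universe u v w

open Cfsg Cfsg.Agent.H698 Cfsg.Agent.H912.Bd Cfsg.Agent.H315.FineNum

section

variable {K : Type} [Field K] [Fintype K]

theorem fine_odd_all {m : ℕ} (hm : 3 ≤ m) (ho : Odd (Fintype.card K)) :
    Fine.{0, w} (Cfsg.POmega K (Cfsg.quadFormOdd m K)) := by
  obtain ⟨p, f, hp, hf, hq, hpK⟩ := exists_pf (K := K)
  have hd : p ∣ Fintype.card K := by rw [hq]; exact dvd_pow_self p (by omega)
  by_cases h33 : m = 3 ∧ Fintype.card K = 3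
  · obtain ⟨rfl, h3⟩ := h33
    refine fine_odd_three h3 ?_
    refine NoR.of_cyclic (S2086.result (F := K) h3 4 (by norm_num) (by norm_num) ?_) (by decide)
    rintro h
    simp only [Set.mem_insert_iff, Set.mem_singleton_iff, Prod.mk.injEq] at h
    omega
  · refine fine_odd hp hpK hm ho h33 (NoR.of_cyclic (S2094.result (F := K) rfl ho m hm h33) ?_)
    rw [Nat.coprime_two_left]
    exact Odd.of_dvd_nat ho hd

theorem fine_plus_all {m : ℕ} (hm : 4 ≤ m) : Fine.{0, w} (Cfsg.POmega K (Cfsg.quadFormPlus m K)) := by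
  obtain ⟨p, f, hp, hf, hq, hpK⟩ := exists_pf (K := K)
  have hd : p ∣ Fintype.card K := by rw [hq]; exact dvd_pow_self p (by omega)
  have hdm : p ∣ Fintype.card K ^ m := dvd_pow hd (by omega)
  have hpos : 0 < Fintype.card K ^ m := pow_pos Fintype.card_pos _
  by_cases h42 : m = 4 ∧ Fintype.card K = 2
  · obtain ⟨rfl, h2⟩ := h42
    refine fine_plus_four_two h2 (NoR.of_mult (S2098.result (F := K) h2) ?_)
    rw [Nat.card_congr Multiplicative.toAdd, Nat.card_prod, Nat.card_zmod]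
    decide
  · refine fine_plus hp hpK hm h42 ?_
    rcases Nat.even_or_odd m with hev | hod
    · refine NoR.of_mult (S2097.result (F := K) rfl m hm hev h42) ?_
      rw [Nat.card_congr Multiplicative.toAdd, Nat.card_prod, Nat.card_zmod]
      have h1 : (Nat.gcd 2 (Fintype.card K ^ m - 1)).Coprime p := coprime_gcd_sub hp hpos hdm
      exact Nat.Coprime.mul_left h1 h1
    · have h5 : 5 ≤ m := by
        by_contra hcon
        have h4 : m = 4 := by omega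
        rw [h4] at hod
        exact absurd hod (by decide)
      exact NoR.of_cyclic (S2096.result (F := K) rfl m h5 hod) (coprime_gcd_sub hp hpos hdm)

theorem fine_minus_all {m : ℕ} (hm : 4 ≤ m) (a b : K)
    (hab : ∀ z₁ z₂ : K, z₁ ^ 2 + a * z₁ * z₂ + b * z₂ ^ 2 = 0 → z₁ = 0 ∧ z₂ = 0) :
    Fine.{0, w} (Cfsg.POmega K (Cfsg.quadFormMinus (m - 1) K a b)) := by
  obtain ⟨p, f, hp, hf, hq, hpK⟩ := exists_pf (K := K)
  have hd : p ∣ Fintype.card K := by rw [hq]; exact dvd_pow_self p (by omega)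
  have hdm : p ∣ Fintype.card K ^ m := dvd_pow hd (by omega)
  have hN : NoR.{w} p (Cfsg.POmega K (Cfsg.quadFormMinus (m - 1) K a b)) :=
    NoR.of_cyclic (S2099.result (F := K) rfl m hm a b hab) (coprime_gcd_add hp hdm)
  by_cases h2 : Fintype.card K = 2
  · obtain rfl : p = 2 := by
      have h4 : p ∣ 2 := by rw [← h2]; exact hd
      exact (Nat.prime_dvd_prime_iff_eq hp Nat.prime_two).1 h4
    by_cases h5 : m = 5
    · subst h5
      exact fine_minus_five h2 a b hab hN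
    by_cases h6 : m = 6
    · subst h6
      exact fine_minus_six h2 a b hab hN
    exact fine_minus hp hpK hm a b hab (fun h => h5 h.1) (fun h => h6 h.1) hN
  · exact fine_minus hp hpK hm a b hab (fun h => h2 h.2) (fun h => h2 h.2) hN

end

/-- **The simple orthogonal groups are fine.** -/
theorem fine_omega {T : Type u} [Group T] [Finite T]
    (h : Cfsg.IsPOmegaOdd T ∨ Cfsg.IsPOmegaPlus T ∨ Cfsg.IsPOmegaMinus T) : Fine.{u, u} T := by
  rcases h with ⟨K, _, _, m, hm, ho, ⟨e⟩⟩ | ⟨K, _, _, m, hm, ⟨e⟩⟩ | ⟨K, _, _, m, a, b, hm, hab, ⟨e⟩⟩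
  · exact (fine_odd_all hm ho).congr e.symm
  · exact (fine_plus_all hm).congr e.symm
  · exact (fine_minus_all hm a b hab).congr e.symm

end Cfsg.Agent.H315.FineOrth
end

-- part: H123/FineSpor
section
/-!
# `Fine` for the sporadic groups, first part (task 1138, for S4881)
-/

set_option autoImplicit false
set_option linter.unusedSectionVars false

namespace Cfsg.Agent.H123.FineSpor

open Cfsg Cfsg.Agent.H698

universe u

variable {T : Type u} [Group T] [Finite T]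

theorem not_comm_of_card {n : ℕ} (hs : IsSimpleGroup T) (hn : Nat.card T = n) (hp : ¬ n.Prime) :
    ¬ IsMulCommutative T := by
  intro h
  apply hp
  rw [← hn]
  let _ : CommGroup T := { (inferInstance : Group T) with mul_comm := fun a b => h.is_comm.comm a b }
  exact IsSimpleGroup.prime_card

/-- the lower bound for the degree -/
theorem le_deg [IsSimpleGroup T] {N s M p m : ℕ} (hN : Nat.card T = N) (hna : ¬ IsMulCommutative T) (hs : s.Prime)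
    (hsM : s + 1 = 2 * M) (h1 : s ∣ N) (h2 : ¬ s ^ 2 ∣ N) (h3 : s * (s ^ 2 - 1) ≠ 2 * N) (hp : p.Prime)
    (hR : _root_.Cfsg.Agent.H698.Rep.{u, u} p m T) : M ≤ m := by
  obtain ⟨h4, h5⟩ := H831.RepLift.prime_le hna hp hR hs (by rw [hN]; exact h1)
  by_contra hlt
  have h6 : s = 2 * m + 1 := by omega
  obtain ⟨e⟩ := h5 h6 (by rw [hN]; exact h2)
  have : Fact s.Prime := ⟨hs⟩
  have h7 := CTwoTab.card_psl_two (F := ZMod s) (by rw [ZMod.card, h6]; exact odd_two_mul_add_one m)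
  rw [ZMod.card, ← Nat.card_congr e.toEquiv, hN] at h7
  exact h3 h7

theorem aut_le {N : ℕ} (hN : Nat.card T = N) {c : ℕ} (hidx : (MulAut.conj : T →* MulAut T).range.index ≤ c) :
    Nat.card (MulAut T) ≤ c * N := by
  have h1 := Subgroup.card_mul_index (MulAut.conj : T →* MulAut T).range
  have h2 : Nat.card ↥(MulAut.conj : T →* MulAut T).range ≤ N := by
    rw [← hN]
    exact Nat.card_le_card_of_surjective _ (MonoidHom.rangeRestrict_surjective (MulAut.conj : T →* MulAut T))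
  rw [← h1, mul_comm c]
  exact Nat.mul_le_mul h2 hidx

theorem num {c A p M m P : ℕ} (hp : p.Prime) (hM : 2 ≤ M) (hm : M ≤ m) (hc : 1 ≤ c)
    (hlow : p < P → (p - c) * A + 1 < p ^ M) (hhigh : A ≤ P ^ (M - 1)) {B : ℕ} (hB : B ≤ A) :
    (p - c) * B + 1 < p ^ m := by
  have hpm : p ^ M ≤ p ^ m := Nat.pow_le_pow_right hp.pos hm
  have h0 : (p - c) * B ≤ (p - c) * A := Nat.mul_le_mul_left _ hB
  rcases lt_or_ge p P with h | h
  · have := hlow h
    omega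
  · have h1 : P ^ (M - 1) ≤ p ^ (M - 1) := Nat.pow_le_pow_left h _
    have h2 : p * p ^ (M - 1) = p ^ M := by
      rw [← pow_succ']
      congr 1
      omega
    have h3 : (p - c) * A ≤ (p - c) * p ^ (M - 1) := Nat.mul_le_mul_left _ (hhigh.trans h1)
    have h5 : p ≤ p ^ (M - 1) := by
      calc p = p ^ 1 := (pow_one p).symm
        _ ≤ p ^ (M - 1) := Nat.pow_le_pow_right hp.pos (by omega)
    have h6 := hp.two_le
    rcases le_or_gt c p with h7 | h7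
    · have h4 : (p - c) * p ^ (M - 1) + c * p ^ (M - 1) = p * p ^ (M - 1) := by
        rw [← add_mul]
        congr 1
        omega
      have h8 : 1 * p ^ (M - 1) ≤ c * p ^ (M - 1) := Nat.mul_le_mul_right _ hc
      omega
    · have h9 : p - c = 0 := by omega
      rw [h9, zero_mul]
      have : 1 < p ^ M := Nat.one_lt_pow (by omega) hp.one_lt
      omega

/-- the pattern, `|T|` large -/
theorem fine_of7 [IsSimpleGroup T] {N s M P c : ℕ} (hN : Nat.card T = N) (hN7 : 3263442 < N) (hnp : ¬ N.Prime) (hs : s.Prime)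
    (hsM : s + 1 = 2 * M) (hM : 2 ≤ M) (h1 : s ∣ N) (h2 : ¬ s ^ 2 ∣ N) (h3 : s * (s ^ 2 - 1) ≠ 2 * N)
    (hidx : (MulAut.conj : T →* MulAut T).range.index ≤ c)
    (hlow : ∀ p, p.Prime → 11 ≤ p → ¬ p ∣ N → p < P → (p - 13) * (c * N) + 1 < p ^ M) (hhigh : c * N ≤ P ^ (M - 1)) :
    Fine.{u, u} T := by
  have hna := not_comm_of_card inferInstance hN hnp
  have hcT : Subgroup.center T = ⊥ := by
    rcases (inferInstance : (Subgroup.center T).Normal).eq_bot_or_eq_top with h6 | h6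
    · exact h6
    · exact absurd ⟨⟨fun a b => (Subgroup.mem_center_iff.1 (by rw [h6]; trivial : a ∈ Subgroup.center T) b).symm⟩⟩ hna
  refine Fine.of_lt7 hcT (by rw [hN]; exact hN7) fun p m hp h11 hpT _ hR => ?_
  exact num hp hM (le_deg hN hna hs hsM h1 h2 h3 hp hR) (by norm_num)
    (hlow p hp h11 (by rwa [hN] at hpT)) hhigh (aut_le hN hidx)

/-- the pattern, `|T|` small -/
theorem fine_of6 [IsSimpleGroup T] {N s M P c : ℕ} (hN : Nat.card T = N) (hN7 : 1806 < N) (hnp : ¬ N.Prime) (hs : s.Prime)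
    (hsM : s + 1 = 2 * M) (hM : 2 ≤ M) (h1 : s ∣ N) (h2 : ¬ s ^ 2 ∣ N) (h3 : s * (s ^ 2 - 1) ≠ 2 * N)
    (hidx : (MulAut.conj : T →* MulAut T).range.index ≤ c)
    (hlow : ∀ p, p.Prime → 11 ≤ p → ¬ p ∣ N → p < P → (p - 11) * (c * N) + 1 < p ^ M) (hhigh : c * N ≤ P ^ (M - 1)) :
    Fine.{u, u} T := by
  have hna := not_comm_of_card inferInstance hN hnp
  have hcT : Subgroup.center T = ⊥ := by
    rcases (inferInstance : (Subgroup.center T).Normal).eq_bot_or_eq_top with h6 | h6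
    · exact h6
    · exact absurd ⟨⟨fun a b => (Subgroup.mem_center_iff.1 (by rw [h6]; trivial : a ∈ Subgroup.center T) b).symm⟩⟩ hna
  refine Fine.of_lt6 hcT (by rw [hN]; exact hN7) fun p m hp h11 hpT _ hR => ?_
  exact num hp hM (le_deg hN hna hs hsM h1 h2 h3 hp hR) (by norm_num)
    (hlow p hp h11 (by rwa [hN] at hpT)) hhigh (aut_le hN hidx)

section

variable [IsSimpleGroup T]

theorem m11 (hidx : (MulAut.conj : T →* MulAut T).range.index ≤ 2) (h : Spor.IsoM11 T) : Fine.{u, u} T := by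
  refine fine_of6 (s := 11) (M := 6) (P := 13) (NotCT.Orders.m11 h) (by norm_num) (by norm_num) (by norm_num) (by norm_num)
    (by norm_num) (by norm_num) (by norm_num) (by norm_num) hidx ?_ (by norm_num)
  intro p hp h11 hd hP
  interval_cases p <;> revert hp hd <;> norm_num

theorem m12 (hidx : (MulAut.conj : T →* MulAut T).range.index ≤ 2) (h : Spor.IsoM12 T) : Fine.{u, u} T := by
  refine fine_of6 (s := 11) (M := 6) (P := 13) (NotCT.Orders.m12 h) (by norm_num) (by norm_num) (by norm_num) (by norm_num)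
    (by norm_num) (by norm_num) (by norm_num) (by norm_num) hidx ?_ (by norm_num)
  intro p hp h11 hd hP
  interval_cases p <;> revert hp hd <;> norm_num

theorem m22 (hidx : (MulAut.conj : T →* MulAut T).range.index ≤ 2) (h : Spor.IsoM22 T) : Fine.{u, u} T := by
  refine fine_of6 (s := 11) (M := 6) (P := 17) (NotCT.Orders.m22 h) (by norm_num) (by norm_num) (by norm_num) (by norm_num)
    (by norm_num) (by norm_num) (by norm_num) (by norm_num) hidx ?_ (by norm_num)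
  intro p hp h11 hd hP
  interval_cases p <;> revert hp hd <;> norm_num

theorem m23 (hidx : (MulAut.conj : T →* MulAut T).range.index ≤ 2) (h : Spor.IsoM23 T) : Fine.{u, u} T := by
  refine fine_of7 (s := 23) (M := 12) (P := 11) (NotCT.Orders.m23 h) (by norm_num) (by norm_num) (by norm_num) (by norm_num)
    (by norm_num) (by norm_num) (by norm_num) (by norm_num) hidx ?_ (by norm_num)
  intro p hp h11 hd hP
  omega

theorem m24 (hidx : (MulAut.conj : T →* MulAut T).range.index ≤ 2) (h : Spor.IsoM24 T) : Fine.{u, u} T := by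
  refine fine_of7 (s := 23) (M := 12) (P := 11) (NotCT.Orders.m24 h) (by norm_num) (by norm_num) (by norm_num) (by norm_num)
    (by norm_num) (by norm_num) (by norm_num) (by norm_num) hidx ?_ (by norm_num)
  intro p hp h11 hd hP
  omega

theorem j1 (hidx : (MulAut.conj : T →* MulAut T).range.index ≤ 2) (h : Spor.IsoJ1 T) : Fine.{u, u} T := by
  refine fine_of6 (s := 19) (M := 10) (P := 11) (NotCT.Orders.j1 h) (by norm_num) (by norm_num) (by norm_num) (by norm_num)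
    (by norm_num) (by norm_num) (by norm_num) (by norm_num) hidx ?_ (by norm_num)
  intro p hp h11 hd hP
  omega

theorem j3 (hidx : (MulAut.conj : T →* MulAut T).range.index ≤ 2) (h : Spor.IsoJ3 T) : Fine.{u, u} T := by
  refine fine_of7 (s := 19) (M := 10) (P := 11) (NotCT.Orders.j3 h) (by norm_num) (by norm_num) (by norm_num) (by norm_num)
    (by norm_num) (by norm_num) (by norm_num) (by norm_num) hidx ?_ (by norm_num)
  intro p hp h11 hd hP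
  omega

theorem j4 (hidx : (MulAut.conj : T →* MulAut T).range.index ≤ 2) (h : Spor.IsoJ4 T) : Fine.{u, u} T := by
  refine fine_of7 (s := 43) (M := 22) (P := 11) (NotCT.Orders.j4 h) (by norm_num) (by norm_num) (by norm_num) (by norm_num)
    (by norm_num) (by norm_num) (by norm_num) (by norm_num) hidx ?_ (by norm_num)
  intro p hp h11 hd hP
  omega

theorem co2 (hidx : (MulAut.conj : T →* MulAut T).range.index ≤ 2) (h : Spor.IsoCo2 T) : Fine.{u, u} T := by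
  refine fine_of7 (s := 23) (M := 12) (P := 19) (NotCT.Orders.co2 h) (by norm_num) (by norm_num) (by norm_num) (by norm_num)
    (by norm_num) (by norm_num) (by norm_num) (by norm_num) hidx ?_ (by norm_num)
  intro p hp h11 hd hP
  interval_cases p <;> revert hp hd <;> norm_num

theorem co3 (hidx : (MulAut.conj : T →* MulAut T).range.index ≤ 2) (h : Spor.IsoCo3 T) : Fine.{u, u} T := by
  refine fine_of7 (s := 23) (M := 12) (P := 17) (NotCT.Orders.co3 h) (by norm_num) (by norm_num) (by norm_num) (by norm_num)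
    (by norm_num) (by norm_num) (by norm_num) (by norm_num) hidx ?_ (by norm_num)
  intro p hp h11 hd hP
  interval_cases p <;> revert hp hd <;> norm_num

theorem he (hidx : (MulAut.conj : T →* MulAut T).range.index ≤ 2) (h : Spor.IsoHe T) : Fine.{u, u} T := by
  refine fine_of7 (s := 17) (M := 9) (P := 19) (NotCT.Orders.he h) (by norm_num) (by norm_num) (by norm_num) (by norm_num)
    (by norm_num) (by norm_num) (by norm_num) (by norm_num) hidx ?_ (by norm_num)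
  intro p hp h11 hd hP
  interval_cases p <;> revert hp hd <;> norm_num

theorem ru (hidx : (MulAut.conj : T →* MulAut T).range.index ≤ 2) (h : Spor.IsoRu T) : Fine.{u, u} T := by
  refine fine_of7 (s := 29) (M := 15) (P := 11) (NotCT.Orders.ru h) (by norm_num) (by norm_num) (by norm_num) (by norm_num)
    (by norm_num) (by norm_num) (by norm_num) (by norm_num) hidx ?_ (by norm_num)
  intro p hp h11 hd hP
  omega

theorem on (hidx : (MulAut.conj : T →* MulAut T).range.index ≤ 2) (h : Spor.IsoON T) : Fine.{u, u} T := by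
  refine fine_of7 (s := 31) (M := 16) (P := 11) (NotCT.Orders.on h) (by norm_num) (by norm_num) (by norm_num) (by norm_num)
    (by norm_num) (by norm_num) (by norm_num) (by norm_num) hidx ?_ (by norm_num)
  intro p hp h11 hd hP
  omega

theorem ly (hidx : (MulAut.conj : T →* MulAut T).range.index ≤ 2) (h : Spor.IsoLy T) : Fine.{u, u} T := by
  refine fine_of7 (s := 67) (M := 34) (P := 11) (NotCT.Orders.ly h) (by norm_num) (by norm_num) (by norm_num) (by norm_num)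
    (by norm_num) (by norm_num) (by norm_num) (by norm_num) hidx ?_ (by norm_num)
  intro p hp h11 hd hP
  omega

theorem th (hidx : (MulAut.conj : T →* MulAut T).range.index ≤ 2) (h : Spor.IsoTh T) : Fine.{u, u} T := by
  refine fine_of7 (s := 31) (M := 16) (P := 17) (NotCT.Orders.th h) (by norm_num) (by norm_num) (by norm_num) (by norm_num)
    (by norm_num) (by norm_num) (by norm_num) (by norm_num) hidx ?_ (by norm_num)
  intro p hp h11 hd hP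
  interval_cases p <;> revert hp hd <;> norm_num

theorem b (hidx : (MulAut.conj : T →* MulAut T).range.index ≤ 1) (h : Spor.IsoB T) : Fine.{u, u} T := by
  refine fine_of7 (s := 47) (M := 24) (P := 29) (NotCT.Orders.b h) (by norm_num) (by norm_num) (by norm_num) (by norm_num)
    (by norm_num) (by norm_num) (by norm_num) (by norm_num) hidx ?_ (by norm_num)
  intro p hp h11 hd hP
  interval_cases p <;> revert hp hd <;> norm_num

theorem m (hidx : (MulAut.conj : T →* MulAut T).range.index ≤ 2) (h : Spor.IsoM T) : Fine.{u, u} T := by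
  refine fine_of7 (s := 71) (M := 36) (P := 37) (NotCT.Orders.m h) (by norm_num) (by norm_num) (by norm_num) (by norm_num)
    (by norm_num) (by norm_num) (by norm_num) (by norm_num) hidx ?_ (by norm_num)
  intro p hp h11 hd hP
  interval_cases p <;> revert hp hd <;> norm_num

end

theorem index_b (h : Spor.IsoB T) : (MulAut.conj : T →* MulAut T).range.index ≤ 1 := by
  obtain ⟨e⟩ := h
  rw [H498.SporOut.index_congr e]
  exact S2084.result.le

/-- the sporadic groups of task 1138 -/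
theorem fine_spor1 (h : Spor.IsoM11 T ∨ Spor.IsoM12 T ∨ Spor.IsoM22 T ∨ Spor.IsoM23 T ∨ Spor.IsoM24 T ∨ Spor.IsoJ1 T ∨
    Spor.IsoJ3 T ∨ Spor.IsoJ4 T ∨ Spor.IsoCo2 T ∨ Spor.IsoCo3 T ∨ Spor.IsoHe T ∨ Spor.IsoRu T ∨ Spor.IsoON T ∨
    Spor.IsoLy T ∨ Spor.IsoTh T ∨ Spor.IsoB T ∨ Spor.IsoM T) : Fine.{u, u} T := by
  have hsp : IsSporadicGroup T := by
    unfold IsSporadicGroup
    casesm* _ ∨ _ <;> simp only [*, true_or, or_true]
  have hs : IsSimpleGroup T := SporSimple.spor_simple hsp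
  have hi := H498.SporOut.index_le_two hsp
  rcases h with h | h | h | h | h | h | h | h | h | h | h | h | h | h | h | h | h
  · exact m11 hi h
  · exact m12 hi h
  · exact m22 hi h
  · exact m23 hi h
  · exact m24 hi h
  · exact j1 hi h
  · exact j3 hi h
  · exact j4 hi h
  · exact co2 hi h
  · exact co3 hi h
  · exact he hi h
  · exact ru hi h
  · exact on hi h
  · exact ly hi h
  · exact th hi h
  · exact b (index_b h) h
  · exact m hi h

end Cfsg.Agent.H123.FineSpor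
end

-- part: H128/FineSec
section
/-!
# Projective representations: change of universe, restriction to sections (helper128)
-/

set_option autoImplicit false

namespace Cfsg.Agent.H128.FineSec

open Cfsg.Agent.H698 Subgroup
open scoped commutatorElement

universe u u' v w

/-- change of universe -/
theorem rep_down {p m : ℕ} {T : Type u} [Group T] {T₀ : Type v} [Group T₀] (h : _root_.Cfsg.Agent.H698.Rep.{u, w} p m T)
    (e : T ≃* T₀) : _root_.Cfsg.Agent.H698.Rep.{v, 0} p m T₀ := by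
  obtain ⟨F, _, _, _, P, _, _, π, ρ, h1, h2, h3, h4, h5⟩ := h
  let eP : Shrink.{0} P ≃* P := Shrink.mulEquiv
  let eF' : Shrink.{0} F ≃+* F := (equivShrink.{0} F).symm.ringEquiv
  let eF : F ≃+* Shrink.{0} F := eF'.symm
  have hfP : Finite (Shrink.{0} P) := Finite.of_equiv P eP.symm.toEquiv
  have hfF : Finite (Shrink.{0} F) := Finite.of_equiv F eF.toEquiv
  have hch : CharP (Shrink.{0} F) p := by
    refine ⟨fun x => ?_⟩
    rw [← CharP.cast_eq_zero_iff F p x]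
    constructor
    · intro hx
      apply eF.injective
      rw [map_natCast, map_zero]
      exact hx
    · intro hx
      have := congrArg eF hx
      rwa [map_natCast, map_zero] at this
  refine ⟨Shrink.{0} F, inferInstance, hfF, hch, Shrink.{0} P, inferInstance, hfP,
    (e.toMonoidHom.comp π).comp eP.toMonoidHom,
    ((Matrix.GeneralLinearGroup.map (n := Fin m) (eF : F →+* Shrink.{0} F)).comp ρ).comp eP.toMonoidHom, ?_, ?_, ?_, ?_, ?_⟩
  · exact (e.surjective.comp h1).comp eP.surjective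
  · intro x hx
    rw [MonoidHom.mem_ker] at hx
    have h6 : π (eP x) = 1 := e.injective (by rw [map_one]; exact hx)
    have h7 := h2 (MonoidHom.mem_ker.2 h6)
    rw [Subgroup.mem_center_iff] at h7 ⊢
    intro y
    apply eP.injective
    rw [map_mul, map_mul]
    exact h7 (eP y)
  · have h6 : (_root_.commutator (Shrink.{0} P)).map eP.toMonoidHom = ⊤ := by
      rw [_root_.commutator_def, Subgroup.map_commutator, ← MonoidHom.range_eq_map,
        MonoidHom.range_eq_top.2 eP.surjective, ← _root_.commutator_def, h3]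
    rw [eq_top_iff]
    intro x _
    have h7 : eP x ∈ (commutator (Shrink.{0} P)).map eP.toMonoidHom := by rw [h6]; trivial
    obtain ⟨y, hy, hyx⟩ := h7
    rwa [← eP.injective hyx]
  · intro a b hab
    apply eP.injective
    apply h4
    apply Units.ext
    ext i j
    have h6 := congrArg (fun x : Matrix.GeneralLinearGroup (Fin m) (Shrink.{0} F) =>
      (x : Matrix (Fin m) (Fin m) (Shrink.{0} F)) i j) hab
    exact eF.injective h6
  · rw [Nat.card_congr eP.toEquiv]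
    exact h5

/-- a perfect subgroup mapping onto a perfect group -/
theorem exists_perfect {Q S : Type*} [Group Q] [Finite Q] [Group S] (φ : Q →* S) (hφ : Function.Surjective φ)
    (hS : commutator S = ⊤) : ∃ D : Subgroup Q, D.map φ = ⊤ ∧ ⁅D, D⁆ = D := by
  classical
  let s : Set (Subgroup Q) := {D | D.map φ = ⊤}
  have hs : s.Nonempty := ⟨⊤, by
    show (⊤ : Subgroup Q).map φ = ⊤
    rw [← MonoidHom.range_eq_map]
    exact MonoidHom.range_eq_top.2 hφ⟩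
  obtain ⟨D, hD, hmin⟩ := WellFounded.has_min (wellFounded_lt : WellFounded ((· < ·) : Subgroup Q → Subgroup Q → Prop)) s hs
  refine ⟨D, hD, ?_⟩
  have h1 : ⁅D, D⁆ ∈ s := by
    show (⁅D, D⁆).map φ = ⊤
    rw [Subgroup.map_commutator, show D.map φ = ⊤ from hD, ← _root_.commutator_def]
    exact hS
  have h2 : ⁅D, D⁆ ≤ D := commutator_le_self D
  rcases h2.lt_or_eq with h3 | h3
  · exact absurd h3 (hmin _ h1)
  · exact h3

theorem commutator_top {S : Type*} [Group S] [IsSimpleGroup S] (hS : ¬ IsMulCommutative S) : commutator S = ⊤ := by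
  rcases (inferInstance : (commutator S).Normal).eq_bot_or_eq_top with h6 | h6
  · exfalso
    apply hS
    refine ⟨⟨fun a b => ?_⟩⟩
    have h7 : ⁅a, b⁆ ∈ commutator S := Subgroup.commutator_mem_commutator (Subgroup.mem_top _) (Subgroup.mem_top _)
    rw [h6, Subgroup.mem_bot, commutatorElement_eq_one_iff_mul_comm] at h7
    exact h7
  · exact h6

/-- **Restriction to a section.** -/
theorem rep_section {p m : ℕ} {T : Type u} [Group T] (h : _root_.Cfsg.Agent.H698.Rep.{u, w} p m T) {K : Subgroup T} {S : Type v}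
    [Group S] [IsSimpleGroup S] (hS : ¬ IsMulCommutative S) (φ : K →* S) (hφ : Function.Surjective φ)
    (hc : φ.ker ≤ center K) : _root_.Cfsg.Agent.H698.Rep.{v, w} p m S := by
  obtain ⟨F, _, _, _, P, _, _, π, ρ, h1, h2, h3, h4, h5⟩ := h
  let Q : Subgroup P := K.comap π
  let πQ : Q →* K := (π.comp Q.subtype).codRestrict K (fun x => x.2)
  let ψ : Q →* S := φ.comp πQ
  have hπQ : Function.Surjective πQ := by
    intro k
    obtain ⟨x, hx⟩ := h1 k.1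
    exact ⟨⟨x, by change π x ∈ K; rw [hx]; exact k.2⟩, Subtype.ext hx⟩
  have hψ : Function.Surjective ψ := hφ.comp hπQ
  obtain ⟨D, hD, hDD⟩ := exists_perfect ψ hψ (commutator_top hS)
  -- the elements of `D` in the kernel are central in `D`
  have hcen : ∀ x ∈ D, ψ x = 1 → ∀ y ∈ D, x * y = y * x := by
    intro x hx hx1 y hy
    have hk : πQ x ∈ center K := hc hx1
    have hz : ∀ y : Q, ((⁅x, y⁆ : Q) : P) ∈ center P := by
      intro y
      apply h2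
      rw [MonoidHom.mem_ker]
      have h6 : πQ ⁅x, y⁆ = 1 := by
        rw [map_commutatorElement, commutatorElement_eq_one_iff_mul_comm]
        exact (mem_center_iff.1 hk (πQ y)).symm
      exact congrArg Subtype.val h6
    -- the homomorphism `y ↦ [x, y]`
    let f : Q →* center P :=
      { toFun := fun y => ⟨((⁅x, y⁆ : Q) : P), hz y⟩
        map_one' := by
          apply Subtype.ext
          change ((⁅x, (1 : Q)⁆ : Q) : P) = 1
          rw [commutatorElement_one_right]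
          rfl
        map_mul' := by
          intro a b
          apply Subtype.ext
          change ((⁅x, a * b⁆ : Q) : P) = ((⁅x, a⁆ : Q) : P) * ((⁅x, b⁆ : Q) : P)
          have h7 := mem_center_iff.1 (hz b) (a : P)
          have h8 : ((⁅x, a * b⁆ : Q) : P) = ((⁅x, a⁆ : Q) : P) * ((a : P) * ((⁅x, b⁆ : Q) : P) * (a : P)⁻¹) := by
            simp only [commutatorElement_def, Subgroup.coe_mul, InvMemClass.coe_inv]
            group
          rw [h8, h7, mul_inv_cancel_right] }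
    have h9 : D ≤ f.ker := by
      rw [← hDD, Subgroup.commutator_le]
      intro a _ b _
      rw [MonoidHom.mem_ker, map_commutatorElement, commutatorElement_eq_one_iff_mul_comm]
      exact Subtype.ext (mem_center_iff.1 (f b).2 _)
    have h10 : f y = 1 := h9 hy
    have h11 : ((⁅x, y⁆ : Q) : P) = 1 := congrArg Subtype.val h10
    exact commutatorElement_eq_one_iff_mul_comm.1 (Subtype.ext h11)
  refine ⟨F, inferInstance, inferInstance, inferInstance, D, inferInstance, inferInstance, ψ.comp D.subtype,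
    (ρ.comp Q.subtype).comp D.subtype, ?_, ?_, ?_, ?_, ?_⟩
  · intro s
    have h6 : s ∈ D.map ψ := by rw [hD]; trivial
    obtain ⟨d, hd, rfl⟩ := h6
    exact ⟨⟨d, hd⟩, rfl⟩
  · intro x hx
    rw [Subgroup.mem_center_iff]
    intro y
    exact Subtype.ext (hcen x x.2 hx y y.2).symm
  · rw [_root_.commutator_def, eq_top_iff]
    intro x _
    have h7 : (x : Q) ∈ ⁅D, D⁆ := by rw [hDD]; exact x.2
    have h8 : (⁅(⊤ : Subgroup D), (⊤ : Subgroup D)⁆).map D.subtype = ⁅D, D⁆ := by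
      rw [Subgroup.map_commutator, ← MonoidHom.range_eq_map, Subgroup.range_subtype]
    rw [← h8] at h7
    obtain ⟨y, hy, hyx⟩ := h7
    rwa [← Subtype.ext (show (y : Q) = x from hyx)]
  · intro a b hab
    exact Subtype.ext (Subtype.ext (h4 hab))
  · intro h6
    exact h5 ((h6.trans (Subgroup.card_subgroup_dvd_card D)).trans (Subgroup.card_subgroup_dvd_card Q))

/-- The form with a homomorphism `f : H → T` and a homomorphism `φ : H → S` with central kernels. -/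
theorem rep_of_hom {p m : ℕ} {T : Type u} [Group T] (h : _root_.Cfsg.Agent.H698.Rep.{u, w} p m T) {H : Type u'} [Group H] (f : H →* T)
    (hf : f.ker ≤ center H) {S : Type v}
    [Group S] [IsSimpleGroup S] (hS : ¬ IsMulCommutative S) (φ : H →* S) (hφ : Function.Surjective φ)
    (hc : φ.ker ≤ center H) : _root_.Cfsg.Agent.H698.Rep.{v, w} p m S := by
  have hcS : center S = ⊥ := by
    rcases (inferInstance : (center S).Normal).eq_bot_or_eq_top with h6 | h6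
    · exact h6
    · exact absurd ⟨⟨fun a b => (mem_center_iff.1 (by rw [h6]; trivial : a ∈ center S) b).symm⟩⟩ hS
  have hle : f.ker ≤ φ.ker := by
    intro x hx
    rw [MonoidHom.mem_ker]
    have h1 : φ x ∈ center S := by
      rw [mem_center_iff]
      intro s
      obtain ⟨y, rfl⟩ := hφ s
      rw [← map_mul, ← map_mul, mem_center_iff.1 (hf hx) y]
    rwa [hcS, mem_bot] at h1
  have hle' : f.rangeRestrict.ker ≤ φ.ker := by
    rw [MonoidHom.ker_rangeRestrict]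
    exact hle
  let g : f.range →* S := MonoidHom.liftOfSurjective f.rangeRestrict f.rangeRestrict_surjective ⟨φ, hle'⟩
  have hg : ∀ x, g (f.rangeRestrict x) = φ x := fun x =>
    MonoidHom.liftOfRightInverse_comp_apply f.rangeRestrict _ _ ⟨φ, hle'⟩ x
  refine rep_section h hS g ?_ ?_
  · intro s
    obtain ⟨x, rfl⟩ := hφ s
    exact ⟨f.rangeRestrict x, hg x⟩
  · intro y hy
    obtain ⟨x, rfl⟩ := f.rangeRestrict_surjective y
    rw [MonoidHom.mem_ker, hg] at hy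
    have h1 := hc hy
    rw [mem_center_iff] at h1 ⊢
    intro z
    obtain ⟨t, rfl⟩ := f.rangeRestrict_surjective z
    rw [← map_mul, ← map_mul, h1]

/-- The conclusion from a lower bound. -/
theorem fine_of {T : Type u} [Group T] [Finite T] [IsSimpleGroup T] (hna : ¬ IsMulCommutative T) {N d : ℕ}
    (hN : Nat.card T = N) (hN7 : 3263442 < N)
    (hidx : (MulAut.conj : T →* MulAut T).range.index ≤ 2) (hd1 : 2 ≤ d) (hd : 2 * N ≤ 17 ^ (d - 1))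
    (hm : ∀ p m : ℕ, p.Prime → 11 ≤ p → ¬ p ∣ Nat.card T → _root_.Cfsg.Agent.H698.Rep.{u, u} p m T → d ≤ m) : Fine.{u, u} T := by
  have hcT : center T = ⊥ := by
    rcases (inferInstance : (center T).Normal).eq_bot_or_eq_top with h6 | h6
    · exact h6
    · exact absurd ⟨⟨fun a b => (mem_center_iff.1 (by rw [h6]; trivial : a ∈ center T) b).symm⟩⟩ hna
  have hA : Nat.card (MulAut T) ≤ 2 * N := by
    have h1 := Subgroup.card_mul_index (MulAut.conj : T →* MulAut T).range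
    have h2 : Nat.card ↥(MulAut.conj : T →* MulAut T).range ≤ N := by
      rw [← hN]
      exact Nat.card_le_card_of_surjective _ (MonoidHom.rangeRestrict_surjective (MulAut.conj : T →* MulAut T))
    rw [← h1, mul_comm 2]
    exact Nat.mul_le_mul h2 hidx
  refine Fine.of_lt7 hcT (by rw [hN]; exact hN7) fun p m hp h11 hpT _ hR => ?_
  have hdm := hm p m hp h11 hpT hR
  rcases lt_or_ge p 17 with h17 | h17
  · have hp13 : p ≤ 13 := by
      by_contra hcon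
      have : p = 14 ∨ p = 15 ∨ p = 16 := by omega
      rcases this with rfl | rfl | rfl
      · exact absurd hp (by norm_num)
      · exact absurd hp (by norm_num)
      · exact absurd hp (by norm_num)
    rw [Nat.sub_eq_zero_of_le hp13, zero_mul, zero_add]
    exact Nat.one_lt_pow (by omega) hp.one_lt
  · have h1 : 17 ^ (d - 1) ≤ p ^ (d - 1) := Nat.pow_le_pow_left h17 _
    have h2 : p * p ^ (d - 1) ≤ p ^ m := by
      rw [← pow_succ']
      exact Nat.pow_le_pow_right hp.pos (by omega)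
    have h3 : (p - 13) * Nat.card (MulAut T) ≤ (p - 13) * p ^ (d - 1) :=
      Nat.mul_le_mul_left _ (hA.trans (hd.trans h1))
    have h4 : (p - 13) * p ^ (d - 1) + 13 * p ^ (d - 1) = p * p ^ (d - 1) := by
      rw [← add_mul]
      congr 1
      omega
    have h5 : 0 < p ^ (d - 1) := Nat.pow_pos hp.pos
    omega

end Cfsg.Agent.H128.FineSec
end

-- part: H128/FineSpor
section
/-!
# The condition `Fine` for the sporadic groups, second part (helper128)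
-/

set_option autoImplicit false

namespace Cfsg.Agent.H128.FineSpor

open Cfsg Cfsg.Agent.H698 Cfsg.Agent.H912.Bd Cfsg.Agent.H128.FineSec Subgroup

universe u v

/-- the bounds `Bd`, for `p ≠ r` -/
theorem le_of_Bd' {p m r d : ℕ} {T : Type} [Group T] (hp : p.Prime) (hr : r.Prime) (hne : r ≠ p)
    (h : _root_.Cfsg.Agent.H698.Rep.{0, 0} p m T) {A : Type v} [CommGroup A] (hM : Cfsg.HasSchurMultiplier T A)
    (hA : (Nat.card A).Coprime r) (hB : ∀ (F : Type) [Field F], (r : F) ≠ 0 → Bd F r d T) : d ≤ m := by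
  obtain ⟨F, _, _, _, hPR⟩ := h.exists_PR hM hA
  refine hB F ?_ m hPR
  rw [Ne, CharP.cast_eq_zero_iff F p]
  intro h6
  rw [Nat.prime_dvd_prime_iff_eq hp hr] at h6
  exact hne h6.symm

/-! ### `PSU₃(3)`, `PSU₃(5)` -/

theorem le_psu {p m q : ℕ} (hp : p.Prime) (hq : q.Prime) (hq2 : q ≠ 2) (hne : q ≠ p) {F : Type} [Field F] [Fintype F]
    (hF : Fintype.card F = q ^ 2) (hg : (Nat.gcd 3 (q + 1)).Coprime q) (h : _root_.Cfsg.Agent.H698.Rep.{0, 0} p m (PSU 3 F q)) :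
    (q - 1) * q ^ (3 - 2) ≤ m := by
  have hqF : Fact q.Prime := ⟨hq⟩
  have : CharP F q := by
    obtain ⟨r, hr⟩ := CharP.exists F
    have hr' : r.Prime := CharP.char_is_prime F r
    have : Fact r.Prime := ⟨hr'⟩
    obtain ⟨n, hn, hc⟩ := FiniteField.card F r
    rw [hF] at hc
    have h1 : r ∣ q ^ 2 := by rw [hc]; exact dvd_pow_self r n.pos.ne'
    have h2 := (Nat.prime_dvd_prime_iff_eq hr' hq).1 (hr'.dvd_of_dvd_pow h1)
    rw [← h2]; exact hr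
  have hM := Cfsg.Agent.S2089.result (F := F) 3 q hF le_rfl (fun h => hq2 h.2) (by
    simp only [Set.mem_insert_iff, Set.mem_singleton_iff, Prod.mk.injEq]
    omega)
  refine le_of_Bd' hp hq hne h hM ?_ fun F' _ hF' => ?_
  · rw [Nat.card_congr Multiplicative.toAdd, Nat.card_zmod]
    exact hg
  · exact Cfsg.Agent.H175.BdSU.bd_psu hq hF le_rfl hF' (MulEquiv.refl _)

theorem rep_psu_five {p m : ℕ} {F : Type} [Field F] [Fintype F] (hF : Fintype.card F = 25) {T : Type u} [Group T]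
    (h : _root_.Cfsg.Agent.H698.Rep.{u, 0} p m T) (f : PSU 3 F 5 →* T) (hf : f.ker ≤ center _) : Rep.{0, 0} p m (PSU 3 F 5) := by
  have hs : IsSimpleGroup (PSU 3 F 5) := Cfsg.Agent.S0283.result (by rw [hF]; norm_num) 3 le_rfl (by omega)
  have hna : ¬ IsMulCommutative (PSU 3 F 5) := Cfsg.Agent.CpAut.Fix.not_comm_quot (H := ↥(Cfsg.SU 3 F 5)) (hs := hs)
  exact rep_of_hom h f hf hna (MonoidHom.id _) Function.surjective_id (by
    intro x hx
    rw [MonoidHom.mem_ker] at hx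
    change x = 1 at hx
    rw [hx]
    exact one_mem _)

theorem le_five {p m : ℕ} (hp : p.Prime) (h11 : 11 ≤ p) {F : Type} [Field F] [Fintype F] (hF : Fintype.card F = 25)
    (h : _root_.Cfsg.Agent.H698.Rep.{0, 0} p m (PSU 3 F 5)) : 20 ≤ m :=
  le_psu hp (by norm_num) (by norm_num) (by omega) (by rw [hF]; norm_num) (by norm_num) h

/-! ### the general pattern -/

theorem fine_sp {T : Type u} [Group T] [Finite T] (hsp : IsSporadicGroup T) {N d : ℕ}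
    (hN : Nat.card T = N) (hN7 : 3263442 < N) (hd1 : 2 ≤ d) (hd : 2 * N ≤ 17 ^ (d - 1))
    (hm : ∀ p m : ℕ, p.Prime → 11 ≤ p → _root_.Cfsg.Agent.H698.Rep.{u, u} p m T → d ≤ m) : Fine.{u, u} T := by
  have hs : IsSimpleGroup T := H14.KnownSimple.sporadic hsp
  exact fine_of (H47.MeetS.not_comm_spor hsp) hN hN7 (H498.SporOut.index_le_two hsp) hd1 hd
    fun p m hp h11 _ h => hm p m hp h11 h

/-! ### `HS`, `McL`, `Co₁` -/

section

open Cfsg.Agent.H792.SpU35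

theorem hs_twenty {T : Type u} [Group T] (hT : Spor.IsoHS T) {p m : ℕ} (hp : p.Prime) (h11 : 11 ≤ p)
    (h : _root_.Cfsg.Agent.H698.Rep.{u, u} p m T) : 20 ≤ m := by
  obtain ⟨e⟩ := hT
  obtain ⟨F, _, _, hF⟩ := exists_field
  obtain ⟨x, Tr⟩ := exists_tri sq_V hs_pair.1 hs_pair.2
  obtain ⟨e1⟩ := Tr.exists_hom hF
  let W := MulAction.stabilizer Co0 Spor.leechV ⊓ MulAction.stabilizer Co0 (-(Spor.leechV + Spor.leechU')) ⊓
      MulAction.stabilizer Co0 x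
  let f : W →* Spor.HS := (Co0.subtype.comp W.subtype).codRestrict Spor.HS fun g => mem_HS g.2.1.1 g.2.1.2
  have hf : Function.Injective f := by
    intro a b h
    have h1 := congrArg Subtype.val h
    exact Subtype.ext (Subtype.ext h1)
  have hinj : Function.Injective (f.comp e1.toMonoidHom) := by
    rw [MonoidHom.coe_comp]
    exact hf.comp e1.injective
  refine le_five hp h11 hF (rep_psu_five hF (rep_down h e) (f.comp e1.toMonoidHom) ?_)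
  rw [(MonoidHom.ker_eq_bot_iff _).2 hinj]
  exact bot_le

theorem mcl_twenty {T : Type u} [Group T] (hT : Spor.IsoMcL T) {p m : ℕ} (hp : p.Prime) (h11 : 11 ≤ p)
    (h : _root_.Cfsg.Agent.H698.Rep.{u, u} p m T) : 20 ≤ m := by
  obtain ⟨e⟩ := hT
  obtain ⟨F, _, _, hF⟩ := exists_field
  obtain ⟨x, Tr⟩ := exists_tri_mcl
  obtain ⟨e1⟩ := Tr.exists_hom hF
  let W := MulAction.stabilizer Co0 x ⊓ MulAction.stabilizer Co0 Spor.leechV ⊓ MulAction.stabilizer Co0 Spor.leechU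
  let f : W →* Spor.McL := (Co0.subtype.comp W.subtype).codRestrict Spor.McL fun g => ⟨⟨g.1.2, g.2.1.2⟩, g.2.2⟩
  have hf : Function.Injective f := by
    intro a b h
    have h1 := congrArg Subtype.val h
    exact Subtype.ext (Subtype.ext h1)
  have hinj : Function.Injective (f.comp e1.toMonoidHom) := by
    rw [MonoidHom.coe_comp]
    exact hf.comp e1.injective
  refine le_five hp h11 hF (rep_psu_five hF (rep_down h e) (f.comp e1.toMonoidHom) ?_)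
  rw [(MonoidHom.ker_eq_bot_iff _).2 hinj]
  exact bot_le

theorem co1_twenty {T : Type u} [Group T] (hT : Spor.IsoCo1 T) {p m : ℕ} (hp : p.Prime) (h11 : 11 ≤ p)
    (h : _root_.Cfsg.Agent.H698.Rep.{u, u} p m T) : 20 ≤ m := by
  obtain ⟨e⟩ := hT
  obtain ⟨F, _, _, hF⟩ := exists_field
  obtain ⟨x, Tr⟩ := exists_tri_mcl
  obtain ⟨e1⟩ := Tr.exists_hom hF
  let W := MulAction.stabilizer Co0 x ⊓ MulAction.stabilizer Co0 Spor.leechV ⊓ MulAction.stabilizer Co0 Spor.leechU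
  let f : W →* Spor.Co1 := (QuotientGroup.mk' (center Co0)).comp W.subtype
  refine le_five hp h11 hF (rep_psu_five hF (rep_down h e) (f.comp e1.toMonoidHom) ?_)
  intro y hy
  have h1 : ((e1 y : W) : Co0) ∈ center Co0 := by
    have h2 : (QuotientGroup.mk' (center Co0)) ((e1 y : W) : Co0) = 1 := hy
    rwa [QuotientGroup.mk'_apply, QuotientGroup.eq_one_iff] at h2
  rw [mem_center_iff]
  intro z
  apply e1.injective
  rw [map_mul, map_mul]
  exact Subtype.ext (mem_center_iff.1 h1 ((e1 z : W) : Co0))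

end

theorem fine_hs {T : Type u} [Group T] [Finite T] (hsp : IsSporadicGroup T) (h : Spor.IsoHS T) : Fine.{u, u} T :=
  fine_sp hsp (NotCT.Orders.hs h) (d := 20) (by norm_num) (by norm_num) (by norm_num)
    fun _ _ hp h11 hR => hs_twenty h hp h11 hR

theorem fine_mcl {T : Type u} [Group T] [Finite T] (hsp : IsSporadicGroup T) (h : Spor.IsoMcL T) : Fine.{u, u} T :=
  fine_sp hsp (NotCT.Orders.mcl h) (d := 20) (by norm_num) (by norm_num) (by norm_num)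
    fun _ _ hp h11 hR => mcl_twenty h hp h11 hR

theorem fine_co1 {T : Type u} [Group T] [Finite T] (hsp : IsSporadicGroup T) (h : Spor.IsoCo1 T) : Fine.{u, u} T :=
  fine_sp hsp (NotCT.Orders.co1 h) (d := 20) (by norm_num) (by norm_num) (by norm_num)
    fun _ _ hp h11 hR => co1_twenty h hp h11 hR

end Cfsg.Agent.H128.FineSpor
end

-- part: H128/FineSporB
section
/-!
# The condition `Fine` for `J₂`, `Suz`, `HN`, `Fi₂₂`, `Fi₂₃`, `Fi₂₄'` (helper128)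
-/

set_option autoImplicit false

namespace Cfsg.Agent.H128.FineSpor

open Cfsg Cfsg.Agent.H698 Cfsg.Agent.H912.Bd Cfsg.Agent.H128.FineSec Subgroup

universe u v

/-! ### `J₂` -/

theorem j2_six {T : Type u} [Group T] (hT : Spor.IsoJ2 T) {p m : ℕ} (hp : p.Prime) (h11 : 11 ≤ p)
    (h : _root_.Cfsg.Agent.H698.Rep.{u, u} p m T) : 6 ≤ m := by
  obtain ⟨e⟩ := hT
  obtain ⟨H, -, ⟨F, _, _, hF, ⟨e1⟩⟩, -⟩ := S1624.result
  have hs : IsSimpleGroup (PSU 3 F 3) := Cfsg.Agent.S0283.result (by rw [hF]; norm_num) 3 le_rfl (by omega)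
  have hna : ¬ IsMulCommutative (PSU 3 F 3) := Cfsg.Agent.CpAut.Fix.not_comm_quot (H := ↥(Cfsg.SU 3 F 3)) (hs := hs)
  have h1 : _root_.Cfsg.Agent.H698.Rep.{0, 0} p m (PSU 3 F 3) := rep_section (rep_down h e) hna e1.toMonoidHom e1.surjective (by
    rw [(MonoidHom.ker_eq_bot_iff _).2 e1.injective]
    exact bot_le)
  exact le_psu hp (by norm_num) (by norm_num) (by omega) (by rw [hF]; norm_num) (by norm_num) h1

theorem fine_j2 {T : Type u} [Group T] [Finite T] (hsp : IsSporadicGroup T) (h : Spor.IsoJ2 T) : Fine.{u, u} T := by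
  have hs : IsSimpleGroup T := H14.KnownSimple.sporadic hsp
  have hna := H47.MeetS.not_comm_spor hsp
  have hN := NotCT.Orders.j2 h
  have hidx := H498.SporOut.index_le_two hsp
  have hcT : center T = ⊥ := by
    rcases (inferInstance : (center T).Normal).eq_bot_or_eq_top with h6 | h6
    · exact h6
    · exact absurd ⟨⟨fun a b => (mem_center_iff.1 (by rw [h6]; trivial : a ∈ center T) b).symm⟩⟩ hna
  have hA : Nat.card (MulAut T) ≤ 1209600 := by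
    have h1 := Subgroup.card_mul_index (MulAut.conj : T →* MulAut T).range
    have h2 : Nat.card ↥(MulAut.conj : T →* MulAut T).range ≤ 604800 := by
      rw [← hN]
      exact Nat.card_le_card_of_surjective _ (MonoidHom.rangeRestrict_surjective (MulAut.conj : T →* MulAut T))
    rw [← h1]
    exact Nat.mul_le_mul h2 hidx
  refine Fine.of_lt6 hcT (by rw [hN]; norm_num) fun p m hp h11 hpT _ hR => ?_
  have hdm := j2_six h hp h11 hR
  rcases lt_or_ge p 17 with h17 | h17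
  · have hp13 : p = 11 ∨ p = 13 := by
      have : p = 11 ∨ p = 12 ∨ p = 13 ∨ p = 14 ∨ p = 15 ∨ p = 16 := by omega
      rcases this with rfl | rfl | rfl | rfl | rfl | rfl
      · exact Or.inl rfl
      · exact absurd hp (by norm_num)
      · exact Or.inr rfl
      · exact absurd hp (by norm_num)
      · exact absurd hp (by norm_num)
      · exact absurd hp (by norm_num)
    rcases hp13 with rfl | rfl
    · rw [Nat.sub_self, zero_mul, zero_add]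
      exact Nat.one_lt_pow (by omega) hp.one_lt
    · have h1 : 13 ^ 6 ≤ 13 ^ m := Nat.pow_le_pow_right (by norm_num) hdm
      have h2 : (13 - 11) * Nat.card (MulAut T) ≤ 2 * 1209600 := Nat.mul_le_mul_left _ hA
      have h3 : (13 : ℕ) ^ 6 = 4826809 := by norm_num
      omega
  · have h1 : 17 ^ 5 ≤ p ^ 5 := Nat.pow_le_pow_left h17 _
    have h2 : p * p ^ 5 ≤ p ^ m := by
      rw [← pow_succ']
      exact Nat.pow_le_pow_right hp.pos (by omega)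
    have h3 : (p - 11) * Nat.card (MulAut T) ≤ (p - 11) * p ^ 5 :=
      Nat.mul_le_mul_left _ (hA.trans ((by norm_num : 1209600 ≤ 17 ^ 5).trans h1))
    have h4 : (p - 11) * p ^ 5 + 11 * p ^ 5 = p * p ^ 5 := by
      rw [← add_mul]
      congr 1
      omega
    have h5 : 0 < p ^ 5 := Nat.pow_pos hp.pos
    omega

/-! ### `HN` -/

theorem rep_of_cover {p m : ℕ} {T : Type u} [Group T] (h : _root_.Cfsg.Agent.H698.Rep.{u, 0} p m T) {K : Type*} [Group K] (i : K →* T)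
    (hi : Function.Injective i) {X : Type*} [Group X] (g : K →* X) (hg : Function.Surjective g)
    (hgc : g.ker ≤ center K) {S : Type} [Group S] [IsSimpleGroup S] (hS : ¬ IsMulCommutative S) (f : S →* X)
    (hf : Function.Injective f) : _root_.Cfsg.Agent.H698.Rep.{0, 0} p m S := by
  let H : Subgroup K := f.range.comap g
  let e := MonoidHom.ofInjective hf
  let φ : H →* S := e.symm.toMonoidHom.comp ((g.comp H.subtype).codRestrict f.range (fun x => x.2))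
  have hφ' : ∀ x : H, f (φ x) = g x := by
    intro x
    change f (e.symm _) = _
    rw [← MonoidHom.ofInjective_apply hf]
    exact congrArg Subtype.val (e.apply_symm_apply _)
  refine rep_of_hom h (i.comp H.subtype) ?_ hS φ ?_ ?_
  · rw [(MonoidHom.ker_eq_bot_iff (i.comp H.subtype)).2 (by
      rw [MonoidHom.coe_comp]
      exact hi.comp H.subtype_injective)]
    exact bot_le
  · intro s
    obtain ⟨k, hk⟩ := hg (f s)
    exact ⟨⟨k, ⟨s, hk.symm⟩⟩, hf (by rw [hφ']; exact hk)⟩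
  · intro x hx
    rw [MonoidHom.mem_ker] at hx
    have h1 : g x = 1 := by rw [← hφ', hx, map_one]
    have h2 := hgc (MonoidHom.mem_ker.2 h1)
    rw [mem_center_iff] at h2 ⊢
    intro y
    exact Subtype.ext (h2 y)

theorem hn_twenty {T : Type u} [Group T] (hT : Spor.IsoHN T) {p m : ℕ} (hp : p.Prime) (h11 : 11 ≤ p)
    (h : _root_.Cfsg.Agent.H698.Rep.{u, u} p m T) : 20 ≤ m := by
  obtain ⟨e⟩ := hT
  obtain ⟨K, _, -, -, ⟨e2⟩, -⟩ := S1708.result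
  obtain ⟨F, _, _, hF⟩ := H792.SpU35.exists_field
  have hs : IsSimpleGroup (PSU 3 F 5) := Cfsg.Agent.S0283.result (by rw [hF]; norm_num) 3 le_rfl (by omega)
  have hna : ¬ IsMulCommutative (PSU 3 F 5) := Cfsg.Agent.CpAut.Fix.not_comm_quot (H := ↥(Cfsg.SU 3 F 5)) (hs := hs)
  -- the embedding in `HS`
  obtain ⟨x, Tr⟩ := H792.SpU35.exists_tri H792.SpU35.sq_V H792.SpU35.hs_pair.1 H792.SpU35.hs_pair.2
  obtain ⟨e1⟩ := Tr.exists_hom hF
  let W := MulAction.stabilizer Co0 Spor.leechV ⊓ MulAction.stabilizer Co0 (-(Spor.leechV + Spor.leechU')) ⊓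
      MulAction.stabilizer Co0 x
  let f : W →* Spor.HS := (Co0.subtype.comp W.subtype).codRestrict Spor.HS fun g => H792.SpU35.mem_HS g.2.1.1 g.2.1.2
  have hf : Function.Injective f := by
    intro a b h
    have h1 := congrArg Subtype.val h
    exact Subtype.ext (Subtype.ext h1)
  have hinj : Function.Injective (f.comp e1.toMonoidHom) := by
    rw [MonoidHom.coe_comp]
    exact hf.comp e1.injective
  refine le_five hp h11 hF ?_
  refine rep_of_cover (rep_down h e) ((Subgroup.subtype _).comp K.subtype) ?_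
    (e2.toMonoidHom.comp (QuotientGroup.mk' (center ↥K))) ?_ ?_ hna (f.comp e1.toMonoidHom) hinj
  · rw [MonoidHom.coe_comp]
    exact (Subgroup.subtype_injective _).comp K.subtype_injective
  · rw [MonoidHom.coe_comp]
    exact e2.surjective.comp (QuotientGroup.mk'_surjective _)
  · intro y hy
    have h1 : e2 (QuotientGroup.mk' (center ↥K) y) = 1 := hy
    rw [MulEquiv.map_eq_one_iff, QuotientGroup.mk'_apply, QuotientGroup.eq_one_iff] at h1
    exact h1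

theorem fine_hn {T : Type u} [Group T] [Finite T] (hsp : IsSporadicGroup T) (h : Spor.IsoHN T) : Fine.{u, u} T :=
  fine_sp hsp (NotCT.Orders.hn h) (d := 20) (by norm_num) (by norm_num) (by norm_num)
    fun _ _ hp h11 hR => hn_twenty h hp h11 hR

/-! ### `Fi₂₂` -/

instance fact3 : Fact (Nat.Prime 3) := ⟨Nat.prime_three⟩

theorem fi22_26 {T : Type u} [Group T] (hT : Spor.IsoFi22 T) {p m : ℕ} (hp : p.Prime) (h11 : 11 ≤ p)
    (h : _root_.Cfsg.Agent.H698.Rep.{u, u} p m T) : 26 ≤ m := by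
  obtain ⟨e⟩ := hT
  obtain ⟨e1⟩ := S1686.result
  obtain ⟨f, hf⟩ := exists_odd (K := ZMod 3) (le_refl 3)
  obtain ⟨e2⟩ := Cfsg.Agent.S0302.result (F := ZMod 3)
  have hs : IsSimpleGroup (Matrix.ProjectiveSpecialLinearGroup (Fin 4) (ZMod 3)) :=
    S0249.result 4 (by norm_num)
  have hna : ¬ IsMulCommutative (Matrix.ProjectiveSpecialLinearGroup (Fin 4) (ZMod 3)) :=
    Cfsg.Agent.CpAut.Fix.not_comm_quot (H := Matrix.SpecialLinearGroup (Fin 4) (ZMod 3)) (hs := hs)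
  have hfk : ((Subgroup.subtype _).comp (e1.symm.toMonoidHom.comp f)).ker ≤ center _ := by
    intro x hx
    apply hf
    rw [MonoidHom.mem_ker] at hx ⊢
    have h1 : e1.symm (f x) = 1 := Subtype.ext hx
    rwa [MulEquiv.map_eq_one_iff] at h1
  have h1 : _root_.Cfsg.Agent.H698.Rep.{0, 0} p m (Matrix.ProjectiveSpecialLinearGroup (Fin 4) (ZMod 3)) := by
    refine rep_of_hom (rep_down h e) _ hfk hna
      (e2.toMonoidHom.comp (QuotientGroup.mk' (center (Omega (ZMod 3) (quadFormPlus 3 (ZMod 3)))))) ?_ ?_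
    · rw [MonoidHom.coe_comp]
      exact e2.surjective.comp (QuotientGroup.mk'_surjective _)
    · intro y hy
      have h1 : e2 (QuotientGroup.mk' _ y) = 1 := hy
      rw [MulEquiv.map_eq_one_iff, QuotientGroup.mk'_apply, QuotientGroup.eq_one_iff] at h1
      exact h1
  have hM := Cfsg.Agent.S2086.result (F := ZMod 3) (q := 3) (by rw [ZMod.card]) 4 (by norm_num) (by omega) (by
    simp only [Set.mem_insert_iff, Set.mem_singleton_iff, Prod.mk.injEq]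
    omega)
  have h2 := le_of_Bd' hp Nat.prime_three (by omega) h1 hM (r := 3) (d := 26) (by
      rw [Nat.card_congr Multiplicative.toAdd, Nat.card_zmod]
      norm_num) fun F' _ hF' => by
    have h3 := bd_psl (F := F') (r := 3) Nat.prime_three hF' (m := 4) (by norm_num) (K := ZMod 3) inferInstance
    rwa [ZMod.card] at h3
  exact h2

theorem fine_fi22 {T : Type u} [Group T] [Finite T] (hsp : IsSporadicGroup T) (h : Spor.IsoFi22 T) : Fine.{u, u} T :=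
  fine_sp hsp (NotCT.Orders.fi22 h) (d := 26) (by norm_num) (by norm_num) (by norm_num)
    fun _ _ hp h11 hR => fi22_26 h hp h11 hR

/-! ### `Fi₂₃`, `Fi₂₄'` -/

theorem le_PO {p m : ℕ} (hp : p.Prime) (h11 : 11 ≤ p) (h : _root_.Cfsg.Agent.H698.Rep.{0, 0} p m H840.M499.PO) : 26 ≤ m := by
  have hM := Cfsg.Agent.S2097.result (F := ZMod 3) (q := 3) (by rw [ZMod.card]) 4 le_rfl (by decide) (by omega)
  refine le_of_Bd' hp Nat.prime_three (by omega) h hM (r := 3) (d := 26) ?_ fun F' _ hF' => ?_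
  · rw [Nat.card_congr Multiplicative.toAdd, Nat.card_prod, Nat.card_zmod]
    norm_num
  · have h3 := bd_pomega_plus_cube (F := F') (r := 3) (K := ZMod 3) Nat.prime_three hF' inferInstance (m := 4)
      (by norm_num)
    rwa [ZMod.card] at h3

theorem fi23_26 {T : Type u} [Group T] (hT : Spor.IsoFi23 T) {p m : ℕ} (hp : p.Prime) (h11 : 11 ≤ p)
    (h : _root_.Cfsg.Agent.H698.Rep.{u, u} p m T) : 26 ≤ m := by
  obtain ⟨e⟩ := hT
  obtain ⟨e1⟩ := H843.FullFiD.EE_equiv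
  have hs : IsSimpleGroup H840.M499.PO := S0296.result 4 le_rfl
  refine le_PO hp h11 (rep_section (rep_down h e) H840.M499.not_comm_PO e1.toMonoidHom e1.surjective ?_)
  rw [(MonoidHom.ker_eq_bot_iff _).2 e1.injective]
  exact bot_le

seal _root_.Finset.sum _root_.dotProduct in
theorem fi24_26 {T : Type u} [Group T] (hT : Spor.IsoFi24' T) {p m : ℕ} (hp : p.Prime) (h11 : 11 ≤ p)
    (h : _root_.Cfsg.Agent.H698.Rep.{u, u} p m T) : 26 ≤ m := by
  obtain ⟨e⟩ := hT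
  obtain ⟨e1⟩ := H843.FullFiD.EE_equiv
  have hs : IsSimpleGroup H840.M499.PO := S0296.result 4 le_rfl
  let f : Spor.Fi23 →* Spor.Fi24' := H843.FullFiD.ph.codRestrict (_root_.commutator Spor.Fi24)
    fun x => (H843.FullFiD.mem_range.1 ⟨x, rfl⟩).2
  have hf : Function.Injective f := by
    intro a b hab
    exact H843.FullFiD.ph_injective (congrArg Subtype.val hab)
  have hinj : Function.Injective (f.comp (H843.FullFiD.EE.subtype.comp e1.symm.toMonoidHom)) := by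
    rw [MonoidHom.coe_comp, MonoidHom.coe_comp]
    exact hf.comp (H843.FullFiD.EE.subtype_injective.comp e1.symm.injective)
  refine le_PO hp h11 (rep_of_hom (rep_down h e) (f.comp (H843.FullFiD.EE.subtype.comp e1.symm.toMonoidHom)) ?_
    H840.M499.not_comm_PO (MonoidHom.id _) Function.surjective_id ?_)
  · rw [(MonoidHom.ker_eq_bot_iff _).2 hinj]
    exact bot_le
  · intro x hx
    have hx' : x = 1 := hx
    rw [hx']
    exact one_mem _

theorem fine_fi23 {T : Type u} [Group T] [Finite T] (hsp : IsSporadicGroup T) (h : Spor.IsoFi23 T) : Fine.{u, u} T :=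
  fine_sp hsp (NotCT.Orders.fi23 h) (d := 26) (by norm_num) (by norm_num) (by norm_num)
    fun _ _ hp h11 hR => fi23_26 h hp h11 hR

theorem fine_fi24 {T : Type u} [Group T] [Finite T] (hsp : IsSporadicGroup T) (h : Spor.IsoFi24' T) : Fine.{u, u} T :=
  fine_sp hsp (NotCT.Orders.fi24 h) (d := 26) (by norm_num) (by norm_num) (by norm_num)
    fun _ _ hp h11 hR => fi24_26 h hp h11 hR

/-! ### `Suz` -/

section

open Cfsg.Agent.H812.SuzFive Cfsg.Agent.H812 Cfsg.Agent.H812.FiveBasis Cfsg.Agent.H812.FiveMain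
open Cfsg.Agent.J2Type.SylowFive

/-- the pair of order twelve -/
def p0 : T43 := (⟨2, 3, by decide, by decide⟩, finRotate 3)

private noncomputable def _root_.Cfsg.Agent.LsF.f100a07_36 : {f // @Cfsg.Agent.H812.FiveBasis.v = f} := ⟨_, by first | (delta Cfsg.Agent.H812.FiveBasis.v; rewrite [Cfsg.Agent.LsF.vecCons_eq]; exact rfl) | exact rfl⟩
private noncomputable def _root_.Cfsg.Agent.LsF.f100a07_37 : {f // @Cfsg.Agent.H812.FiveMain.act = f} := ⟨_, by first | (delta Cfsg.Agent.H812.FiveMain.act; rewrite [Cfsg.Agent.LsF.f100a07_36.2, Cfsg.Agent.LsF.instZAdd_pat, Cfsg.Agent.LsF.instZMul_pat]; exact rfl) | exact rfl⟩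
theorem act_p0 : ∀ i : Fin 12, i ≠ 0 → ∀ u : V2, act (p0 ^ i.val) u = u → u = 0 := by
  (refine of_decide_eq_true ?_; (try (rewrite [Cfsg.Agent.LsF.f100a07_37.2, Cfsg.Agent.LsF.zdecEq_eq, Cfsg.Agent.LsF.dProdEq_eq, Cfsg.Agent.LsF.zFintype_eq, Cfsg.Agent.LsF.prodFintype_eq, Cfsg.Agent.LsF.dForall_eq, Cfsg.Agent.LsF.dNot_eq, Cfsg.Agent.LsF.dFinEq_eq, Cfsg.Agent.LsF.dForallFin_eq, Cfsg.Agent.LsF.dAllP_eq, Cfsg.Agent.LsF.decide_eq])); decide +kernel)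

theorem bd_suz {T : Type u} [Group T] [Finite T] (hT : Spor.IsoSuz T) {F : Type v} [Field F] (h5F : ((5 : ℕ) : F) ≠ 0) :
    Bd F 5 12 T := by
  obtain ⟨e⟩ := hT
  have h5 : Fact (Nat.Prime 5) := ⟨by norm_num⟩
  obtain ⟨P⟩ : Nonempty (Sylow 5 T) := inferInstance
  have hcard : Nat.card T = 448345497600 := NotCT.Orders.suz ⟨e⟩
  have hP25 : Nat.card (P : Subgroup T) = 25 := by
    have := J2Type.SylowSeven.card_sylow P 2 17933819904 (by rw [hcard]; norm_num) (by norm_num)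
    rw [this]; norm_num
  have hG : Nat.card T = 200 * 2241727488 := by rw [hcard]
  have hm : 2241727488 % 5 = 3 := by norm_num
  have hg0 : Good (e.symm SuzLoc.x5) := good_map e.symm good_x5
  obtain ⟨g, hg⟩ := exists_conj_mem_sylow P (y := e.symm SuzLoc.x5) (n := 1) (by rw [hg0.1]; norm_num)
  have hg1 := hg0.conj g
  have hsq : IsConj (g * e.symm SuzLoc.x5 * g⁻¹) ((g * e.symm SuzLoc.x5 * g⁻¹) ^ 2) := by
    obtain ⟨c, hc⟩ := isConj_iff.1 conj_sq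
    have h1 : e.symm c * e.symm SuzLoc.x5 * (e.symm c)⁻¹ = (e.symm SuzLoc.x5) ^ 2 := by
      rw [← map_inv, ← map_mul, ← map_mul, hc, map_pow]
    refine isConj_iff.2 ⟨g * e.symm c * g⁻¹, ?_⟩
    rw [conj_pow, ← h1]
    group
  obtain ⟨b, H, -⟩ := FiveMain.exists_nrm hP25 hG hm hg1 hsq hg
  obtain ⟨n, hn⟩ := H.surjective p0
  have hrel : ∀ i : ℕ, ∀ u : V2, (n : T) ^ i * c b u * ((n : T) ^ i)⁻¹ = c b (act (p0 ^ i) u) := by
    intro i u
    have h1 := H.hom_spec (n ^ i)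
    rw [map_pow, hn] at h1
    have h2 := rel_c H.bas h1 u
    rwa [Subgroup.coe_pow] at h2
  have hPn : ∀ y ∈ (P : Subgroup T), (n : T) * y * (n : T)⁻¹ ∈ (P : Subgroup T) := fun y hy =>
    (mem_normalizer_iff.1 n.2 y).1 hy
  refine bd_of_frob (by norm_num) h5F (P : Subgroup T) H.comm P.isPGroup' ?_ 12 hPn ?_
  · intro h
    rw [h, card_bot] at hP25
    norm_num at hP25
  · intro i hi hi12 y hy hc
    obtain ⟨w, rfl⟩ := H.surjP y hy
    have h1 : (n : T) ^ i * c b w * ((n : T) ^ i)⁻¹ = c b w := by rw [hc, mul_inv_cancel_right]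
    rw [hrel] at h1
    have h2 := c_inj H.bas h1
    have h3 := act_p0 ⟨i, hi12⟩ (by
      intro h
      have := congrArg Fin.val h
      simp only [Fin.val_zero] at this
      omega) w h2
    rw [h3, c_zero]

end

theorem suz_12 {T : Type u} [Group T] (hT : Spor.IsoSuz T) {p m : ℕ} (hp : p.Prime) (h11 : 11 ≤ p)
    (h : _root_.Cfsg.Agent.H698.Rep.{u, u} p m T) : 12 ≤ m := by
  obtain ⟨e⟩ := hT
  have hfin : Finite Spor.Suz := Nat.finite_of_card_ne_zero (by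
    rw [NotCT.Orders.suz (K := Spor.Suz) ⟨MulEquiv.refl _⟩]; norm_num)
  refine le_of_Bd' hp (r := 5) (by norm_num) (by omega) (rep_down h e) S2048.result ?_ fun F' _ hF' => ?_
  · rw [Nat.card_congr Multiplicative.toAdd, Nat.card_zmod]
    norm_num
  · exact bd_suz ⟨MulEquiv.refl _⟩ hF'

theorem fine_suz {T : Type u} [Group T] [Finite T] (hsp : IsSporadicGroup T) (h : Spor.IsoSuz T) : Fine.{u, u} T :=
  fine_sp hsp (NotCT.Orders.suz h) (d := 12) (by norm_num) (by norm_num) (by norm_num)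
    fun _ _ hp h11 hR => suz_12 h hp h11 hR

/-- **The condition `Fine`, second part of the sporadic groups.** -/
theorem fine_spor2 {T : Type u} [Group T] [Finite T] (h : Cfsg.Spor.IsoJ2 T ∨ Cfsg.Spor.IsoHS T ∨ Cfsg.Spor.IsoMcL T ∨
    Cfsg.Spor.IsoCo1 T ∨ Cfsg.Spor.IsoSuz T ∨ Cfsg.Spor.IsoFi22 T ∨ Cfsg.Spor.IsoFi23 T ∨ Cfsg.Spor.IsoFi24' T ∨
    Cfsg.Spor.IsoHN T) : Cfsg.Agent.H698.Fine.{u, u} T := by
  have hsp : IsSporadicGroup T := by
    unfold IsSporadicGroup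
    casesm* _ ∨ _ <;> simp only [*, true_or, or_true]
  rcases h with h | h | h | h | h | h | h | h | h
  · exact fine_j2 hsp h
  · exact fine_hs hsp h
  · exact fine_mcl hsp h
  · exact fine_co1 hsp h
  · exact fine_suz hsp h
  · exact fine_fi22 hsp h
  · exact fine_fi23 hsp h
  · exact fine_fi24 hsp h
  · exact fine_hn hsp h

end Cfsg.Agent.H128.FineSpor
end
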