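import Mathlib
import Cfsg.Agent.H978.Alm.Affine_m3
import Cfsg.Agent.H912.CrossList_m3
import Cfsg.Agent.S0292
import Cfsg.Agent.S0293
import Cfsg.Agent.S0294
import Cfsg.Agent.S0295
import Cfsg.Agent.S0296
import Cfsg.Agent.S0297
import Cfsg.Agent.S0816
import Cfsg.Agent.S0817
import Cfsg.Agent.S0818
import Cfsg.Agent.H698.FinePR
import Cfsg.Agent.H175.BdSp_m3
import Cfsg.Agent.H674.TwelvePSU
import Cfsg.Agent.H487.SchurMult
import Cfsg.Agent.S2089
import Cfsg.Agent.S0815
import Cfsg.Agent.S0283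
import Cfsg.Agent.S0279
import Cfsg.Agent.S0280
import Cfsg.Agent.Mrg.Omega.TwoF.E7Odd_mg_m3
import Cfsg.Agent.S1054
import Cfsg.Agent.GpLn.Rank
import Cfsg.Agent.H717.FieldOf
import Cfsg.Agent.H697.ClassCount
import Cfsg.Agent.SignalizersComponents.Components
import Cfsg.Agent.Lib.FieldAutCard
import Cfsg.Agent.StdRank2.SchQuot_m3
import Cfsg.Agent.H717.Dickson
import Cfsg.Agent.H697.PSolvB
import Cfsg.Agent.SignalizersComponents.ComponentExists
import Cfsg.Agent.Lib.Cores
import Cfsg.Agent.H698.Landau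
import Cfsg.Agent.H202.TwoTransAltC
import Cfsg.Agent.LFourA.AltPsiAut
import Cfsg.Agent.S0253
import Cfsg.Agent.S0254
import Cfsg.Agent.S0256
import Cfsg.Agent.H553.CommForm
import Cfsg.Agent.H697.Hering
import Cfsg.Agent.FastGrp
import Cfsg.Agent.Prune
set_option linter.all false

section
prune_inst 0x7f00000000000000000000000000000000000000000000000000000000000000000000000000000000000000000000000000000000000000000000000000000000000000000000000000000000000000003fffffffffffffffffffffffffffbeffbdfffffffd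

section
prune_inst 0xf0acf98bb8b9dfffff7e7fa6d0cdfc3b909fffa6dff94bbfe023ff0b9f030209e56b858de050fc0ea6c21410a87813f9ffc67fea6bdc7ffffd5ff41ffbee0fe5feb508519488340fbc6ff693f0778e7f000000000000000000000000000000000200000002

-- part: H315/FineNum
section
set_option linter.all false
open scoped Cfsg.Agent.FastGrp

/-!
# Numerical inequalities for the orthogonal groups (orders against powers of eleven)
-/

set_option autoImplicit false

namespace Cfsg.Agent.H315.FineNum

theorem pow_le_eleven {q N D : ℕ} (hq : 1 ≤ q) (h : 3 * N * (q - 1) ≤ 10 * D) : q ^ N ≤ 11 ^ D := by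
  have h1 : q ≤ 2 ^ (q - 1) := by
    have := Nat.lt_two_pow_self (n := q - 1)
    omega
  have h2 : q ^ N ≤ 2 ^ (N * (q - 1)) := by
    calc q ^ N ≤ (2 ^ (q - 1)) ^ N := Nat.pow_le_pow_left h1 N
      _ = 2 ^ (N * (q - 1)) := by rw [← pow_mul, mul_comm]
  refine h2.trans ?_
  have h3 : (2 ^ (N * (q - 1))) ^ 10 ≤ (11 ^ D) ^ 10 := by
    calc (2 ^ (N * (q - 1))) ^ 10 = (2 ^ 10) ^ (N * (q - 1)) := by rw [← pow_mul, ← pow_mul, mul_comm]
      _ ≤ (11 ^ 3) ^ (N * (q - 1)) := Nat.pow_le_pow_left (by norm_num) _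
      _ = 11 ^ (3 * N * (q - 1)) := by rw [← pow_mul, mul_assoc]
      _ ≤ 11 ^ (10 * D) := Nat.pow_le_pow_right (by norm_num) h
      _ = (11 ^ D) ^ 10 := by rw [← pow_mul, mul_comm]
  exact (Nat.pow_le_pow_iff_left (by norm_num)).1 h3

/-- products of `q ^ (2 (i + 1)) - 1` -/
theorem prod_le (q k : ℕ) : ∏ i ∈ Finset.range k, (q ^ (2 * (i + 1)) - 1) ≤ q ^ (k * (k + 1)) := by
  induction k with
  | zero => simp
  | succ k ih =>
    rw [Finset.prod_range_succ]
    calc _ ≤ q ^ (k * (k + 1)) * q ^ (2 * (k + 1)) := Nat.mul_le_mul ih (Nat.sub_le _ _)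
      _ = q ^ ((k + 1) * (k + 1 + 1)) := by rw [← pow_add]; congr 1; ring

theorem prod_le' (q k : ℕ) : (∏ i ∈ Finset.range (k + 1), (q ^ (2 * (i + 1)) - 1)) * q ^ 2
    ≤ q ^ ((k + 1) * (k + 2)) * (q ^ 2 - 1) := by
  induction k with
  | zero => simp [mul_comm]
  | succ k ih =>
    rw [Finset.prod_range_succ]
    calc _ = ((∏ i ∈ Finset.range (k + 1), (q ^ (2 * (i + 1)) - 1)) * q ^ 2) * (q ^ (2 * (k + 1 + 1)) - 1) := by ring
      _ ≤ (q ^ ((k + 1) * (k + 2)) * (q ^ 2 - 1)) * q ^ (2 * (k + 1 + 1)) := Nat.mul_le_mul ih (Nat.sub_le _ _)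
      _ = q ^ ((k + 1) * (k + 2)) * q ^ (2 * (k + 1 + 1)) * (q ^ 2 - 1) := by ring
      _ = _ := by rw [← pow_add]; congr 2; ring

/-- `(q ^ m + 1) ∏_{i < m - 1} (q ^ (2 (i + 1)) - 1) ≤ q ^ (m * m)` -/
theorem prod_minus_le {q m : ℕ} (hq : 1 ≤ q) (hm : 2 ≤ m) :
    (q ^ m + 1) * ∏ i ∈ Finset.range (m - 1), (q ^ (2 * (i + 1)) - 1) ≤ q ^ (m * m) := by
  obtain ⟨k, rfl⟩ : ∃ k, m = k + 2 := ⟨m - 2, by omega⟩
  have h1 := prod_le' q k
  have h2 : k + 2 - 1 = k + 1 := rfl
  rw [h2]
  set A := ∏ i ∈ Finset.range (k + 1), (q ^ (2 * (i + 1)) - 1) with hA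
  have hq2 : 0 < q ^ 2 := by positivity
  refine Nat.le_of_mul_le_mul_right ?_ hq2
  calc (q ^ (k + 2) + 1) * A * q ^ 2 = (q ^ (k + 2) + 1) * (A * q ^ 2) := by ring
    _ ≤ (q ^ (k + 2) + 1) * (q ^ ((k + 1) * (k + 2)) * (q ^ 2 - 1)) := Nat.mul_le_mul_left _ h1
    _ = q ^ ((k + 1) * (k + 2)) * ((q ^ (k + 2) + 1) * (q ^ 2 - 1)) := by ring
    _ ≤ q ^ ((k + 1) * (k + 2)) * (q ^ (k + 2) * q ^ 2) := by
        refine Nat.mul_le_mul_left _ ?_
        have h3 : q ^ 2 ≤ q ^ (k + 2) := Nat.pow_le_pow_right hq (by omega)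
        obtain ⟨b, hb⟩ : ∃ b, q ^ 2 = b + 1 := ⟨q ^ 2 - 1, by omega⟩
        rw [hb] at h3 ⊢
        rw [Nat.add_sub_cancel]
        nlinarith
    _ = q ^ ((k + 2) * (k + 2)) * q ^ 2 := by rw [← pow_add, ← pow_add, ← pow_add]; congr 1; ring

theorem four_mul_le {f p q : ℕ} (hp : 2 ≤ p) (hf : 1 ≤ f) (hq : q = p ^ f) : 2 * f ≤ q := by
  rw [hq]
  calc 2 * f ≤ 2 ^ f := by
        obtain ⟨k, rfl⟩ : ∃ k, f = k + 1 := ⟨f - 1, by omega⟩
        have := Nat.lt_two_pow_self (n := k)
        rw [pow_succ]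
        omega
    _ ≤ p ^ f := Nat.pow_le_pow_left hp f


theorem big {q m : ℕ} (hq : 3 ≤ q) (hm : 5 ≤ m) :
    3 * ((m + 1) * (2 * m + 1) + 3) * (q - 1) + 20 ≤ 10 * q ^ (m - 1) := by
  obtain ⟨b, rfl⟩ : ∃ b, q = b + 3 := ⟨q - 3, by omega⟩
  have hb : b + 3 - 1 = b + 2 := rfl
  rw [hb]
  induction m, hm using Nat.le_induction with
  | base =>
    norm_num
    nlinarith [sq_nonneg b, sq_nonneg (b ^ 2)]
  | succ m hm ih =>
    have h1 : (b + 3) ^ (m + 1 - 1) = (b + 3) ^ (m - 1) * (b + 3) := by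
      rw [← pow_succ]; congr 1; omega
    rw [h1]
    set X := (b + 3) ^ (m - 1) with hX
    have h2 : 3 * ((m + 1 + 1) * (2 * (m + 1) + 1) + 3) * (b + 2) + 20 ≤
        3 * (3 * ((m + 1) * (2 * m + 1) + 3) * (b + 2) + 20) := by
      have h3 : (m + 1 + 1) * (2 * (m + 1) + 1) + 3 ≤ 3 * ((m + 1) * (2 * m + 1) + 3) := by nlinarith
      have h4 := Nat.mul_le_mul_right (b + 2) (Nat.mul_le_mul_left 3 h3)
      calc _ ≤ 3 * (3 * ((m + 1) * (2 * m + 1) + 3)) * (b + 2) + 20 := Nat.add_le_add_right h4 20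
        _ ≤ _ := by
          generalize (m + 1) * (2 * m + 1) + 3 = Y
          have : 3 * (3 * Y) * (b + 2) = 3 * (3 * Y * (b + 2)) := by ring
          omega
    calc _ ≤ _ := h2
      _ ≤ 3 * (10 * X) := Nat.mul_le_mul_left _ ih
      _ ≤ 10 * (X * (b + 3)) := by nlinarith

theorem big_two {m : ℕ} (hm : 6 ≤ m) : 3 * ((m + 1) * (2 * m + 1) + 3) + 20 ≤ 10 * 2 ^ (m - 1) := by
  induction m, hm using Nat.le_induction with
  | base => norm_num
  | succ m hm ih =>
    have h1 : 2 ^ (m + 1 - 1) = 2 ^ (m - 1) * 2 := by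
      rw [← pow_succ]; congr 1; omega
    rw [h1]
    nlinarith

theorem odd_four {q : ℕ} (hq : 3 ≤ q) : 111 * (q - 1) + 20 ≤ 10 * q ^ 3 := by
  obtain ⟨b, rfl⟩ : ∃ b, q = b + 3 := ⟨q - 3, by omega⟩
  have hb : b + 3 - 1 = b + 2 := rfl
  rw [hb]
  nlinarith [sq_nonneg b, Nat.zero_le (b ^ 3), Nat.zero_le (b ^ 2)]

theorem minus_five {q : ℕ} (hq : 4 ≤ q) : 144 * (q - 1) + 20 ≤ 10 * q ^ 3 := by
  obtain ⟨b, rfl⟩ : ∃ b, q = b + 4 := ⟨q - 4, by omega⟩
  have hb : b + 4 - 1 = b + 3 := rfl
  rw [hb]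
  nlinarith [sq_nonneg b, Nat.zero_le (b ^ 3), Nat.zero_le (b ^ 2)]

end Cfsg.Agent.H315.FineNum
end

-- part: H315/FineOrth
section
prune_inst 0xf52067447422000000000592d12020047400059000200401ed800b440b09c3208942a1000a803105124ea2811004002003880050420000000a0004000001012010aa520433740d04200096801084000000000000000000000000000000000004000000000
set_option linter.all false
open scoped Cfsg.Agent.FastGrp

/-!
# `Fine` for the orthogonal groups: the generic cases

`Cop r T` : kernels of perfect central extensions of `T` have order prime to `r` (this is `H912.Bd.NoR`).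
-/

set_option autoImplicit false

namespace Cfsg.Agent.H315.FineOrth

universe u v w

open Cfsg Cfsg.Agent.H698 Cfsg.Agent.H912.Bd Cfsg.Agent.H315.FineNum

/-- Kernels of perfect central extensions of `T` have order prime to `r`. -/
def Cop (r : ℕ) (T : Type v) [Group T] : Prop :=
  ∀ (P : Type w) [Group P], commutator P = ⊤ → ∀ π : P →* T, Function.Surjective π →
    π.ker ≤ Subgroup.center P → (Nat.card π.ker).Coprime r

theorem rep_le' {p m r d : ℕ} {T : Type v} [Group T] (hp : p.Prime) (hr : r.Prime) (hrp : p ≠ r)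
    (h : _root_.Cfsg.Agent.H698.Rep.{v, w} p m T) (hN : Cop.{v, w} r T)
    (hB : ∀ (F : Type w) [Field F], (r : F) ≠ 0 → Bd F r d T) : d ≤ m := by
  obtain ⟨F, _, _, _, P, _, _, π, ρ, h1, h2, h3, h4, h5⟩ := h
  refine hB F ?_ m ⟨P, inferInstance, π, ρ, h1, ?_, hN P h3 π h1 h2, ?_⟩
  · rw [Ne, CharP.cast_eq_zero_iff F p]
    intro h6
    rw [Nat.prime_dvd_prime_iff_eq hp hr] at h6
    exact hrp h6
  · intro x hx y
    exact ((Subgroup.mem_center_iff.1 (h2 hx)) y).symm
  · rw [(MonoidHom.ker_eq_bot_iff ρ).2 h4]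
    exact bot_le

theorem rep_le {p m r d : ℕ} {T : Type v} [Group T] (hp : p.Prime) (hr : r.Prime) (hrT : r ∣ Nat.card T)
    (hpT : ¬ p ∣ Nat.card T) (h : _root_.Cfsg.Agent.H698.Rep.{v, w} p m T) (hN : Cop.{v, w} r T)
    (hB : ∀ (F : Type w) [Field F], (r : F) ≠ 0 → Bd F r d T) : d ≤ m :=
  rep_le' hp hr (fun h6 => hpT (h6 ▸ hrT)) h hN hB

theorem center_eq_bot {T : Type v} [Group T] [IsSimpleGroup T] (hT : ¬ IsMulCommutative T) :
    Subgroup.center T = ⊥ := by
  rcases (inferInstance : (Subgroup.center T).Normal).eq_bot_or_eq_top with h | h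
  · exact h
  · exact absurd ⟨⟨fun a b => ((Subgroup.mem_center_iff.1 (h ▸ Subgroup.mem_top a : a ∈ Subgroup.center T)) b).symm⟩⟩ hT

/-- The form used for all families. -/
theorem fine_of_eleven {T : Type v} [Group T] [Finite T] (hc : Subgroup.center T = ⊥) (hT : 1 < Nat.card T) {r D : ℕ}
    (hr : r.Prime) (hrT : r ∣ Nat.card T) (hN : Cop.{v, w} r T)
    (hB : ∀ (F : Type w) [Field F], (r : F) ≠ 0 → Bd F r (D + 1) T) (h : Nat.card (MulAut T) ≤ 11 ^ D) :
    Fine.{v, w} T :=
  Fine.of_eleven hc hT (fun _ _ hp _ hpT _ hR => rep_le hp hr hrT hpT hR hN hB) h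


theorem not_comm {T : Type v} [Group T] [Finite T] [IsSimpleGroup T] {r : ℕ} (hr : r.Prime)
    (hrT : r ∣ Nat.card T) (h : r < Nat.card T) : ¬ IsMulCommutative T := by
  intro hc
  let _ : CommGroup T := { (inferInstance : Group T) with mul_comm := fun a b => hc.is_comm.comm a b }
  have h1 : (Nat.card T).Prime := IsSimpleGroup.prime_card
  have h2 := (Nat.prime_dvd_prime_iff_eq hr h1).1 hrT
  omega

section

variable {K : Type} [Field K] [Fintype K]

theorem exists_pf : ∃ p f : ℕ, p.Prime ∧ 1 ≤ f ∧ Fintype.card K = p ^ f ∧ CharP K p := by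
  obtain ⟨p, hp⟩ := CharP.exists K
  obtain ⟨⟨f, hf⟩, hpr, hc⟩ := FiniteField.card K p
  exact ⟨p, f, hpr, hf, hc, hp⟩

/-! ### `PΩ_{2m+1}(q)` -/

theorem card_odd {m : ℕ} (hm : 3 ≤ m) (ho : Odd (Fintype.card K)) :
    2 * Nat.card (Cfsg.POmega K (Cfsg.quadFormOdd m K)) ≤ Fintype.card K ^ (m * (2 * m + 1)) := by
  rw [Cfsg.Agent.S0292.result (F := K) rfl ho m hm]
  calc _ ≤ Fintype.card K ^ m ^ 2 * Fintype.card K ^ (m * (m + 1)) := Nat.mul_le_mul_left _ (prod_le _ _)
    _ = _ := by rw [← pow_add]; congr 1; ring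

theorem prod_pos' {q k : ℕ} (hq : 2 ≤ q) : 1 ≤ ∏ i ∈ Finset.range k, (q ^ (2 * (i + 1)) - 1) := by
  refine Finset.one_le_prod' fun i _ => ?_
  have h1 : 2 ^ 1 ≤ q ^ (2 * (i + 1)) := (Nat.pow_le_pow_left hq 1).trans (Nat.pow_le_pow_right (by omega) (by omega))
  omega

/-- From the order formula. -/
theorem basic {T : Type} [Group T] [Finite T] [IsSimpleGroup T] {r q g e A : ℕ} (hr : r.Prime) (hrq : r ∣ q) (hq : 2 ≤ q)
    (hg : g ≤ 4) (hgr : ¬ r ∣ g) (he : 4 ≤ e) (hA : 1 ≤ A) (h : g * Nat.card T = q ^ e * A) :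
    Subgroup.center T = ⊥ ∧ 1 < Nat.card T ∧ r ∣ Nat.card T := by
  have h1 : r ∣ Nat.card T := by
    have h2 : r ∣ g * Nat.card T := by
      rw [h]
      exact (hrq.trans (dvd_pow_self q (by omega))).mul_right A
    exact (hr.dvd_mul.1 h2).resolve_left hgr
  have h3 : 4 * q < g * Nat.card T := by
    rw [h]
    have h4 : q ^ 4 ≤ q ^ e := Nat.pow_le_pow_right (by omega) he
    have h5 : 4 * q < q ^ 4 ∨ q = 2 ∨ True := Or.inr (Or.inr trivial)
    have h6 : q ^ e ≤ q ^ e * A := Nat.le_mul_of_pos_right _ hA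
    have h7 : 8 * q ≤ q ^ 4 := by
      calc 8 * q = 2 ^ 3 * q := by norm_num
        _ ≤ q ^ 3 * q := Nat.mul_le_mul_right _ (Nat.pow_le_pow_left hq 3)
        _ = q ^ 4 := by ring
    omega
  have hrq' : r ≤ q := Nat.le_of_dvd (by omega) hrq
  have h8 : r < Nat.card T := by
    by_contra hcon
    have h9 : g * Nat.card T ≤ 4 * r := Nat.mul_le_mul hg (by omega)
    omega
  exact ⟨center_eq_bot (not_comm hr h1 h8), hr.one_lt.trans h8, h1⟩

theorem fine_odd {r m : ℕ} (hr : r.Prime) (hK : CharP K r) (hm : 3 ≤ m) (ho : Odd (Fintype.card K))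
    (h33 : ¬ (m = 3 ∧ Fintype.card K = 3)) (hN : Cop.{0, w} r (Cfsg.POmega K (Cfsg.quadFormOdd m K))) :
    Fine.{0, w} (Cfsg.POmega K (Cfsg.quadFormOdd m K)) := by
  obtain ⟨p, f, hp, hf, hq, hpK⟩ := exists_pf (K := K)
  obtain rfl : p = r := CharP.eq K hpK hK
  have := Fact.mk hp
  have hs : IsSimpleGroup (Cfsg.POmega K (Cfsg.quadFormOdd m K)) := Cfsg.Agent.S0295.result ho m hm
  have : Finite (Cfsg.isometryGroup K (Cfsg.quadFormOdd m K)) := inferInstance
  have : Finite (Cfsg.POmega K (Cfsg.quadFormOdd m K)) := inferInstance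
  have hpo : Odd p := by
    rw [hq] at ho
    exact Nat.Odd.of_mul_left (n := p ^ (f - 1)) (by rwa [← pow_succ', Nat.sub_add_cancel hf])
  have hq2 : 2 ≤ Fintype.card K := Fintype.one_lt_card
  have hq3 : 3 ≤ Fintype.card K := by
    obtain ⟨k, hk⟩ := ho
    omega
  obtain ⟨h1, h2, h3⟩ := basic (q := Fintype.card K) hp (by rw [hq]; exact dvd_pow_self p (by omega)) hq2 (by norm_num)
    (fun h => by
      have := (Nat.prime_dvd_prime_iff_eq hp Nat.prime_two).1 h
      subst this
      exact absurd hpo (by decide)) (by nlinarith only [hm]) (prod_pos' hq2) (Cfsg.Agent.S0292.result (F := K) rfl ho m hm)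
  have haut : Nat.card (MulAut (Cfsg.POmega K (Cfsg.quadFormOdd m K))) ≤ Fintype.card K ^ (m * (2 * m + 1) + 1) := by
    rw [Cfsg.Agent.S0816.result (F := K) p f hf hq hpo m hm]
    have h4 := four_mul_le hp.two_le hf hq
    calc 2 * f * Nat.card (Cfsg.POmega K (Cfsg.quadFormOdd m K))
        = f * (2 * Nat.card (Cfsg.POmega K (Cfsg.quadFormOdd m K))) := by ring
      _ ≤ Fintype.card K * Fintype.card K ^ (m * (2 * m + 1)) := Nat.mul_le_mul (by omega) (card_odd hm ho)
      _ = _ := by rw [pow_succ, mul_comm]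
  rcases hm.eq_or_lt with rfl | hm4
  · have hq5 : 5 ≤ Fintype.card K := by
      obtain ⟨k, hk⟩ := ho
      have : Fintype.card K ≠ 3 := fun h => h33 ⟨rfl, h⟩
      omega
    have h5 : 5 ^ 3 ≤ Fintype.card K ^ 3 := Nat.pow_le_pow_left hq5 3
    refine fine_of_eleven (D := Fintype.card K ^ 3 - 2) h1 h2 hp h3 hN (fun F _ hF => ?_) (haut.trans (pow_le_eleven (by omega) ?_))
    · exact (bd_pomega_odd_cube hp hF hK le_rfl).mono (by omega)
    · have h6 := minus_five (q := Fintype.card K) (by omega)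
      omega
  · rcases (show 4 ≤ m from hm4).eq_or_lt with rfl | hm5
    · have h5 : 3 ^ 3 ≤ Fintype.card K ^ 3 := Nat.pow_le_pow_left hq3 3
      refine fine_of_eleven (D := Fintype.card K ^ 3 - 2) h1 h2 hp h3 hN (fun F _ hF => ?_) (haut.trans (pow_le_eleven (by omega) ?_))
      · exact (bd_pomega_odd_cube hp hF hK (by norm_num)).mono (by omega)
      · have h6 := odd_four (q := Fintype.card K) (by omega)
        omega
    · have h5 : 3 ^ 4 ≤ Fintype.card K ^ (m - 1) :=
        (Nat.pow_le_pow_left hq3 4).trans (Nat.pow_le_pow_right (by omega) (by omega))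
      refine fine_of_eleven (D := Fintype.card K ^ (m - 1) - 2) h1 h2 hp h3 hN (fun F _ hF => ?_) (haut.trans (pow_le_eleven (by omega) ?_))
      · exact (bd_pomega_odd_sl hp hF hK hm).mono (by omega)
      · have h6 := big (q := Fintype.card K) (m := m) (by omega) hm5
        have h7 : m * (2 * m + 1) + 1 ≤ (m + 1) * (2 * m + 1) + 3 := by linarith only []
        have h8 : 3 * (m * (2 * m + 1) + 1) * (Fintype.card K - 1) ≤
            3 * ((m + 1) * (2 * m + 1) + 3) * (Fintype.card K - 1) := Nat.mul_le_mul_right _ (Nat.mul_le_mul_left _ h7)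
        omega

/-! ### `PΩ⁺_{2m}(q)` -/

theorem not_dvd_gcd_sub {r q m : ℕ} (hr : r.Prime) (hq : 1 ≤ q) (hm : 1 ≤ m) (hrq : r ∣ q) : ¬ r ∣ Nat.gcd 4 (q ^ m - 1) := by
  intro h
  have h1 : r ∣ q ^ m - 1 := h.trans (Nat.gcd_dvd_right _ _)
  have h2 : r ∣ q ^ m := dvd_pow hrq (by omega)
  have h3 : 1 ≤ q ^ m := Nat.one_le_pow _ _ (by omega)
  have h4 : r ∣ 1 := by
    have := Nat.dvd_sub h2 h1
    rwa [Nat.sub_sub_self h3] at this
  exact hr.one_lt.ne' (Nat.dvd_one.1 h4)

theorem not_dvd_gcd_add {r q m : ℕ} (hr : r.Prime) (hm : 1 ≤ m) (hrq : r ∣ q) : ¬ r ∣ Nat.gcd 4 (q ^ m + 1) := by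
  intro h
  have h1 : r ∣ q ^ m + 1 := h.trans (Nat.gcd_dvd_right _ _)
  have h2 : r ∣ q ^ m := dvd_pow hrq (by omega)
  exact hr.one_lt.ne' (Nat.dvd_one.1 ((Nat.dvd_add_right h2).1 h1))

theorem card_plus {m : ℕ} (hm : 4 ≤ m) :
    Nat.card (Cfsg.POmega K (Cfsg.quadFormPlus m K)) ≤ Fintype.card K ^ (m * (2 * m - 1)) := by
  have h1 := Cfsg.Agent.S0293.result (F := K) rfl m hm
  have h2 : 1 ≤ Nat.gcd 4 (Fintype.card K ^ m - 1) := Nat.gcd_pos_of_pos_left _ (by norm_num)
  refine (Nat.le_mul_of_pos_left _ h2).trans ?_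
  rw [h1]
  have h3 : (m - 1) * (m - 1 + 1) = (m - 1) * m := by rw [Nat.sub_add_cancel (by omega)]
  calc _ ≤ Fintype.card K ^ (m * (m - 1)) * Fintype.card K ^ m * Fintype.card K ^ ((m - 1) * (m - 1 + 1)) :=
        Nat.mul_le_mul (Nat.mul_le_mul_left _ (Nat.sub_le _ _)) (prod_le _ _)
    _ = _ := by
      rw [h3, ← pow_add, ← pow_add]
      congr 1
      obtain ⟨k, rfl⟩ : ∃ k, m = k + 1 := ⟨m - 1, by omega⟩
      have h4 : 2 * (k + 1) - 1 = 2 * k + 1 := by omega
      rw [h4, Nat.add_sub_cancel]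
      ring

theorem fine_plus {r m : ℕ} (hr : r.Prime) (hK : CharP K r) (hm : 4 ≤ m)
    (h42 : ¬ (m = 4 ∧ Fintype.card K = 2)) (hN : Cop.{0, w} r (Cfsg.POmega K (Cfsg.quadFormPlus m K))) :
    Fine.{0, w} (Cfsg.POmega K (Cfsg.quadFormPlus m K)) := by
  obtain ⟨p, f, hp, hf, hq, hpK⟩ := exists_pf (K := K)
  obtain rfl : p = r := CharP.eq K hpK hK
  have := Fact.mk hp
  have hs : IsSimpleGroup (Cfsg.POmega K (Cfsg.quadFormPlus m K)) := Cfsg.Agent.S0296.result m hm
  have : Finite (Cfsg.isometryGroup K (Cfsg.quadFormPlus m K)) := inferInstance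
  have : Finite (Cfsg.POmega K (Cfsg.quadFormPlus m K)) := inferInstance
  have hq2 : 2 ≤ Fintype.card K := Fintype.one_lt_card
  have hpq : p ∣ Fintype.card K := by rw [hq]; exact dvd_pow_self p (by omega)
  obtain ⟨h1, h2, h3⟩ := basic (q := Fintype.card K) (e := m * (m - 1)) (g := Nat.gcd 4 (Fintype.card K ^ m - 1))
    (A := (Fintype.card K ^ m - 1) * ∏ i ∈ Finset.range (m - 1), (Fintype.card K ^ (2 * (i + 1)) - 1))
    hp hpq hq2 (Nat.gcd_le_left _ (by norm_num)) (not_dvd_gcd_sub hp (by omega) (by omega) hpq)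
    (by obtain ⟨k, rfl⟩ : ∃ k, m = k + 4 := ⟨m - 4, by omega⟩
        have : k + 4 - 1 = k + 3 := rfl
        rw [this]
        nlinarith only [])
    (Nat.mul_pos (by
      have : 2 ^ 1 ≤ Fintype.card K ^ m := (Nat.pow_le_pow_left hq2 1).trans (Nat.pow_le_pow_right (by omega) (by omega))
      omega) (prod_pos' hq2)) (by rw [← mul_assoc]; exact Cfsg.Agent.S0293.result (F := K) rfl m hm)
  have h4 := four_mul_le hp.two_le hf hq
  have hcp := card_plus (K := K) hm
  have haut0 := Cfsg.Agent.S0817.result (F := K) p f hf hq m hm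
  have hfac : (if p = 2 then 2 else (if Even (m * (p ^ f - 1) / 2) then 8 else 4)) ≤ 8 := by split_ifs <;> norm_num
  rcases hm.eq_or_lt with rfl | hm5
  · have hq3 : 3 ≤ Fintype.card K := by
      have : Fintype.card K ≠ 2 := fun h => h42 ⟨rfl, h⟩
      omega
    have h5 : 3 ^ 3 ≤ Fintype.card K ^ 3 := Nat.pow_le_pow_left hq3 3
    have haut : Nat.card (MulAut (Cfsg.POmega K (Cfsg.quadFormPlus 4 K))) ≤ Fintype.card K ^ 32 := by
      rw [haut0, if_pos rfl]
      calc _ ≤ 3 * 8 * f * Fintype.card K ^ (4 * (2 * 4 - 1)) :=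
            Nat.mul_le_mul (Nat.mul_le_mul_right _ (Nat.mul_le_mul_left _ hfac)) hcp
        _ = (12 * (2 * f)) * Fintype.card K ^ 28 := by ring
        _ ≤ (Fintype.card K ^ 3 * Fintype.card K) * Fintype.card K ^ 28 :=
            Nat.mul_le_mul_right _ (Nat.mul_le_mul (by omega) h4)
        _ = _ := by ring
    refine fine_of_eleven (D := Fintype.card K ^ 3 - 2) h1 h2 hp h3 hN (fun F _ hF => ?_) (haut.trans (pow_le_eleven (by omega) ?_))
    · exact (bd_pomega_plus_cube hp hF hK (by norm_num)).mono (by omega)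
    · have h6 := odd_four (q := Fintype.card K) (by omega)
      omega
  · have haut : Nat.card (MulAut (Cfsg.POmega K (Cfsg.quadFormPlus m K))) ≤ Fintype.card K ^ (m * (2 * m - 1) + 3) := by
      rw [haut0, if_neg (by omega), one_mul]
      calc _ ≤ 8 * f * Fintype.card K ^ (m * (2 * m - 1)) := Nat.mul_le_mul (Nat.mul_le_mul_right _ hfac) hcp
        _ = (2 * 2 * (2 * f)) * Fintype.card K ^ (m * (2 * m - 1)) := by ring
        _ ≤ (Fintype.card K * Fintype.card K * Fintype.card K) * Fintype.card K ^ (m * (2 * m - 1)) :=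
            Nat.mul_le_mul_right _ (Nat.mul_le_mul (Nat.mul_le_mul hq2 hq2) h4)
        _ = _ := by ring
    have h7 : m * (2 * m - 1) + 3 ≤ (m + 1) * (2 * m + 1) + 3 :=
      Nat.add_le_add_right (Nat.mul_le_mul (by omega) (by omega)) 3
    have hslB : ∀ (F : Type w) [Field F], (p : F) ≠ 0 → 2 ≤ Fintype.card K ^ (m - 1) - 1 →
        Bd F p (Fintype.card K ^ (m - 1) - 2 + 1) (Cfsg.POmega K (Cfsg.quadFormPlus m K)) := fun F _ hF h9 =>
      (bd_pomega_plus_sl hp hF hK (by omega)).mono (by omega)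
    have h16 : 2 ^ 4 ≤ Fintype.card K ^ (m - 1) :=
      (Nat.pow_le_pow_left hq2 4).trans (Nat.pow_le_pow_right (by omega) (by omega))
    refine fine_of_eleven (D := Fintype.card K ^ (m - 1) - 2) h1 h2 hp h3 hN (fun F _ hF => hslB F hF (by omega)) (haut.trans ?_)
    rcases hq2.eq_or_lt with hq2' | hq3
    · rw [← hq2']
      rcases (show 5 ≤ m from hm5).eq_or_lt with rfl | hm6
      · norm_num
      · refine pow_le_eleven (by norm_num) ?_
        have h6 := big_two (m := m) hm6
        omega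
    · refine pow_le_eleven (by omega) ?_
      have h6 := big (q := Fintype.card K) (m := m) (by omega) hm5
      have h8 : 3 * (m * (2 * m - 1) + 3) * (Fintype.card K - 1) ≤
          3 * ((m + 1) * (2 * m + 1) + 3) * (Fintype.card K - 1) := Nat.mul_le_mul_right _ (Nat.mul_le_mul_left _ h7)
      omega

/-! ### `PΩ⁻_{2m}(q)` -/

theorem card_minus {m : ℕ} (hm : 4 ≤ m) (a b : K)
    (hab : ∀ z₁ z₂ : K, z₁ ^ 2 + a * z₁ * z₂ + b * z₂ ^ 2 = 0 → z₁ = 0 ∧ z₂ = 0) :
    Nat.card (Cfsg.POmega K (Cfsg.quadFormMinus (m - 1) K a b)) ≤ Fintype.card K ^ (m * (2 * m - 1)) := by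
  have h1 := Cfsg.Agent.S0294.result (F := K) rfl m hm a b hab
  have h2 : 1 ≤ Nat.gcd 4 (Fintype.card K ^ m + 1) := Nat.gcd_pos_of_pos_left _ (by norm_num)
  refine (Nat.le_mul_of_pos_left _ h2).trans ?_
  rw [h1]
  calc _ = Fintype.card K ^ (m * (m - 1)) * ((Fintype.card K ^ m + 1) *
        ∏ i ∈ Finset.range (m - 1), (Fintype.card K ^ (2 * (i + 1)) - 1)) := by rw [mul_assoc]
    _ ≤ Fintype.card K ^ (m * (m - 1)) * Fintype.card K ^ (m * m) :=
        Nat.mul_le_mul_left _ (prod_minus_le Fintype.card_pos (by omega))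
    _ = _ := by
      rw [← pow_add]
      congr 1
      obtain ⟨k, rfl⟩ : ∃ k, m = k + 1 := ⟨m - 1, by omega⟩
      have h4 : 2 * (k + 1) - 1 = 2 * k + 1 := by omega
      rw [h4, Nat.add_sub_cancel]
      ring

theorem minus_basic {p m f : ℕ} (hp : p.Prime) (hf : 1 ≤ f) (hq : Fintype.card K = p ^ f) (hm : 4 ≤ m) (a b : K)
    (hab : ∀ z₁ z₂ : K, z₁ ^ 2 + a * z₁ * z₂ + b * z₂ ^ 2 = 0 → z₁ = 0 ∧ z₂ = 0) :
    Subgroup.center (Cfsg.POmega K (Cfsg.quadFormMinus (m - 1) K a b)) = ⊥ ∧
      1 < Nat.card (Cfsg.POmega K (Cfsg.quadFormMinus (m - 1) K a b)) ∧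
      p ∣ Nat.card (Cfsg.POmega K (Cfsg.quadFormMinus (m - 1) K a b)) := by
  have hs : IsSimpleGroup (Cfsg.POmega K (Cfsg.quadFormMinus (m - 1) K a b)) := Cfsg.Agent.S0297.result m hm a b hab
  have : Finite (Cfsg.isometryGroup K (Cfsg.quadFormMinus (m - 1) K a b)) := inferInstance
  have : Finite (Cfsg.POmega K (Cfsg.quadFormMinus (m - 1) K a b)) := inferInstance
  have hq2 : 2 ≤ Fintype.card K := Fintype.one_lt_card
  have hpq : p ∣ Fintype.card K := by rw [hq]; exact dvd_pow_self p (by omega)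
  refine basic (q := Fintype.card K) (e := m * (m - 1)) (g := Nat.gcd 4 (Fintype.card K ^ m + 1))
    (A := (Fintype.card K ^ m + 1) * ∏ i ∈ Finset.range (m - 1), (Fintype.card K ^ (2 * (i + 1)) - 1))
    hp hpq hq2 (Nat.gcd_le_left _ (by norm_num)) (not_dvd_gcd_add hp (by omega) hpq)
    ?_ (Nat.mul_pos (Nat.succ_pos _) (prod_pos' hq2)) (by rw [← mul_assoc]; exact Cfsg.Agent.S0294.result (F := K) rfl m hm a b hab)
  obtain ⟨k, rfl⟩ : ∃ k, m = k + 4 := ⟨m - 4, by omega⟩
  have : k + 4 - 1 = k + 3 := rfl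
  rw [this]
  nlinarith only []

theorem minus_aut {p m f : ℕ} (hp : p.Prime) (hf : 1 ≤ f) (hq : Fintype.card K = p ^ f) (hm : 4 ≤ m) (a b : K)
    (hab : ∀ z₁ z₂ : K, z₁ ^ 2 + a * z₁ * z₂ + b * z₂ ^ 2 = 0 → z₁ = 0 ∧ z₂ = 0) :
    Nat.card (MulAut (Cfsg.POmega K (Cfsg.quadFormMinus (m - 1) K a b))) ≤ Fintype.card K ^ (m * (2 * m - 1) + 3) := by
  have := Fact.mk hp
  have hq2 : 2 ≤ Fintype.card K := Fintype.one_lt_card
  have h4 := four_mul_le hp.two_le hf hq
  have hfac : (if p = 2 then 2 else (if Even (m * (p ^ f - 1) / 2) then 4 else 8)) ≤ 8 := by split_ifs <;> norm_num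
  rw [Cfsg.Agent.S0818.result (F := K) p f hf hq m hm a b hab]
  calc _ ≤ 8 * f * Fintype.card K ^ (m * (2 * m - 1)) :=
        Nat.mul_le_mul (Nat.mul_le_mul_right _ hfac) (card_minus hm a b hab)
    _ = (2 * 2 * (2 * f)) * Fintype.card K ^ (m * (2 * m - 1)) := by ring
    _ ≤ (Fintype.card K * Fintype.card K * Fintype.card K) * Fintype.card K ^ (m * (2 * m - 1)) :=
        Nat.mul_le_mul_right _ (Nat.mul_le_mul (Nat.mul_le_mul hq2 hq2) h4)
    _ = _ := by ring

theorem minus_aut_two {m : ℕ} (h2 : Fintype.card K = 2) (hm : 4 ≤ m) (a b : K)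
    (hab : ∀ z₁ z₂ : K, z₁ ^ 2 + a * z₁ * z₂ + b * z₂ ^ 2 = 0 → z₁ = 0 ∧ z₂ = 0) :
    Nat.card (MulAut (Cfsg.POmega K (Cfsg.quadFormMinus (m - 1) K a b))) ≤ 2 ^ (m * (2 * m - 1) + 1) := by
  have := Fact.mk Nat.prime_two
  rw [Cfsg.Agent.S0818.result (F := K) 2 1 le_rfl (by rw [h2, pow_one]) m hm a b hab, if_pos rfl, mul_one, pow_succ,
    mul_comm]
  refine Nat.mul_le_mul_right _ ?_
  have h3 := card_minus hm a b hab
  rwa [h2] at h3

theorem fine_minus {r m : ℕ} (hr : r.Prime) (hK : CharP K r) (hm : 4 ≤ m) (a b : K)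
    (hab : ∀ z₁ z₂ : K, z₁ ^ 2 + a * z₁ * z₂ + b * z₂ ^ 2 = 0 → z₁ = 0 ∧ z₂ = 0)
    (h52 : ¬ (m = 5 ∧ Fintype.card K = 2)) (h62 : ¬ (m = 6 ∧ Fintype.card K = 2))
    (hN : Cop.{0, w} r (Cfsg.POmega K (Cfsg.quadFormMinus (m - 1) K a b))) :
    Fine.{0, w} (Cfsg.POmega K (Cfsg.quadFormMinus (m - 1) K a b)) := by
  obtain ⟨p, f, hp, hf, hq, hpK⟩ := exists_pf (K := K)
  obtain rfl : p = r := CharP.eq K hpK hK
  have := Fact.mk hp
  have : Finite (Cfsg.isometryGroup K (Cfsg.quadFormMinus (m - 1) K a b)) := inferInstance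
  have : Finite (Cfsg.POmega K (Cfsg.quadFormMinus (m - 1) K a b)) := inferInstance
  have hq2 : 2 ≤ Fintype.card K := Fintype.one_lt_card
  obtain ⟨h1, h2, h3⟩ := minus_basic hp hf hq hm a b hab
  have haut := minus_aut hp hf hq hm a b hab
  rcases hq2.eq_or_lt with hq2' | hq3
  · -- `q = 2`
    obtain rfl : p = 2 := by
      have h4 : p ∣ 2 := by rw [hq2', hq]; exact dvd_pow_self p (by omega)
      exact (Nat.prime_dvd_prime_iff_eq hp Nat.prime_two).1 h4
    have haut2 := minus_aut_two hq2'.symm hm a b hab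
    rcases hm.eq_or_lt with rfl | hm5
    · refine fine_of_eleven (D := 13) h1 h2 hp h3 hN (fun F _ hF => ?_) (haut2.trans (by norm_num))
      exact bd_pomega_minus_two (by exact_mod_cast hF) hq2'.symm (by norm_num) a b hab
    · have hm7 : 7 ≤ m := by
        rcases (show 5 ≤ m from hm5).eq_or_lt with h | hm6
        · exact absurd ⟨h.symm, hq2'.symm⟩ h52
        rcases (show 6 ≤ m from hm6).eq_or_lt with h | hm7
        · exact absurd ⟨h.symm, hq2'.symm⟩ h62
        exact hm7
      have h16 : 2 ^ 5 ≤ 2 ^ (m - 2) := Nat.pow_le_pow_right (by omega) (by omega)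
      refine fine_of_eleven (D := 2 ^ (m - 2) - 2) h1 h2 hp h3 hN (fun F _ hF => ?_) (haut2.trans ?_)
      · have h5 := bd_pomega_minus_sl (m := m - 1) hp hF hK (by omega) a b
        rw [← hq2'] at h5
        have h6 : m - 1 - 1 = m - 2 := by omega
        rw [h6] at h5
        exact h5.mono (by omega)
      · refine pow_le_eleven (by norm_num) ?_
        have h6 := big_two (m := m - 1) (by omega)
        have h7 : m - 1 + 1 = m := by omega
        have h8 : 2 * (m - 1) + 1 = 2 * m - 1 := by omega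
        have h9 : m - 1 - 1 = m - 2 := by (clear * -; omega)
        rw [h7, h8, h9] at h6
        omega
  · -- `q ≥ 3`
    have h27 : 3 ^ 3 ≤ Fintype.card K ^ 3 := Nat.pow_le_pow_left hq3 3
    rcases hm.eq_or_lt with rfl | hm5
    · refine fine_of_eleven (D := Fintype.card K ^ 3 - 2) h1 h2 hp h3 hN (fun F _ hF => ?_) (haut.trans (pow_le_eleven (by omega) ?_))
      · exact (bd_pomega_minus_cube hp hF hK (by norm_num) a b).mono (by omega)
      · have h6 := odd_four (q := Fintype.card K) (by omega)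
        omega
    rcases (show 5 ≤ m from hm5).eq_or_lt with rfl | hm6
    · refine fine_of_eleven (D := Fintype.card K ^ 3 - 2) h1 h2 hp h3 hN (fun F _ hF => ?_) (haut.trans ?_)
      · exact (bd_pomega_minus_cube hp hF hK (by norm_num) a b).mono (by omega)
      · rcases (show 3 ≤ Fintype.card K from hq3).eq_or_lt with h | h
        · rw [← h]; norm_num
        · refine pow_le_eleven (by omega) ?_
          have h6 := minus_five (q := Fintype.card K) (by omega)
          omega
    · have h81 : 3 ^ 4 ≤ Fintype.card K ^ (m - 2) :=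
        (Nat.pow_le_pow_left hq3 4).trans (Nat.pow_le_pow_right (by omega) (by omega))
      refine fine_of_eleven (D := Fintype.card K ^ (m - 2) - 2) h1 h2 hp h3 hN (fun F _ hF => ?_) (haut.trans (pow_le_eleven (by omega) ?_))
      · have h5 := bd_pomega_minus_sl (m := m - 1) hp hF hK (by omega) a b
        have h6 : m - 1 - 1 = m - 2 := by omega
        rw [h6] at h5
        exact h5.mono (by omega)
      · have h6 := big (q := Fintype.card K) (m := m - 1) (by omega) (by omega)
        have h7 : m - 1 + 1 = m := by omega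
        have h8 : 2 * (m - 1) + 1 = 2 * m - 1 := by omega
        have h9 : m - 1 - 1 = m - 2 := by (clear * -; omega)
        rw [h7, h8, h9] at h6
        omega

/-- `PΩ⁻_{10}(2)` -/
theorem fine_minus_five (hq : Fintype.card K = 2) (a b : K)
    (hab : ∀ z₁ z₂ : K, z₁ ^ 2 + a * z₁ * z₂ + b * z₂ ^ 2 = 0 → z₁ = 0 ∧ z₂ = 0)
    (hN : Cop.{0, w} 2 (Cfsg.POmega K (Cfsg.quadFormMinus (5 - 1) K a b))) :
    Fine.{0, w} (Cfsg.POmega K (Cfsg.quadFormMinus (5 - 1) K a b)) := by
  have : Finite (Cfsg.isometryGroup K (Cfsg.quadFormMinus (5 - 1) K a b)) := inferInstance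
  have : Finite (Cfsg.POmega K (Cfsg.quadFormMinus (5 - 1) K a b)) := inferInstance
  obtain ⟨h1, h2, h3⟩ := minus_basic Nat.prime_two le_rfl (by rw [hq, pow_one]) (by norm_num : 4 ≤ 5) a b hab
  have haut := minus_aut_two hq (by norm_num : 4 ≤ 5) a b hab
  have hcard := Cfsg.Agent.S0294.result (F := K) hq 5 (by norm_num) a b hab
  refine Fine.of_lt5 h1 ?_ fun p m hp h11 hpT hm hR => ?_
  · norm_num only [Finset.prod_range_succ, _root_.one_mul] at hcard
    norm_num
    omega
  · have hm14 : 14 ≤ m := rep_le hp Nat.prime_two h3 hpT hR hN fun F _ hF =>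
      bd_pomega_minus_two (by exact_mod_cast hF) hq (by norm_num) a b hab
    have h5 : p ^ 14 ≤ p ^ m := Nat.pow_le_pow_right hp.pos hm14
    rcases (show p = 11 ∨ 12 ≤ p by omega) with rfl | h12
    · calc _ ≤ (11 - 9) * 2 ^ (5 * (2 * 5 - 1) + 1) + 1 := Nat.add_le_add_right (Nat.mul_le_mul_left _ haut) 1
        _ < 11 ^ 14 := by norm_num
        _ ≤ _ := h5
    · have h6 : 12 ^ 13 ≤ p ^ 13 := Nat.pow_le_pow_left h12 13
      have h7 : 2 ^ (5 * (2 * 5 - 1) + 1) ≤ p ^ 13 := le_trans (by norm_num) h6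
      calc _ ≤ (p - 9) * p ^ 13 + 1 := Nat.add_le_add_right (Nat.mul_le_mul_left _ (haut.trans h7)) 1
        _ < p * p ^ 13 := by
          have h8 : 0 < p ^ 13 := Nat.pow_pos hp.pos
          obtain ⟨c, rfl⟩ : ∃ c, p = c + 12 := ⟨p - 12, by omega⟩
          have h9 : c + 12 - 9 = c + 3 := by omega
          rw [h9]
          linarith only [h6]
        _ = p ^ 14 := by ring
        _ ≤ _ := h5

end

end Cfsg.Agent.H315.FineOrth

private theorem dce_20dbe715df6e : _root_.True := by
  try have : _root_.True := by simp only [_root_.Cfsg.POmega.congr_simp]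
  exact _root_.True.intro
end

-- part: H315/FineSec_mg
section
set_option linter.all false
open scoped Cfsg.Agent.FastGrp

-- part: H315/FineSec
section
/-!
# `Rep` passes to sections: subgroups modulo central subgroups; many classes from many element orders
-/

set_option autoImplicit false

namespace Cfsg.Agent.H315.FineOrth

universe u v w u'

open Cfsg Cfsg.Agent.H698
open scoped commutatorElement

theorem exists_perfect (Q : Type u) [Group Q] [Finite Q] :
    ∃ D : Subgroup Q, ⁅D, D⁆ = D ∧ ∀ (S : Type v) [Group S] (f : Q →* S), Function.Surjective f → commutator S = ⊤ →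
      D.map f = ⊤ := by
  have h : ∃ n, derivedSeries Q (n + 1) = derivedSeries Q n := by
    by_contra hcon
    push Not at hcon
    have hanti : StrictAnti (fun n => derivedSeries Q n) :=
      strictAnti_nat_of_succ_lt fun n => lt_of_le_of_ne (derivedSeries_antitone Q (Nat.le_succ n)) (hcon n)
    have hinj : Function.Injective (fun n => derivedSeries Q n) := hanti.injective
    exact not_injective_infinite_finite _ hinj
  obtain ⟨n, hn⟩ := h
  refine ⟨derivedSeries Q n, by rw [← derivedSeries_succ, hn], ?_⟩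
  intro S _ f hf hS
  rw [map_derivedSeries_eq hf]
  have h1 : ∀ k, derivedSeries S k = ⊤ := by
    intro k
    induction k with
    | zero => rfl
    | succ k ih => rw [derivedSeries_succ, ih]; exact hS
  exact h1 n

/-- `Rep` passes to `S / Z` for a subgroup `S` (modulo scalars) and a central subgroup `Z` of `S`. -/
theorem rep_sec {p m : ℕ} {T : Type u} [Group T] (h : Rep.{u, w} p m T) {S : Type v} [Group S]
    {S' : Type u'} [Group S'] (f : S →* T) (q : S →* S') (hq : Function.Surjective q)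
    (hker : ∀ x, q x = 1 → ∀ y, x * y = y * x) (hf : f.ker ≤ q.ker) (hperf : commutator S' = ⊤) :
    Rep.{u', w} p m S' := by
  obtain ⟨F, _, _, _, P, _, _, π, ρ, h1, h2, h3, h4, h5⟩ := h
  let Q : Subgroup P := f.range.comap π
  let θ₀ : f.range →* S' := (f.rangeRestrict).liftOfSurjective f.rangeRestrict_surjective
    ⟨q, by rw [MonoidHom.ker_rangeRestrict]; exact hf⟩
  have hθ₀ : ∀ s, θ₀ ⟨f s, ⟨s, rfl⟩⟩ = q s := fun s =>
    MonoidHom.liftOfRightInverse_comp_apply (f.rangeRestrict) _ _ ⟨q, by rw [MonoidHom.ker_rangeRestrict]; exact hf⟩ s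
  let θ : Q →* S' := θ₀.comp ((π.comp Q.subtype).codRestrict f.range (fun x => x.2))
  have hθ : ∀ (x : Q) (s : S), f s = π x → θ x = q s := by
    intro x s hs
    rw [← hθ₀ s]
    exact congrArg θ₀ (Subtype.ext hs.symm)
  have hθs : Function.Surjective θ := by
    intro t
    obtain ⟨s, rfl⟩ := hq t
    obtain ⟨x, hx⟩ := h1 (f s)
    exact ⟨⟨x, ⟨s, hx.symm⟩⟩, hθ _ s hx.symm⟩
  -- elements of the kernel have central commutators
  have hc1 : ∀ x : Q, θ x = 1 → ∀ y : Q, ∀ z : P, ⁅(x : P), (y : P)⁆ * z = z * ⁅(x : P), (y : P)⁆ := by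
    intro x hx y z
    obtain ⟨s, hs⟩ := x.2
    obtain ⟨t, ht⟩ := y.2
    have hs1 : q s = 1 := by rw [← hθ x s hs, hx]
    have h6 : ⁅(x : P), (y : P)⁆ ∈ π.ker := by
      rw [MonoidHom.mem_ker, map_commutatorElement, ← hs, ← ht, ← map_commutatorElement,
        commutatorElement_eq_one_iff_mul_comm.2 (hker s hs1 t), map_one]
    exact ((Subgroup.mem_center_iff.1 (h2 h6)) z).symm
  obtain ⟨D, hD, hDm⟩ := exists_perfect Q
  have hDθ := hDm S' θ hθs hperf
  -- in the perfect group `D` they are central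
  have hc2 : ∀ x : D, θ (x : Q) = 1 → ∀ y : D, x * y = y * x := by
    intro x hx y
    -- the homomorphism `y ↦ [x, y]`
    let φ : D →* P :=
      { toFun := fun y => ⁅((x : Q) : P), ((y : Q) : P)⁆
        map_one' := by simp
        map_mul' := fun a b => by
          change ⁅((x : Q) : P), ((a : Q) : P) * ((b : Q) : P)⁆ = _
          have h7 := hc1 x hx b ((a : Q) : P)
          calc ⁅((x : Q) : P), ((a : Q) : P) * ((b : Q) : P)⁆
              = ⁅((x : Q) : P), ((a : Q) : P)⁆ * (((a : Q) : P) * ⁅((x : Q) : P), ((b : Q) : P)⁆ * ((a : Q) : P)⁻¹) := by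
                simp only [commutatorElement_def]; group
            _ = _ := by rw [← h7, mul_assoc, mul_inv_cancel, mul_one] }
    have h8 : ∀ a b : D, φ a * φ b = φ b * φ a := fun a b => hc1 x hx a (φ b)
    have h9 : commutator D ≤ φ.ker := by
      rw [_root_.commutator_def, Subgroup.commutator_le]
      intro a _ b _
      rw [MonoidHom.mem_ker, map_commutatorElement, commutatorElement_eq_one_iff_mul_comm]
      exact h8 a b
    have h10 : commutator D = ⊤ := by
      apply Subgroup.map_injective D.subtype_injective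
      rw [_root_.commutator_def, Subgroup.map_commutator, ← MonoidHom.range_eq_map, Subgroup.range_subtype, hD]
    have h11 : y ∈ φ.ker := h9 (by rw [h10]; exact Subgroup.mem_top y)
    have h12 : ⁅((x : Q) : P), ((y : Q) : P)⁆ = 1 := h11
    rw [commutatorElement_eq_one_iff_mul_comm] at h12
    exact Subtype.ext (Subtype.ext h12)
  refine ⟨F, inferInstance, inferInstance, inferInstance, D, inferInstance, inferInstance, θ.comp D.subtype,
    (ρ.comp Q.subtype).comp D.subtype, ?_, ?_, ?_, ?_, ?_⟩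
  · intro s
    have h6 : s ∈ D.map θ := by rw [hDθ]; trivial
    obtain ⟨d, hd, rfl⟩ := h6
    exact ⟨⟨d, hd⟩, rfl⟩
  · intro x hx
    rw [Subgroup.mem_center_iff]
    intro y
    exact (hc2 x hx y).symm
  · apply Subgroup.map_injective D.subtype_injective
    rw [_root_.commutator_def, Subgroup.map_commutator, ← MonoidHom.range_eq_map, Subgroup.range_subtype, hD]
  · intro a b hab
    exact Subtype.ext (Subtype.ext (h4 hab))
  · intro h6
    exact h5 ((h6.trans (Subgroup.card_subgroup_dvd_card D)).trans (Subgroup.card_subgroup_dvd_card Q))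

/-- Different element orders give different classes. -/
theorem card_le_classes {X : Type u} [Group X] [Finite X] (S : Finset ℕ) (h : ∀ n ∈ S, ∃ x : X, orderOf x = n) :
    S.card ≤ Nat.card (ConjClasses X) := by
  classical
  choose! g hg using h
  have : Finite (ConjClasses X) := Finite.of_surjective _ ConjClasses.mk_surjective
  have hinj : Function.Injective (fun n : S => ConjClasses.mk (g n)) := by
    intro a b hab
    have h1 : IsConj (g a) (g b) := ConjClasses.mk_eq_mk_iff_isConj.1 hab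
    obtain ⟨c, hc⟩ := isConj_iff.1 h1
    apply Subtype.ext
    rw [← hg a a.2, ← hg b b.2, ← hc]
    exact (orderOf_injective (MulAut.conj c).toMonoidHom (MulAut.conj c).injective (g a)).symm
  have h2 := Nat.card_le_card_of_injective _ hinj
  rwa [Nat.card_eq_fintype_card, Fintype.card_coe] at h2

theorem conj_injective {T : Type u} [Group T] (hc : Subgroup.center T = ⊥) :
    Function.Injective (MulAut.conj : T →* MulAut T) := by
  rw [injective_iff_map_eq_one]
  intro a ha
  have h1 : a ∈ Subgroup.center T := by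
    rw [Subgroup.mem_center_iff]
    intro x
    have h2 : a * x * a⁻¹ = x := DFunLike.congr_fun ha x
    calc x * a = (a * x * a⁻¹) * a := by rw [h2]
      _ = a * x := by group
  rwa [hc, Subgroup.mem_bot] at h1

theorem classes_of_orders {T : Type u} [Group T] [Finite T] (hc : Subgroup.center T = ⊥) (S : Finset ℕ)
    (h : ∀ n ∈ S, ∃ x : T, orderOf x = n) (X : Subgroup (MulAut T)) (hX : (MulAut.conj : T →* MulAut T).range ≤ X) :
    S.card ≤ Nat.card (ConjClasses X) := by
  refine card_le_classes S fun n hn => ?_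
  obtain ⟨x, hx⟩ := h n hn
  refine ⟨⟨MulAut.conj x, hX ⟨x, rfl⟩⟩, ?_⟩
  rw [← hx, ← Subgroup.orderOf_coe]
  exact orderOf_injective (MulAut.conj : T →* MulAut T) (conj_injective hc) x

end Cfsg.Agent.H315.FineOrth
end

-- part: H315/FineFive
section
/-!
# The bound `8` from `5² : Q₈`
-/

set_option autoImplicit false

namespace Cfsg.Agent.H315.FineOrth

universe u v w

open Cfsg.Agent.H912.Bd

section

variable {X : Type w} [Group X]

theorem pow_mod_five {x : X} (hx : x ^ 5 = 1) (n : ℕ) : x ^ (n % 5) = x ^ n := by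
  conv_rhs => rw [← Nat.div_add_mod n 5, pow_add, pow_mul, hx, one_pow, one_mul]

theorem pow_val_add {x : X} (hx : x ^ 5 = 1) (a b : ZMod 5) : x ^ (a + b).val = x ^ a.val * x ^ b.val := by
  rw [ZMod.val_add, pow_mod_five hx, pow_add]

theorem pow_val_mul {x : X} (hx : x ^ 5 = 1) (k : ℕ) (a : ZMod 5) : x ^ ((k : ZMod 5) * a).val = x ^ (k * a.val) := by
  rw [ZMod.val_mul, ZMod.val_natCast, pow_mod_five hx, pow_mul, pow_mul, pow_mod_five hx]

/-- the homomorphism `(a, b) ↦ e₁ᵃ e₂ᵇ` -/
def gHom {e₁ e₂ : X} (h1 : e₁ ^ 5 = 1) (h2 : e₂ ^ 5 = 1) (h12 : Commute e₁ e₂) :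
    Multiplicative (ZMod 5 × ZMod 5) →* X where
  toFun x := e₁ ^ (Multiplicative.toAdd x).1.val * e₂ ^ (Multiplicative.toAdd x).2.val
  map_one' := by simp
  map_mul' x y := by
    rw [toAdd_mul, Prod.fst_add, Prod.snd_add, pow_val_add h1, pow_val_add h2]
    have h3 : Commute (e₁ ^ (Multiplicative.toAdd y).1.val) (e₂ ^ (Multiplicative.toAdd x).2.val) :=
      (h12.pow_left _).pow_right _
    rw [mul_assoc, mul_assoc, ← mul_assoc (e₁ ^ (Multiplicative.toAdd y).1.val), h3.eq, mul_assoc]

/-- the action of the elements of `Q₈` -/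
def act (s : Fin 2 × Fin 4) (x : ZMod 5 × ZMod 5) : ZMod 5 × ZMod 5 :=
  let y : ZMod 5 × ZMod 5 := if s.1 = 0 then x else (4 * x.2, x.1)
  (2 ^ (s.2 : ℕ) * y.1, 3 ^ (s.2 : ℕ) * y.2)

theorem exists_natCast_mul : ∀ a : ZMod 5, a ≠ 0 → ∃ k : Fin 5, (((k : ℕ) : ZMod 5)) * a = 1 := by decide +kernel

theorem act_free : ∀ s t : Fin 2 × Fin 4, s ≠ t → ∀ x : ZMod 5 × ZMod 5, act s x = act t x → x = 0 := by
  decide +kernel

/-- **`5² : Q₈`**: bound `8`. -/
theorem bd_eight {F : Type u} [Field F] (h5 : ((5 : ℕ) : F) ≠ 0) {T : Type v} [Group T] (f : X →* T)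
    (hf : f.ker ≤ Subgroup.center X) {e₁ e₂ i j : X} (h1 : e₁ ^ 5 = 1) (h2 : e₂ ^ 5 = 1) (h12 : e₁ * e₂ = e₂ * e₁)
    (hi1 : i * e₁ * i⁻¹ = e₁ ^ 2) (hi2 : i * e₂ * i⁻¹ = e₂ ^ 3) (hj1 : j * e₁ * j⁻¹ = e₂)
    (hj2 : j * e₂ * j⁻¹ = e₁ ^ 4) (hne : ∀ c : Fin 5, e₁ ≠ e₂ ^ (c : ℕ)) : Bd F 5 8 T := by
  classical
  have hc12 : Commute e₁ e₂ := h12
  let g := gHom h1 h2 hc12
  have hg : ∀ x : ZMod 5 × ZMod 5, g (Multiplicative.ofAdd x) = e₁ ^ x.1.val * e₂ ^ x.2.val := fun x => rfl
  -- injectivity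
  have hcop : ∀ a : ZMod 5, a ≠ 0 → ∃ k : ℕ, (k : ZMod 5) * a = 1 := fun a ha =>
    (exists_natCast_mul a ha).elim fun k hk => ⟨k, hk⟩
  have he2 : e₂ ≠ 1 := by
    rintro rfl
    have h6 := hj1
    rw [mul_inv_eq_iff_eq_mul, one_mul, mul_eq_left] at h6
    exact hne 0 (by rw [h6]; simp)
  have hinj : Function.Injective g := by
    rw [injective_iff_map_eq_one]
    intro x hx
    obtain ⟨⟨a, b⟩, rfl⟩ : ∃ y : ZMod 5 × ZMod 5, Multiplicative.ofAdd y = x := ⟨Multiplicative.toAdd x, rfl⟩
    rw [hg] at hx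
    have ha : a = 0 := by
      by_contra ha
      obtain ⟨k, hk⟩ := hcop a ha
      have h6 : g (Multiplicative.ofAdd ((1 : ZMod 5), (k : ZMod 5) * b)) = 1 := by
        have h7 : g (Multiplicative.ofAdd ((k : ZMod 5) * a, (k : ZMod 5) * b)) = (e₁ ^ a.val * e₂ ^ b.val) ^ k := by
          rw [hg, pow_val_mul h1, pow_val_mul h2, ((hc12.pow_left _).pow_right _).mul_pow, ← pow_mul, ← pow_mul,
            mul_comm k, mul_comm k]
        rw [← hk, h7, hx, one_pow]
      rw [hg] at h6
      change e₁ ^ (1 : ZMod 5).val * e₂ ^ ((k : ZMod 5) * b).val = 1 at h6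
      rw [show (1 : ZMod 5).val = 1 from rfl, pow_one, mul_eq_one_iff_eq_inv] at h6
      -- `e₁ = e₂ ^ c`
      have h8 : (e₂ ^ ((k : ZMod 5) * b).val)⁻¹ = e₂ ^ (-((k : ZMod 5) * b)).val := by
        rw [inv_eq_iff_mul_eq_one, ← pow_val_add h2, add_neg_cancel, ZMod.val_zero, pow_zero]
      rw [h8] at h6
      exact hne ⟨(-((k : ZMod 5) * b)).val, ZMod.val_lt _⟩ h6
    subst ha
    have hb : b = 0 := by
      by_contra hb
      obtain ⟨k, hk⟩ := hcop b hb
      rw [ZMod.val_zero, pow_zero, one_mul] at hx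
      apply he2
      have h6 : e₂ ^ ((k : ZMod 5) * b).val = 1 := by rw [pow_val_mul h2, mul_comm, pow_mul, hx, one_pow]
      rwa [hk, show (1 : ZMod 5).val = 1 from rfl, pow_one] at h6
    subst hb
    rfl
  -- the action
  let el : Fin 2 × Fin 4 → X := fun s => i ^ (s.2 : ℕ) * (if s.1 = 0 then 1 else j)
  have hconj_pow : ∀ (y x : X) (n : ℕ), y * x ^ n * y⁻¹ = (y * x * y⁻¹) ^ n := fun y x n => conj_pow.symm
  have hi : ∀ x : ZMod 5 × ZMod 5, i * g (Multiplicative.ofAdd x) * i⁻¹ = g (Multiplicative.ofAdd (2 * x.1, 3 * x.2)) := by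
    intro x
    rw [hg, hg]
    have h6 : i * (e₁ ^ x.1.val * e₂ ^ x.2.val) * i⁻¹ = (i * e₁ ^ x.1.val * i⁻¹) * (i * e₂ ^ x.2.val * i⁻¹) := by group
    rw [h6, hconj_pow, hconj_pow, hi1, hi2, ← pow_mul, ← pow_mul]
    have h7 := pow_val_mul h1 2 x.1
    have h8 := pow_val_mul h2 3 x.2
    rw [← h7, ← h8]
    rfl
  have hj : ∀ x : ZMod 5 × ZMod 5, j * g (Multiplicative.ofAdd x) * j⁻¹ = g (Multiplicative.ofAdd (4 * x.2, x.1)) := by
    intro x
    rw [hg, hg]
    have h6 : j * (e₁ ^ x.1.val * e₂ ^ x.2.val) * j⁻¹ = (j * e₁ ^ x.1.val * j⁻¹) * (j * e₂ ^ x.2.val * j⁻¹) := by group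
    rw [h6, hconj_pow, hconj_pow, hj1, hj2, ← pow_mul]
    have h7 := pow_val_mul h1 4 x.2
    rw [← h7]
    exact ((hc12.symm.pow_left _).pow_right _).eq
  have hipow : ∀ (n : ℕ) (x : ZMod 5 × ZMod 5),
      i ^ n * g (Multiplicative.ofAdd x) * (i ^ n)⁻¹ = g (Multiplicative.ofAdd (2 ^ n * x.1, 3 ^ n * x.2)) := by
    intro n
    induction n with
    | zero => intro x; simp
    | succ n ih =>
      intro x
      have h6 : i ^ (n + 1) * g (Multiplicative.ofAdd x) * (i ^ (n + 1))⁻¹
          = i * (i ^ n * g (Multiplicative.ofAdd x) * (i ^ n)⁻¹) * i⁻¹ := by rw [pow_succ']; group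
      rw [h6, ih, hi]
      congr 2
      rw [pow_succ', pow_succ']
      simp only [mul_assoc]
  have hel : ∀ (s : Fin 2 × Fin 4) (x : ZMod 5 × ZMod 5),
      el s * g (Multiplicative.ofAdd x) * (el s)⁻¹ = g (Multiplicative.ofAdd (act s x)) := by
    rintro ⟨s, n⟩ x
    by_cases hs : s = 0
    · subst hs
      change i ^ (n : ℕ) * (if (0 : Fin 2) = 0 then 1 else j) * g (Multiplicative.ofAdd x) * _ = _
      have h6 : el (0, n) = i ^ (n : ℕ) := by simp [el]
      have h7 : act (0, n) x = (2 ^ (n : ℕ) * x.1, 3 ^ (n : ℕ) * x.2) := by simp [act]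
      rw [h6, h7, if_pos rfl, mul_one, hipow]
    · have h6 : el (s, n) = i ^ (n : ℕ) * j := by simp [el, hs]
      have h7 : act (s, n) x = (2 ^ (n : ℕ) * (4 * x.2), 3 ^ (n : ℕ) * x.1) := by simp [act, hs]
      rw [h6, h7]
      have h8 : i ^ (n : ℕ) * j * g (Multiplicative.ofAdd x) * (i ^ (n : ℕ) * j)⁻¹
          = i ^ (n : ℕ) * (j * g (Multiplicative.ofAdd x) * j⁻¹) * (i ^ (n : ℕ))⁻¹ := by group
      rw [h8, hj, hipow]
  have helinj : Function.Injective el := by
    intro s t hst
    by_contra hne'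
    have h6 := hel s (1, 0)
    have h7 := hel t (1, 0)
    rw [hst, h7] at h6
    have h8 := act_free t s (Ne.symm hne') (1, 0) (Multiplicative.ofAdd.injective (hinj h6))
    exact absurd h8 (by decide)
  have hcard : (Finset.univ.image el).card = 8 := by
    rw [Finset.card_image_of_injective _ helinj]
    rfl
  have : Finite g.range := (MonoidHom.ofInjective hinj).toEquiv.finite_iff.1 inferInstance
  have key := bd_of_free_hom (F := F) (r := 5) (by norm_num) h5 f hf g.range
    (by
      rintro _ ⟨x, rfl⟩ _ ⟨y, rfl⟩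
      rw [← map_mul, ← map_mul, mul_comm])
    (by
      rintro ⟨_, x, rfl⟩
      refine ⟨1, Subtype.ext ?_⟩
      change g x ^ 5 ^ 1 = 1
      rw [← map_pow]
      have h6 : ∀ y : ZMod 5 × ZMod 5, 5 • y = 0 := by decide +kernel
      have h7 : x ^ 5 ^ 1 = 1 := h6 (Multiplicative.toAdd x)
      rw [h7, map_one])
    (by
      intro h0
      have h6 : g (Multiplicative.ofAdd (1, 0)) ∈ g.range := ⟨_, rfl⟩
      rw [h0, Subgroup.mem_bot, ← map_one g] at h6
      exact absurd (hinj h6) (by decide))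
    (Finset.univ.image el) (by rw [hcard]; norm_num)
    (by
      intro s hs e he
      obtain ⟨s, -, rfl⟩ := Finset.mem_image.1 hs
      obtain ⟨x, rfl⟩ := he
      exact ⟨_, (hel s (Multiplicative.toAdd x)).symm⟩)
    (by
      intro s hs t ht hst e he h
      obtain ⟨s, -, rfl⟩ := Finset.mem_image.1 hs
      obtain ⟨t, -, rfl⟩ := Finset.mem_image.1 ht
      obtain ⟨x, rfl⟩ := he
      have h6 := hel s (Multiplicative.toAdd x)
      have h7 := hel t (Multiplicative.toAdd x)
      rw [ofAdd_toAdd] at h6 h7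
      rw [h6, h7] at h
      have h8 := act_free s t (fun h => hst (by rw [h])) _ (Multiplicative.ofAdd.injective (hinj h))
      have h9 : x = 1 := congrArg Multiplicative.ofAdd h8
      rw [h9, map_one])
  rwa [hcard] at key

end

end Cfsg.Agent.H315.FineOrth
end

private theorem dce_d2772c7f6990 : _root_.True := by
  try have : _root_.True := by simp only [_root_.Cfsg.Agent.H315.FineOrth.act.eq_1]
  exact _root_.True.intro
end

-- part: H831/FineUnit_mg
section
prune_inst 0x90006504444000000000058051001c02a200009000080400c400024406888c0009000020b0002101000880040038002003880000420000000a00000001180080000002000000a000000080000080000000000000000000000000000000000004000000000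
set_option linter.all false
open scoped Cfsg.Agent.FastGrp

-- part: H831/FineScalar
section
/-!
# From `Rep` to `PR` : the centre acts by scalars of determinant one (helper831, for S4881)

`exists_scalar` : a projective representation of dimension `m` on a perfect central extension has a non-trivial
constituent of dimension `2 ≤ d ≤ m` over the algebraic closure on which the centre acts by `d`-th roots of unity; so
`PR K d r T` holds for every prime `r` not dividing `d`.
-/

set_option autoImplicit false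

namespace Cfsg.Agent.H831.FineScalar

universe u

open Cfsg.Agent.H912.Bd Cfsg.Agent.H698

/-- a homomorphism from a perfect group to a commutative group is trivial -/
theorem map_eq_one_of_perfect {P : Type*} [Group P] {M : Type*} [CommGroup M] (hP : commutator P = ⊤) (f : P →* M)
    (g : P) : f g = 1 := by
  have h1 : commutator P ≤ f.ker := Abelianization.commutator_subset_ker f
  rw [hP] at h1
  exact h1 (Subgroup.mem_top g)

theorem gl_comm {K : Type*} [Field K] {d : ℕ} (hd : d < 2) (x y : Matrix.GeneralLinearGroup (Fin d) K) :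
    x * y = y * x := by
  apply Units.ext
  rw [Units.val_mul, Units.val_mul]
  have hs : Subsingleton (Fin d) := by
    interval_cases d
    · infer_instance
    · infer_instance
  ext i j
  rw [Matrix.mul_apply, Matrix.mul_apply]
  refine Finset.sum_congr rfl fun k _ => ?_
  rw [Subsingleton.elim j i, Subsingleton.elim k i, mul_comm]

theorem exists_scalar {p m : ℕ} {T : Type u} [Group T] [Finite T] [IsSimpleGroup T] (hna : ¬ IsMulCommutative T)
    (h : Rep.{u, u} p m T) : ∃ (K : Type u) (_ : Field K) (_ : CharP K p) (d : ℕ), 2 ≤ d ∧ d ≤ m ∧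
      ∀ r : ℕ, r.Prime → ¬ r ∣ d → PR K d r T := by
  classical
  obtain ⟨F, _, _, _, P, _, _, π, ρ, h1, h2, h3, h4, h5⟩ := h
  let K := AlgebraicClosure F
  have hK : CharP K p := charP_of_injective_algebraMap (algebraMap F K).injective p
  let τ : P →* Module.End K (Fin m → K) := repK ρ
  have hcen : ∀ z ∈ π.ker, ∀ g : P, g * z = z * g := fun z hz g => Subgroup.mem_center_iff.1 (h2 hz) g
  have hA : ∀ a ∈ π.ker, ∀ b ∈ π.ker, a * b = b * a := fun a ha b hb => hcen b hb a
  -- the order of the group is invertible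
  have hN : ((Nat.card P : ℕ) : K) ≠ 0 := by
    rw [Ne, CharP.cast_eq_zero_iff K p]
    exact h5
  have hAN : ∀ a ∈ π.ker, a ^ Nat.card P = 1 := fun a _ => pow_card_eq_one'
  have hC : ∀ s ∈ (⊤ : Subgroup P), ∀ a ∈ π.ker, s * a = a * s := fun s _ a ha => hcen a ha s
  -- a weight space with non-trivial action
  obtain ⟨χ, g₀, v₀, hv₀, hg₀⟩ : ∃ (χ : π.ker → K) (g : P) (v : Fin m → K), v ∈ wt τ π.ker χ ∧ τ g v ≠ v := by
    by_contra hcon
    push Not at hcon
    have h6 : ∀ g, ρ g = 1 := by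
      intro g
      apply eq_one_of_repK
      have h7 : ∀ χ : π.ker → K, wt τ π.ker χ ≤ (τ g).eigenspace 1 := by
        intro χ v hv
        rw [Module.End.mem_eigenspace_iff, one_smul]
        exact hcon χ g v hv
      have h8 : (⊤ : Submodule K (Fin m → K)) ≤ (τ g).eigenspace 1 := by
        rw [← iSup_wt τ hA hN hAN]
        exact iSup_le h7
      apply LinearMap.ext
      intro v
      have := h8 (Submodule.mem_top (x := v))
      rw [Module.End.mem_eigenspace_iff, one_smul] at this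
      exact this
    have h7 : ∀ t : T, t = 1 := by
      intro t
      obtain ⟨g, rfl⟩ := h1 t
      have h8 : g = 1 := h4 (by rw [h6, map_one])
      rw [h8, map_one]
    exact hna ⟨⟨fun a b => by rw [h7 a, h7 b]⟩⟩
  let W : Submodule K (Fin m → K) := wt τ π.ker χ
  let d := Module.finrank K W
  -- the action on it
  let σ₀ : P →* Module.End K W := (restr τ χ ⊤ hC).comp (Subgroup.topEquiv.symm : P ≃* (⊤ : Subgroup P)).toMonoidHom
  have hσ₀ : ∀ (g : P) (v : W), ((σ₀ g v : W) : Fin m → K) = τ g v := fun g v => rfl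
  let b := Module.finBasis K W
  let e : Module.End K W ≃ₐ[K] Matrix (Fin d) (Fin d) K := LinearMap.toMatrixAlgEquiv b
  let σ : P →* Matrix.GeneralLinearGroup (Fin d) K :=
    ((Units.map (e : Module.End K W →* Matrix (Fin d) (Fin d) K)).comp σ₀.toHomUnits)
  have hσ1 : ∀ g, ((σ g : Matrix.GeneralLinearGroup (Fin d) K) : Matrix (Fin d) (Fin d) K) = e (σ₀ g) := fun g => rfl
  have hσ2 : ∀ g, σ g = 1 ↔ σ₀ g = 1 := by
    intro g
    constructor
    · intro h
      have h6 := congrArg (fun x : Matrix.GeneralLinearGroup (Fin d) K => (x : Matrix (Fin d) (Fin d) K)) h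
      simp only [hσ1, Units.val_one] at h6
      exact e.injective (h6.trans (map_one e).symm)
    · intro h
      apply Units.ext
      rw [hσ1, h, map_one, Units.val_one]
  have hg₀' : σ g₀ ≠ 1 := by
    intro h
    rw [hσ2] at h
    apply hg₀
    have h6 := hσ₀ g₀ ⟨v₀, hv₀⟩
    rw [h] at h6
    exact h6.symm
  -- the kernel of the action lies in the kernel of `π`
  have hker : σ.ker ≤ π.ker := by
    have hn : (σ.ker.map π).Normal := Subgroup.Normal.map inferInstance π h1
    rcases hn.eq_bot_or_eq_top with h6 | h6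
    · intro x hx
      have h7 : π x ∈ σ.ker.map π := ⟨x, hx, rfl⟩
      rw [h6, Subgroup.mem_bot] at h7
      exact h7
    · exfalso
      -- the image of `σ` is commutative
      have h7 : ∀ x : P, ∃ z ∈ π.ker, σ x = σ z := by
        intro x
        have h8 : π x ∈ σ.ker.map π := by rw [h6]; trivial
        obtain ⟨k, hk, hkx⟩ := h8
        refine ⟨k⁻¹ * x, ?_, ?_⟩
        · rw [MonoidHom.mem_ker, map_mul, map_inv, hkx, inv_mul_cancel]
        · rw [map_mul, map_inv, MonoidHom.mem_ker.1 hk, inv_one, one_mul]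
      have h8 : ∀ x y : P, σ x * σ y = σ y * σ x := by
        intro x y
        obtain ⟨z, hz, hzx⟩ := h7 x
        rw [hzx, ← map_mul, ← map_mul, hcen z hz y]
      apply hg₀'
      have h9 : commutator P ≤ σ.ker := by
        rw [commutator_def, Subgroup.commutator_le]
        intro x _ y _
        rw [MonoidHom.mem_ker, commutatorElement_def, map_mul, map_mul, map_mul, map_inv, map_inv, h8 x y,
          mul_inv_cancel_right, mul_inv_cancel]
      rw [h3] at h9
      exact MonoidHom.mem_ker.1 (h9 (Subgroup.mem_top g₀))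
  -- determinants
  have hdet : ∀ g, Matrix.GeneralLinearGroup.det (σ g) = 1 := fun g =>
    map_eq_one_of_perfect h3 ((Matrix.GeneralLinearGroup.det : Matrix.GeneralLinearGroup (Fin d) K →* Kˣ).comp σ) g
  -- the centre acts by scalars
  have hsc : ∀ z (hz : z ∈ π.ker), σ₀ z = χ ⟨z, hz⟩ • (1 : Module.End K W) := by
    intro z hz
    apply LinearMap.ext
    intro v
    apply Subtype.ext
    rw [hσ₀]
    have := mem_wt.1 v.2 ⟨z, hz⟩
    exact this
  have hpow : ∀ z ∈ π.ker, σ (z ^ d) = 1 := by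
    intro z hz
    have h6 : ((σ z : Matrix.GeneralLinearGroup (Fin d) K) : Matrix (Fin d) (Fin d) K) =
        χ ⟨z, hz⟩ • (1 : Matrix (Fin d) (Fin d) K) := by
      rw [hσ1, hsc z hz, map_smul, map_one]
    have h7 := congrArg (fun x : Kˣ => (x : K)) (hdet z)
    simp only [Units.val_one] at h7
    have h8 : (Matrix.GeneralLinearGroup.det (σ z) : K) = χ ⟨z, hz⟩ ^ d := by
      change Matrix.det ((σ z : Matrix.GeneralLinearGroup (Fin d) K) : Matrix (Fin d) (Fin d) K) = _
      rw [h6, Matrix.det_smul, Matrix.det_one, mul_one, Fintype.card_fin]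
    rw [h8] at h7
    apply Units.ext
    rw [map_pow, Units.val_pow_eq_pow_val, h6, smul_pow, one_pow, h7, one_smul, Units.val_one]
  have hd1 : d ≤ m := by
    have := Submodule.finrank_le W
    rwa [Module.finrank_fintype_fun_eq_card, Fintype.card_fin] at this
  have hd2 : 2 ≤ d := by
    by_contra hlt
    apply hg₀'
    have h9 : commutator P ≤ σ.ker := by
      rw [commutator_def, Subgroup.commutator_le]
      intro x _ y _
      rw [MonoidHom.mem_ker, commutatorElement_def, map_mul, map_mul, map_mul, map_inv, map_inv,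
        gl_comm (by omega) (σ x) (σ y), mul_inv_cancel_right, mul_inv_cancel]
    rw [h3] at h9
    exact MonoidHom.mem_ker.1 (h9 (Subgroup.mem_top g₀))
  refine ⟨K, inferInstance, hK, d, hd2, hd1, ?_⟩
  intro r hr hrd
  let π' : P ⧸ σ.ker →* T := QuotientGroup.lift σ.ker π (fun x hx => hker hx)
  have hπ' : ∀ x : P, π' (x : P ⧸ σ.ker) = π x := fun x => rfl
  refine ⟨P ⧸ σ.ker, inferInstance, π', QuotientGroup.kerLift σ, ?_, ?_, ?_, ?_⟩
  · intro t
    obtain ⟨x, rfl⟩ := h1 t
    exact ⟨(x : P ⧸ σ.ker), rfl⟩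
  · intro x
    induction x using QuotientGroup.induction_on with
    | H x =>
      intro hx y
      induction y using QuotientGroup.induction_on with
      | H y =>
        rw [hπ'] at hx
        rw [← QuotientGroup.mk_mul, ← QuotientGroup.mk_mul, hcen x hx y]
  · by_contra hcop
    have h6 : r ∣ Nat.card π'.ker := by
      by_contra h7
      exact hcop ((Nat.Prime.coprime_iff_not_dvd hr).2 h7).symm
    have : Fact r.Prime := ⟨hr⟩
    obtain ⟨z, hz⟩ := exists_prime_orderOf_dvd_card' r h6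
    obtain ⟨x, hx⟩ := QuotientGroup.mk_surjective (z : P ⧸ σ.ker)
    have hxk : x ∈ π.ker := by
      rw [MonoidHom.mem_ker, ← hπ', hx]
      exact z.2
    have h7 : z ^ d = 1 := by
      apply Subtype.ext
      rw [Subgroup.coe_pow, ← hx, Subgroup.coe_one, ← QuotientGroup.mk_pow, QuotientGroup.eq_one_iff]
      exact MonoidHom.mem_ker.2 (hpow x hxk)
    have h8 := orderOf_dvd_of_pow_eq_one h7
    rw [hz] at h8
    exact hrd h8
  · rw [(MonoidHom.ker_eq_bot_iff _).2 (QuotientGroup.kerLift_injective σ)]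
    exact bot_le

end Cfsg.Agent.H831.FineScalar
end

-- part: H831/FineBase
section
/-!
# Counting conjugacy classes (helper831, for S4881)
-/

set_option autoImplicit false

namespace Cfsg.Agent.H831.FineBase

universe u

open Cfsg.Agent.H698

theorem ncard_conjugatesOf {G : Type*} [Group G] (g : G) :
    (conjugatesOf g).ncard = (Subgroup.centralizer ({g} : Set G)).index := by
  rw [Subgroup.centralizer_eq_comap_stabilizer]
  refine Eq.symm ((Subgroup.index_comap_of_surjective (MulAction.stabilizer (ConjAct G) g)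
    (f := (ConjAct.toConjAct (G := G)).toMonoidHom) (MulEquiv.surjective _)).trans ?_)
  rw [MulAction.index_stabilizer, ConjAct.orbit_eq_carrier_conjClasses]
  rfl

theorem card_le_classes {G : Type*} [Group G] [Finite G] (s : Finset G)
    (h : ∀ a ∈ s, ∀ b ∈ s, IsConj a b → a = b) : s.card ≤ Nat.card (ConjClasses G) := by
  classical
  have : Fintype (ConjClasses G) := Fintype.ofFinite _
  rw [Nat.card_eq_fintype_card]
  rw [← Finset.card_image_of_injOn (f := ConjClasses.mk) (s := s)]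
  · exact Finset.card_le_univ _
  · intro a ha b hb hab
    exact h a ha b hb (ConjClasses.mk_eq_mk_iff_isConj.1 hab)

theorem orderOf_eq_of_isConj {G : Type*} [Group G] {a b : G} (h : IsConj a b) : orderOf a = orderOf b := by
  obtain ⟨c, rfl⟩ := isConj_iff.1 h
  exact (MulEquiv.orderOf_eq (MulAut.conj c) a).symm

theorem conj_injective {T : Type*} [Group T] (hc : Subgroup.center T = ⊥) :
    Function.Injective (MulAut.conj : T →* MulAut T) := by
  rw [injective_iff_map_eq_one]
  intro a ha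
  have h1 : a ∈ Subgroup.center T := by
    rw [Subgroup.mem_center_iff]
    intro x
    have h2 : a * x * a⁻¹ = x := DFunLike.congr_fun ha x
    calc x * a = (a * x * a⁻¹) * a := by rw [h2]
      _ = a * x := by group
  rwa [hc, Subgroup.mem_bot] at h1

theorem center_eq_bot {T : Type*} [Group T] [IsSimpleGroup T] (hna : ¬ IsMulCommutative T) :
    Subgroup.center T = ⊥ := by
  rcases (inferInstance : (Subgroup.center T).Normal).eq_bot_or_eq_top with h | h
  · exact h
  · exfalso
    apply hna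
    refine ⟨⟨fun a b => ?_⟩⟩
    have : b ∈ Subgroup.center T := by rw [h]; trivial
    exact Subgroup.mem_center_iff.1 this a

/-- a system of elements of `X` with distinct orders, from inner automorphisms -/
theorem exists_inner {T : Type u} [Group T] [Finite T] (hc : Subgroup.center T = ⊥) (L : Finset ℕ)
    (hL : ∀ n ∈ L, ∃ t : T, orderOf t = n) {X : Subgroup (MulAut T)}
    (hX : (MulAut.conj : T →* MulAut T).range ≤ X) :
    ∃ s : Finset X, s.card = L.card ∧ (∀ a ∈ s, (a : MulAut T) ∈ (MulAut.conj : T →* MulAut T).range) ∧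
      ∀ a ∈ s, ∀ b ∈ s, IsConj a b → a = b := by
  classical
  choose f hf using hL
  have key : ∀ (n : ℕ) (hn : n ∈ L), orderOf (⟨MulAut.conj (f n hn), hX ⟨_, rfl⟩⟩ : X) = n := by
    intro n hn
    rw [← Subgroup.orderOf_coe]
    change orderOf (MulAut.conj (f n hn)) = n
    rw [orderOf_injective _ (conj_injective hc), hf]
  refine ⟨L.attach.image fun n => (⟨MulAut.conj (f n.1 n.2), hX ⟨_, rfl⟩⟩ : X), ?_, ?_, ?_⟩
  · rw [Finset.card_image_of_injective, Finset.card_attach]
    intro a b hab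
    apply Subtype.ext
    rw [← key a.1 a.2, ← key b.1 b.2]
    exact congrArg orderOf hab
  · intro a ha
    obtain ⟨n, -, rfl⟩ := Finset.mem_image.1 ha
    exact ⟨_, rfl⟩
  · intro a ha b hb hab
    obtain ⟨n, -, rfl⟩ := Finset.mem_image.1 ha
    obtain ⟨m, -, rfl⟩ := Finset.mem_image.1 hb
    have h1 := orderOf_eq_of_isConj hab
    rw [key, key] at h1
    have h2 : n = m := Subtype.ext h1
    rw [h2]

theorem orders_le {T : Type u} [Group T] [Finite T] (hc : Subgroup.center T = ⊥) (L : Finset ℕ)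
    (hL : ∀ n ∈ L, ∃ t : T, orderOf t = n) {X : Subgroup (MulAut T)}
    (hX : (MulAut.conj : T →* MulAut T).range ≤ X) : L.card ≤ Nat.card (ConjClasses X) := by
  obtain ⟨s, hs, -, h⟩ := exists_inner hc L hL hX
  rw [← hs]
  exact card_le_classes s h

/-- the centraliser of an involution of a group of order divisible by four has order at least three -/
theorem two_lt_card_centralizer {G : Type*} [Group G] [Finite G] (h4 : 4 ∣ Nat.card G) {g : G} (hg : g ^ 2 = 1) :
    2 < Nat.card (Subgroup.centralizer ({g} : Set G)) := by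
  have : Fact (Nat.Prime 2) := ⟨Nat.prime_two⟩
  have hp : IsPGroup 2 (Subgroup.zpowers g) := by
    rintro ⟨x, i, rfl⟩
    refine ⟨1, Subtype.ext ?_⟩
    change (g ^ i) ^ 2 ^ 1 = 1
    rw [pow_one, ← zpow_natCast, ← zpow_mul, mul_comm, zpow_mul, zpow_natCast, hg, one_zpow]
  obtain ⟨S, hS⟩ := hp.exists_le_sylow
  have hgS : g ∈ S := hS (Subgroup.mem_zpowers g)
  have hS4 : 4 ≤ Nat.card S := by
    have h1 : 2 ^ 2 ∣ Nat.card S := S.pow_dvd_card_of_pow_dvd_card h4
    exact Nat.le_of_dvd Nat.card_pos h1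
  have hnt : Nontrivial S := Finite.one_lt_card_iff_nontrivial.1 (by omega)
  have hZ := S.isPGroup'.center_nontrivial
  by_contra hle
  push Not at hle
  by_cases hgZ : (⟨g, hgS⟩ : S) ∈ Subgroup.center S
  · have h1 : (S : Subgroup G) ≤ Subgroup.centralizer ({g} : Set G) := by
      intro x hx
      rw [Subgroup.mem_centralizer_singleton_iff]
      exact congrArg Subtype.val (Subgroup.mem_center_iff.1 hgZ ⟨x, hx⟩)
    have h2 := Subgroup.card_le_of_le h1
    change Nat.card S ≤ _ at h2
    omega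
  · obtain ⟨⟨⟨z, hzS⟩, hz⟩, hz1⟩ := exists_ne (1 : Subgroup.center S)
    have hz1' : z ≠ 1 := by
      rintro rfl
      exact hz1 (Subtype.ext (Subtype.ext rfl))
    have hzg : z * g = g * z := (congrArg Subtype.val (Subgroup.mem_center_iff.1 hz ⟨g, hgS⟩)).symm
    have hg1 : g ≠ 1 := by
      rintro rfl
      exact hgZ (by
        rw [show (⟨1, hgS⟩ : S) = 1 from rfl]
        exact one_mem _)
    have hne : z ≠ g := by
      rintro rfl
      exact hgZ hz
    classical
    have h1 : (({1, z, g} : Finset G) : Set G) ⊆ (Subgroup.centralizer ({g} : Set G) : Set G) := by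
      intro x hx
      simp only [Finset.coe_insert, Finset.coe_singleton, Set.mem_insert_iff, Set.mem_singleton_iff] at hx
      rw [SetLike.mem_coe, Subgroup.mem_centralizer_singleton_iff]
      rcases hx with rfl | rfl | rfl
      · rw [one_mul, mul_one]
      · exact hzg
      · rfl
    have h2 := Set.ncard_le_ncard h1 (Set.toFinite _)
    rw [Set.ncard_coe_finset] at h2
    have h3 : ({1, z, g} : Finset G).card = 3 := by
      rw [Finset.card_insert_of_notMem, Finset.card_insert_of_notMem, Finset.card_singleton]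
      · simpa using hne
      · simp only [Finset.mem_insert, Finset.mem_singleton, not_or]
        exact ⟨fun h => hz1' h.symm, fun h => hg1 h.symm⟩
    have h4 : (Subgroup.centralizer ({g} : Set G) : Set G).ncard = Nat.card (Subgroup.centralizer ({g} : Set G)) := rfl
    omega

/-- the complement of a subgroup of index two is not a single class if four divides the order -/
theorem exists_outer {G : Type*} [Group G] [Finite G] (h4 : 4 ∣ Nat.card G) {N : Subgroup G} (hN : N.index = 2) :
    ∃ a b : G, a ∉ N ∧ b ∉ N ∧ ¬ IsConj a b := by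
  by_contra hcon
  push Not at hcon
  have hn : N.Normal := Subgroup.normal_of_index_eq_two hN
  obtain ⟨g, hg⟩ : ∃ g : G, g ∉ N := by
    by_contra h
    push Not at h
    have : N = ⊤ := eq_top_iff.2 fun x _ => h x
    rw [this, Subgroup.index_top] at hN
    omega
  have h1 : (conjugatesOf g) = (N : Set G)ᶜ := by
    ext x
    constructor
    · intro hx hxN
      obtain ⟨c, rfl⟩ := isConj_iff.1 (show IsConj g x from hx)
      apply hg
      have := hn.conj_mem _ hxN c⁻¹
      have h2 : c⁻¹ * (c * g * c⁻¹) * c⁻¹⁻¹ = g := by group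
      rwa [h2] at this
    · intro hx
      exact hcon g x hg hx
  have h2 : Nat.card G = (conjugatesOf g).ncard * Nat.card (Subgroup.centralizer ({g} : Set G)) := by
    rw [ncard_conjugatesOf, mul_comm]
    exact (Subgroup.card_mul_index _).symm
  have h3 : ((N : Set G)ᶜ).ncard + (N : Set G).ncard = Nat.card G := by
    rw [add_comm]; exact Set.ncard_add_ncard_compl _
  have h4' : (N : Set G).ncard * 2 = Nat.card G := by
    rw [← hN]
    exact N.card_mul_index
  rw [← h1] at h3
  have h5 : 0 < Nat.card G := Nat.card_pos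
  have h6 : Nat.card (Subgroup.centralizer ({g} : Set G)) = 2 := by
    have h7 : (conjugatesOf g).ncard * 2 = (conjugatesOf g).ncard * Nat.card (Subgroup.centralizer ({g} : Set G)) := by
      omega
    exact (Nat.eq_of_mul_eq_mul_left (by omega) h7).symm
  have h7 : g ^ 2 = 1 := by
    have hgC : g ∈ Subgroup.centralizer ({g} : Set G) := by
      rw [Subgroup.mem_centralizer_singleton_iff]
    have := pow_card_eq_one' (x := (⟨g, hgC⟩ : Subgroup.centralizer ({g} : Set G)))
    rw [h6] at this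
    exact congrArg Subtype.val this
  have := two_lt_card_centralizer h4 h7
  omega

end Cfsg.Agent.H831.FineBase
end

-- part: H831/FineUnit
section
/-!
# The unitary rows of the condition `Fine` : tools (helper831, for S4881)
-/

set_option autoImplicit false

namespace Cfsg.Agent.H831.FineUnit

universe u

open Cfsg.Agent.H698 Cfsg.Agent.H831.FineBase
open Cfsg.Agent.H674.SUBlock Cfsg.Agent.H674.Explicit Cfsg.Agent.H674.SUTools
open Cfsg.Agent.LieClassical Cfsg.Agent.H92

theorem numeric {A B d k p m : ℕ} (hk : 1 ≤ k) (hd : d + 1 ≤ m) (hB : A < B ^ d)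
    (hsmall : ∀ p < B, 11 ≤ p → (p + 1 - 2 * k) * A + 1 < p ^ (d + 1)) (hp : 11 ≤ p) :
    (p + 1 - 2 * k) * A + 1 < p ^ m := by
  have h1 : p ^ (d + 1) ≤ p ^ m := Nat.pow_le_pow_right (by omega) hd
  rcases Nat.lt_or_ge p B with h2 | h2
  · exact (hsmall p h2 hp).trans_le h1
  · have h3 : A + 1 ≤ p ^ d := hB.trans_le (Nat.pow_le_pow_left h2 d)
    have h4 : (A + 1) * p ≤ p ^ (d + 1) := by
      rw [pow_succ]; exact Nat.mul_le_mul_right _ h3
    have h5 : (p + 1 - 2 * k) * A ≤ p * A := Nat.mul_le_mul_right _ (by omega)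
    have h6 : (A + 1) * p = p * A + p := by ring
    omega

theorem not_comm_of_card {T : Type*} [Group T] [IsSimpleGroup T] (h : ¬ (Nat.card T).Prime) :
    ¬ IsMulCommutative T := by
  intro hc
  let _ : CommGroup T := { (inferInstance : Group T) with mul_comm := hc.is_comm.comm }
  exact h IsSimpleGroup.prime_card

/-- an explicit element of `PSU` -/
theorem exists_ord {K : Type} [Field K] [DecidableEq K] [Fintype K] {n q : ℕ} [NeZero n]
    (hF : Fintype.card K = q ^ 2) (hn : 3 ≤ n) {M : Matrix (Fin n) (Fin n) K} (h : good q M = true) {N : ℕ}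
    (hN : 0 < N) (h1 : isSc (M ^ N) = true) (h2 : ∀ k < N, 0 < k → isSc (M ^ k) = false) :
    ∃ t : Cfsg.PSU n K q, orderOf t = N := by
  obtain ⟨x, hx⟩ := exists_of_good hF h
  have key : ∀ k : ℕ, (pr x : Cfsg.PSU n K q) ^ k = 1 ↔ isSc (M ^ k) = true := by
    intro k
    rw [← map_pow, pr_eq_one_iff, isSc_iff, ← hx, ← map_pow]
    constructor
    · intro h3
      obtain ⟨c, hcn, hcq, h4⟩ := (SUBasic.mem_center_SU_iff hF hn _).1 h3
      refine ⟨c, ?_⟩
      rw [h4]
      change Matrix.diagonal (fun _ => c) = _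
      rw [Matrix.smul_one_eq_diagonal]
    · rintro ⟨c, hc⟩
      rw [Subgroup.mem_center_iff]
      intro g
      apply cm_injective
      rw [map_mul, map_mul, hc, mul_smul_comm, smul_mul_assoc, mul_one, one_mul]
  refine ⟨pr x, ?_⟩
  rw [orderOf_eq_iff hN]
  refine ⟨(key N).2 h1, fun k hk hk0 h3 => ?_⟩
  have h4 := (key k).1 h3
  rw [h2 k hk hk0] at h4
  exact absurd h4 (by decide)

/-- `SU_n(q) = PSU_n(q)` if the centre is trivial -/
theorem nonempty_su_psu {F : Type} [Field F] [Fintype F] {q n : ℕ} (hF : Fintype.card F = q ^ 2) (hn : 3 ≤ n)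
    (hg : Nat.gcd n (q + 1) = 1) : Nonempty (Cfsg.SU n F q ≃* Cfsg.PSU n F q) := by
  refine ⟨MulEquiv.ofBijective (pr : Cfsg.SU n F q →* Cfsg.PSU n F q) ⟨?_, pr_surjective⟩⟩
  rw [injective_iff_map_eq_one]
  intro x hx
  rw [pr_eq_one_iff] at hx
  have h1 := Cfsg.Agent.S0279.result hF n hn
  rw [hg] at h1
  rw [(Subgroup.card_eq_one).1 h1, Subgroup.mem_bot] at hx
  exact hx

theorem le_of_sub {T : Type u} [Group T] [Finite T] {F : Type} [Field F] [Fintype F] {q n k r p m : ℕ}
    (hr : r.Prime) [CharP F r] (hF : Fintype.card F = q ^ 2) (hn : 3 ≤ n) (hk : 0 < k)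
    (hg : Nat.gcd n (q + 1) = 1) (h32 : ¬ (n = 3 ∧ q = 2))
    (hexc : (n, q) ∉ ({(4, 2), (4, 3), (6, 2)} : Set (ℕ × ℕ))) (hrS : r ∣ Nat.card (Cfsg.PSU n F q))
    (hnp : ¬ (Nat.card (Cfsg.PSU n F q)).Prime)
    (e : T ≃* Cfsg.PSU (n + k) F q) (hp : p.Prime) (hpT : ¬ p ∣ Nat.card T) (h : Rep.{u, u} p m T) :
    (q - 1) * q ^ (n - 2) ≤ m := by
  obtain ⟨ε⟩ := nonempty_su_psu hF hn hg
  let f : Cfsg.SU n F q →* T := e.symm.toMonoidHom.comp ((pr : Cfsg.SU (n + k) F q →* _).comp (ext hF k))
  have hf : Function.Injective f := e.symm.injective.comp (pr_ext_injective hF (by omega) hk)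
  let E : f.range ≃* Cfsg.PSU n F q := (MonoidHom.ofInjective hf).symm.trans ε
  have hs : IsSimpleGroup (Cfsg.PSU n F q) := Cfsg.Agent.S0283.result hF n hn h32
  have hs' : IsSimpleGroup f.range := MulEquiv.isSimpleGroup E
  have hM : Cfsg.HasSchurMultiplier f.range (Multiplicative (ZMod (Nat.gcd n (q + 1)))) :=
    Cfsg.Agent.H487.HasSchurMultiplier.congr_left
      (Cfsg.Agent.S2089.result n q hF hn h32 hexc) E.symm
  have hcard : Nat.card f.range = Nat.card (Cfsg.PSU n F q) := Nat.card_congr E.toEquiv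
  have hna : ¬ IsMulCommutative f.range := not_comm_of_card (by rwa [hcard])
  have h1 := h.sub hna f.range.subtype (Subgroup.subtype_injective _)
  refine Rep.le_of_Bd (r := r) hp hr (by rw [hcard]; exact hrS) ?_ h1 hM ?_ ?_
  · intro h2
    exact hpT (h2.trans (Subgroup.card_subgroup_dvd_card _))
  · rw [hg]
    have : Nat.card (Multiplicative (ZMod 1)) = 1 := by
      rw [Nat.card_congr Multiplicative.toAdd, Nat.card_zmod]
    rw [this]
    exact Nat.coprime_one_left r
  · intro K _ hrK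
    exact Cfsg.Agent.H175.BdSU.bd_psu hr hF hn hrK E

end Cfsg.Agent.H831.FineUnit
end

-- part: H656/LSF4two
section
/-!
# Lower bounds for the degrees of the projective representations of `F₄(2)`

`ls` : `LS 2 15 (chevF4.group F)`, `|F| = 2`, arbitrary centres (a Frobenius group `2⁴:15`).
`ls_of_sixteen` : the same for all groups containing such a Frobenius group.
-/

set_option autoImplicit false

universe u v w

namespace Cfsg.Agent.H656.LSF4two

open Cfsg.Agent.H203.LS

/-! ### The field of order 16 -/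

/-- a field with 16 elements -/
abbrev K16 := GaloisField 2 4

instance factTwo : Fact (Nat.Prime 2) := ⟨Nat.prime_two⟩

noncomputable instance fintypeK : Fintype K16 := Fintype.ofFinite _

theorem card_K : Fintype.card K16 = 16 := by
  rw [← Nat.card_eq_fintype_card, GaloisField.card 2 4 (by norm_num)]; norm_num

theorem two_eq : (2 : K16) = 0 := by
  have := CharP.cast_eq_zero K16 2
  exact_mod_cast this

theorem exists_root : ∃ u : K16, u ^ 4 = u + 1 := by
  classical
  by_contra h
  push Not at h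
  have h2 := two_eq
  let g : Polynomial K16 := Polynomial.X ^ 12 + (Polynomial.X ^ 9 + (Polynomial.X ^ 8 + (Polynomial.X ^ 6 +
    (Polynomial.X ^ 4 + (Polynomial.X ^ 3 + (Polynomial.X ^ 2 + Polynomial.X))))))
  have hg : ∀ a : K16, g.eval a = 0 := by
    intro a
    have h16 : a ^ 16 = a := by
      have := FiniteField.pow_card a
      rwa [card_K] at this
    have h3 : (a ^ 4 + a + 1) * (a ^ 12 + (a ^ 9 + (a ^ 8 + (a ^ 6 + (a ^ 4 + (a ^ 3 + (a ^ 2 + a))))))) = 0 := by
      linear_combination h16 + (a + a ^ 5 + a ^ 6 + a ^ 7 + a ^ 8 + a ^ 10 + a ^ 12 + a ^ 13 + a ^ 2 + a ^ 3 + a ^ 4 +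
        a ^ 9) * h2
    have h4 : a ^ 4 + a + 1 ≠ 0 := by
      intro h5
      apply h a
      linear_combination h5 - (a + 1) * h2
    have h5 := (mul_eq_zero.1 h3).resolve_left h4
    simp only [g, Polynomial.eval_add, Polynomial.eval_pow, Polynomial.eval_X]
    exact h5
  have hdeg : g.natDegree = 12 := by
    simp only [g]
    compute_degree!
  have hg0 : g ≠ 0 := by
    intro h0
    rw [h0, Polynomial.natDegree_zero] at hdeg
    exact absurd hdeg (by norm_num)
  have h3 : Fintype.card K16 ≤ g.roots.toFinset.card := by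
    rw [← Finset.card_univ]
    refine Finset.card_le_card fun t _ => ?_
    rw [Multiset.mem_toFinset, Polynomial.mem_roots hg0]
    exact hg t
  have h4 := (h3.trans (Multiset.toFinset_card_le _)).trans (Polynomial.card_roots' _)
  rw [hdeg, card_K] at h4
  omega

theorem orderOf_root {u : K16} (hu : u ^ 4 = u + 1) : orderOf u = 15 := by
  have h2 := two_eq
  have hu0 : u ≠ 0 := by
    rintro rfl
    simp at hu
  refine orderOf_eq_of_pow_and_pow_div_prime (by norm_num) ?_ ?_
  · have := FiniteField.pow_card_sub_one_eq_one u hu0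
    rwa [card_K] at this
  · intro p hp hd h
    have h3 : p = 3 ∨ p = 5 := by
      have h4 : p ∣ 3 * 5 := hd
      rcases hp.dvd_mul.1 h4 with h5 | h5
      · exact Or.inl ((Nat.prime_dvd_prime_iff_eq hp Nat.prime_three).1 h5)
      · exact Or.inr ((Nat.prime_dvd_prime_iff_eq hp (by norm_num)).1 h5)
    rcases h3 with rfl | rfl
    · have h5 : u ^ 5 = 1 := h
      have h6 : u ^ 2 + u = 1 := by linear_combination h5 - u * hu
      have h7 : u ^ 4 = u ^ 2 + 1 := by linear_combination (u ^ 2 + 1 - u) * h6 - u * h2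
      have h8 : u ^ 2 = u := by linear_combination hu - h7
      have h9 : (1 : K16) = 0 := by linear_combination h8 - h6 + u * h2
      exact one_ne_zero h9
    · have h5 : u ^ 3 = 1 := h
      have h9 : (1 : K16) = 0 := by linear_combination u * h5 - hu
      exact one_ne_zero h9

/-! ### Coordinates -/

/-- the companion matrix of `X ^ 4 + X + 1` -/
def C4 (a : Fin 4 → ZMod 2) : Fin 4 → ZMod 2 := ![a 3, a 0 + a 3, a 1, a 2]

/-- the first basis vector -/
def e0 : Fin 4 → ZMod 2 := ![1, 0, 0, 0]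

theorem C4_trans : ∀ a : Fin 4 → ZMod 2, a ≠ 0 → ∃ k : Fin 15, a = C4^[k] e0 := by decide +kernel

/-- the coordinates with respect to the powers of `u` -/
noncomputable def Lu (u : K16) : (Fin 4 → ZMod 2) →+ K16 where
  toFun a := ∑ i : Fin 4, algebraMap (ZMod 2) K16 (a i) * u ^ (i : ℕ)
  map_zero' := by simp
  map_add' a b := by
    rw [← Finset.sum_add_distrib]
    refine Finset.sum_congr rfl fun i _ => ?_
    rw [Pi.add_apply, map_add, add_mul]

theorem Lu_apply (u : K16) (a : Fin 4 → ZMod 2) : Lu u a = algebraMap (ZMod 2) K16 (a 0) +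
    algebraMap (ZMod 2) K16 (a 1) * u + algebraMap (ZMod 2) K16 (a 2) * u ^ 2 +
    algebraMap (ZMod 2) K16 (a 3) * u ^ 3 := by
  change ∑ i : Fin 4, algebraMap (ZMod 2) K16 (a i) * u ^ (i : ℕ) = _
  rw [Fin.sum_univ_four]
  simp

theorem Lu_C4 {u : K16} (hu : u ^ 4 = u + 1) (a : Fin 4 → ZMod 2) : Lu u (C4 a) = u * Lu u a := by
  rw [Lu_apply, Lu_apply]
  simp only [C4, Matrix.cons_val_zero, Matrix.cons_val_one, Matrix.cons_val_two, Matrix.cons_val_three,
    Matrix.head_cons, Matrix.tail_cons, map_add]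
  linear_combination -(algebraMap (ZMod 2) K16 (a 3)) * hu

theorem Lu_injective {u : K16} (hu : u ^ 4 = u + 1) : Function.Injective (Lu u) := by
  rw [injective_iff_map_eq_zero]
  intro a ha
  by_contra h
  obtain ⟨k, hk⟩ := C4_trans a h
  have h1 : ∀ n : ℕ, Lu u (C4^[n] e0) = u ^ n := by
    intro n
    induction n with
    | zero =>
      rw [Function.iterate_zero, id, Lu_apply, pow_zero]
      simp [e0]
    | succ n ih => rw [Function.iterate_succ_apply', Lu_C4 hu, ih, pow_succ']
  rw [hk, h1] at ha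
  have h2 := eq_zero_of_pow_eq_zero ha
  rw [h2] at hu
  simp at hu

theorem Lu_bijective {u : K16} (hu : u ^ 4 = u + 1) : Function.Bijective (Lu u) := by
  rw [Fintype.bijective_iff_injective_and_card]
  refine ⟨Lu_injective hu, ?_⟩
  rw [card_K, Fintype.card_fun, ZMod.card, Fintype.card_fin]
  norm_num

/-- **The bound 15** for simple groups with an elementary abelian group of order 16 and an element acting on it as a
companion matrix of `X ^ 4 + X + 1`. -/
theorem ls_of_sixteen {T : Type u} [Group T] [IsSimpleGroup T] (β : (Fin 4 → ZMod 2) → T)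
    (hβ : ∀ x y, β (x + y) = β x * β y) (c : T) (hc : ∀ a, c * β a * c⁻¹ = β (C4 a)) {a₀ : Fin 4 → ZMod 2}
    (h0 : β a₀ ≠ 1) : LS.{u, v, w} 2 15 T := by
  obtain ⟨u, hu⟩ := exists_root
  let L : (Fin 4 → ZMod 2) ≃+ K16 := AddEquiv.ofBijective (Lu u) (Lu_bijective hu)
  have hL : ∀ x, L.symm (u * x) = C4 (L.symm x) := by
    intro x
    apply L.injective
    rw [AddEquiv.apply_symm_apply]
    change _ = Lu u (C4 (L.symm x))
    rw [Lu_C4 hu]
    change _ = u * L (L.symm x)
    rw [AddEquiv.apply_symm_apply]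
  have h := LS.frob'.{u, v, w} (r := 2) (K := K16) (u := u) (Or.inl ?_) ?_ (T := T) (α := fun x => β (L.symm x))
    (fun x y => by rw [map_add, hβ]) (x₀ := L a₀) (by rw [AddEquiv.symm_apply_apply]; exact h0) (c := c)
    (fun x => by rw [hc, hL])
  · rwa [orderOf_root hu] at h
  · rw [Nat.card_eq_fintype_card, card_K, orderOf_root hu]; norm_num
  · intro q0 hq
    rw [Nat.card_eq_fintype_card, card_K] at hq
    rw [orderOf_root hu]
    have : q0 < 5 := by
      by_contra h5
      have : 25 ≤ q0 ^ 2 := by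
        calc 25 = 5 ^ 2 := by norm_num
          _ ≤ q0 ^ 2 := Nat.pow_le_pow_left (by omega) 2
      omega
    omega

/-! ### The group `F₄(2)` -/

open Cfsg.Lie Cfsg.Lie.ChevalleyDatum Cfsg.Agent.ChevalleyStructure Cfsg.Agent.ChevalleyStructure.Elts
open Cfsg.Agent.Omega.TwoF.ChevHeis (xK xK_add xK_zero xK_word)

theorem hF : InList chevF4 := by simp [InList]

/-- the roots on the right side of the commutator formula with odd coefficients -/
def oddT (r s : ℕ) : List ℕ := ((chevF4.commTerms r s).filter fun c => c.2.1 % 2 != 0).map fun c => c.1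

section

variable {F : Type w} [Field F]

/-- the root elements with parameter one -/
def X (F : Type w) [Field F] (r : ℕ) : chevF4.group F := xK hF r (1 : F)

theorem X_mul_self (h2 : (2 : F) = 0) (r : ℕ) : X F r * X F r = 1 := by
  rw [X, ← xK_add, one_add_one_eq_two, h2, xK_zero]

theorem word_eq (h2 : (2 : F) = 0) : ∀ l : List (ℕ × ℤ × ℕ × ℕ),
    (⟨wordG hF (l.map fun c => (c.1, (c.2.1 : F) * (-1) ^ c.2.2.1 * 1 ^ c.2.2.2)), wordG_mem_group hF _⟩ :
      chevF4.group F) = (((l.filter fun c => c.2.1 % 2 != 0).map fun c => c.1).map (X F)).prod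
  | [] => rfl
  | c :: l => by
    have ih := word_eq h2 l
    have h1 : (-1 : F) = 1 := by linear_combination -h2
    have e : (⟨wordG hF ((c :: l).map fun c => (c.1, (c.2.1 : F) * (-1) ^ c.2.2.1 * 1 ^ c.2.2.2)), wordG_mem_group hF _⟩ :
        chevF4.group F) = xK hF c.1 (c.2.1 : F) *
          ⟨wordG hF (l.map fun c => (c.1, (c.2.1 : F) * (-1) ^ c.2.2.1 * 1 ^ c.2.2.2)), wordG_mem_group hF _⟩ := by
      apply Subtype.ext
      change wordG hF _ = xG hF c.1 (c.2.1 : F) * wordG hF _
      rw [List.map_cons, wordG_cons]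
      congr 2
      rw [h1, one_pow, one_pow, mul_one, mul_one]
    rw [e, ih]
    by_cases hc : c.2.1 % 2 = 0
    · have h3 : (c.2.1 : F) = 0 := by
        obtain ⟨d, hd⟩ := Int.dvd_of_emod_eq_zero hc
        rw [hd, Int.cast_mul]
        have : ((2 : ℤ) : F) = 0 := by rw [Int.cast_ofNat]; exact h2
        rw [this, zero_mul]
      rw [h3, xK_zero, one_mul, List.filter_cons_of_neg (by simp [hc])]
    · have h3 : (c.2.1 : F) = 1 := by
        obtain ⟨d, hd⟩ : ∃ d, c.2.1 = 2 * d + 1 := ⟨c.2.1 / 2, by omega⟩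
        rw [hd, Int.cast_add, Int.cast_mul, Int.cast_one]
        have : ((2 : ℤ) : F) = 0 := by rw [Int.cast_ofNat]; exact h2
        rw [this, zero_mul, zero_add]
      rw [h3, List.filter_cons_of_pos (by simp [hc]), List.map_cons, List.map_cons, List.prod_cons]
      rfl

theorem X_rel (h2 : (2 : F) = 0) {r s : ℕ} (hr : r < 48) (hs : s < 48) (hrs : s ≠ r) (hneg : s ≠ chevF4.neg r) :
    X F s * X F r = X F r * X F s * ((oddT r s).map (X F)).prod := by
  have h := xK_word hF (F := F) hr hs hrs hneg 1 1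
  have e : (⟨wordG hF (chevF4.commWord F r s 1 1), wordG_mem_group hF _⟩ : chevF4.group F) =
      ((oddT r s).map (X F)).prod := word_eq h2 _
  rw [e] at h
  exact h

/-- the ten roots -/
def rr : Fin 10 → ℕ := ![27, 28, 29, 44, 30, 31, 45, 32, 46, 47]

theorem rr_comm : ∀ i j : Fin 10, i ≠ j → rr j ≠ rr i ∧ rr j ≠ chevF4.neg (rr i) ∧ oddT (rr i) (rr j) = [] := by
  decide +kernel

theorem rr_lt : ∀ i : Fin 10, rr i < 48 := by decide

theorem X_comm (h2 : (2 : F) = 0) (i j : Fin 10) : Commute (X F (rr i)) (X F (rr j)) := by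
  rcases eq_or_ne i j with rfl | hij
  · exact Commute.refl _
  obtain ⟨h1, h3, h4⟩ := rr_comm i j hij
  have h := X_rel h2 (rr_lt i) (rr_lt j) h1 h3
  rw [h4, List.map_nil, List.prod_nil, mul_one] at h
  exact h.symm

/-- the generator of the group of order two -/
abbrev gg : Multiplicative (ZMod 2) := Multiplicative.ofAdd 1

theorem cases_two (x : Multiplicative (ZMod 2)) : x = 1 ∨ x = gg := by
  revert x; decide

/-- the homomorphism onto a group of order two -/
def ph (h2 : (2 : F) = 0) (i : Fin 10) : Multiplicative (ZMod 2) →* chevF4.group F where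
  toFun x := if x = 1 then 1 else X F (rr i)
  map_one' := by simp
  map_mul' x y := by
    rcases cases_two x with rfl | rfl <;> rcases cases_two y with rfl | rfl
    · simp
    · simp
    · simp
    · have h1 : gg * gg = 1 := by decide
      have h3 : gg ≠ 1 := by decide
      rw [h1, if_pos rfl, if_neg h3, X_mul_self h2]

theorem gg_ne : gg ≠ 1 := by decide

theorem ph_gg (h2 : (2 : F) = 0) (i : Fin 10) : ph h2 i gg = X F (rr i) := by
  change (if gg = 1 then (1 : chevF4.group F) else X F (rr i)) = X F (rr i)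
  rw [if_neg gg_ne]

theorem ph_comm (h2 : (2 : F) = 0) : Pairwise fun i j : Fin 10 => ∀ x y, Commute (ph h2 i x) (ph h2 j y) := by
  intro i j _ x y
  rcases cases_two x with rfl | rfl
  · rw [map_one]; exact Commute.one_left _
  rcases cases_two y with rfl | rfl
  · rw [map_one]; exact Commute.one_right _
  rw [ph_gg, ph_gg]
  exact X_comm h2 i j

/-- the elementary abelian group of order `2 ^ 10` -/
def Ps (h2 : (2 : F) = 0) : (Fin 10 → Multiplicative (ZMod 2)) →* chevF4.group F :=
  MonoidHom.noncommPiCoprod (ph h2) (ph_comm h2)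

theorem Ps_single (h2 : (2 : F) = 0) (i : Fin 10) : Ps h2 (Pi.mulSingle i gg) = X F (rr i) := by
  rw [Ps, MonoidHom.noncommPiCoprod_mulSingle, ph_gg]

/-- the standard vectors -/
def es (i : Fin 10) : Fin 10 → Multiplicative (ZMod 2) := fun j => if j = i then gg else 1

theorem es_eq (i : Fin 10) : es i = Pi.mulSingle i gg := by
  funext j
  rw [es, Pi.mulSingle_apply]

theorem Ps_es (h2 : (2 : F) = 0) (i : Fin 10) : Ps h2 (es i) = X F (rr i) := by
  rw [es_eq, Ps_single]

/-- a linear map -/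
def Mb (B : Fin 10 → Fin 10 → Bool) : (Fin 10 → Multiplicative (ZMod 2)) →* (Fin 10 → Multiplicative (ZMod 2)) where
  toFun v j := v j * ∏ k : Fin 10, if B j k then v k else 1
  map_one' := by
    funext j
    simp
  map_mul' v w := by
    funext j
    have e : ∀ k : Fin 10, (if B j k then (v * w) k else 1) = (if B j k then v k else 1) * (if B j k then w k else 1) := by
      intro k
      split
      · rfl
      · rw [mul_one]
    rw [Finset.prod_congr rfl fun k _ => e k, Finset.prod_mul_distrib]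
    exact mul_mul_mul_comm _ _ _ _

/-- the nontrivial columns of the matrices of the four root elements -/
def tb : Fin 4 → Fin 10 → List (Fin 10) :=
  ![![[], [0, 4], [], [], [], [], [], [5], [6], []],
    ![[2, 5], [], [], [], [7], [], [9], [], [], []],
    ![[], [], [3, 9], [], [], [6], [], [8], [], []],
    ![[], [], [], [1, 8], [], [], [4], [], [], [7]]]

/-- the four roots -/
def al4 : Fin 4 → ℕ := ![22, 26, 41, 5]

/-- the matrix of a root element -/
def Bt (t : Fin 4) (j k : Fin 10) : Bool := (tb t k).contains j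

/-- the action of a root element -/
def Mh (t : Fin 4) : (Fin 10 → Multiplicative (ZMod 2)) →* (Fin 10 → Multiplicative (ZMod 2)) := Mb (Bt t)

theorem al4_lt : ∀ t : Fin 4, al4 t < 48 := by decide

theorem tb_check : ∀ t : Fin 4, ∀ k : Fin 10, al4 t ≠ rr k ∧ al4 t ≠ chevF4.neg (rr k) ∧
    oddT (rr k) (al4 t) = (tb t k).map rr := by
  decide +kernel

theorem tb_comm : ∀ t : Fin 4, ∀ k : Fin 10, ∀ j ∈ tb t k, al4 t ≠ rr j ∧ al4 t ≠ chevF4.neg (rr j) ∧
    oddT (rr j) (al4 t) = [] := by
  decide +kernel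

theorem Mh_es : ∀ t : Fin 4, ∀ k : Fin 10, ∀ j : Fin 10, Mh t (es k) j = (es k * ((tb t k).map es).prod) j := by
  decide +kernel

theorem list_Ps (h2 : (2 : F) = 0) : ∀ l : List (Fin 10), Ps h2 (l.map es).prod = (l.map fun j => X F (rr j)).prod
  | [] => by rw [List.map_nil, List.map_nil, List.prod_nil, List.prod_nil, map_one]
  | a :: l => by rw [List.map_cons, List.map_cons, List.prod_cons, List.prod_cons, map_mul, Ps_es, list_Ps h2 l]

theorem map_oddT (t : Fin 4) (k : Fin 10) :
    ((oddT (rr k) (al4 t)).map (X F)).prod = ((tb t k).map fun j => X F (rr j)).prod := by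
  rw [(tb_check t k).2.2, List.map_map]
  rfl

theorem comm_list (h2 : (2 : F) = 0) (t : Fin 4) (k : Fin 10) :
    X F (al4 t) * ((tb t k).map fun j => X F (rr j)).prod = ((tb t k).map fun j => X F (rr j)).prod * X F (al4 t) := by
  refine Commute.list_prod_right _ _ fun y hy => ?_
  obtain ⟨j, hj, rfl⟩ := List.mem_map.1 hy
  obtain ⟨a1, a2, a4⟩ := tb_comm t k j hj
  have h := X_rel (F := F) h2 (rr_lt j) (al4_lt t) a1 a2
  rw [a4, List.map_nil, List.prod_nil, mul_one] at h
  exact h

theorem conj_es (h2 : (2 : F) = 0) (t : Fin 4) (k : Fin 10) :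
    X F (al4 t) * Ps h2 (es k) * (X F (al4 t))⁻¹ = Ps h2 (Mh t (es k)) := by
  obtain ⟨h1, h3, -⟩ := tb_check t k
  have h5 : Mh t (es k) = es k * ((tb t k).map es).prod := funext (Mh_es t k)
  have h6 := X_rel (F := F) h2 (rr_lt k) (al4_lt t) h1 h3
  have h7 : Ps h2 (es k * ((tb t k).map es).prod) = X F (rr k) * ((tb t k).map fun j => X F (rr j)).prod := by
    rw [map_mul, Ps_es, list_Ps]
  rw [h5, h7, Ps_es, h6, map_oddT, mul_assoc (X F (rr k)), comm_list h2]
  group

theorem conj_Ps (h2 : (2 : F) = 0) (t : Fin 4) (v : Fin 10 → Multiplicative (ZMod 2)) :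
    X F (al4 t) * Ps h2 v * (X F (al4 t))⁻¹ = Ps h2 (Mh t v) := by
  have h : (MulAut.conj (X F (al4 t))).toMonoidHom.comp (Ps h2) = (Ps h2).comp (Mh t) := by
    refine MonoidHom.pi_ext fun k x => ?_
    rcases cases_two x with rfl | rfl
    · rw [Pi.mulSingle_one, map_one, map_one]
    · rw [← es_eq]
      exact conj_es h2 t k
  exact DFunLike.congr_fun h v

/-- the columns -/
def cols (i : Fin 4) (j : Fin 10) : Multiplicative (ZMod 2) :=
  if ((![0b1000110, 0b11101111, 0b1000010001, 0b1101110101] : Fin 4 → ℕ) i).testBit j then gg else 1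

/-- the embedding of `2 ^ 4` -/
def Nn (a : Fin 4 → ZMod 2) : Fin 10 → Multiplicative (ZMod 2) :=
  fun j => ∏ i : Fin 4, if a i = 0 then 1 else cols i j

theorem Nn_add : ∀ a b : Fin 4 → ZMod 2, ∀ j : Fin 10, Nn (a + b) j = Nn a j * Nn b j := by
  have h : ∀ x y : ZMod 2, ∀ c : Multiplicative (ZMod 2),
      (if x + y = 0 then 1 else c) = (if x = 0 then 1 else c) * (if y = 0 then 1 else c) := by decide +kernel
  intro a b j
  exact (Finset.prod_congr rfl fun i _ => h (a i) (b i) (cols i j)).trans Finset.prod_mul_distrib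

theorem Nn_C4 : ∀ a : Fin 4 → ZMod 2, ∀ j : Fin 10, Mh 0 (Mh 1 (Mh 2 (Mh 3 (Nn a)))) j = Nn (C4 a) j := by
  have hc : ∀ i : Fin 4, ∀ j : Fin 10, Mh 0 (Mh 1 (Mh 2 (Mh 3 (cols i)))) j = Nn (C4 (Pi.single i 1)) j := by
    decide +kernel
  have h2 : ∀ a : Fin 4 → ZMod 2, ∀ j : Fin 10,
      (∏ i : Fin 4, if a i = 0 then 1 else Nn (C4 (Pi.single i 1)) j) = Nn (C4 a) j := by decide +kernel
  intro a j
  have e : Nn a = ∏ i : Fin 4, if a i = 0 then 1 else cols i := funext fun j => by
    rw [Finset.prod_apply]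
    refine Finset.prod_congr rfl fun i _ => ?_
    split <;> rfl
  rw [← h2, e, map_prod, map_prod, map_prod, map_prod, Finset.prod_apply]
  refine Finset.prod_congr rfl fun i _ => ?_
  split
  · rw [map_one, map_one, map_one, map_one]
    rfl
  · exact hc i j

theorem Nn_e0 : ∀ j : Fin 10, Mh 1 (Nn e0) j = Nn e0 j * es 9 j := by decide +kernel

theorem X_ne_one {r : ℕ} (hr : r < 48) : X F r ≠ 1 := by
  intro h
  have h1 : xG (F := F) hF r 1 = xG hF r 0 := by
    have h2 := congrArg Subtype.val h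
    rw [xG_zero]
    exact h2
  exact one_ne_zero (xG_injective hF (r := r) hr h1)

theorem Ps_e0 (h2 : (2 : F) = 0) : Ps h2 (Nn e0) ≠ 1 := by
  intro h
  have h3 := conj_Ps h2 1 (Nn e0)
  have h4 : Mh 1 (Nn e0) = Nn e0 * es 9 := funext Nn_e0
  rw [h4, map_mul, h, mul_one, mul_inv_cancel, one_mul, Ps_es] at h3
  exact X_ne_one (by decide) h3.symm

end

/-- **The bound 15 for `F₄(2)`** -/
theorem ls {F : Type w} [Field F] (hc : Nat.card F = 2) : LS.{w, u, v} 2 15 (chevF4.group F) := by
  have hfin : Finite F := Nat.finite_of_card_ne_zero (by omega)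
  have h2 : (2 : F) = 0 := by
    have := Fintype.ofFinite F
    have h := Nat.cast_card_eq_zero F
    rw [← Nat.card_eq_fintype_card, hc] at h
    exact_mod_cast h
  have hs := (Cfsg.Agent.S1054.result (F := F) chevF4 (by simp)).1
  refine ls_of_sixteen (fun a => Ps h2 (Nn a)) ?_ (X F (al4 0) * X F (al4 1) * X F (al4 2) * X F (al4 3)) ?_ (Ps_e0 h2)
  · intro x y
    have h : Nn (x + y) = Nn x * Nn y := funext (Nn_add x y)
    change Ps h2 (Nn (x + y)) = _
    rw [h, map_mul]
  · intro a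
    have h : Mh 0 (Mh 1 (Mh 2 (Mh 3 (Nn a)))) = Nn (C4 a) := funext (Nn_C4 a)
    change _ = Ps h2 (Nn (C4 a))
    rw [← h, ← conj_Ps, ← conj_Ps, ← conj_Ps, ← conj_Ps]
    group

end Cfsg.Agent.H656.LSF4two
end

private theorem dce_e56e891c4f66 : _root_.True := by
  try have : _root_.True := by simp only [_root_.Cfsg.Agent.H656.LSF4two.Ps.congr_simp]
  try have : _root_.True := by simp only [_root_.Cfsg.Agent.H656.LSF4two.Ps.eq_1]
  try have : _root_.True := by simp only [_root_.Cfsg.Agent.H656.LSF4two.C4.eq_1]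
  try have : _root_.True := by simp only [_root_.Cfsg.Agent.H656.LSF4two.e0.eq_1]
  try have : _root_.True := by simp only [_root_.Cfsg.Agent.H656.LSF4two.es.eq_1]
  try have : _root_.True := by simp only [_root_.Cfsg.Agent.H656.LSF4two.X.eq_1]
  exact _root_.True.intro
end

-- part: H698/Idem
section
set_option linter.all false
open scoped Cfsg.Agent.FastGrp

-- part: H698/Orb
section
/-!
# Groups with at most two orbits on the nonzero elements of an elementary abelian group
-/

set_option autoImplicit false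

namespace Cfsg.Agent.H698.Orb

universe u v

variable {D : Type v} {E : Type u} [Group D] [AddCommGroup E] [DistribMulAction D E]

/-- At most two orbits on the nonzero elements. -/
def TwoOrb (D : Type v) (E : Type u) [Group D] [AddCommGroup E] [DistribMulAction D E] : Prop :=
  ∃ x y : E, ∀ e : E, e ≠ 0 → (∃ d : D, d • x = e) ∨ (∃ d : D, d • y = e)

/-- Three nonzero elements cannot be separated. -/
theorem TwoOrb.three (h : TwoOrb D E) {α : Type*} (f : E → α) (hf : ∀ (d : D) (e : E), f (d • e) = f e) {a b c : E}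
    (ha : a ≠ 0) (hb : b ≠ 0) (hc : c ≠ 0) : f a = f b ∨ f a = f c ∨ f b = f c := by
  obtain ⟨x, y, hxy⟩ := h
  have key : ∀ e : E, e ≠ 0 → f e = f x ∨ f e = f y := by
    intro e he
    rcases hxy e he with ⟨d, rfl⟩ | ⟨d, rfl⟩
    · exact Or.inl (hf d x)
    · exact Or.inr (hf d y)
  rcases key a ha with h1 | h1 <;> rcases key b hb with h2 | h2 <;> rcases key c hc with h3 | h3 <;>
    simp [h1, h2, h3]

/-- Two nonzero elements in different orbits: every nonzero element is in one of them. -/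
theorem TwoOrb.cover (h : TwoOrb D E) {s t : E} (hs : s ≠ 0) (ht : t ≠ 0) (hst : ∀ d : D, d • s ≠ t) {e : E}
    (he : e ≠ 0) : (∃ d : D, d • s = e) ∨ (∃ d : D, d • t = e) := by
  rcases h.three (fun e => MulAction.orbit D e) (fun d e => by rw [MulAction.orbit_smul]) hs ht he with h1 | h1 | h1
  · exfalso
    have h2 : t ∈ MulAction.orbit D s := by rw [h1]; exact MulAction.mem_orbit_self t
    obtain ⟨d, hd⟩ := h2
    exact hst d hd
  · left
    have h2 : e ∈ MulAction.orbit D s := by rw [h1]; exact MulAction.mem_orbit_self e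
    exact h2
  · right
    have h2 : e ∈ MulAction.orbit D t := by rw [h1]; exact MulAction.mem_orbit_self e
    exact h2

theorem smul_ne {d : D} {e : E} (he : e ≠ 0) : d • e ≠ 0 := fun h => he ((smul_eq_zero_iff_eq d).1 h)

/-- An invariant nonempty set of nonzero elements has size prime to `p`. -/
theorem TwoOrb.not_dvd [Finite D] [Finite E] [Nontrivial E] (h : TwoOrb D E) {p : ℕ} (hp : p.Prime)
    (hpE : ∀ e : E, p • e = 0) (hcop : ¬ p ∣ Nat.card D) (S : Set E) (hS : ∀ (d : D), ∀ e ∈ S, d • e ∈ S)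
    (h0 : (0 : E) ∉ S) (hne : S.Nonempty) : ¬ p ∣ S.ncard := by
  obtain ⟨s, hs⟩ := hne
  have hs0 : s ≠ 0 := fun h => h0 (h ▸ hs)
  by_cases hO : S ⊆ MulAction.orbit D s
  · have h1 : S = MulAction.orbit D s := by
      refine Set.Subset.antisymm hO ?_
      rintro _ ⟨d, rfl⟩
      exact hS d s hs
    rw [h1, ← MulAction.index_stabilizer]
    intro h2
    exact hcop (h2.trans (Subgroup.index_dvd_card _))
  · obtain ⟨t, htS, ht⟩ := Set.not_subset.1 hO
    have ht0 : t ≠ 0 := fun h => h0 (h ▸ htS)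
    have h1 : S = {(0 : E)}ᶜ := by
      ext e
      rw [Set.mem_compl_iff, Set.mem_singleton_iff]
      constructor
      · rintro he rfl
        exact h0 he
      · intro he
        rcases h.cover hs0 ht0 (fun d hd => ht ⟨d, hd⟩) he with ⟨d, rfl⟩ | ⟨d, rfl⟩
        · exact hS d s hs
        · exact hS d t htS
    rw [h1, Set.ncard_compl, Set.ncard_singleton]
    have h2 : p ∣ Nat.card E := by
      obtain ⟨v, hv⟩ := exists_ne (0 : E)
      have h3 : addOrderOf v = p := by
        rcases (Nat.dvd_prime hp).1 (addOrderOf_dvd_of_nsmul_eq_zero (hpE v)) with h4 | h4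
        · exact absurd (AddMonoid.addOrderOf_eq_one_iff.1 h4) hv
        · exact h4
      rw [← h3]
      exact addOrderOf_dvd_natCard v
    intro h3
    have h4 : 0 < Nat.card E := Nat.card_pos
    have h5 : p ∣ 1 := by
      have h6 := Nat.dvd_sub h2 h3
      rwa [Nat.sub_sub_self h4] at h6
    exact hp.one_lt.ne' (Nat.dvd_one.1 h5)

/-- Invariance under a subgroup. -/
def Inv (N : Subgroup D) (W : AddSubgroup E) : Prop := ∀ n ∈ N, ∀ w ∈ W, n • w ∈ W

/-- **Maschke.** -/
theorem exists_compl [Finite D] {p : ℕ} (hp : p.Prime) (hpE : ∀ e : E, p • e = 0) (hcop : ¬ p ∣ Nat.card D)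
    (N : Subgroup D) (W : AddSubgroup E) (hW : Inv N W) : ∃ W' : AddSubgroup E, Inv N W' ∧ IsCompl W W' := by
  have : Fact p.Prime := ⟨hp⟩
  let _ : Module (ZMod p) E := AddCommGroup.zmodModule (n := p) hpE
  let φ : N →* (E →ₗ[ZMod p] E) :=
    { toFun := fun g => AddMonoidHom.toZModLinearMap p (DistribMulAction.toAddMonoidEnd D E (g : D))
      map_one' := by
        refine LinearMap.ext fun v => ?_
        exact one_smul D v
      map_mul' := fun g g' => by
        refine LinearMap.ext fun v => ?_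
        exact mul_smul (g : D) (g' : D) v }
  have hφ : ∀ (g : N) (e : E), φ g e = (g : D) • e := fun _ _ => rfl
  let e := AddSubgroup.toZModSubmodule p (M := E)
  obtain ⟨W', h1, h2⟩ := Cfsg.Agent.GpLn.Rank.exists_compl φ (by
    rw [Ne, ZMod.natCast_eq_zero_iff]
    exact fun h => hcop (h.trans (Subgroup.card_subgroup_dvd_card N))) (e W) (fun g w hw => hW g g.2 w hw)
  refine ⟨W'.toAddSubgroup, fun n hn w hw => h1 ⟨n, hn⟩ w hw, ?_⟩
  have h3 := (OrderIso.isCompl_iff e.symm).1 h2
  rwa [OrderIso.symm_apply_apply] at h3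

/-- Irreducibility. -/
theorem TwoOrb.eq_bot_or_top [Finite D] (h : TwoOrb D E) {p : ℕ} (hp : p.Prime)
    (hpE : ∀ e : E, p • e = 0) (hcop : ¬ p ∣ Nat.card D) (W : AddSubgroup E) (hW : Inv (⊤ : Subgroup D) W) :
    W = ⊥ ∨ W = ⊤ := by
  by_contra hcon
  rw [not_or] at hcon
  obtain ⟨W', hW', hc⟩ := exists_compl hp hpE hcop ⊤ W hW
  obtain ⟨⟨a, ha⟩, ha0⟩ := AddSubgroup.ne_bot_iff_exists_ne_zero.1 hcon.1
  have hW'b : W' ≠ ⊥ := by
    rintro rfl
    exact hcon.2 (by have := hc.sup_eq_top; rwa [sup_bot_eq] at this)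
  obtain ⟨⟨b, hb⟩, hb0⟩ := AddSubgroup.ne_bot_iff_exists_ne_zero.1 hW'b
  have ha0' : a ≠ 0 := fun h => ha0 (Subtype.ext h)
  have hb0' : b ≠ 0 := fun h => hb0 (Subtype.ext h)
  have hdisj : ∀ {x : E}, x ∈ W → x ∈ W' → x = 0 := AddSubgroup.disjoint_def.1 hc.disjoint
  have hbW : b ∉ W := fun h => hb0' (hdisj h hb)
  have haW' : a ∉ W' := fun h => ha0' (hdisj ha h)
  have hab : a + b ≠ 0 := by
    intro h
    apply haW'
    rw [eq_neg_of_add_eq_zero_left h]
    exact W'.neg_mem hb
  have habW : a + b ∉ W := fun h => hbW (by simpa using W.sub_mem h ha)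
  have habW' : a + b ∉ W' := fun h => haW' (by simpa using W'.sub_mem h hb)
  have hinv : ∀ (V : AddSubgroup E), Inv (⊤ : Subgroup D) V → ∀ (d : D) (e : E), d • e ∈ V ↔ e ∈ V := by
    intro V hV d e
    constructor
    · intro h
      have := hV d⁻¹ trivial _ h
      rwa [inv_smul_smul] at this
    · exact hV d trivial e
  rcases h.three (fun e => (e ∈ W, e ∈ W')) (fun d e => by
    rw [Prod.mk.injEq]
    exact ⟨propext (hinv W hW d e), propext (hinv W' hW' d e)⟩) ha0' hb0' hab with h1 | h1 | h1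
  · rw [Prod.mk.injEq] at h1
    exact hbW (h1.1 ▸ ha)
  · rw [Prod.mk.injEq] at h1
    exact habW (h1.1 ▸ ha)
  · rw [Prod.mk.injEq] at h1
    exact habW' (h1.2 ▸ hb)

end Cfsg.Agent.H698.Orb
end

-- part: H698/Idem
section
/-!
# Systems of imprimitivity from idempotents
-/

set_option autoImplicit false

namespace Cfsg.Agent.H698.Idem

open Cfsg.Agent.H717.FieldOf Cfsg.Agent.H698.Orb

universe u v

variable {D : Type v} {E : Type u} [Group D] [AddCommGroup E] [DistribMulAction D E]

/-- A decomposition into two parts permuted by the group. -/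
def Imprim (D : Type v) (E : Type u) [Group D] [AddCommGroup E] [DistribMulAction D E] : Prop :=
  ∃ E₁ E₂ : AddSubgroup E, IsCompl E₁ E₂ ∧ E₁ ≠ ⊥ ∧ E₂ ≠ ⊥ ∧
    ∀ d : D, ((∀ e ∈ E₁, d • e ∈ E₁) ∧ (∀ e ∈ E₂, d • e ∈ E₂)) ∨ ((∀ e ∈ E₁, d • e ∈ E₂) ∧ (∀ e ∈ E₂, d • e ∈ E₁))

/-- The range of an endomorphism. -/
def rg (e : AddMonoid.End E) : AddSubgroup E where
  carrier := {x | ∃ y : E, e y = x}
  zero_mem' := ⟨0, map_zero e⟩
  add_mem' := by
    rintro _ _ ⟨a, rfl⟩ ⟨b, rfl⟩
    exact ⟨a + b, map_add e a b⟩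
  neg_mem' := by
    rintro _ ⟨a, rfl⟩
    exact ⟨-a, map_neg e a⟩

theorem cj_apply' (d : D) (r : AddMonoid.End E) (v : E) : cj E d r v = d • r (d⁻¹ • v) := rfl

theorem cj_smul (d : D) (r : AddMonoid.End E) (v : E) : cj E d r (d • v) = d • r v := by
  rw [cj_apply', inv_smul_smul]

theorem cj_injective (d : D) : Function.Injective (cj E d) := by
  intro a b h
  have h1 := congrArg (cj E d⁻¹) h
  rwa [← cj_mul, ← cj_mul, inv_mul_cancel, cj_one, cj_one] at h1

theorem card_range_cj [Finite E] (d : D) (e : AddMonoid.End E) :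
    Nat.card (rg (cj E d e)) = Nat.card (rg e) := by
  have h1 : ∀ x ∈ rg (cj E d e), d⁻¹ • x ∈ rg e := by
    rintro _ ⟨y, rfl⟩
    exact ⟨d⁻¹ • y, by rw [cj_apply', inv_smul_smul]⟩
  have h2 : ∀ x ∈ rg e, d • x ∈ rg (cj E d e) := by
    rintro _ ⟨y, rfl⟩
    exact ⟨d • y, by rw [cj_smul]⟩
  exact Nat.card_congr
    { toFun := fun x => ⟨d⁻¹ • (x : E), h1 x x.2⟩
      invFun := fun x => ⟨d • (x : E), h2 x x.2⟩
      left_inv := fun x => Subtype.ext (smul_inv_smul d (x : E))
      right_inv := fun x => Subtype.ext (inv_smul_smul d (x : E)) }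

/-- **Idempotents in a commutative normalised set give a system of imprimitivity with two blocks.** -/
theorem imprim_of_idem [Finite D] [Finite E] (h2 : TwoOrb D E) {p : ℕ} (hp : p.Prime) (hpE : ∀ e : E, p • e = 0)
    (hcop : ¬ p ∣ Nat.card D) (B : Set (AddMonoid.End E)) (hBc : ∀ a ∈ B, ∀ b ∈ B, a * b = b * a)
    (hBm : ∀ a ∈ B, ∀ b ∈ B, a * b ∈ B) (hBd : ∀ (d : D), ∀ b ∈ B, cj E d b ∈ B) {e₀ : AddMonoid.End E}
    (he₀ : e₀ ∈ B) (hi₀ : e₀ * e₀ = e₀) (h0 : e₀ ≠ 0) (h1 : e₀ ≠ 1) : Imprim D E := by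
  classical
  have hfin : Finite (AddMonoid.End E) := finite_end
  -- a minimal idempotent
  let P : AddMonoid.End E → Prop := fun e => e ∈ B ∧ e * e = e ∧ e ≠ 0
  have hex : ∃ n : ℕ, ∃ e, P e ∧ Nat.card (rg e) = n := ⟨_, e₀, ⟨he₀, hi₀, h0⟩, rfl⟩
  obtain ⟨e, ⟨heB, hei, he0⟩, hen⟩ := Nat.find_spec hex
  have hmin : ∀ g, P g → Nat.card (rg e) ≤ Nat.card (rg g) := by
    intro g hg
    rw [hen]
    exact Nat.find_min' hex ⟨g, hg, rfl⟩
  have hrange1 : ∀ g : AddMonoid.End E, g * g = g → g ≠ 1 → Nat.card (rg g) < Nat.card E := by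
    intro g hg hg1
    rw [← AddSubgroup.card_top (G := E)]
    apply lt_of_le_of_ne (AddSubgroup.card_le_of_le le_top)
    intro h
    have h3 : rg g = ⊤ := AddSubgroup.eq_top_of_card_eq _ (by rw [h, AddSubgroup.card_top])
    apply hg1
    refine AddMonoidHom.ext fun v => ?_
    have h4 : v ∈ rg g := by rw [h3]; trivial
    obtain ⟨w, rfl⟩ := h4
    exact DFunLike.congr_fun hg w
  have he1 : e ≠ 1 := by
    rintro rfl
    have h3 := hmin e₀ ⟨he₀, hi₀, h0⟩
    have h4 := hrange1 e₀ hi₀ h1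
    have h5 : Nat.card (rg (1 : AddMonoid.End E)) = Nat.card E := by
      rw [show rg (1 : AddMonoid.End E) = ⊤ from by rw [eq_top_iff]; exact fun v _ => ⟨v, rfl⟩,
        AddSubgroup.card_top]
    omega
  -- conjugates
  let X : Set (AddMonoid.End E) := Set.range fun d : D => cj E d e
  have hXfin : X.Finite := Set.toFinite X
  have hXP : ∀ g ∈ X, g ∈ B ∧ g * g = g ∧ g ≠ 0 ∧ Nat.card (rg g) = Nat.card (rg e) := by
    rintro _ ⟨d, rfl⟩
    refine ⟨hBd d e heB, by rw [← map_mul, hei], fun h => he0 (cj_injective d (h.trans (map_zero (cj E d)).symm)), card_range_cj d e⟩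
  have hXd : ∀ (d : D), ∀ g ∈ X, cj E d g ∈ X := by
    rintro d _ ⟨c, rfl⟩
    exact ⟨d * c, cj_mul d c e⟩
  have horth : ∀ g ∈ X, ∀ k ∈ X, g ≠ k → g * k = 0 := by
    intro g hg k hk hne
    by_contra hcon
    obtain ⟨gB, gi, g0, gc⟩ := hXP g hg
    obtain ⟨kB, ki, k0, kc⟩ := hXP k hk
    have hc := hBc g gB k kB
    have hPgk : P (g * k) := by
      refine ⟨hBm g gB k kB, ?_, hcon⟩
      calc g * k * (g * k) = g * (k * g) * k := by simp only [mul_assoc]
        _ = g * (g * k) * k := by rw [← hc]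
        _ = (g * g) * (k * k) := by simp only [mul_assoc]
        _ = g * k := by rw [gi, ki]
    have h3 := hmin _ hPgk
    have hsub1 : rg (g * k) ≤ rg g := by
      rintro _ ⟨v, rfl⟩
      exact ⟨k v, rfl⟩
    have hsub2 : rg (g * k) ≤ rg k := by
      rw [hc]
      rintro _ ⟨v, rfl⟩
      exact ⟨g v, rfl⟩
    have e1 : rg (g * k) = rg g :=
      AddSubgroup.eq_of_le_of_card_ge hsub1 (by rw [gc]; exact h3)
    have e2 : rg (g * k) = rg k :=
      AddSubgroup.eq_of_le_of_card_ge hsub2 (by rw [kc]; exact h3)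
    have e3 : rg g = rg k := e1.symm.trans e2
    apply hne
    have e4 : g * k = k := by
      refine AddMonoidHom.ext fun v => ?_
      have h4 : k v ∈ rg g := by rw [e3]; exact ⟨v, rfl⟩
      obtain ⟨w, hw⟩ := h4
      change g (k v) = k v
      rw [← hw]
      exact DFunLike.congr_fun gi w
    have e5 : k * g = g := by
      refine AddMonoidHom.ext fun v => ?_
      have h4 : g v ∈ rg k := by rw [← e3]; exact ⟨v, rfl⟩
      obtain ⟨w, hw⟩ := h4
      change k (g v) = g v
      rw [← hw]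
      exact DFunLike.congr_fun ki w
    rw [← e5, ← hc, e4]
  have horth' : ∀ g ∈ X, ∀ k ∈ X, g ≠ k → ∀ v, g (k v) = 0 := fun g hg k hk hne v =>
    DFunLike.congr_fun (horth g hg k hk hne) v
  have hidem' : ∀ g ∈ X, ∀ v, g (g v) = g v := fun g hg v => DFunLike.congr_fun (hXP g hg).2.1 v
  -- vectors
  have hvec : ∀ g ∈ X, ∃ v : E, g v = v ∧ v ≠ 0 := by
    intro g hg
    obtain ⟨w, hw⟩ : ∃ w, g w ≠ 0 := by
      by_contra hcon
      push Not at hcon
      exact (hXP g hg).2.2.1 (AddMonoidHom.ext hcon)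
    exact ⟨g w, hidem' g hg w, hw⟩
  let f : E → ℕ := fun v => {g ∈ X | g v ≠ 0}.ncard
  have hf : ∀ (d : D) (v : E), f (d • v) = f v := by
    intro d v
    have h3 : {g ∈ X | g (d • v) ≠ 0} = (cj E d) '' {g ∈ X | g v ≠ 0} := by
      ext g
      constructor
      · rintro ⟨hg, hgv⟩
        refine ⟨cj E d⁻¹ g, ⟨hXd d⁻¹ g hg, ?_⟩, by rw [← cj_mul, mul_inv_cancel, cj_one]⟩
        rw [cj_apply', inv_inv]
        exact smul_ne hgv
      · rintro ⟨k, ⟨hk, hkv⟩, rfl⟩
        refine ⟨hXd d k hk, ?_⟩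
        rw [cj_smul]
        exact smul_ne hkv
    change Set.ncard _ = Set.ncard _
    rw [h3, Set.ncard_image_of_injective _ (cj_injective d)]
  have heX : e ∈ X := ⟨1, cj_one e⟩
  -- at most two conjugates
  have hX2 : ∀ g ∈ X, ∀ k ∈ X, g ≠ e → k ≠ e → g = k := by
    intro g hg k hk hge hke
    by_contra hgk
    obtain ⟨a, ha, ha0⟩ := hvec e heX
    obtain ⟨b, hb, hb0⟩ := hvec g hg
    obtain ⟨c, hc, hc0⟩ := hvec k hk
    have eb : e b = 0 := by rw [← hb]; exact horth' e heX g hg hge.symm b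
    have ec : e c = 0 := by rw [← hc]; exact horth' e heX k hk hke.symm c
    have ga : g a = 0 := by rw [← ha]; exact horth' g hg e heX hge a
    have gc : g c = 0 := by rw [← hc]; exact horth' g hg k hk hgk c
    have ka : k a = 0 := by rw [← ha]; exact horth' k hk e heX hke a
    have kb : k b = 0 := by rw [← hb]; exact horth' k hk g hg (Ne.symm hgk) b
    have hle : ∀ (l : AddMonoid.End E), l ∈ X → l ≠ e → l ≠ g → l ≠ k → l a = 0 ∧ l b = 0 ∧ l c = 0 := by
      intro l hl h3 h4 h5
      refine ⟨?_, ?_, ?_⟩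
      · rw [← ha]; exact horth' l hl e heX h3 a
      · rw [← hb]; exact horth' l hl g hg h4 b
      · rw [← hc]; exact horth' l hl k hk h5 c
    have s1 : {l ∈ X | l a ≠ 0} = {e} := by
      ext l
      rw [Set.mem_singleton_iff]
      constructor
      · rintro ⟨hl, hla⟩
        by_contra hne
        apply hla
        rw [← ha]
        exact horth' l hl e heX hne a
      · rintro rfl
        exact ⟨heX, by rwa [ha]⟩
    have s2 : {l ∈ X | l (a + b) ≠ 0} = {e, g} := by
      ext l
      rw [Set.mem_insert_iff, Set.mem_singleton_iff]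
      constructor
      · rintro ⟨hl, hla⟩
        by_contra hne
        rw [not_or] at hne
        apply hla
        rw [map_add, ← ha, ← hb, horth' l hl e heX hne.1, horth' l hl g hg hne.2, add_zero]
      · rintro (rfl | rfl)
        · exact ⟨heX, by rw [map_add, ha, eb, add_zero]; exact ha0⟩
        · exact ⟨hg, by rw [map_add, ga, hb, zero_add]; exact hb0⟩
    have s3 : {l ∈ X | l (a + b + c) ≠ 0} = {e, g, k} := by
      ext l
      rw [Set.mem_insert_iff, Set.mem_insert_iff, Set.mem_singleton_iff]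
      constructor
      · rintro ⟨hl, hla⟩
        by_contra hne
        rw [not_or, not_or] at hne
        apply hla
        rw [map_add, map_add, ← ha, ← hb, ← hc, horth' l hl e heX hne.1, horth' l hl g hg hne.2.1,
          horth' l hl k hk hne.2.2, add_zero, add_zero]
      · rintro (rfl | rfl | rfl)
        · exact ⟨heX, by rw [map_add, map_add, ha, eb, ec, add_zero, add_zero]; exact ha0⟩
        · exact ⟨hg, by rw [map_add, map_add, ga, hb, gc, zero_add, add_zero]; exact hb0⟩
        · exact ⟨hk, by rw [map_add, map_add, ka, kb, hc, zero_add, zero_add]; exact hc0⟩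
    have n1 : f a = 1 := by change Set.ncard _ = 1; rw [s1, Set.ncard_singleton]
    have n2 : f (a + b) = 2 := by
      change Set.ncard _ = 2
      rw [s2, Set.ncard_pair (Ne.symm hge)]
    have n3 : f (a + b + c) = 3 := by
      change Set.ncard _ = 3
      rw [s3, Set.ncard_insert_of_notMem, Set.ncard_pair hgk]
      rw [Set.mem_insert_iff, Set.mem_singleton_iff, not_or]
      exact ⟨Ne.symm hge, Ne.symm hke⟩
    have hab : a + b ≠ 0 := by
      intro h
      have : f (a + b) = f 0 := by rw [h]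
      have h5 : f 0 = 0 := by
        change Set.ncard _ = 0
        rw [Set.ncard_eq_zero]
        ext l
        simp
      omega
    have habc : a + b + c ≠ 0 := by
      intro h
      have : f (a + b + c) = f 0 := by rw [h]
      have h5 : f 0 = 0 := by
        change Set.ncard _ = 0
        rw [Set.ncard_eq_zero]
        ext l
        simp
      omega
    rcases h2.three f hf ha0 hab habc with h | h | h <;> omega
  -- the range of `e` is not invariant
  obtain ⟨g, hg, hge⟩ : ∃ g ∈ X, g ≠ e := by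
    by_contra hcon
    push Not at hcon
    have hinv : Inv (⊤ : Subgroup D) (rg e) := by
      rintro d - _ ⟨w, rfl⟩
      refine ⟨d • w, ?_⟩
      have h3 : cj E d e = e := hcon _ ⟨d, rfl⟩
      rw [← h3, cj_smul, h3]
    rcases h2.eq_bot_or_top hp hpE hcop _ hinv with h3 | h3
    · apply he0
      refine AddMonoidHom.ext fun v => ?_
      have h4 : e v ∈ rg e := ⟨v, rfl⟩
      rw [h3] at h4
      exact h4
    · apply he1
      refine AddMonoidHom.ext fun v => ?_
      have h4 : v ∈ rg e := by rw [h3]; trivial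
      obtain ⟨w, rfl⟩ := h4
      exact hidem' e heX w
  have hXeg : ∀ k ∈ X, k = e ∨ k = g := by
    intro k hk
    by_cases h3 : k = e
    · exact Or.inl h3
    · exact Or.inr (hX2 k hk g hg h3 hge)
  have hperm : ∀ d : D, (cj E d e = e ∧ cj E d g = g) ∨ (cj E d e = g ∧ cj E d g = e) := by
    intro d
    rcases hXeg _ (hXd d e heX) with h3 | h3 <;> rcases hXeg _ (hXd d g hg) with h4 | h4
    · exfalso
      exact hge (cj_injective d (h4.trans h3.symm))
    · exact Or.inl ⟨h3, h4⟩
    · exact Or.inr ⟨h3, h4⟩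
    · exfalso
      exact hge (cj_injective d (h4.trans h3.symm))
  have eg : ∀ v, e (g v) = 0 := horth' e heX g hg (Ne.symm hge)
  have ge : ∀ v, g (e v) = 0 := horth' g hg e heX hge
  refine ⟨rg e, rg g, ?_, ?_, ?_, ?_⟩
  · rw [isCompl_iff]
    constructor
    · rw [AddSubgroup.disjoint_def]
      rintro x ⟨a, rfl⟩ ⟨b, hb⟩
      rw [← hidem' e heX a, ← hb, eg]
    · rw [codisjoint_iff]
      have hinv : Inv (⊤ : Subgroup D) (rg e ⊔ rg g) := by
        rintro d - w hw
        obtain ⟨_, ⟨a, rfl⟩, _, ⟨b, rfl⟩, rfl⟩ := AddSubgroup.mem_sup.1 hw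
        rw [smul_add, ← cj_smul, ← cj_smul]
        rcases hperm d with ⟨h3, h4⟩ | ⟨h3, h4⟩
        · rw [h3, h4]
          exact AddSubgroup.mem_sup.2 ⟨_, ⟨_, rfl⟩, _, ⟨_, rfl⟩, rfl⟩
        · rw [h3, h4, add_comm]
          exact AddSubgroup.mem_sup.2 ⟨_, ⟨_, rfl⟩, _, ⟨_, rfl⟩, rfl⟩
      rcases h2.eq_bot_or_top hp hpE hcop _ hinv with h3 | h3
      · exfalso
        obtain ⟨a, ha, ha0⟩ := hvec e heX
        have h4 : a ∈ rg e ⊔ rg g := AddSubgroup.mem_sup_left ⟨a, ha⟩
        rw [h3] at h4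
        exact ha0 h4
      · exact h3
  · intro h
    obtain ⟨a, ha, ha0⟩ := hvec e heX
    have h4 : a ∈ rg e := ⟨a, ha⟩
    rw [h] at h4
    exact ha0 h4
  · intro h
    obtain ⟨a, ha, ha0⟩ := hvec g hg
    have h4 : a ∈ rg g := ⟨a, ha⟩
    rw [h] at h4
    exact ha0 h4
  · intro d
    rcases hperm d with ⟨h3, h4⟩ | ⟨h3, h4⟩
    · left
      constructor
      · rintro _ ⟨w, rfl⟩
        rw [← cj_smul, h3]
        exact ⟨_, rfl⟩
      · rintro _ ⟨w, rfl⟩
        rw [← cj_smul, h4]
        exact ⟨_, rfl⟩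
    · right
      constructor
      · rintro _ ⟨w, rfl⟩
        rw [← cj_smul, h3]
        exact ⟨_, rfl⟩
      · rintro _ ⟨w, rfl⟩
        rw [← cj_smul, h4]
        exact ⟨_, rfl⟩

end Cfsg.Agent.H698.Idem
end
end

-- part: H698/Dich_mg
section
prune_inst 0xf53003407440000000180510b2201c4660000502004b000058c00d06090f56602043a6014a802d1412820081080400000000001000000000000004000001012010aa5004b2180d04200006803083180c00000000000000000000000000041000000000000
set_option linter.all false
open scoped Cfsg.Agent.FastGrp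

-- part: H698/Env
section
/-!
# Enveloping rings: pure vectors

For an isotypic module over a subring of the endomorphism ring, the number of generators of a non-simple cyclic
submodule is divisible by `p`.
-/

set_option autoImplicit false

namespace Cfsg.Agent.H698.Env

open Cfsg.Agent.H717.FieldOf Cfsg.Agent.H698.Orb Submodule

universe u v

/-! ### Generators of a cyclic module -/

section Gen

variable {R : Type*} {M : Type*} [Ring R] [AddCommGroup M] [Module R M]

/-- A nilpotent endomorphism moves the generators. -/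
theorem dvd_card_gen [Finite M] {p : ℕ} (hp : p.Prime) (hpM : ∀ m : M, p • m = 0) (U : Submodule R M)
    (ψ : U →ₗ[R] U) (h2 : ∀ x, ψ (ψ x) = 0) (h0 : ψ ≠ 0) : p ∣ {w : M | span R {w} = U}.ncard := by
  classical
  have : Fact p.Prime := ⟨hp⟩
  let S : Set M := {w : M | span R {w} = U}
  have hmem : ∀ w : S, (w : M) ∈ U := fun w => by
    have h : span R {(w : M)} = U := w.2
    rw [← h]
    exact mem_span_singleton_self (w : M)
  have hk : ∀ (w : S) (y : M), y = (w : M) + ψ ⟨w, hmem w⟩ → y ∈ S := by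
    rintro w _ rfl
    have hw : span R {(w : M)} = U := w.2
    change span R {(w : M) + ψ ⟨w, hmem w⟩} = U
    apply le_antisymm
    · rw [span_singleton_le_iff_mem]
      exact U.add_mem (hmem w) (ψ _).2
    · have h3 : (ψ ⟨w, hmem w⟩ : M) ∈ span R {(w : M) + ψ ⟨w, hmem w⟩} := by
        have h4 : ((ψ ⟨w, hmem w⟩ : U) : M) ∈ span R {(w : M)} := by rw [hw]; exact (ψ _).2
        obtain ⟨r, hr⟩ := mem_span_singleton.1 h4
        rw [mem_span_singleton]
        refine ⟨r, ?_⟩
        have h5 : (r • ψ ⟨w, hmem w⟩ : U) = 0 := by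
          rw [← map_smul]
          have h6 : (r • (⟨w, hmem w⟩ : U)) = ψ ⟨w, hmem w⟩ := Subtype.ext hr
          rw [h6]
          exact h2 _
        have h7 : r • ((ψ ⟨w, hmem w⟩ : U) : M) = 0 := congrArg Subtype.val h5
        rw [smul_add, h7, add_zero, hr]
      have h5 : (w : M) ∈ span R {(w : M) + ψ ⟨w, hmem w⟩} := by
        have := sub_mem (mem_span_singleton_self ((w : M) + ψ ⟨w, hmem w⟩)) h3
        rwa [add_sub_cancel_right] at this
      exact hw.symm.le.trans ((span_singleton_le_iff_mem _ _).2 h5)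
  let f : Function.End S := fun w => ⟨(w : M) + ψ ⟨w, hmem w⟩, hk w _ rfl⟩
  have hf : ∀ (k : ℕ) (w : S), (((f ^ k) w : S) : M) = (w : M) + k • (ψ ⟨w, hmem w⟩ : M) := by
    intro k
    induction k with
    | zero =>
      intro w
      rw [pow_zero, zero_smul, add_zero]
      rfl
    | succ k ih =>
      intro w
      rw [pow_succ]
      change (((f ^ k) (f w) : S) : M) = _
      rw [ih]
      have h3 : (⟨(f w : M), hmem (f w)⟩ : U) = ⟨w, hmem w⟩ + ψ ⟨w, hmem w⟩ := Subtype.ext rfl
      rw [h3, map_add, h2, add_zero, succ_nsmul']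
      change (w : M) + ψ ⟨w, hmem w⟩ + k • _ = _
      rw [add_assoc]
  have hfp : f ^ p ^ 1 = 1 := by
    rw [pow_one]
    funext w
    apply Subtype.ext
    rw [hf, hpM, add_zero]
    rfl
  have hfin : Finite S := inferInstance
  have : Fintype S := Fintype.ofFinite S
  have h3 := Equiv.Perm.card_fixedPoints_modEq hfp
  have h4 : IsEmpty f.fixedPoints := by
    constructor
    rintro ⟨w, hw⟩
    have h5 : f w = w := hw
    have h6 : (w : M) + ψ ⟨w, hmem w⟩ = w := congrArg Subtype.val h5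
    have h7 : ψ ⟨w, hmem w⟩ = 0 := Subtype.ext (by simpa only [_root_.ZeroMemClass.coe_zero, _root_.ZeroMemClass.coe_eq_zero, _root_.add_eq_left] using h6)
    apply h0
    refine LinearMap.ext fun x => ?_
    have hw' : span R {(w : M)} = U := w.2
    have h8 : (x : M) ∈ span R {(w : M)} := by rw [hw']; exact x.2
    obtain ⟨r, hr⟩ := mem_span_singleton.1 h8
    have h9 : x = r • (⟨w, hmem w⟩ : U) := Subtype.ext hr.symm
    rw [h9, map_smul, h7, smul_zero]
    rfl
  have h5 : Fintype.card f.fixedPoints = 0 := Fintype.card_eq_zero_iff.2 h4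
  rw [h5] at h3
  change p ∣ S.ncard
  rw [Set.ncard_eq_toFinset_card', Set.toFinset_card]
  exact (Nat.modEq_zero_iff_dvd).1 h3

/-- A semisimple isotypic module which is not simple has a nilpotent endomorphism. -/
theorem exists_nilp [IsSemisimpleModule R M] (hiso : IsIsotypic R M) [Nontrivial M] (hns : ¬ IsSimpleModule R M) :
    ∃ ψ : M →ₗ[R] M, (∀ x, ψ (ψ x) = 0) ∧ ψ ≠ 0 := by
  obtain ⟨W₁, hW₁⟩ := IsAtomic.exists_atom (Submodule R M)
  obtain ⟨E', hE'⟩ := _root_.ComplementedLattice.exists_isCompl W₁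
  have hne : E' ≠ ⊥ := by
    rintro rfl
    have h1 : W₁ = ⊤ := by have := hE'.sup_eq_top; rwa [sup_bot_eq] at this
    apply hns
    have h2 : IsSimpleModule R W₁ := isSimpleModule_iff_isAtom.2 hW₁
    rw [h1] at h2
    exact IsSimpleModule.congr (Submodule.topEquiv (R := R) (M := M)).symm
  obtain ⟨W₂, hW₂, hle⟩ := (IsAtomic.eq_bot_or_exists_atom_le E').resolve_left hne
  have s1 : IsSimpleModule R W₁ := isSimpleModule_iff_isAtom.2 hW₁
  have s2 : IsSimpleModule R W₂ := isSimpleModule_iff_isAtom.2 hW₂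
  obtain ⟨e⟩ := hiso W₁ W₂
  have hdis : Disjoint W₁ W₂ := hE'.disjoint.mono_right hle
  obtain ⟨C, hC, hCc⟩ := hdis.exists_isCompl
  have hπ : ∀ x ∈ W₁, Submodule.projectionOnto W₂ C hCc.symm x = 0 := by
    intro x hx
    exact (Submodule.projectionOnto_apply_eq_zero_iff hCc.symm).2 (hC hx)
  refine ⟨W₁.subtype ∘ₗ e.toLinearMap ∘ₗ Submodule.projectionOnto W₂ C hCc.symm, ?_, ?_⟩
  · intro x
    change ((e (Submodule.projectionOnto W₂ C hCc.symm (e (Submodule.projectionOnto W₂ C hCc.symm x) : W₁)) : W₁) : M) = 0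
    rw [hπ _ (e _).2, map_zero]
    rfl
  · intro h
    obtain ⟨x, hx, hx0⟩ := Submodule.exists_mem_ne_zero_of_ne_bot hW₂.1
    have h3 := LinearMap.congr_fun h x
    change ((e (Submodule.projectionOnto W₂ C hCc.symm x) : W₁) : M) = 0 at h3
    rw [Submodule.projectionOnto_apply_of_mem_left hCc.symm hx] at h3
    have h4 : e ⟨x, hx⟩ = 0 := Subtype.ext h3
    have h5 := (LinearEquiv.map_eq_zero_iff e).1 h4
    exact hx0 (congrArg Subtype.val h5)

end Gen

/-! ### Counting by fibres -/

theorem dvd_ncard_of_fibers {α β : Type*} [Finite α] (X : Set α) (f : α → β) {p : ℕ}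
    (h : ∀ b, p ∣ {x | x ∈ X ∧ f x = b}.ncard) : p ∣ X.ncard := by
  classical
  have : Fintype α := Fintype.ofFinite α
  rw [Set.ncard_eq_toFinset_card', Finset.card_eq_sum_card_image f]
  refine Finset.dvd_sum fun b _ => ?_
  have h1 := h b
  have h2 : ({x | x ∈ X ∧ f x = b}).ncard = (Finset.filter (fun x => f x = b) X.toFinset).card := by
    rw [← Set.ncard_coe_finset]
    congr 1
    ext x
    simp
  rwa [h2] at h1

/-! ### Pure vectors -/

variable {E : Type u} [AddCommGroup E]

/-- The cyclic module generated by `v` is simple (or zero). -/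
def Pure (R : Subring (AddMonoid.End E)) (v : E) : Prop := ∀ r ∈ R, r v ≠ 0 → ∃ s ∈ R, s (r v) = v

theorem pure_of_isSimple {R : Subring (AddMonoid.End E)} {v : E} (h : IsSimpleModule R ((span R {v} :))) : Pure R v := by
  intro r hr h0
  have h1 : IsAtom ((span R {v} :)) := isSimpleModule_iff_isAtom.1 h
  have h2 : span R {r v} ≤ span R {v} := by
    rw [span_singleton_le_iff_mem]
    exact mem_span_singleton.2 ⟨⟨r, hr⟩, rfl⟩
  have h3 : span R {r v} ≠ ⊥ := by
    rw [Ne, span_singleton_eq_bot]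
    exact h0
  have h4 : span R {r v} = span R {v} := (h1.le_iff_eq h3).1 h2
  have h5 : v ∈ span R {r v} := by rw [h4]; exact mem_span_singleton_self v
  obtain ⟨s, hs⟩ := mem_span_singleton.1 h5
  exact ⟨s, s.2, hs⟩

/-- The number of generators of a cyclic submodule with an impure generator is divisible by `p`. -/
theorem dvd_of_not_pure [Finite E] {p : ℕ} (hp : p.Prime) (hpE : ∀ e : E, p • e = 0) (R : Subring (AddMonoid.End E))
    [(IsSemisimpleModule R E :)] (hiso : (IsIsotypic R E :)) {v : E} (hv : ¬ Pure R v) :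
    p ∣ ({w : E | span R {w} = span R {v}}.ncard :) := by
  have hv0 : v ≠ 0 := by
    rintro rfl
    exact hv fun r _ h => absurd (map_zero r) h
  have hnt : Nontrivial ((span R {v} :)) := by
    rw [Submodule.nontrivial_iff_ne_bot, Ne, span_singleton_eq_bot]
    exact hv0
  have hns : ¬ IsSimpleModule R ((span R {v} :)) := fun h => hv (pure_of_isSimple h)
  have hi : IsIsotypic R (span R {v}) := hiso.of_injective (span R {v}).subtype (Submodule.subtype_injective _)
  obtain ⟨ψ, h2, h0⟩ := exists_nilp hi hns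
  exact dvd_card_gen hp hpE _ ψ h2 h0

theorem cj_dl_apply {D : Type v} [Group D] [DistribMulAction D E] (d : D) (r : AddMonoid.End E) (e : E) :
    cj E d r (d • e) = d • r e := by
  change d • r (d⁻¹ • (d • e)) = _
  rw [inv_smul_smul]

/-- Generators of the same cyclic module have the same pureness, for all rings of a commuting family. -/
theorem pure_iff_of_span_eq {ι : Type*} {R : ι → Subring (AddMonoid.End E)}
    (hcomm : ∀ i j, i ≠ j → ∀ a ∈ R i, ∀ b ∈ R j, a * b = b * a) {i : ι} {v w : E}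
    (h : span (R i) {w} = span (R i) {v}) (j : ι) (hv : Pure (R j) v) : Pure (R j) w := by
  have h1 : w ∈ span (R i) {v} := by rw [← h]; exact mem_span_singleton_self w
  have h2 : v ∈ span (R i) {w} := by rw [h]; exact mem_span_singleton_self v
  obtain ⟨⟨a, ha⟩, haw⟩ := mem_span_singleton.1 h1
  obtain ⟨⟨b, hb⟩, hbv⟩ := mem_span_singleton.1 h2
  change a v = w at haw
  change b w = v at hbv
  intro r hr hrw
  by_cases hij : i = j
  · subst hij
    have h3 : (r * a) v ≠ 0 := by
      change r (a v) ≠ 0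
      rw [haw]
      exact hrw
    obtain ⟨s, hs, hsv⟩ := hv (r * a) ((R i).mul_mem hr ha) h3
    refine ⟨a * s, (R i).mul_mem ha hs, ?_⟩
    change a (s (r w)) = w
    have h4 : s (r (a v)) = v := hsv
    rw [haw] at h4
    rw [h4, haw]
  · have hc : ∀ t ∈ R j, ∀ x, t (a x) = a (t x) := fun t ht x =>
      (DFunLike.congr_fun (hcomm i j hij a ha t ht) x).symm
    have h3 : r v ≠ 0 := by
      intro h4
      apply hrw
      rw [← haw, hc r hr, h4, map_zero]
    obtain ⟨s, hs, hsv⟩ := hv r hr h3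
    refine ⟨s, hs, ?_⟩
    rw [← haw, hc r hr, hc s hs, hsv]

/-- **All vectors are pure**, for a commuting family of isotypic rings permuted by a group with two orbits. -/
theorem all_pure {D : Type v} [Group D] [DistribMulAction D E] [Finite D] [Finite E] [Nontrivial E]
    (h2 : TwoOrb D E) {p : ℕ} (hp : p.Prime) (hpE : ∀ e : E, p • e = 0) (hcop : ¬ p ∣ Nat.card D)
    {ι : Type*} (R : ι → Subring (AddMonoid.End E)) (hss : ∀ i, (IsSemisimpleModule (R i) E :))
    (hiso : ∀ i, (IsIsotypic (R i) E :)) (hcomm : ∀ i j, i ≠ j → ∀ a ∈ R i, ∀ b ∈ R j, a * b = b * a)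
    (hperm : ∀ (d : D) (i : ι), ∃ j, ∀ r, cj E d r ∈ R j ↔ r ∈ R i) (i : ι) (v : E) : Pure (R i) v := by
  let f : E → Set ι := fun v => {i | ¬ Pure (R i) v}
  let S : Set E := {v | (f v).Nonempty}
  by_contra hcon
  have hne : S.Nonempty := ⟨v, i, hcon⟩
  have h0 : (0 : E) ∉ S := by
    rintro ⟨i, hi⟩
    exact hi fun r _ h => absurd (map_zero r) h
  have hS : ∀ (d : D), ∀ e ∈ S, d • e ∈ S := by
    rintro d e ⟨i, hi⟩
    obtain ⟨j, hj⟩ := hperm d i
    refine ⟨j, fun hpure => hi ?_⟩
    intro r hr hre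
    have h3 : cj E d r (d • e) ≠ 0 := by
      rw [cj_dl_apply]
      exact smul_ne hre
    obtain ⟨s, hs, hse⟩ := hpure (cj E d r) ((hj r).2 hr) h3
    refine ⟨cj E d⁻¹ s, ?_, ?_⟩
    · rw [← hj, ← cj_mul, mul_inv_cancel, cj_one]
      exact hs
    · rw [cj_dl_apply] at hse
      change d⁻¹ • s ((d⁻¹)⁻¹ • (r e)) = e
      rw [inv_inv, hse, inv_smul_smul]
  refine h2.not_dvd hp hpE hcop S hS h0 hne ?_
  refine dvd_ncard_of_fibers S f fun b => ?_
  by_cases hb : b.Nonempty
  · obtain ⟨i, hi⟩ := hb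
    refine dvd_ncard_of_fibers _ (fun v => (span (R i) {v} : _)) fun U => ?_
    by_cases hU : ∃ v, (v ∈ S ∧ f v = b) ∧ span (R i) {v} = U
    · obtain ⟨v₀, ⟨hv₀, hfv⟩, rfl⟩ := hU
      have hip : ¬ Pure (R i) v₀ := by
        have : i ∈ f v₀ := by rw [hfv]; exact hi
        exact this
      have h3 : {x | x ∈ {x | x ∈ S ∧ f x = b} ∧ span (R i) {x} = span (R i) {v₀}} =
          {w : E | span (R i) {w} = span (R i) {v₀}} := by
        ext w
        constructor
        · exact fun h => h.2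
        · intro hw
          have hw' : span (R i) {w} = span (R i) {v₀} := hw
          have h4 : f w = b := by
            rw [← hfv]
            ext j
            constructor
            · intro hj hp'
              exact hj (pure_iff_of_span_eq hcomm hw' j hp')
            · intro hj hp'
              exact hj (pure_iff_of_span_eq hcomm hw'.symm j hp')
          refine ⟨⟨?_, h4⟩, hw'⟩
          change (f w).Nonempty
          rw [h4]
          exact ⟨i, hi⟩
      rw [h3]
      have := hss i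
      exact dvd_of_not_pure hp hpE (R i) (hiso i) hip
    · have h3 : {x | x ∈ {x | x ∈ S ∧ f x = b} ∧ span (R i) {x} = U} = ∅ := by
        ext x
        constructor
        · exact fun h => hU ⟨x, h⟩
        · exact fun h => absurd h (Set.notMem_empty _)
      rw [h3, Set.ncard_empty]
      exact dvd_zero p
  · have h3 : {x | x ∈ S ∧ f x = b} = ∅ := by
      ext x
      constructor
      · rintro ⟨h4, rfl⟩
        exact hb h4
      · exact fun h => absurd h (Set.notMem_empty _)
    rw [h3, Set.ncard_empty]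
    exact dvd_zero p

/-- If all vectors are pure, then the ring is irreducible or has no zero divisors. -/
theorem irr_or_inj (R : Subring (AddMonoid.End E)) (hpure : ∀ v, Pure R v) :
    (∀ v : E, v ≠ 0 → ∀ w : E, ∃ r ∈ R, r v = w) ∨ (∀ r ∈ R, ∀ v : E, v ≠ 0 → r v = 0 → r = 0) := by
  rw [or_iff_not_imp_left]
  intro hnot
  push Not at hnot
  obtain ⟨u, hu, w₀, hw₀⟩ := hnot
  intro r hr v hv hrv
  -- `R v` is proper
  obtain ⟨w₁, hw₁⟩ : ∃ w, ∀ s ∈ R, s v ≠ w := by
    by_contra hcon
    push Not at hcon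
    obtain ⟨a, ha, hav⟩ := hcon u
    obtain ⟨b, hb, hbw⟩ := hcon w₀
    have h1 : a v ≠ 0 := by rw [hav]; exact hu
    obtain ⟨s, hs, hsv⟩ := hpure v a ha h1
    refine hw₀ (b * s) (R.mul_mem hb hs) ?_
    change b (s u) = w₀
    rw [← hav, hsv, hbw]
  have key : ∀ w, (∀ s ∈ R, s v ≠ w) → r w = 0 := by
    intro w hw
    by_contra hrw
    have h1 : r (v + w) = r w := by rw [map_add, hrv, zero_add]
    have h2 : r (v + w) ≠ 0 := by rw [h1]; exact hrw
    obtain ⟨s, hs, hsv⟩ := hpure (v + w) r hr h2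
    rw [h1] at hsv
    have h3 : (s * r - 1) w = v := by
      change s (r w) - w = v
      rw [hsv, add_sub_cancel_right]
    have hc : s * r - 1 ∈ R := R.sub_mem (R.mul_mem hs hr) R.one_mem
    obtain ⟨t, ht, htw⟩ := hpure w _ hc (by rw [h3]; exact hv)
    rw [h3] at htw
    exact hw t ht htw
  refine AddMonoidHom.ext fun x => ?_
  change r x = 0
  by_cases hx : ∀ s ∈ R, s v ≠ x
  · exact key x hx
  · push Not at hx
    obtain ⟨a, ha, hax⟩ := hx
    have h1 : ∀ s ∈ R, s v ≠ x + w₁ := by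
      intro s hs h
      refine hw₁ (s - a) (R.sub_mem hs ha) ?_
      change s v - a v = w₁
      rw [h, hax, add_sub_cancel_left]
    have h2 := key _ h1
    rw [map_add, key w₁ hw₁, add_zero] at h2
    exact h2

/-- **Schur**: elements commuting with an irreducible ring are injective or zero. -/
theorem schur {R : Subring (AddMonoid.End E)} (hirr : ∀ v : E, v ≠ 0 → ∀ w : E, ∃ r ∈ R, r v = w)
    {c : AddMonoid.End E} (hc : ∀ r ∈ R, r * c = c * r) {v : E} (hv : v ≠ 0) (hcv : c v = 0) : c = 0 := by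
  refine AddMonoidHom.ext fun w => ?_
  change c w = 0
  obtain ⟨r, hr, rfl⟩ := hirr v hv w
  have h1 : r (c v) = c (r v) := DFunLike.congr_fun (hc r hr) v
  rw [← h1, hcv, map_zero]

/-- **Wedderburn**: a finite ring of endomorphisms without zero divisors is a field. -/
theorem isField_of_inj [Finite E] [Nontrivial E] (R : Subring (AddMonoid.End E))
    (hinj : ∀ r ∈ R, ∀ v : E, v ≠ 0 → r v = 0 → r = 0) : (IsField R :) := by
  have hfin : Finite (AddMonoid.End E) := finite_end
  obtain ⟨x₀, hx₀⟩ := exists_ne (0 : E)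
  have : Nontrivial R := ⟨⟨0, 1, by
    intro h
    have h2 : (0 : AddMonoid.End E) = 1 := congrArg Subtype.val h
    have h3 := DFunLike.congr_fun h2 x₀
    exact hx₀ h3.symm⟩⟩
  have : (NoZeroDivisors R :) := ⟨by
    intro a b hab
    by_contra hne
    rw [not_or] at hne
    have hb : ∃ y : E, (b : AddMonoid.End E) y ≠ 0 := by
      by_contra hcon
      push Not at hcon
      exact hne.2 (Subtype.ext (AddMonoidHom.ext hcon))
    obtain ⟨y, hy⟩ := hb
    have h4 : (a : AddMonoid.End E) ((b : AddMonoid.End E) y) = 0 := by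
      have := congrArg (fun r : R => (r : AddMonoid.End E) y) hab
      exact this
    exact hne.1 (Subtype.ext (hinj a a.2 _ hy h4))⟩
  have : (IsDomain R :) := NoZeroDivisors.to_isDomain R
  exact Finite.isDomain_to_isField R

end Cfsg.Agent.H698.Env
end

-- part: H698/Dich
section
/-!
# The dichotomy for normal subgroups

For a normal subgroup `N` of a `p'`-group `D` with two orbits on nonzero elements: the action is imprimitive, or `N`
is irreducible, or `N` generates a field.
-/

set_option autoImplicit false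

namespace Cfsg.Agent.H698.Dich

open Cfsg.Agent.H717.FieldOf Cfsg.Agent.H698.Orb Cfsg.Agent.H698.Idem Cfsg.Agent.H698.Env

universe u v

variable {D : Type v} {E : Type u} [Group D] [AddCommGroup E] [DistribMulAction D E]

theorem KA_apply_mem {N : Subgroup D} {W : AddSubgroup E} (hW : _root_.Cfsg.Agent.H698.Orb.Inv N W) {r : AddMonoid.End E}
    (hr : r ∈ KA E N) {w : E} (hw : w ∈ W) : r w ∈ W := by
  let S : Subring (AddMonoid.End E) :=
    { carrier := {r | ∀ w ∈ W, r w ∈ W}
      mul_mem' := fun {a b} ha hb w hw => ha _ (hb w hw)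
      one_mem' := fun w hw => hw
      add_mem' := fun {a b} ha hb w hw => W.add_mem (ha w hw) (hb w hw)
      zero_mem' := fun w _ => W.zero_mem
      neg_mem' := fun {a} ha w hw => W.neg_mem (ha w hw) }
  have h : KA E N ≤ S := by
    unfold KA
    rw [Subring.closure_le]
    rintro _ ⟨n, hn, rfl⟩ w hw
    exact hW n hn w hw
  exact h hr w hw

/-- Semisimplicity over the ring generated by a subgroup. -/
theorem semisimple [Finite D] {p : ℕ} (hp : p.Prime) (hpE : ∀ e : E, p • e = 0) (hcop : ¬ p ∣ Nat.card D)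
    (N : Subgroup D) : (IsSemisimpleModule (KA E N) E :) := by
  refine (isSemisimpleModule_iff _ _).2 ⟨fun W => ?_⟩
  have hW : _root_.Cfsg.Agent.H698.Orb.Inv N W.toAddSubgroup := fun n hn w hw => (W.smul_mem (⟨dl E n, dl_mem N hn⟩ : KA E N) hw :)
  obtain ⟨W', hW', hc⟩ := exists_compl hp hpE hcop N _ hW
  let W'' : (Submodule (KA E N) E :) :=
    { carrier := W'
      add_mem' := fun {a b} ha hb => W'.add_mem ha hb
      zero_mem' := W'.zero_mem
      smul_mem' := fun r w hw => KA_apply_mem hW' r.2 hw }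
  refine ⟨W'', ?_, ?_⟩
  · rw [Submodule.disjoint_def]
    intro x hx hx'
    exact AddSubgroup.disjoint_def.1 hc.disjoint hx hx'
  · rw [codisjoint_iff, eq_top_iff]
    intro x _
    have hx : x ∈ W.toAddSubgroup ⊔ W' := by rw [hc.sup_eq_top]; trivial
    obtain ⟨y, hy, z, hz, rfl⟩ := AddSubgroup.mem_sup.1 hx
    exact Submodule.add_mem_sup (S := W) (T := W'') hy hz

/-- **A normal subgroup with several isotypic components gives imprimitivity.** -/
theorem imprim_of_not_isotypic [Finite D] [Finite E] (h2 : TwoOrb D E) {p : ℕ} (hp : p.Prime)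
    (hpE : ∀ e : E, p • e = 0) (hcop : ¬ p ∣ Nat.card D) (N : Subgroup D) [N.Normal]
    (hni : ¬ (IsIsotypic (KA E N) E :)) : Imprim D E := by
  have hss := semisimple hp hpE hcop N
  obtain ⟨S, hS, hne⟩ : ∃ S : (Submodule (KA E N) E :), IsSimpleModule (KA E N) S ∧
      isotypicComponent (KA E N) E S ≠ ⊤ := by
    by_contra hcon
    push Not at hcon
    exact hni fun S hS => (IsIsotypicOfType.of_isotypicComponent_eq_top (hcon S hS) :)
  obtain ⟨c, hcdef⟩ : ∃ c, c = isotypicComponent (KA E N) E S := ⟨_, rfl⟩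
  rw [← hcdef] at hne
  have hcm : c ∈ isotypicComponents (KA E N) E := ⟨S, hS, hcdef⟩
  have hcb : c ≠ ⊥ := (bot_lt_isotypicComponents hcm).ne'
  let c' : (Submodule (KA E N) E :) := sSup (isotypicComponents (KA E N) E \ {c})
  have hcc : IsCompl c c' := by
    constructor
    · exact sSupIndep_isotypicComponents (KA E N) E hcm
    · rw [codisjoint_iff, eq_top_iff, ← sSup_isotypicComponents (KA E N) E]
      refine sSup_le fun d hd => ?_
      by_cases h : d = c
      · rw [h]
        exact le_sup_left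
      · exact le_sup_of_le_right (le_sSup ⟨hd, h⟩)
  have hfc : ∀ f : (Module.End (KA E N) E :), c ≤ c.comap f :=
    Submodule.IsFullyInvariant.of_mem_isotypicComponents hcm
  have hfc' : ∀ f : Module.End (KA E N) E, c' ≤ c'.comap f := by
    intro f
    refine sSup_le fun d hd => ?_
    exact (Submodule.IsFullyInvariant.of_mem_isotypicComponents hd.1 f).trans
      (Submodule.comap_mono (le_sSup hd))
  let e : AddMonoid.End E := (c.projection c' hcc).toAddMonoidHom
  have he : ∀ x, e x = c.projection c' hcc x := fun _ => rfl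
  let B : Set (AddMonoid.End E) :=
    {b | (∀ r ∈ KA E N, r * b = b * r) ∧ ∀ f, (∀ r ∈ KA E N, r * f = f * r) → f * b = b * f}
  refine imprim_of_idem h2 hp hpE hcop B ?_ ?_ ?_ (e₀ := e) ?_ ?_ ?_ ?_
  · intro a ha b hb
    exact hb.2 a ha.1
  · intro a ha b hb
    refine ⟨fun r hr => ?_, fun f hf => ?_⟩
    · rw [← mul_assoc, ha.1 r hr, mul_assoc, hb.1 r hr, mul_assoc]
    · rw [← mul_assoc, ha.2 f hf, mul_assoc, hb.2 f hf, mul_assoc]
  · intro d b hb
    have hconj : ∀ x : AddMonoid.End E, x = cj E d (cj E d⁻¹ x) := fun x => by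
      rw [← cj_mul, mul_inv_cancel, cj_one]
    have h1 : ∀ (d : D) (b : AddMonoid.End E), (∀ r ∈ KA E N, r * b = b * r) → ∀ r ∈ KA E N,
        r * cj E d b = cj E d b * r := by
      intro d b hb r hr
      have hconj : ∀ x : AddMonoid.End E, x = cj E d (cj E d⁻¹ x) := fun x => by
        rw [← cj_mul, mul_inv_cancel, cj_one]
      rw [hconj r, ← map_mul, hb _ (cj_mem N d⁻¹ hr), map_mul]
    refine ⟨h1 d b hb.1, fun f hf => ?_⟩
    rw [hconj f, ← map_mul, hb.2 _ (h1 d⁻¹ f hf), map_mul]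
  · refine ⟨fun r hr => ?_, fun f hf => ?_⟩
    · refine AddMonoidHom.ext fun x => ?_
      change r (e x) = e (r x)
      exact ((c.projection c' hcc).map_smul (⟨r, hr⟩ : KA E N) x).symm
    · let fl : Module.End (KA E N) E :=
        { toFun := f
          map_add' := map_add f
          map_smul' := fun r x => (DFunLike.congr_fun (hf r r.2) x).symm }
      have hfl : ∀ x, fl x = f x := fun _ => rfl
      refine AddMonoidHom.ext fun x => ?_
      change f (e x) = e (f x)
      have hx : x ∈ c ⊔ c' := by rw [hcc.sup_eq_top]; trivial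
      obtain ⟨y, hy, z, hz, rfl⟩ := Submodule.mem_sup.1 hx
      have h3 : f y ∈ c := hfc fl hy
      have h4 : f z ∈ c' := hfc' fl hz
      have k1 : e (y + z) = y := by
        rw [he, map_add, Submodule.projection_apply_of_mem_left hcc hy,
          Submodule.projection_apply_of_mem_right hcc hz, add_zero]
      have k2 : e (f (y + z)) = f y := by
        rw [he, map_add, map_add, Submodule.projection_apply_of_mem_left hcc h3,
          Submodule.projection_apply_of_mem_right hcc h4, add_zero]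
      rw [k1, k2]
  · refine AddMonoidHom.ext fun x => ?_
    change e (e x) = e x
    rw [he, he]
    exact Submodule.projection_apply_of_mem_left hcc (Submodule.projection_apply_mem hcc x)
  · intro h
    apply hcb
    rw [Submodule.eq_bot_iff]
    intro x hx
    have h3 : e x = x := by
      rw [he]
      exact Submodule.projection_apply_of_mem_left hcc hx
    rw [← h3, h]
    rfl
  · intro h
    apply hne
    rw [eq_top_iff]
    intro x _
    have h3 : e x ∈ c := by
      rw [he]
      exact Submodule.projection_apply_mem hcc x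
    rw [h] at h3
    exact h3

variable (E) in
/-- Irreducibility of a subgroup, in terms of the ring it generates. -/
def Irred (N : Subgroup D) : Prop := ∀ v : E, v ≠ 0 → ∀ w : E, ∃ r ∈ KA E N, r v = w

variable (E) in
/-- The subgroup generates a field. -/
def Scal (N : Subgroup D) : Prop := ∀ r ∈ KA E N, ∀ v : E, v ≠ 0 → r v = 0 → r = 0

/-- **Main dichotomy.** -/
theorem dich [Finite D] [Finite E] [Nontrivial E] (h2 : TwoOrb D E) {p : ℕ} (hp : p.Prime)
    (hpE : ∀ e : E, p • e = 0) (hcop : ¬ p ∣ Nat.card D) (N : Subgroup D) [N.Normal] :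
    Imprim D E ∨ Irred E N ∨ Scal E N := by
  by_cases hi : IsIsotypic (KA E N) E
  · right
    refine irr_or_inj (KA E N) fun v => ?_
    refine all_pure h2 hp hpE hcop (fun _ : Unit => KA E N) (fun _ => semisimple hp hpE hcop N) (fun _ => hi)
      (fun i j h => absurd (Subsingleton.elim i j) h) (fun d _ => ⟨(), fun r => ?_⟩) () v
    refine ⟨fun h => ?_, cj_mem N d⟩
    have := cj_mem N d⁻¹ h
    rwa [← cj_mul, inv_mul_cancel, cj_one] at this
  · exact Or.inl (imprim_of_not_isotypic h2 hp hpE hcop N hi)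

/-- Elements commuting with an irreducible subgroup commute with each other. -/
theorem centralizer_comm [Finite E] [Nontrivial E] [FaithfulSMul D E] {N : Subgroup D} (hirr : Irred E N)
    {a b : D} (ha : ∀ n ∈ N, n * a = a * n) (hb : ∀ n ∈ N, n * b = b * n) : a * b = b * a := by
  let C : Subring (AddMonoid.End E) := Subring.centralizer (KA E N : Set (AddMonoid.End E))
  have hinj : ∀ r ∈ C, ∀ v : E, v ≠ 0 → r v = 0 → r = 0 := by
    intro r hr v hv hrv
    rw [Subring.mem_centralizer_iff] at hr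
    exact schur hirr hr hv hrv
  have hf := isField_of_inj C hinj
  have hmem : ∀ a : D, (∀ n ∈ N, n * a = a * n) → dl E a ∈ C := by
    intro a ha
    have h1 : KA E N ≤ Subring.centralizer {dl E a} := by
      unfold KA
      rw [Subring.closure_le]
      rintro _ ⟨n, hn, rfl⟩
      rw [SetLike.mem_coe, Subring.mem_centralizer_iff]
      rintro _ rfl
      rw [← map_mul, ← map_mul, ha n hn]
    rw [Subring.mem_centralizer_iff]
    intro r hr
    have h3 := h1 hr
    rw [Subring.mem_centralizer_iff] at h3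
    exact (h3 _ rfl).symm
  have h4 := (hf.mul_comm ⟨dl E a, hmem a ha⟩ ⟨dl E b, hmem b hb⟩ :)
  have h5 : dl E a * dl E b = dl E b * dl E a := congrArg Subtype.val h4
  rw [← map_mul, ← map_mul] at h5
  apply FaithfulSMul.eq_of_smul_eq_smul (α := E)
  intro e
  exact DFunLike.congr_fun h5 e

/-- A subgroup generating a field is commutative. -/
theorem Scal.comm [Finite E] [Nontrivial E] [FaithfulSMul D E] {N : Subgroup D} (h : Scal E N) {a b : D}
    (ha : a ∈ N) (hb : b ∈ N) : a * b = b * a := by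
  have hf := isField_of_inj (KA E N) h
  have h4 := (hf.mul_comm ⟨dl E a, dl_mem N ha⟩ ⟨dl E b, dl_mem N hb⟩ :)
  have h5 : dl E a * dl E b = dl E b * dl E a := congrArg Subtype.val h4
  rw [← map_mul, ← map_mul] at h5
  apply FaithfulSMul.eq_of_smul_eq_smul (α := E)
  intro e
  exact DFunLike.congr_fun h5 e

/-- An irreducible commutative subgroup generates a field. -/
theorem Irred.scal {N : Subgroup D} (h : Irred E N) (hc : ∀ a ∈ N, ∀ b ∈ N, a * b = b * a) :
    Scal E N := by
  intro r hr v hv hrv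
  exact schur h (fun s hs => KA_comm N hc hs hr) hv hrv

end Cfsg.Agent.H698.Dich
end

-- part: H698/Count
section
/-!
# Counting classes relative to an abelian normal subgroup
-/

set_option autoImplicit false

namespace Cfsg.Agent.H698.Count

open Cfsg.Agent.H698.Orb Cfsg.Agent.H697

universe u v

/-- Two orbits: `|E| - 1 ≤ 2 |D|`. -/
theorem card_le {D : Type v} {E : Type u} [Group D] [AddCommGroup E] [DistribMulAction D E] [Finite D] [Finite E]
    (h : TwoOrb D E) : Nat.card E ≤ 2 * Nat.card D + 1 := by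
  classical
  obtain ⟨x, y, hxy⟩ := h
  have hsub : (Set.univ : Set E) ⊆ {0} ∪ (MulAction.orbit D x ∪ MulAction.orbit D y) := by
    intro e _
    by_cases he : e = 0
    · exact Or.inl he
    · right
      rcases hxy e he with h | h
      · exact Or.inl h
      · exact Or.inr h
  have hle : ∀ v : E, (MulAction.orbit D v).ncard ≤ Nat.card D := by
    intro v
    rw [← MulAction.index_stabilizer]
    exact Nat.le_of_dvd Nat.card_pos (Subgroup.index_dvd_card _)
  calc Nat.card E = (Set.univ : Set E).ncard := (Set.ncard_univ E).symm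
    _ ≤ ({0} ∪ (MulAction.orbit D x ∪ MulAction.orbit D y) : Set E).ncard := Set.ncard_le_ncard hsub (Set.toFinite _)
    _ ≤ ({0} : Set E).ncard + (MulAction.orbit D x ∪ MulAction.orbit D y : Set E).ncard := Set.ncard_union_le _ _
    _ ≤ 1 + ((MulAction.orbit D x).ncard + (MulAction.orbit D y).ncard) := by
        gcongr
        · rw [Set.ncard_singleton]
        · exact Set.ncard_union_le _ _
    _ ≤ 2 * Nat.card D + 1 := by
        have := hle x
        have := hle y
        omega

/-- Classes inside and outside an abelian normal subgroup with centralizer of index at most `a`. -/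
theorem count {D : Type v} [Group D] [Finite D] (A : Subgroup D) [A.Normal] {a : ℕ}
    (ha : (Subgroup.centralizer (A : Set D)).index ≤ a) :
    ∃ z : ℕ, Nat.card A ≤ a * z ∧ z + Nat.card (ConjClasses (D ⧸ A)) ≤ Nat.card (ConjClasses D) + 1 := by
  classical
  have := Fintype.ofFinite D
  have := Fintype.ofFinite (ConjClasses D)
  have := Fintype.ofFinite (ConjClasses (D ⧸ A))
  let f : ConjClasses D → ConjClasses (D ⧸ A) := ConjClasses.map (QuotientGroup.mk' A)
  let S : Finset (ConjClasses D) := Finset.univ.filter fun c => f c = ConjClasses.mk (1 : D ⧸ A)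
  have hmem : ∀ x : D, ConjClasses.mk x ∈ S ↔ x ∈ A := by
    intro x
    rw [Finset.mem_filter]
    have h1 : f (ConjClasses.mk x) = ConjClasses.mk ((x : D) : D ⧸ A) := rfl
    rw [h1, ConjClasses.mk_eq_mk_iff_isConj, isConj_comm, isConj_one_right, QuotientGroup.eq_one_iff]
    exact ⟨fun h => h.2, fun h => ⟨Finset.mem_univ _, h⟩⟩
  refine ⟨S.card, ?_, ?_⟩
  · have h1 : Nat.card A = (Finset.univ.filter fun x : D => x ∈ A).card := by
      rw [Nat.card_eq_fintype_card, ← Fintype.card_subtype]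
    rw [h1]
    refine Finset.card_le_mul_card_image_of_maps_to (f := fun x : D => ConjClasses.mk x) (t := S)
      (fun x hx => (hmem x).2 (Finset.mem_filter.1 hx).2) a ?_
    intro c hc
    by_cases hne : ∃ x, x ∈ (Finset.univ.filter fun x : D => x ∈ A) ∧ ConjClasses.mk x = c
    · obtain ⟨x, hx, rfl⟩ := hne
      have hxA : x ∈ A := (Finset.mem_filter.1 hx).2
      have h2 : (Subgroup.centralizer ({x} : Set D)).index ≤ a := by
        refine le_trans (Nat.le_of_dvd (Nat.pos_of_ne_zero Subgroup.index_ne_zero_of_finite)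
          (Subgroup.index_dvd_of_le ?_)) ha
        exact Subgroup.centralizer_le (Set.singleton_subset_iff.2 hxA)
      rw [ClassCount.index_centralizer] at h2
      refine le_trans ?_ h2
      rw [Set.ncard_eq_toFinset_card']
      refine Finset.card_le_card fun y hy => ?_
      rw [Set.mem_toFinset, ConjClasses.mem_carrier_iff_mk_eq]
      exact (Finset.mem_filter.1 hy).2
    · rw [Finset.card_eq_zero.2]
      · exact Nat.zero_le _
      · rw [Finset.eq_empty_iff_forall_notMem]
        intro x hx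
        exact hne ⟨x, (Finset.mem_filter.1 hx).1, (Finset.mem_filter.1 hx).2⟩
  · have h2 : (Finset.univ.erase (ConjClasses.mk (1 : D ⧸ A))).card ≤ Sᶜ.card := by
      refine Finset.card_le_card_of_surjOn f ?_
      intro c hc
      rw [Finset.mem_coe, Finset.mem_erase] at hc
      obtain ⟨q, rfl⟩ := ConjClasses.mk_surjective c
      obtain ⟨x, rfl⟩ := QuotientGroup.mk_surjective q
      refine ⟨ConjClasses.mk x, ?_, rfl⟩
      rw [Finset.mem_coe, Finset.mem_compl, Finset.mem_filter]
      exact fun h => hc.1 h.2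
    rw [Finset.card_erase_of_mem (Finset.mem_univ _), Finset.card_univ, Finset.card_compl] at h2
    rw [Nat.card_eq_fintype_card, Nat.card_eq_fintype_card]
    have h3 : S.card ≤ Fintype.card (ConjClasses D) := Finset.card_le_univ S
    omega

/-- An abelian subgroup of small index. -/
theorem of_abelian {D : Type v} [Group D] [Finite D] {p n : ℕ} (hp : 2 ≤ p) (hn : 1 ≤ n)
    (hD : p ^ n ≤ 2 * Nat.card D + 1) (B : Subgroup D)
    (hB : ∀ a ∈ B, ∀ b ∈ B, a * b = b * a) {c : ℕ} (hc : B.index ≤ c) (hcp : c ^ 2 < p ^ (n - 1)) :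
    p ≤ 2 * Nat.card (ConjClasses D) := by
  by_contra hcon
  push Not at hcon
  have h1 := ClassCount.card_le_mul_index B hB
  have h2 := B.card_mul_index
  have h3 : Nat.card D ≤ c ^ 2 * Nat.card (ConjClasses D) := by
    calc Nat.card D = Nat.card B * B.index := h2.symm
      _ ≤ (B.index * Nat.card (ConjClasses D)) * B.index := Nat.mul_le_mul_right _ h1
      _ = B.index ^ 2 * Nat.card (ConjClasses D) := by ring
      _ ≤ c ^ 2 * Nat.card (ConjClasses D) := Nat.mul_le_mul_right _ (Nat.pow_le_pow_left hc 2)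
  obtain ⟨k, rfl⟩ : ∃ k, n = k + 1 := ⟨n - 1, by omega⟩
  rw [Nat.add_sub_cancel] at hcp
  obtain ⟨q, rfl⟩ : ∃ q, p = q + 1 := ⟨p - 1, by omega⟩
  have h4 : 2 * Nat.card (ConjClasses D) ≤ q := by omega
  have h5 : 2 * Nat.card D ≤ c ^ 2 * q := by
    calc 2 * Nat.card D ≤ 2 * (c ^ 2 * Nat.card (ConjClasses D)) := Nat.mul_le_mul_left _ h3
      _ = c ^ 2 * (2 * Nat.card (ConjClasses D)) := by ring
      _ ≤ c ^ 2 * q := Nat.mul_le_mul_left _ h4
  have h6 : (q + 1) ^ (k + 1) ≤ c ^ 2 * q + 1 := by omega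
  have h7 : c ^ 2 + 1 ≤ (q + 1) ^ k := hcp
  have h8 : (c ^ 2 + 1) * (q + 1) ≤ (q + 1) ^ (k + 1) := by
    rw [pow_succ]
    exact Nat.mul_le_mul_right _ h7
  linarith only [hp, hD, h5, h8, _root_.sq_nonneg (↑c : ℤ)]

end Cfsg.Agent.H698.Count
end
end

-- part: H698/LinInd
section
prune_inst 0xf4302744240000000000009081200000700005000040040004800b00020100200002a00002802115120a00010004002003880000420000000a0004000005012010a8500023000000000086000000000000000000000000000000000000000004000000000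
set_option linter.all false
open scoped Cfsg.Agent.FastGrp

-- part: H698/Lay
section
/-!
# Components of primitive groups with two orbits

A `p'`-group with two orbits on nonzero elements which is not imprimitive has at most one component, and the
component is irreducible.
-/

set_option autoImplicit false

namespace Cfsg.Agent.H698.Lay

open Cfsg Cfsg.Agent.H717.FieldOf Cfsg.Agent.H698.Orb Cfsg.Agent.H698.Idem Cfsg.Agent.H698.Env Cfsg.Agent.H698.Dich
open Cfsg.Agent.SignalizersComponents.Components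

universe u v

variable {D : Type v} {E : Type u} [Group D] [AddCommGroup E] [DistribMulAction D E]

theorem exists_not_comm {K : Subgroup D} (hK : IsComponent K) : ∃ a ∈ K, ∃ b ∈ K, a * b ≠ b * a := by
  by_contra hcon
  push Not at hcon
  exact quasisimple_not_isMulCommutative hK.2
    ⟨⟨fun a b => Subtype.ext (hcon a a.2 b b.2)⟩⟩

theorem comm_of_ne {K L : Subgroup D} (hK : IsComponent K) (hL : IsComponent L) (hne : K ≠ L) {k l : D} (hk : k ∈ K)
    (hl : l ∈ L) : k * l = l * k := by
  have h := component_le_centralizer_of_ne hK hL hne hk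
  rw [Subgroup.mem_centralizer_iff] at h
  exact (h l hl).symm

/-- The rings generated by commuting subgroups commute. -/
theorem KA_comm_of_comm {K L : Subgroup D} (h : ∀ k ∈ K, ∀ l ∈ L, k * l = l * k) {a b : AddMonoid.End E}
    (ha : a ∈ KA E K) (hb : b ∈ KA E L) : a * b = b * a := by
  have h1 : KA E K ≤ Subring.centralizer (KA E L : Set (AddMonoid.End E)) := by
    conv_lhs => unfold KA
    rw [Subring.closure_le]
    rintro _ ⟨k, hk, rfl⟩
    rw [SetLike.mem_coe, Subring.mem_centralizer_iff]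
    intro x hx
    have h2 : KA E L ≤ Subring.centralizer {dl E k} := by
      unfold KA
      rw [Subring.closure_le]
      rintro _ ⟨l, hl, rfl⟩
      rw [SetLike.mem_coe, Subring.mem_centralizer_iff]
      rintro _ rfl
      rw [← map_mul, ← map_mul, h k hk l hl]
    have h3 := h2 hx
    rw [Subring.mem_centralizer_iff] at h3
    exact (h3 _ rfl).symm
  have h4 := h1 ha
  rw [Subring.mem_centralizer_iff] at h4
  exact (h4 b hb).symm

theorem cj_mem_map (K : Subgroup D) (d : D) {r : AddMonoid.End E} (hr : r ∈ KA E K) :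
    cj E d r ∈ KA E (K.map (MulAut.conj d).toMonoidHom) := by
  have h : KA E K ≤ (KA E (K.map (MulAut.conj d).toMonoidHom)).comap (cj E d) := by
    conv_lhs => unfold KA
    rw [Subring.closure_le]
    rintro _ ⟨a, ha, rfl⟩
    change cj E d (dl E a) ∈ KA E (K.map (MulAut.conj d).toMonoidHom)
    rw [cj_apply, ← map_mul, ← map_mul]
    exact dl_mem _ ⟨a, ha, rfl⟩
  exact h hr

/-- The stabilizer of a subgroup of the module. -/
def stab (D : Type v) [Group D] [DistribMulAction D E] (c : AddSubgroup E) : Subgroup D where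
  carrier := {d | (∀ x ∈ c, d • x ∈ c) ∧ ∀ x ∈ c, d⁻¹ • x ∈ c}
  one_mem' := ⟨fun x hx => by rwa [one_smul], fun x hx => by rwa [inv_one, one_smul]⟩
  mul_mem' := fun {a b} ha hb => ⟨fun x hx => by rw [mul_smul]; exact ha.1 _ (hb.1 x hx),
    fun x hx => by rw [mul_inv_rev, mul_smul]; exact hb.2 _ (ha.2 x hx)⟩
  inv_mem' := fun {a} ha => ⟨ha.2, fun x hx => by rw [inv_inv]; exact ha.1 x hx⟩

variable [Finite D] [Finite E] [Nontrivial E] [FaithfulSMul D E]

theorem layer_irred (h2 : TwoOrb D E) {p : ℕ} (hp : p.Prime) (hpE : ∀ e : E, p • e = 0)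
    (hcop : ¬ p ∣ Nat.card D) (hni : ¬ Imprim D E) {K : Subgroup D} (hK : IsComponent K) : Irred E (layer D) := by
  have : (layer D).Normal := layer_normal D
  rcases dich h2 hp hpE hcop (layer D) with h | h | h
  · exact absurd h hni
  · exact h
  · exfalso
    obtain ⟨a, ha, b, hb, hab⟩ := exists_not_comm hK
    exact hab (h.comm (component_le_layer hK ha) (component_le_layer hK hb))

/-- The module is isotypic for each component. -/
theorem isotypic (h2 : TwoOrb D E) {p : ℕ} (hp : p.Prime) (hpE : ∀ e : E, p • e = 0)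
    (hcop : ¬ p ∣ Nat.card D) (hni : ¬ Imprim D E) {K : Subgroup D} (hK : IsComponent K) :
    (IsIsotypic (KA E K) E :) := by
  have hL := layer_irred h2 hp hpE hcop hni hK
  have hss := semisimple hp hpE hcop K
  intro S hS
  refine IsIsotypicOfType.of_isotypicComponent_eq_top ?_
  obtain ⟨c, hcdef⟩ : ∃ c, c = isotypicComponent (KA E K) E S := ⟨_, rfl⟩
  rw [← hcdef]
  have hcm : c ∈ isotypicComponents (KA E K) E := ⟨S, hS, hcdef⟩
  have hcb : c ≠ ⊥ := ((bot_lt_isotypicComponents hcm).ne' :)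
  have hfc : ∀ f : (Module.End (KA E K) E :), c ≤ c.comap f :=
    Submodule.IsFullyInvariant.of_mem_isotypicComponents hcm
  have hle : layer D ≤ stab D c.toAddSubgroup := by
    rw [layer_le_iff]
    intro K' hK' k hk
    have key : ∀ k ∈ K', ∀ x ∈ c, k • x ∈ c := by
      intro k hk x hx
      by_cases hne : K' = K
      · subst hne
        exact (c.smul_mem (⟨dl E k, dl_mem K' hk⟩ : KA E K') hx :)
      · let fl : (Module.End (KA E K) E :) :=
          { toFun := dl E k
            map_add' := map_add (dl E k)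
            map_smul' := fun r x => by
              have h3 : ∀ l ∈ K, ∀ k ∈ K', l * k = k * l := fun l hl k hk => (comm_of_ne hK' hK hne hk hl).symm
              exact (DFunLike.congr_fun (KA_comm_of_comm h3 r.2 (dl_mem K' hk)) x).symm }
        exact hfc fl hx
    exact ⟨key k hk, key k⁻¹ (K'.inv_mem hk)⟩
  rw [eq_top_iff]
  intro w _
  obtain ⟨v, hv, hv0⟩ := Submodule.exists_mem_ne_zero_of_ne_bot hcb
  obtain ⟨r, hr, rfl⟩ := hL v hv0 w
  have hinv : _root_.Cfsg.Agent.H698.Orb.Inv (layer D) c.toAddSubgroup := fun n hn w hw => (hle hn).1 w hw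
  exact KA_apply_mem hinv hr hv

/-- **Each component is irreducible.** -/
theorem comp_irred (h2 : TwoOrb D E) {p : ℕ} (hp : p.Prime) (hpE : ∀ e : E, p • e = 0)
    (hcop : ¬ p ∣ Nat.card D) (hni : ¬ Imprim D E) {K : Subgroup D} (hK : IsComponent K) : Irred E K := by
  have h3 := all_pure h2 hp hpE hcop (ι := {K : Subgroup D // IsComponent K}) (fun K => KA E (K : Subgroup D))
    (fun K => semisimple hp hpE hcop K) (fun K => isotypic h2 hp hpE hcop hni K.2)
    (fun K L hKL a ha b hb => KA_comm_of_comm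
      (fun k hk l hl => comm_of_ne K.2 L.2 (fun h => hKL (Subtype.ext h)) hk hl) ha hb)
    (fun d K => ⟨⟨(K : Subgroup D).map (MulAut.conj d).toMonoidHom, isComponent_conj d K.2⟩, fun r => by
      refine ⟨fun h => ?_, cj_mem_map (K : Subgroup D) d⟩
      have h4 := cj_mem_map _ d⁻¹ h
      rw [← cj_mul, inv_mul_cancel, cj_one, Subgroup.map_map] at h4
      convert h4 using 1
      congr 1
      ext x
      constructor
      · intro hx
        refine ⟨x, hx, ?_⟩
        change d⁻¹ * (d * x * d⁻¹) * d⁻¹⁻¹ = x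
        group
      · rintro ⟨y, hy, rfl⟩
        change d⁻¹ * (d * y * d⁻¹) * d⁻¹⁻¹ ∈ (K : Subgroup D)
        rw [show d⁻¹ * (d * y * d⁻¹) * d⁻¹⁻¹ = y by group]
        exact hy⟩) ⟨K, hK⟩
  rcases irr_or_inj (KA E K) h3 with h | h
  · exact h
  · exfalso
    obtain ⟨a, ha, b, hb, hab⟩ := exists_not_comm hK
    exact hab (Scal.comm h ha hb)

/-- **Uniqueness of the component.** -/
theorem comp_unique (h2 : TwoOrb D E) {p : ℕ} (hp : p.Prime) (hpE : ∀ e : E, p • e = 0)
    (hcop : ¬ p ∣ Nat.card D) (hni : ¬ Imprim D E) {K K' : Subgroup D} (hK : IsComponent K) (hK' : IsComponent K') :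
    K' = K := by
  by_contra hne
  obtain ⟨a, ha, b, hb, hab⟩ := exists_not_comm hK'
  exact hab (centralizer_comm (comp_irred h2 hp hpE hcop hni hK)
    (fun n hn => (comm_of_ne hK' hK hne ha hn).symm) (fun n hn => (comm_of_ne hK' hK hne hb hn).symm))

theorem comp_normal (h2 : TwoOrb D E) {p : ℕ} (hp : p.Prime) (hpE : ∀ e : E, p • e = 0)
    (hcop : ¬ p ∣ Nat.card D) (hni : ¬ Imprim D E) {K : Subgroup D} (hK : IsComponent K) : K.Normal := by
  refine ⟨fun n hn g => ?_⟩
  have h1 := comp_unique h2 hp hpE hcop hni hK (isComponent_conj g hK)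
  rw [← h1]
  exact ⟨n, hn, rfl⟩

end Cfsg.Agent.H698.Lay
end

-- part: H698/Fld
section
/-!
# The field generated by a commutative normal subgroup
-/

set_option autoImplicit false
set_option linter.style.haveILetI false

namespace Cfsg.Agent.H698.Fld

open Cfsg.Agent.H717.FieldOf Cfsg.Agent.H698.Orb Cfsg.Agent.H698.Idem Cfsg.Agent.H698.Env Cfsg.Agent.H698.Dich

universe u v

variable {D : Type v} {E : Type u} [Group D] [AddCommGroup E] [DistribMulAction D E]

/-- The structure: `E` is a vector space over the finite field `K`, generated by the image of `A`; `D` acts semilinearly. -/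
structure FD (A : Subgroup D) (E : Type u) [AddCommGroup E] [DistribMulAction D E] (K : Type u) [Field K] [Module K E] where
  /-- the embedding -/
  φ : A →* Kˣ
  /-- the action on the field -/
  σ : D →* (K ≃+* K)
  hφ : ∀ (a : A) (e : E), ((φ a : Kˣ) : K) • e = (a : D) • e
  hσ : ∀ (d : D) (k : K) (e : E), d • (k • e) = (σ d k) • (d • e)
  hc : ∀ d : D, σ d = 1 ↔ d ∈ Subgroup.centralizer (A : Set D)
  hgen : ∀ (k : K) (V : AddSubgroup E), (∀ a ∈ A, ∀ v ∈ V, a • v ∈ V) → ∀ v ∈ V, k • v ∈ V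

/-- **A commutative normal subgroup generating a field**. -/
theorem exists_fd [Finite E] [Nontrivial E] [FaithfulSMul D E]
    (A : Subgroup D) [A.Normal] (hS : Scal E A) :
    ∃ (K : Type u) (_ : Field K) (_ : Finite K) (_ : Module K E), Nonempty (FD A E K) := by
  have hfin : Finite (AddMonoid.End E) := finite_end
  let R : Subring (AddMonoid.End E) := KA E A
  letI : Field R := (isField_of_inj R hS).toField
  letI : Module R E := inferInstance
  have hsm : ∀ (r : R) (e : E), r • e = (r : AddMonoid.End E) e := fun _ _ => rfl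
  let φ₀ : A →* R :=
    { toFun := fun a => ⟨dl E (a : D), dl_mem A a.2⟩
      map_one' := Subtype.ext (map_one (dl E))
      map_mul' := fun a b => Subtype.ext (map_mul (dl E) (a : D) (b : D)) }
  let cjR : D → (R ≃+* R) := fun d =>
    { toFun := fun r => ⟨cj E d r, cj_mem A d r.2⟩
      invFun := fun r => ⟨cj E d⁻¹ r, cj_mem A d⁻¹ r.2⟩
      left_inv := fun r => Subtype.ext (by
        change cj E d⁻¹ (cj E d (r : AddMonoid.End E)) = r
        rw [← cj_mul, inv_mul_cancel, cj_one])
      right_inv := fun r => Subtype.ext (by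
        change cj E d (cj E d⁻¹ (r : AddMonoid.End E)) = r
        rw [← cj_mul, mul_inv_cancel, cj_one])
      map_mul' := fun r s => Subtype.ext (map_mul (cj E d) (r : AddMonoid.End E) (s : AddMonoid.End E))
      map_add' := fun r s => Subtype.ext (map_add (cj E d) (r : AddMonoid.End E) (s : AddMonoid.End E)) }
  let σ : D →* (R ≃+* R) :=
    { toFun := cjR
      map_one' := RingEquiv.ext fun r => Subtype.ext (cj_one _)
      map_mul' := fun c d => RingEquiv.ext fun r => Subtype.ext (cj_mul c d _) }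
  have hσ : ∀ (d : D) (r : R), ((σ d r : R) : AddMonoid.End E) = cj E d r := fun _ _ => rfl
  refine ⟨R, inferInstance, inferInstance, inferInstance, ⟨⟨φ₀.toHomUnits, σ, ?_, ?_, ?_, ?_⟩⟩⟩
  · intro a e
    rfl
  · intro d k e
    change d • ((k : AddMonoid.End E) e) = d • ((k : AddMonoid.End E) (d⁻¹ • (d • e)))
    rw [inv_smul_smul]
  · intro d
    rw [Subgroup.mem_centralizer_iff]
    constructor
    · intro h a ha
      have h5 : cj E d (dl E a) = dl E a := by
        have := congrArg (fun f : R ≃+* R => ((f ⟨dl E a, dl_mem A ha⟩ : R) : AddMonoid.End E)) h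
        exact this
      rw [cj_apply, ← map_mul, ← map_mul] at h5
      have h6 : d * a * d⁻¹ = a := by
        apply FaithfulSMul.eq_of_smul_eq_smul (α := E)
        intro e
        exact DFunLike.congr_fun h5 e
      calc a * d = (d * a * d⁻¹) * d := by rw [h6]
        _ = d * a := by group
    · intro h
      have hle : KA E A ≤ (Subring.centralizer {dl E d}) := by
        unfold KA
        rw [Subring.closure_le]
        rintro _ ⟨a, ha, rfl⟩
        rw [SetLike.mem_coe, Subring.mem_centralizer_iff]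
        rintro _ rfl
        rw [← map_mul, ← map_mul, h a ha]
      refine RingEquiv.ext fun r => Subtype.ext ?_
      have h7 := hle r.2
      rw [Subring.mem_centralizer_iff] at h7
      have h8 := h7 _ rfl
      rw [hσ, cj_apply, h8, mul_assoc, ← map_mul, mul_inv_cancel, map_one, mul_one]
      rfl
  · intro k V hV v hv
    exact KA_apply_mem hV k.2 hv

variable {A : Subgroup D} {K : Type u} [Field K] [Finite K] [Module K E]

omit [Finite K] in
theorem charP [Nontrivial E] {p : ℕ} (hp : p.Prime) (hpE : ∀ e : E, p • e = 0) : CharP K p := by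
  obtain ⟨x, hx⟩ := exists_ne (0 : E)
  have h1 : (p : K) = 0 := by
    by_contra h
    apply hx
    have h2 : (p : K) • x = 0 := by
      rw [Nat.cast_smul_eq_nsmul]
      exact hpE x
    rcases smul_eq_zero.1 h2 with h3 | h3
    · exact absurd h3 h
    · exact h3
  obtain ⟨q, hq⟩ := CharP.exists K
  have h2 : q ∣ p := (CharP.cast_eq_zero_iff K q p).1 h1
  rcases (Nat.dvd_prime hp).1 h2 with h3 | h3
  · exact absurd h3 (CharP.char_ne_one K q)
  · rwa [h3] at hq

omit [Finite K] in
theorem FD.injective [FaithfulSMul D E] (f : FD A E K) : Function.Injective f.φ := by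
  intro a b h
  apply Subtype.ext
  apply FaithfulSMul.eq_of_smul_eq_smul (α := E)
  intro e
  rw [← f.hφ, ← f.hφ, h]

theorem FD.isCyclic [FaithfulSMul D E] (f : FD A E K) : IsCyclic A := by
  have : Finite A := Finite.of_injective f.φ f.injective
  exact isCyclic_of_injective_ringHom ((Units.coeHom K).comp f.φ) (Units.val_injective.comp f.injective)

omit [Finite K] in
theorem FD.card_dvd [FaithfulSMul D E] (f : FD A E K) : Nat.card A ∣ Nat.card K - 1 := by
  have h1 := Subgroup.card_dvd_of_injective f.φ f.injective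
  rwa [Nat.card_units] at h1

/-- The numbers. -/
theorem FD.numbers [Nontrivial E] {p : ℕ} (hp : p.Prime) (hpE : ∀ e : E, p • e = 0) (f : FD A E K) :
    ∃ a : ℕ, 1 ≤ a ∧ Nat.card K = p ^ a ∧ (Subgroup.centralizer (A : Set D)).index ≤ a := by
  have : Fact p.Prime := ⟨hp⟩
  have hch := charP (K := K) hp hpE
  have : Fintype K := Fintype.ofFinite K
  obtain ⟨n, -, hn⟩ := FiniteField.card K p
  refine ⟨n, n.2, by rw [Nat.card_eq_fintype_card, hn], ?_⟩
  have h1 := Cfsg.Agent.Lib.FieldAutCard.card_ringAut (F := K) (p := p) (f := n) n.2 hn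
  have hfin : Finite (K ≃+* K) := Finite.of_injective (fun g : K ≃+* K => (g : K → K)) DFunLike.coe_injective
  have h2 : Subgroup.centralizer (A : Set D) = f.σ.ker := by
    ext d
    rw [MonoidHom.mem_ker, f.hc]
  rw [h2, Subgroup.index_ker, ← h1]
  exact Subgroup.card_le_card_group _

omit [Finite K] in
/-- The centralizer acts linearly. -/
theorem FD.commute (f : FD A E K) {d : D} (hd : d ∈ Subgroup.centralizer (A : Set D)) (k : K) (e : E) :
    d • (k • e) = k • (d • e) := by
  rw [f.hσ, (f.hc d).2 hd]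
  rfl

end Cfsg.Agent.H698.Fld
end

-- part: H698/CaseS
section
/-!
# The case of a component
-/

set_option autoImplicit false

namespace Cfsg.Agent.H698.CaseS

open Cfsg Cfsg.Agent.H717.FieldOf Cfsg.Agent.H698.Orb Cfsg.Agent.H698.Idem Cfsg.Agent.H698.Env Cfsg.Agent.H698.Dich
open Cfsg.Agent.H698.Lay Cfsg.Agent.H698.Fld
open Cfsg.Agent.SignalizersComponents.Components
open scoped commutatorElement

universe u v

section Aut

variable {L : Type*} [Group L]

/-- An automorphism of a perfect group which is trivial modulo the centre is trivial. -/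
theorem eq_one_of_quot_eq_one (hL : Group.IsPerfect L) {φ : MulAut L}
    (h : StdRank2.OutAct.quot L φ = 1) : φ = 1 := by
  have h1 : ∀ x : L, x⁻¹ * φ x ∈ Subgroup.center L := by
    intro x
    have h2 : StdRank2.OutAct.quot L φ (QuotientGroup.mk x) = QuotientGroup.mk x := by rw [h]; rfl
    exact QuotientGroup.eq.1 h2.symm
  let f : L →* Subgroup.center L :=
    { toFun := fun x => ⟨x⁻¹ * φ x, h1 x⟩
      map_one' := by
        apply Subtype.ext
        simp only [_root_.inv_one, _root_.map_one, _root_.mul_one, _root_.OneMemClass.coe_one]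
      map_mul' := fun x y => by
        apply Subtype.ext
        change (x * y)⁻¹ * φ (x * y) = (x⁻¹ * φ x) * (y⁻¹ * φ y)
        have h3 := Subgroup.mem_center_iff.1 (h1 x) y⁻¹
        rw [map_mul, mul_inv_rev]
        calc y⁻¹ * x⁻¹ * (φ x * φ y) = (y⁻¹ * (x⁻¹ * φ x)) * φ y := by group
          _ = (x⁻¹ * φ x) * y⁻¹ * φ y := by rw [h3]
          _ = (x⁻¹ * φ x) * (y⁻¹ * φ y) := by group }
  apply MulEquiv.ext
  intro x
  have h4 : f x = 1 := by
    have h41 : commutator L ≤ f.ker := by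
      rw [commutator_def, Subgroup.commutator_le]
      intro a _ b _
      rw [MonoidHom.mem_ker, map_commutatorElement, commutatorElement_eq_one_iff_mul_comm]
      apply Subtype.ext
      exact Subgroup.mem_center_iff.1 (f b).2 _
    rw [hL.commutator_eq_top] at h41
    exact h41 (Subgroup.mem_top x)
  have h5 : x⁻¹ * φ x = 1 := congrArg Subtype.val h4
  change φ x = x
  rw [inv_mul_eq_one] at h5
  exact h5.symm

end Aut

section

variable {D : Type u} [Group D] (K : Subgroup D) [K.Normal]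

/-- The action on the simple quotient. -/
def psi : D →* MulAut (K ⧸ Subgroup.center K) := (StdRank2.OutAct.quot K).comp (MulAut.conjNormal (H := K))

theorem psi_ker (hK : Group.IsPerfect K) : (psi K).ker = Subgroup.centralizer (K : Set D) := by
  ext d
  rw [MonoidHom.mem_ker, Subgroup.mem_centralizer_iff]
  constructor
  · intro h k hk
    have h1 : MulAut.conjNormal (H := K) d = 1 := eq_one_of_quot_eq_one hK h
    have h2 : ((MulAut.conjNormal (H := K) d ⟨k, hk⟩ : K) : D) = k := by rw [h1]; rfl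
    rw [MulAut.conjNormal_apply] at h2
    calc k * d = (d * k * d⁻¹) * d := by rw [h2]
      _ = d * k := by group
  · intro h
    have h1 : MulAut.conjNormal (H := K) d = 1 := by
      apply MulEquiv.ext
      intro k
      apply Subtype.ext
      rw [MulAut.conjNormal_apply, ← h k k.2]
      change (k : D) * d * d⁻¹ = k
      group
    change StdRank2.OutAct.quot K (MulAut.conjNormal (H := K) d) = 1
    rw [h1, map_one]

theorem conj_range_le : (MulAut.conj : (K ⧸ Subgroup.center K) →* MulAut (K ⧸ Subgroup.center K)).range ≤ (psi K).range := by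
  rintro _ ⟨t, rfl⟩
  obtain ⟨k, rfl⟩ := QuotientGroup.mk_surjective t
  refine ⟨(k : D), ?_⟩
  apply MulEquiv.ext
  intro x
  induction x using QuotientGroup.induction_on with
  | H x =>
    change ((MulAut.conjNormal (H := K) (k : D) x : K) : K ⧸ Subgroup.center K) = _
    have h1 : MulAut.conjNormal (H := K) (k : D) x = k * x * k⁻¹ := by
      apply Subtype.ext
      rw [MulAut.conjNormal_apply]
      rfl
    rw [h1]
    rfl

end

/-- The representation of a subgroup centralizing `A`. -/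
noncomputable def lin {D : Type u} {E : Type u} [Group D] [AddCommGroup E] [DistribMulAction D E]
    {A : Subgroup D} {F : Type u} [Field F] [Module F E] (f : FD A E F) (P : Subgroup D)
    (hP : P ≤ Subgroup.centralizer (A : Set D)) : P →* (E →ₗ[F] E) where
  toFun g :=
    { toFun := fun e => (g : D) • e
      map_add' := fun a b => smul_add _ a b
      map_smul' := fun k e => f.commute (hP g.2) k e }
  map_one' := by
    refine LinearMap.ext fun v => ?_
    exact one_smul D v
  map_mul' := fun g g' => by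
    refine LinearMap.ext fun v => ?_
    exact mul_smul (g : D) (g' : D) v

/-- The matrix representation. -/
noncomputable def mat {D : Type u} {E : Type u} [Group D] [AddCommGroup E] [DistribMulAction D E]
    {A : Subgroup D} {F : Type u} [Field F] [Module F E] [Module.Finite F E] (f : FD A E F) (P : Subgroup D)
    (hP : P ≤ Subgroup.centralizer (A : Set D)) {m : ℕ} (hm : Module.finrank F E = m) :
    P →* Matrix.GeneralLinearGroup (Fin m) F :=
  ((LinearMap.toMatrixAlgEquiv (Module.finBasisOfFinrankEq F E hm)).toMonoidHom.comp (lin f P hP)).toHomUnits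

theorem mat_injective {D : Type u} {E : Type u} [Group D] [AddCommGroup E] [DistribMulAction D E] [FaithfulSMul D E]
    {A : Subgroup D} {F : Type u} [Field F] [Module F E] [Module.Finite F E] (f : FD A E F) (P : Subgroup D)
    (hP : P ≤ Subgroup.centralizer (A : Set D)) {m : ℕ} (hm : Module.finrank F E = m) :
    Function.Injective (mat f P hP hm) := by
  intro a b h
  have h1 := congrArg (fun x : Matrix.GeneralLinearGroup (Fin m) F => (x : Matrix (Fin m) (Fin m) F)) h
  have h2 : lin f P hP a = lin f P hP b :=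
    (LinearMap.toMatrixAlgEquiv (Module.finBasisOfFinrankEq F E hm)).injective h1
  apply Subtype.ext
  apply FaithfulSMul.eq_of_smul_eq_smul (α := E)
  intro e
  exact LinearMap.congr_fun h2 e

theorem not_comm_quot {K : Type u} [Group K] (hK : IsQuasisimple K) : ¬ IsMulCommutative (K ⧸ Subgroup.center K) := by
  intro h
  have hc := h.is_comm.comm
  apply quasisimple_center_ne_top hK
  rw [eq_top_iff, ← hK.1.commutator_eq_top, commutator_def, Subgroup.commutator_le]
  intro x _ y _
  rw [← QuotientGroup.eq_one_iff]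
  have h1 : (QuotientGroup.mk' (Subgroup.center K)) ⁅x, y⁆ = 1 := by
    rw [map_commutatorElement, commutatorElement_eq_one_iff_mul_comm]
    exact hc _ _
  exact h1

theorem arith1 {a q : ℕ} (hq : 1 ≤ q) : a * (q - 1) + 1 ≤ q ^ a := by
  obtain ⟨r, rfl⟩ : ∃ r, q = r + 1 := ⟨q - 1, by omega⟩
  rw [Nat.add_sub_cancel]
  induction a with
  | zero => simp
  | succ a ih =>
    have h1 : (r + 1) ^ (a + 1) = (r + 1) ^ a * r + (r + 1) ^ a := by ring
    have h2 : 1 ≤ (r + 1) ^ a := Nat.one_le_pow _ _ (by omega)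
    have h3 : r ≤ (r + 1) ^ a * r := by nlinarith only [h2]
    calc (a + 1) * r + 1 = (a * r + 1) + r := by ring
      _ ≤ (r + 1) ^ a + (r + 1) ^ a * r := by omega
      _ = _ := by rw [h1]; ring

theorem arith2 {a : ℕ} (ha : 2 ≤ a) : 60 * a ^ 2 < 11 ^ (a + 1) := by
  obtain ⟨k, rfl⟩ : ∃ k, a = k + 2 := ⟨a - 2, by omega⟩
  induction k with
  | zero => norm_num
  | succ k ih =>
    have h1 := ih (by omega)
    have h2 : 11 ^ (k + 1 + 2 + 1) = 11 * 11 ^ (k + 2 + 1) := by ring
    rw [h2]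
    nlinarith

theorem comm_gl_one {F : Type*} [Field F] (x y : Matrix.GeneralLinearGroup (Fin 1) F) : x * y = y * x := by
  apply Units.ext
  ext i j
  rw [Units.val_mul, Units.val_mul, Matrix.mul_apply, Matrix.mul_apply, Fin.sum_univ_one, Fin.sum_univ_one]
  have hi : i = 0 := Subsingleton.elim _ _
  have hj : j = 0 := Subsingleton.elim _ _
  rw [hi, hj, mul_comm]

/-- **The case of a component.** -/
theorem main {D E : Type u} [Group D] [Finite D] [AddCommGroup E] [Finite E] [Nontrivial E] [DistribMulAction D E]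
    [FaithfulSMul D E]
    (hF : ∀ (T : Type u) [Group T] [Finite T] [IsSimpleGroup T], ¬ IsMulCommutative T → Fine.{u, u} T)
    (h2 : TwoOrb D E) {p n : ℕ} (hp : p.Prime) (hp11 : 11 ≤ p) (hpE : ∀ e : E, p • e = 0) (hcop : ¬ p ∣ Nat.card D)
    (hn : 4 ≤ n) (hE : Nat.card E = p ^ n) (hni : ¬ Imprim D E) {K : Subgroup D} (hK : IsComponent K) :
    p ≤ 2 * Nat.card (ConjClasses D) := by
  have hpf : Fact p.Prime := ⟨hp⟩
  have hKn : K.Normal := comp_normal h2 hp hpE hcop hni hK
  have hirr := comp_irred h2 hp hpE hcop hni hK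
  obtain ⟨A, hAdef⟩ : ∃ A : Subgroup D, A = Subgroup.centralizer (K : Set D) := ⟨_, rfl⟩
  have hAn : A.Normal := by rw [hAdef]; infer_instance
  have hAK : ∀ a ∈ A, ∀ k ∈ K, k * a = a * k := by
    intro a ha k hk
    rw [hAdef, Subgroup.mem_centralizer_iff] at ha
    exact ha k hk
  have hAc : ∀ a ∈ A, ∀ b ∈ A, a * b = b * a := fun a ha b hb =>
    centralizer_comm hirr (hAK a ha) (hAK b hb)
  have hS : Scal E A := by
    rcases dich h2 hp hpE hcop A with h | h | h
    · exact absurd h hni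
    · exact h.scal hAc
    · exact h
  obtain ⟨F, _, _, _, ⟨f⟩⟩ := exists_fd A hS
  obtain ⟨a, ha1, hFa, hCa⟩ := f.numbers hp hpE
  have hchar : CharP F p := charP hp hpE
  have hfinFE : Module.Finite F E := Module.Finite.of_finite
  obtain ⟨m, hm⟩ : ∃ m, Module.finrank F E = m := ⟨_, rfl⟩
  have hnam : n = a * m := by
    have h3 := Module.natCard_eq_pow_finrank (K := F) (V := E)
    rw [hm, hFa, hE, ← pow_mul] at h3
    exact Nat.pow_right_injective hp.two_le h3
  have hKC : K ≤ Subgroup.centralizer (A : Set D) := by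
    intro k hk
    rw [Subgroup.mem_centralizer_iff]
    intro b hb
    exact (hAK b hb k hk).symm
  obtain ⟨z, hz1, hz2⟩ := Count.count A hCa
  have hDcard := Count.card_le h2
  have hker : (psi K).ker = A := by rw [hAdef]; exact psi_ker K hK.2.1
  let e : (D ⧸ A) ≃* (psi K).range :=
    (QuotientGroup.quotientMulEquivOfEq hker.symm).trans (QuotientGroup.quotientKerEquivRange (psi K))
  have hXq : Nat.card (D ⧸ A) = Nat.card (psi K).range := Nat.card_congr e.toEquiv
  have hXcl : Nat.card (ConjClasses (D ⧸ A)) = Nat.card (ConjClasses (psi K).range) :=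
    H697.ClassCount.card_conjClasses_congr e
  have hDA : Nat.card D = Nat.card (psi K).range * Nat.card A := by
    rw [← hXq]
    exact Subgroup.card_eq_card_quotient_mul_card_subgroup A
  have hsimple : IsSimpleGroup (K ⧸ Subgroup.center K) := hK.2.2
  have hna := not_comm_quot hK.2
  have hnc := quasisimple_not_isMulCommutative hK.2
  have hm0 : m ≠ 0 := by
    rintro rfl
    omega
  rcases Nat.lt_or_ge m 3 with hm3 | hm3
  · have hm12 : m = 1 ∨ m = 2 := by omega
    rcases hm12 with rfl | rfl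
    · exfalso
      apply hnc
      refine ⟨⟨fun x y => mat_injective f K hKC hm ?_⟩⟩
      rw [map_mul, map_mul]
      exact comm_gl_one _ _
    · -- dimension two
      by_contra hcon
      push Not at hcon
      obtain ⟨C, hCdef⟩ : ∃ C : Subgroup D, C = Subgroup.centralizer (A : Set D) := ⟨_, rfl⟩
      have hCle : C ≤ Subgroup.centralizer (A : Set D) := hCdef.le
      have hKC' : K ≤ C := by rw [hCdef]; exact hKC
      have hcopC : ¬ p ∣ Nat.card C := fun h => hcop (h.trans (Subgroup.card_subgroup_dvd_card C))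
      have hfs : FaithfulSMul C E := ⟨fun {x y} h => Subtype.ext
        (FaithfulSMul.eq_of_smul_eq_smul (α := E) fun e => h e)⟩
      obtain ⟨Z, hZn, hZ, hcases⟩ := H717.Dickson.cases (K := F) p (D := C) (E := E) hm
        (fun d c e => f.commute (hCle d.2) c e) hcopC
      have hZle : Nat.card Z ≤ Nat.card A := by
        refine Nat.card_le_card_of_injective
          (fun x : Z => (⟨((x : C) : D), ?_⟩ : A)) ?_
        · rw [hAdef, Subgroup.mem_centralizer_iff]
          intro k hk
          obtain ⟨c, hc⟩ := (hZ x).1 x.2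
          apply FaithfulSMul.eq_of_smul_eq_smul (α := E)
          intro v
          have h3 : ∀ w : E, ((x : C) : D) • w = c • w := hc
          rw [mul_smul, mul_smul, h3, h3, f.commute (hKC hk)]
        · intro x y hxy
          apply Subtype.ext
          apply Subtype.ext
          exact congrArg (fun x : A => (x : D)) hxy
      have hidx : Nat.card (C ⧸ Z) ≤ 60 := by
        rcases hcases with ⟨B, hBn, hBc, hBi, -⟩ | ⟨⟨g⟩⟩ | ⟨⟨g⟩⟩ | ⟨⟨g⟩⟩
        · exfalso
          apply hnc
          have hKB : K.subgroupOf C ≤ B := by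
            have hperf : ⁅K, K⁆ = K := component_commutator_self hK
            have hBcomm : ∀ x y : C, ⁅x, y⁆ ∈ B := by
              intro x y
              have h3 : Nat.card (C ⧸ B) ∣ 2 := hBi
              have h4 : ∀ u v : C ⧸ B, u * v = v * u := by
                rcases (Nat.dvd_prime Nat.prime_two).1 h3 with h5 | h5
                · have := (Nat.card_eq_one_iff_unique.1 h5).1
                  exact fun u v => Subsingleton.elim _ _
                · have : Fact (Nat.Prime 2) := ⟨Nat.prime_two⟩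
                  have hcyc : IsCyclic (C ⧸ B) := isCyclic_of_prime_card h5
                  exact fun u v => (IsCyclic.commGroup (α := C ⧸ B)).mul_comm u v
              rw [← QuotientGroup.eq_one_iff]
              have h5 : (QuotientGroup.mk' B) ⁅x, y⁆ = 1 := by
                rw [map_commutatorElement, commutatorElement_eq_one_iff_mul_comm]
                exact h4 _ _
              exact h5
            have h6 : K ≤ B.map C.subtype := by
              rw [← hperf, Subgroup.commutator_le]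
              intro x hx y hy
              exact ⟨⁅(⟨x, hKC' hx⟩ : C), (⟨y, hKC' hy⟩ : C)⁆, hBcomm _ _, rfl⟩
            intro x hx
            obtain ⟨y, hy, hyx⟩ := h6 (Subgroup.mem_subgroupOf.1 hx)
            have : y = x := Subtype.ext hyx
            rwa [← this]
          refine ⟨⟨fun x y => Subtype.ext ?_⟩⟩
          have h7 := hBc ⟨x, hKC' x.2⟩ (hKB x.2) ⟨y, hKC' y.2⟩ (hKB y.2)
          exact congrArg (fun x : C => (x : D)) h7
        · rw [Nat.card_congr g.toEquiv, nat_card_alternatingGroup, Nat.card_eq_fintype_card, Fintype.card_fin]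
          decide
        · rw [Nat.card_congr g.toEquiv, Nat.card_perm, Nat.card_eq_fintype_card, Fintype.card_fin]
          decide
        · rw [Nat.card_congr g.toEquiv, nat_card_alternatingGroup, Nat.card_eq_fintype_card, Fintype.card_fin]
          decide
      have hCcard : Nat.card C ≤ 60 * Nat.card A := by
        rw [Subgroup.card_eq_card_quotient_mul_card_subgroup Z]
        exact Nat.mul_le_mul hidx hZle
      have hDC : Nat.card D ≤ Nat.card C * a := by
        rw [← C.card_mul_index]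
        refine Nat.mul_le_mul_left _ ?_
        rw [hCdef]
        exact hCa
      have hpos : 1 ≤ Nat.card (ConjClasses (D ⧸ A)) := Nat.card_pos
      have hz3 : 2 * z ≤ p - 1 := by omega
      have ha2 : 2 ≤ a := by omega
      have h60 := arith2 ha2
      have h8 : 2 * Nat.card D ≤ 60 * a ^ 2 * (p - 1) := by
        calc 2 * Nat.card D ≤ 2 * (Nat.card C * a) := Nat.mul_le_mul_left _ hDC
          _ ≤ 2 * (60 * Nat.card A * a) := Nat.mul_le_mul_left _ (Nat.mul_le_mul_right _ hCcard)
          _ ≤ 2 * (60 * (a * z) * a) :=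
              Nat.mul_le_mul_left _ (Nat.mul_le_mul_right _ (Nat.mul_le_mul_left _ hz1))
          _ = 60 * a ^ 2 * (2 * z) := by ring
          _ ≤ _ := Nat.mul_le_mul_left _ hz3
      have h9 : p ^ (a + 1) * (p - 1) + 1 ≤ p ^ (a * 2) := by
        have h10 : p ^ (a * 2) = p ^ (a + 2) * p ^ (a - 2) := by
          rw [← pow_add]
          congr 1
          omega
        have h11 : 1 ≤ p ^ (a - 2) := Nat.one_le_pow _ _ hp.pos
        have h12 : p ^ (a + 2) = p ^ (a + 1) * (p - 1) + p ^ (a + 1) := by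
          have : p ^ (a + 2) = p ^ (a + 1) * ((p - 1) + 1) := by
            rw [Nat.sub_add_cancel hp.one_le]
            ring
          rw [this]
          ring
        have h13 : 1 ≤ p ^ (a + 1) := Nat.one_le_pow _ _ hp.pos
        have h17 : p ^ (a + 2) ≤ p ^ (a + 2) * p ^ (a - 2) := Nat.le_mul_of_pos_right _ h11
        omega
      have h14 : 11 ^ (a + 1) ≤ p ^ (a + 1) := Nat.pow_le_pow_left hp11 _
      have h15 : 1 ≤ p - 1 := by omega
      have h16 : 60 * a ^ 2 * (p - 1) < p ^ (a + 1) * (p - 1) :=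
        Nat.mul_lt_mul_of_pos_right (by omega) (by omega)
      rw [hE, hnam] at hDcard
      omega
  · -- dimension at least three
    have hrep : Rep.{u, u} p m (K ⧸ Subgroup.center K) := by
      refine ⟨F, inferInstance, inferInstance, hchar, K, inferInstance, inferInstance, QuotientGroup.mk' _,
        mat f K hKC hm, QuotientGroup.mk'_surjective _, ?_, hK.2.1.commutator_eq_top, mat_injective f K hKC hm, ?_⟩
      · rw [QuotientGroup.ker_mk']
      · exact fun h => hcop (h.trans (Subgroup.card_subgroup_dvd_card K))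
    have hpT : ¬ p ∣ Nat.card (K ⧸ Subgroup.center K) := fun h =>
      hcop ((h.trans (Subgroup.card_quotient_dvd_card _)).trans (Subgroup.card_subgroup_dvd_card K))
    have hineq : p ^ m ≤ 2 * z * Nat.card (psi K).range + 1 := by
      have h3 := arith1 (a := a) (q := p ^ m) (Nat.one_le_pow _ _ hp.pos)
      rw [← pow_mul, mul_comm m a] at h3
      have h4 : 2 * Nat.card D ≤ a * (2 * z * Nat.card (psi K).range) := by
        rw [hDA]
        calc 2 * (Nat.card (psi K).range * Nat.card A) ≤ 2 * (Nat.card (psi K).range * (a * z)) :=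
              Nat.mul_le_mul_left _ (Nat.mul_le_mul_left _ hz1)
          _ = _ := by ring
      rw [hE, hnam] at hDcard
      have h5 : a * (p ^ m - 1) ≤ a * (2 * z * Nat.card (psi K).range) := by omega
      have h6 := Nat.le_of_mul_le_mul_left h5 (by omega)
      omega
    have hfine := hF (K ⧸ Subgroup.center K) hna p m hp hp11 hpT hm3 hrep (psi K).range (conj_range_le K) z hineq
    rw [hXcl] at hz2
    omega

end Cfsg.Agent.H698.CaseS
end

-- part: H698/LinInd
section
/-!
# Linear independence of coset representatives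
-/

set_option autoImplicit false

namespace Cfsg.Agent.H698.LinInd

open Cfsg.Agent.H698.Fld Cfsg.Agent.H698.CaseS

universe u v

/-- Joint eigenvectors with distinct joint eigenvalues are independent. -/
theorem linearIndependent {F V ι Y : Type*} [Field F] [AddCommGroup V] [Module F V] (x : ι → V) (hx : ∀ i, x i ≠ 0)
    (T : Y → V →ₗ[F] V) (l : ι → Y → F) (hT : ∀ y i, T y (x i) = l i y • x i)
    (hl : ∀ i j, i ≠ j → ∃ y, l i y ≠ l j y) : LinearIndependent F x := by
  classical
  rw [linearIndependent_iff']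
  intro s
  induction s using Finset.induction_on with
  | empty =>
    intro g _ i hi
    exact absurd hi (Finset.notMem_empty i)
  | insert j s hj ih =>
    intro g hg
    have key : ∀ i ∈ s, g i = 0 := by
      intro i hi
      obtain ⟨y, hy⟩ := hl i j (fun h => hj (h ▸ hi))
      have h1 : ∑ i ∈ s, (g i * (l i y - l j y)) • x i = 0 := by
        have h2 := congrArg (T y) hg
        rw [map_sum, map_zero, Finset.sum_insert hj] at h2
        rw [Finset.sum_insert hj] at hg
        have h3 : ∑ i ∈ s, (g i * (l i y - l j y)) • x i =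
            (T y (g j • x j) + ∑ i ∈ s, T y (g i • x i)) - l j y • (g j • x j + ∑ i ∈ s, g i • x i) := by
          rw [map_smul, hT, smul_add, Finset.smul_sum, add_sub_add_comm, smul_comm (g j), sub_self, zero_add,
            ← Finset.sum_sub_distrib]
          refine Finset.sum_congr rfl fun k _ => ?_
          rw [map_smul, hT, smul_smul, smul_smul, ← sub_smul]
          congr 1
          ring
        rw [h3, h2, hg, smul_zero, sub_zero]
      have h4 := ih _ h1 i hi
      rcases mul_eq_zero.1 h4 with h5 | h5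
      · exact h5
      · exact absurd (sub_eq_zero.1 h5) hy
    intro i hi
    rcases Finset.mem_insert.1 hi with rfl | hi
    · rw [Finset.sum_insert hj, Finset.sum_eq_zero (fun k hk => by rw [key k hk, zero_smul]), add_zero] at hg
      rcases smul_eq_zero.1 hg with h5 | h5
      · exact h5
      · exact absurd h5 (hx i)
    · exact key i hi

open scoped commutatorElement

/-- **A class-two linear group is not larger than the full endomorphism ring.** -/
theorem relIndex_le {D E : Type u} [Group D] [Finite D] [AddCommGroup E] [Finite E] [Nontrivial E]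
    [DistribMulAction D E] [FaithfulSMul D E] {A : Subgroup D} {F : Type u} [Field F] [Module F E]
    [Module.Finite F E] (f : FD A E F) {N : Subgroup D} (hN : N ≤ Subgroup.centralizer (A : Set D))
    (hcomm : ∀ x ∈ N, ∀ y ∈ N, ⁅x, y⁆ ∈ A) (hZ : ∀ x ∈ N, (∀ y ∈ N, x * y = y * x) → x ∈ A) {m : ℕ}
    (hm : Module.finrank F E = m) : A.relIndex N ≤ m ^ 2 := by
  classical
  have hfin : Finite (N ⧸ A.subgroupOf N) := inferInstance
  have : Fintype (N ⧸ A.subgroupOf N) := Fintype.ofFinite _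
  let x : N ⧸ A.subgroupOf N → (E →ₗ[F] E) := fun q => lin f N hN q.out
  let T : N → (E →ₗ[F] E) →ₗ[F] (E →ₗ[F] E) := fun y =>
    { toFun := fun g => lin f N hN y * g * lin f N hN y⁻¹
      map_add' := fun a b => by rw [mul_add, add_mul]
      map_smul' := fun c a => by
        rw [RingHom.id_apply, mul_smul_comm, smul_mul_assoc] }
  let l : N ⧸ A.subgroupOf N → N → F := fun q y =>
    ((f.φ ⟨⁅(y : D), (q.out : D)⁆, hcomm _ y.2 _ q.out.2⟩ : Fˣ) : F)
  have hli : LinearIndependent F x := by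
    refine linearIndependent x ?_ T l ?_ ?_
    · intro q h
      obtain ⟨v, hv⟩ := exists_ne (0 : E)
      have h1 : ((q.out : N) : D) • v = 0 := LinearMap.congr_fun h v
      exact hv ((smul_eq_zero_iff_eq ((q.out : N) : D)).1 h1)
    · intro y q
      refine LinearMap.ext fun v => ?_
      change (y : D) • (((q.out : N) : D) • (((y⁻¹ : N) : D) • v)) = l q y • (((q.out : N) : D) • v)
      change _ = ((f.φ ⟨⁅(y : D), (q.out : D)⁆, hcomm _ y.2 _ q.out.2⟩ : Fˣ) : F) • (((q.out : N) : D) • v)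
      rw [f.hφ, ← mul_smul, ← mul_smul, ← mul_smul]
      congr 1
      change (y : D) * ((q.out : N) : D) * (y : D)⁻¹ =
        ((y : D) * ((q.out : N) : D) * (y : D)⁻¹ * (((q.out : N) : D))⁻¹) * ((q.out : N) : D)
      group
    · intro q q' hne
      by_contra hcon
      push Not at hcon
      apply hne
      have h1 : ∀ y : N, ⁅(y : D), (q.out : D)⁆ = ⁅(y : D), (q'.out : D)⁆ := by
        intro y
        have h2 := f.injective (Units.ext (hcon y))
        exact congrArg Subtype.val h2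
      have h3 : (((q'.out : N) : D))⁻¹ * ((q.out : N) : D) ∈ A := by
        refine hZ _ (N.mul_mem (N.inv_mem q'.out.2) q.out.2) ?_
        intro y hy
        have h4 := h1 ⟨y⁻¹, N.inv_mem hy⟩
        rw [commutatorElement_def, commutatorElement_def] at h4
        have h5 : ((q.out : N) : D) * y * (((q.out : N) : D))⁻¹ = ((q'.out : N) : D) * y * (((q'.out : N) : D))⁻¹ := by
          have h6 := congrArg (fun t => y * t) h4
          simp only [inv_inv] at h6
          have e1 : ∀ u : D, y * (y⁻¹ * u * y * u⁻¹) = u * y * u⁻¹ := fun u => by group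
          rwa [e1, e1] at h6
        calc (((q'.out : N) : D))⁻¹ * ((q.out : N) : D) * y =
            (((q'.out : N) : D))⁻¹ * (((q.out : N) : D) * y * (((q.out : N) : D))⁻¹) * ((q.out : N) : D) := by group
          _ = (((q'.out : N) : D))⁻¹ * (((q'.out : N) : D) * y * (((q'.out : N) : D))⁻¹) * ((q.out : N) : D) := by
              rw [h5]
          _ = _ := by group
      have h4 : (q'.out : N ⧸ A.subgroupOf N) = (q.out : N ⧸ A.subgroupOf N) := by
        rw [QuotientGroup.eq, Subgroup.mem_subgroupOf]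
        exact h3
      have h5 : ∀ q : N ⧸ A.subgroupOf N, ((q.out : N) : N ⧸ A.subgroupOf N) = q := fun q => QuotientGroup.out_eq' q
      rw [← h5 q, ← h5 q', h4]
  have h1 := hli.fintype_card_le_finrank
  rw [Module.finrank_linearMap, hm] at h1
  have h2 : A.relIndex N = Fintype.card (N ⧸ A.subgroupOf N) := by
    rw [← Nat.card_eq_fintype_card]
    rfl
  rw [h2, sq]
  exact h1

end Cfsg.Agent.H698.LinInd
end
end
end

-- part: H697/ThreeB_mg
section
prune_inst 0x2
set_option linter.all false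
open scoped Cfsg.Agent.FastGrp

-- part: H697/ThreeDefs
section
/-!
# `p`-solvable groups with three classes of `p`-elements: definitions for the linear part
-/

set_option autoImplicit false

universe u

namespace Cfsg.Agent.H697.Three

open Module

/-- A linear group with exactly two orbits on nonzero vectors. -/
def TwoOrb {p : ℕ} {V : Type u} [AddCommGroup V] [Module (ZMod p) V]
    (H : Subgroup (V ≃ₗ[ZMod p] V)) : Prop :=
  ∃ v₁ v₂ : V, v₁ ≠ 0 ∧ v₂ ≠ 0 ∧ (∀ h ∈ H, h v₁ ≠ v₂) ∧
    ∀ w : V, w ≠ 0 → (∃ h ∈ H, h v₁ = w) ∨ (∃ h ∈ H, h v₂ = w)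

/-- Irreducibility. -/
def Irr {p : ℕ} {V : Type u} [AddCommGroup V] [Module (ZMod p) V]
    (H : Subgroup (V ≃ₗ[ZMod p] V)) : Prop :=
  ∀ W : Submodule (ZMod p) V, (∀ h ∈ H, ∀ v ∈ W, h v ∈ W) → W = ⊥ ∨ W = ⊤

/-- The linear statement: irreducible `p'`-groups with two orbits have many classes. -/
def LinStmt (p : ℕ) : Prop :=
  ∀ (V : Type u) [AddCommGroup V] [Module (ZMod p) V] [Finite V] [Nontrivial V]
    (H : Subgroup (V ≃ₗ[ZMod p] V)), ¬ p ∣ Nat.card H → TwoOrb H → Irr H →
    2 ≤ finrank (ZMod p) V → p ≤ 2 * Nat.card (ConjClasses H)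

end Cfsg.Agent.H697.Three
end

-- part: H697/ThreeA
section
/-!
# `p`-solvable groups with three classes of `p`-elements: reduction to linear groups
-/

set_option autoImplicit false
set_option linter.style.haveILetI false

universe u

namespace Cfsg.Agent.H697.Three

open Pk Module
open scoped Pointwise

variable {p : ℕ} [hp : Fact p.Prime]

section embed

variable {Q : Type*} [Group Q] [Finite Q]
variable (V H : Subgroup Q) (hVn : V.Normal) (hcardV : Nat.card V = p)
  (hH : Subgroup.IsComplement' V H) (hcent : ∀ g : Q, (∀ v ∈ V, g * v = v * g) → g ∈ V)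

include hVn hcardV hH hcent

/-- Embedding in the affine group. -/
theorem affine_embed : ∃ f : Q →* Cfsg.affineGroup (ZMod p), Function.Injective f := by
  classical
  have hp' : p.Prime := hp.out
  have : Nontrivial V := Finite.one_lt_card_iff_nontrivial.1 (by rw [hcardV]; exact hp'.one_lt)
  obtain ⟨⟨x, hx⟩, hx1⟩ := exists_ne (1 : V)
  have hx1' : x ≠ 1 := fun h => hx1 (Subtype.ext h)
  have hxp : x ^ p = 1 := by
    have : (⟨x, hx⟩ : V) ^ Nat.card V = 1 := pow_card_eq_one'
    rw [hcardV] at this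
    exact congrArg Subtype.val this
  have hxo : orderOf x = p := orderOf_eq_prime hxp hx1'
  have hVx : Subgroup.zpowers x = V := by
    apply Subgroup.eq_of_le_of_card_ge (by rw [Subgroup.zpowers_le]; exact hx)
    rw [hcardV, Nat.card_zpowers, hxo]
  have hdisj := hH.disjoint
  have hcx : ∀ g : Q, g * x = x * g → g ∈ V := by
    intro g hg
    apply hcent
    intro v hv
    rw [← hVx] at hv
    obtain ⟨i, rfl⟩ := hv
    exact ((show Commute g x from hg).zpow_right i).eq
  -- the cosets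
  let e₀ : ZMod p → Q ⧸ H := fun i => ((x ^ i.val : Q) : Q ⧸ H)
  have he₀ : Function.Injective e₀ := by
    intro i j hij
    have h1 : (x ^ i.val)⁻¹ * x ^ j.val ∈ H := QuotientGroup.eq.1 hij
    have h2 : (x ^ i.val)⁻¹ * x ^ j.val ∈ V := V.mul_mem (V.inv_mem (V.pow_mem hx _)) (V.pow_mem hx _)
    have h3 := Subgroup.disjoint_def.1 hdisj h2 h1
    have h4 : x ^ i.val = x ^ j.val := inv_mul_eq_one.1 h3
    have h5 := pow_injOn_Iio_orderOf (x := x) (by rw [hxo]; exact ZMod.val_lt i)
      (by rw [hxo]; exact ZMod.val_lt j) h4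
    exact ZMod.val_injective p h5
  have hcardQH : Nat.card (Q ⧸ H) = p := by
    rw [← hcardV]
    exact hH.index_eq_card
  have he₀b : Function.Bijective e₀ := by
    have := Fintype.ofFinite (Q ⧸ H)
    rw [Fintype.bijective_iff_injective_and_card]
    refine ⟨he₀, ?_⟩
    rw [ZMod.card, ← Nat.card_eq_fintype_card, hcardQH]
  let e : ZMod p ≃ Q ⧸ H := Equiv.ofBijective e₀ he₀b
  have hepow : ∀ n : ℤ, e (n : ZMod p) = ((x ^ n : Q) : Q ⧸ H) := by
    intro n
    show ((x ^ (n : ZMod p).val : Q) : Q ⧸ H) = _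
    congr 1
    rw [← zpow_natCast, ZMod.val_intCast, ← hxo, zpow_mod_orderOf]
  let φ : Q →* Equiv.Perm (ZMod p) :=
    (e.symm.permCongrHom.toMonoidHom).comp (MulAction.toPermHom Q (Q ⧸ H))
  have hφ : ∀ g i, e (φ g i) = g • e i := by
    intro g i
    show e (e.symm (g • e.symm.symm i)) = _
    rw [Equiv.apply_symm_apply, Equiv.symm_symm]
  have haff : ∀ g, φ g ∈ Cfsg.affineGroup (ZMod p) := by
    intro g
    have hg' : g ∈ (V : Set Q) * (H : Set Q) := by
      rw [Subgroup.IsComplement.mul_eq hH]; trivial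
    obtain ⟨y, hy, h, hh, rfl⟩ := hg'
    have hy' : y ∈ V := hy
    rw [← hVx] at hy'
    obtain ⟨b, rfl⟩ := hy'
    have hk := hVn.conj_mem x hx h
    rw [← hVx] at hk
    obtain ⟨a, ha⟩ := hk
    have ha' : x ^ a = h * x * h⁻¹ := ha
    have ha0 : ((a : ℤ) : ZMod p) ≠ 0 := by
      intro h0
      rw [ZMod.intCast_zmod_eq_zero_iff_dvd] at h0
      obtain ⟨c, rfl⟩ := h0
      rw [zpow_mul, zpow_natCast, hxp, one_zpow] at ha'
      have := mul_inv_eq_one.1 ha'.symm
      exact hx1' (mul_left_cancel (this.trans (mul_one _).symm))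
    refine ⟨Units.mk0 _ ha0, (b : ZMod p), fun i => ?_⟩
    apply e.injective
    rw [hφ]
    obtain ⟨n, rfl⟩ := ZMod.intCast_surjective i
    rw [Units.val_mk0, ← Int.cast_mul, ← Int.cast_add, hepow, hepow]
    show ((x ^ b * h * x ^ n : Q) : Q ⧸ H) = _
    rw [QuotientGroup.eq]
    have h1 : h * x ^ n * h⁻¹ = x ^ (a * n) := by
      rw [← conj_zpow, ← ha', ← zpow_mul]
    have h2 : x ^ b * h * x ^ n = x ^ (a * n + b) * h := by
      have h3 : x ^ b * h * x ^ n = x ^ b * (h * x ^ n * h⁻¹) * h := by group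
      rw [h3, h1, ← zpow_add, add_comm]
    have hh' : h ∈ H := hh
    have h3 : (x ^ b * h * x ^ n)⁻¹ * x ^ (a * n + b) = h⁻¹ := by
      rw [h2]; group
    rw [h3]
    exact H.inv_mem hh'
  let ψ : Q →* Cfsg.affineGroup (ZMod p) := φ.codRestrict _ haff
  refine ⟨ψ, ?_⟩
  rw [injective_iff_map_eq_one]
  intro g hg
  have hg1 : φ g = 1 := congrArg Subtype.val hg
  have h1 : ∀ n : ℤ, g • ((x ^ n : Q) : Q ⧸ H) = ((x ^ n : Q) : Q ⧸ H) := by
    intro n
    rw [← hepow, ← hφ, hg1]
    rfl
  have h2 : g ∈ H := by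
    have h3 := h1 0
    rw [zpow_zero] at h3
    have h4 : ((g * 1 : Q) : Q ⧸ H) = ((1 : Q) : Q ⧸ H) := h3
    rw [mul_one, QuotientGroup.eq, mul_one] at h4
    have := H.inv_mem h4
    rwa [inv_inv] at this
  have h3 : g⁻¹ * (x⁻¹ * g * x) ∈ H := by
    have h3 := h1 1
    rw [zpow_one] at h3
    have h4 : ((g * x : Q) : Q ⧸ H) = ((x : Q) : Q ⧸ H) := h3
    rw [QuotientGroup.eq] at h4
    have h5 := H.inv_mem h4
    refine H.mul_mem (H.inv_mem h2) ?_
    have h6 : ((g * x)⁻¹ * x)⁻¹ = x⁻¹ * g * x := by group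
    rwa [h6] at h5
  have h4 : g⁻¹ * (x⁻¹ * g * x) ∈ V := by
    have h5 : g⁻¹ * (x⁻¹ * g * x) = (g⁻¹ * x⁻¹ * g⁻¹⁻¹) * x := by group
    rw [h5]
    exact V.mul_mem (hVn.conj_mem _ (V.inv_mem hx) g⁻¹) hx
  have h5 : g⁻¹ * (x⁻¹ * g * x) = 1 := Subgroup.disjoint_def.1 hdisj h4 h3
  have h6 : g * x = x * g := by
    have h7 : x⁻¹ * g * x = g := by
      have := congrArg (fun z => g * z) h5
      simpa only [_root_.mul_inv_cancel_left, _root_.mul_one] using this
    have := congrArg (fun z => x * z) h7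
    simpa only [mul_assoc, _root_.mul_inv_cancel_left] using this
  exact Subgroup.disjoint_def.1 hdisj (hcx g h6) h2

end embed

/-- Two classes of nontrivial `p`-elements. -/
def TwoCl (p : ℕ) (G : Type*) [Group G] : Prop :=
  ∃ x₁ x₂ : G, x₁ ≠ 1 ∧ x₂ ≠ 1 ∧ (∃ k : ℕ, orderOf x₁ = p ^ k) ∧ (∃ k : ℕ, orderOf x₂ = p ^ k) ∧
    ¬ IsConj x₁ x₂ ∧ ∀ y : G, y ≠ 1 → (∃ k : ℕ, orderOf y = p ^ k) → IsConj x₁ y ∨ IsConj x₂ y

omit hp in
theorem twoCl_of_card {G : Type*} [Group G] [Finite G]
    (h3 : Nat.card {c : ConjClasses G // ∃ g : G, ConjClasses.mk g = c ∧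
      ∃ k : ℕ, orderOf g = p ^ k} = 3) : TwoCl p G := by
  classical
  set T := {c : ConjClasses G // ∃ g : G, ConjClasses.mk g = c ∧ ∃ k : ℕ, orderOf g = p ^ k} with hT
  have hfin : Finite T := Nat.finite_of_card_ne_zero (by rw [h3]; norm_num)
  have := Fintype.ofFinite T
  have hone : ∃ g : G, ConjClasses.mk g = (1 : ConjClasses G) ∧ ∃ k : ℕ, orderOf g = p ^ k :=
    ⟨1, rfl, 0, by rw [orderOf_one, pow_zero]⟩
  let c₀ : T := ⟨1, hone⟩
  have hcard : (Finset.univ.erase c₀).card = 2 := by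
    rw [Finset.card_erase_of_mem (Finset.mem_univ _), Finset.card_univ, ← Nat.card_eq_fintype_card, h3]
  obtain ⟨a, b, hab, hE⟩ := Finset.card_eq_two.1 hcard
  have ha : a ≠ c₀ := by
    have : a ∈ Finset.univ.erase c₀ := by rw [hE]; simp
    exact (Finset.mem_erase.1 this).1
  have hb : b ≠ c₀ := by
    have : b ∈ Finset.univ.erase c₀ := by rw [hE]; simp
    exact (Finset.mem_erase.1 this).1
  obtain ⟨ca, x₁, hx₁, hk₁⟩ := a
  obtain ⟨cb, x₂, hx₂, hk₂⟩ := b
  refine ⟨x₁, x₂, ?_, ?_, hk₁, hk₂, ?_, ?_⟩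
  · rintro rfl
    exact ha (Subtype.ext hx₁.symm)
  · rintro rfl
    exact hb (Subtype.ext hx₂.symm)
  · intro h
    apply hab
    apply Subtype.ext
    show ca = cb
    rw [← hx₁, ← hx₂]
    exact ConjClasses.mk_eq_mk_iff_isConj.2 h
  · intro y hy hky
    have h1 : (⟨ConjClasses.mk y, y, rfl, hky⟩ : T) ∈ Finset.univ.erase c₀ := by
      refine Finset.mem_erase.2 ⟨?_, Finset.mem_univ _⟩
      intro h
      have h2 : ConjClasses.mk y = ConjClasses.mk 1 := congrArg Subtype.val h
      exact hy (isConj_one_left.1 (ConjClasses.mk_eq_mk_iff_isConj.1 h2))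
    rw [hE, Finset.mem_insert, Finset.mem_singleton] at h1
    rcases h1 with h1 | h1
    · left
      have h2 : ConjClasses.mk y = ca := congrArg Subtype.val h1
      exact ConjClasses.mk_eq_mk_iff_isConj.1 (hx₁.trans h2.symm)
    · right
      have h2 : ConjClasses.mk y = cb := congrArg Subtype.val h1
      exact ConjClasses.mk_eq_mk_iff_isConj.1 (hx₂.trans h2.symm)

/-- One class gives a strict inequality. -/
theorem strict_of_one {G : Type*} [Group G] [Finite G] (hsolv : Cfsg.IsPSolvable p G)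
    (hdiv : p ∣ Nat.card G)
    (hconj : ∀ x y : G, x ≠ 1 → y ≠ 1 → (∃ k : ℕ, orderOf x = p ^ k) →
      (∃ k : ℕ, orderOf y = p ^ k) → IsConj x y) : p - 1 < 2 * Nat.card (PReg p G) := by
  have hp2 := hp.out.two_le
  rcases PSolvB.main p hsolv hdiv hconj with h | ⟨h, -⟩ | ⟨h1, h2, -⟩
  · omega
  · omega
  · rw [h1] at h2 ⊢
    omega

omit hp in
theorem dvd_of_pow {G : Type*} [Group G] [Finite G] {x : G} (hx : x ≠ 1)
    (h : ∃ k : ℕ, orderOf x = p ^ k) : p ∣ Nat.card G := by
  obtain ⟨k, hk⟩ := h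
  have hk0 : k ≠ 0 := by
    rintro rfl
    rw [pow_zero, orderOf_eq_one_iff] at hk
    exact hx hk
  exact (dvd_pow_self p hk0).trans (hk ▸ orderOf_dvd_natCard x)

/-- A normal subgroup containing some but not all nontrivial `p`-elements. -/
theorem strict_of_normal {G : Type*} [Group G] [Finite G] (hsolv : Cfsg.IsPSolvable p G)
    (hT : TwoCl p G) (U : Subgroup G) (hU : U.Normal) {a b : G} (ha : a ∈ U) (ha1 : a ≠ 1)
    (hka : ∃ k : ℕ, orderOf a = p ^ k) (hb : b ∉ U) (hkb : ∃ k : ℕ, orderOf b = p ^ k) :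
    p - 1 < 2 * Nat.card (PReg p G) := by
  classical
  obtain ⟨x₁, x₂, -, -, -, -, hne, hall⟩ := hT
  have hb1 : b ≠ 1 := by rintro rfl; exact hb U.one_mem
  have hmem : ∀ {u v : G}, IsConj u v → u ∈ U → v ∈ U := by
    intro u v huv hu
    obtain ⟨c, hc⟩ := isConj_iff.1 huv
    rw [← hc]
    exact hU.conj_mem u hu c
  -- everything outside `U` is conjugate to `b`
  have key : ∀ y : G, y ∉ U → (∃ k : ℕ, orderOf y = p ^ k) → IsConj b y := by
    intro y hy hky
    have hy1 : y ≠ 1 := by rintro rfl; exact hy U.one_mem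
    rcases hall a ha1 hka with h1 | h1 <;> rcases hall b hb1 hkb with h2 | h2 <;>
      rcases hall y hy1 hky with h3 | h3
    · exact absurd (hmem (h1.symm.trans h2) ha) hb
    · exact absurd (hmem (h1.symm.trans h2) ha) hb
    · exact absurd (hmem (h1.symm.trans h3) ha) hy
    · exact h2.symm.trans h3
    · exact h2.symm.trans h3
    · exact absurd (hmem (h1.symm.trans h3) ha) hy
    · exact absurd (hmem (h1.symm.trans h2) ha) hb
    · exact absurd (hmem (h1.symm.trans h2) ha) hb
  have hsolQ := Lib.PSolvable.IsPSolvable_of_surjective p hsolv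
    (QuotientGroup.mk' U) (QuotientGroup.mk'_surjective _)
  have hnt : ∀ y : G, (QuotientGroup.mk' U) y ≠ 1 → y ∉ U := by
    intro y hy hyU
    apply hy
    rwa [← MonoidHom.mem_ker, QuotientGroup.ker_mk']
  have hconjQ : ∀ x y : G ⧸ U, x ≠ 1 → y ≠ 1 → (∃ k : ℕ, orderOf x = p ^ k) →
      (∃ k : ℕ, orderOf y = p ^ k) → IsConj x y := by
    intro x y hx hy hkx hky
    obtain ⟨g, rfl, hg⟩ := PSolvA.exists_lift_pow (QuotientGroup.mk' U)
      (QuotientGroup.mk'_surjective _) hkx
    obtain ⟨h, rfl, hh⟩ := PSolvA.exists_lift_pow (QuotientGroup.mk' U)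
      (QuotientGroup.mk'_surjective _) hky
    obtain ⟨c, hc⟩ := isConj_iff.1 ((key g (hnt g hx) hg).symm.trans (key h (hnt h hy) hh))
    exact isConj_iff.2 ⟨(QuotientGroup.mk' U) c, by rw [← hc, map_mul, map_mul, map_inv]⟩
  have hb' : (QuotientGroup.mk' U) b ≠ 1 := by
    intro h
    apply hb
    rwa [← MonoidHom.mem_ker, QuotientGroup.ker_mk'] at h
  have hdivQ : p ∣ Nat.card (G ⧸ U) := by
    apply dvd_of_pow hb'
    obtain ⟨k, hk⟩ := hkb
    have h1 : orderOf ((QuotientGroup.mk' U) b) ∣ p ^ k := hk ▸ orderOf_map_dvd _ b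
    obtain ⟨j, -, hj⟩ := (Nat.dvd_prime_pow hp.out).1 h1
    exact ⟨j, hj⟩
  have h1 := strict_of_one hsolQ hdivQ hconjQ
  have h2 := _root_.Cfsg.Agent.H697.Pk.card_le_of_surjective (p := p) (QuotientGroup.mk' U) (QuotientGroup.mk'_surjective U)
  omega

end Cfsg.Agent.H697.Three
end

-- part: H697/ThreeB
section
/-!
# `p`-solvable groups with three classes of `p`-elements: assembly
-/

set_option autoImplicit false
set_option linter.style.haveILetI false

universe u

namespace Cfsg.Agent.H697.Three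

open Pk Module
open scoped Pointwise

variable {p : ℕ} [hp : Fact p.Prime]

/-- The linear part of an affine map. -/
theorem affine_lin {σ : Equiv.Perm (ZMod p)} (h : σ ∈ Cfsg.affineGroup (ZMod p)) (x y : ZMod p) :
    σ x - σ y = (σ 1 - σ 0) * (x - y) := by
  obtain ⟨a, b, hab⟩ := h
  rw [hab, hab, hab, hab]
  ring

/-- Subgroups of the affine group of order `p (p - 1) / 2`. -/
theorem eq_of_embed {G : Type*} [Group G] [Finite G] (hp2 : p ≠ 2)
    (hcard : 2 * Nat.card G = p * (p - 1)) (f : G →* Cfsg.affineGroup (ZMod p))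
    (hf : Function.Injective f) : 2 * Nat.card (PReg p G) = p - 1 := by
  classical
  have hp' : p.Prime := hp.out
  have hp3 : 3 ≤ p := by
    have := hp'.two_le
    omega
  let χ : G →* ZMod p :=
    { toFun := fun g => ((f g : Equiv.Perm (ZMod p)) 1 - (f g : Equiv.Perm (ZMod p)) 0)
      map_one' := by
        have h1 : f 1 = 1 := f.map_one
        rw [h1]
        show (1 : ZMod p) - 0 = 1
        ring
      map_mul' := fun a b => by
        have h1 : f (a * b) = f a * f b := f.map_mul a b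
        rw [h1]
        show (f a : Equiv.Perm (ZMod p)) ((f b : Equiv.Perm (ZMod p)) 1) -
          (f a : Equiv.Perm (ZMod p)) ((f b : Equiv.Perm (ZMod p)) 0) = _
        exact affine_lin (f a).2 _ _ }
  have hχ : ∀ g, χ g = (f g : Equiv.Perm (ZMod p)) 1 - (f g : Equiv.Perm (ZMod p)) 0 := fun _ => rfl
  let ψ : G →* (ZMod p)ˣ := χ.toHomUnits
  have hψ : ∀ g, g ∈ ψ.ker ↔ χ g = 1 := by
    intro g
    rw [MonoidHom.mem_ker, Units.ext_iff]
    rfl
  set V := ψ.ker with hV
  have hVx : ∀ g ∈ V, ∀ x, (f g : Equiv.Perm (ZMod p)) x = x + (f g : Equiv.Perm (ZMod p)) 0 := by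
    intro g hg x
    have h1 := affine_lin (f g).2 x 0
    rw [← hχ, (hψ g).1 hg, one_mul, sub_zero] at h1
    exact sub_eq_iff_eq_add.1 h1
  let τ : V →* Multiplicative (ZMod p) :=
    { toFun := fun g => Multiplicative.ofAdd ((f g : Equiv.Perm (ZMod p)) 0)
      map_one' := by
        rw [Subgroup.coe_one, map_one]
        rfl
      map_mul' := fun a b => by
        rw [Subgroup.coe_mul, map_mul, ← ofAdd_add]
        congr 1
        show (f a : Equiv.Perm (ZMod p)) ((f b : Equiv.Perm (ZMod p)) 0) = _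
        rw [hVx a a.2, add_comm] }
  have hτ : Function.Injective τ := by
    intro a b hab
    apply Subtype.ext
    apply hf
    apply Subtype.ext
    apply Equiv.ext
    intro x
    have h1 : (f a : Equiv.Perm (ZMod p)) 0 = (f b : Equiv.Perm (ZMod p)) 0 := hab
    rw [hVx a a.2, hVx b b.2, h1]
  have hVp : Nat.card V ∣ p := by
    have h1 := Subgroup.card_dvd_of_injective τ hτ
    rwa [Nat.card_eq_fintype_card (α := Multiplicative (ZMod p)), Fintype.card_multiplicative,
      ZMod.card] at h1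
  have hQ : Nat.card (G ⧸ V) ∣ p - 1 := by
    rw [Nat.card_congr (QuotientGroup.quotientKerEquivRange ψ).toEquiv]
    have h1 := Subgroup.card_subgroup_dvd_card ψ.range
    rwa [Nat.card_eq_fintype_card (α := (ZMod p)ˣ), ZMod.card_units] at h1
  have hmul : Nat.card G = Nat.card (G ⧸ V) * Nat.card V :=
    Subgroup.card_eq_card_quotient_mul_card_subgroup V
  have hQle : Nat.card (G ⧸ V) ≤ p - 1 := Nat.le_of_dvd (by omega) hQ
  have hVcard : Nat.card V = p := by
    rcases (Nat.dvd_prime hp').1 hVp with h | h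
    · exfalso
      rw [h, mul_one] at hmul
      have h1 : p * (p - 1) ≤ 2 * (p - 1) := by rw [← hcard]; omega
      have h2 := Nat.le_of_mul_le_mul_right h1 (by omega)
      omega
    · exact h
  have hQcard : 2 * Nat.card (G ⧸ V) = p - 1 := by
    rw [hmul, hVcard] at hcard
    have h1 : p * (2 * Nat.card (G ⧸ V)) = p * (p - 1) := by rw [← hcard]; ring
    exact Nat.eq_of_mul_eq_mul_left hp'.pos h1
  have hVpg : IsPGroup p V := IsPGroup.of_card (n := 1) (by rw [hVcard, pow_one])
  have hndvd : ¬ p ∣ Nat.card (G ⧸ V) := by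
    intro h
    have h1 := Nat.le_of_dvd Nat.card_pos h
    omega
  rw [← card_quotient_eq V hVpg, card_eq_of_not_dvd hndvd, ← hQcard]
  congr 1
  let e := QuotientGroup.quotientKerEquivRange ψ
  have hcomm : ∀ a b : G ⧸ V, a * b = b * a := by
    intro a b
    apply e.injective
    rw [map_mul, map_mul]
    exact Subtype.ext (mul_comm _ _)
  refine Nat.card_congr (Equiv.ofBijective (ConjClasses.mk : G ⧸ V → ConjClasses (G ⧸ V))
    ⟨?_, ConjClasses.mk_surjective⟩).symm
  intro a b hab
  obtain ⟨c, hc⟩ := isConj_iff.1 (ConjClasses.mk_eq_mk_iff_isConj.1 hab)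
  rw [hcomm, inv_mul_cancel_left] at hc
  exact hc

/-- The conclusion in the equality case. -/
def EqCase (p : ℕ) [Fact p.Prime] (G : Type u) [Group G] : Prop :=
  2 * Nat.card (PReg p G) = p - 1 ∧ p ≠ 2 ∧ 2 * Nat.card G = p * (p - 1) ∧
    ∃ f : G →* Cfsg.affineGroup (ZMod p), Function.Injective f

/-- Two orbits of a complement: the group action version. -/
theorem act_two {D E : Type u} [Group D] [Finite D] [AddCommGroup E] [Finite E] [Nontrivial E]
    [DistribMulAction D E] [FaithfulSMul D E] (hE : ∀ e : E, p • e = 0) (hlin : LinStmt.{u} p)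
    {v₁ v₂ : E} (hv₁ : v₁ ≠ 0) (hv₂ : v₂ ≠ 0) (hne : ∀ d : D, d • v₁ ≠ v₂)
    (htr : ∀ w : E, w ≠ 0 → (∃ d : D, d • v₁ = w) ∨ (∃ d : D, d • v₂ = w))
    (hirr : ∀ W : AddSubgroup E, (∀ (d : D), ∀ w ∈ W, d • w ∈ W) → W = ⊥ ∨ W = ⊤)
    (hpD : ¬ p ∣ Nat.card D) (hcard : Nat.card E ≠ p) :
    p ≤ 2 * Nat.card (ConjClasses D) := by
  classical
  obtain ⟨_inst⟩ : Nonempty (Module (ZMod p) E) := ⟨AddCommGroup.zmodModule hE⟩
  let lin : D → (E ≃ₗ[ZMod p] E) := fun d =>
    { toFun := fun x => d • x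
      invFun := fun x => d⁻¹ • x
      map_add' := fun x y => smul_add d x y
      map_smul' := fun c x => by
        have h := ((DistribSMul.toAddMonoidHom E d).toZModLinearMap p).map_smul c x
        exact h
      left_inv := fun x => inv_smul_smul d x
      right_inv := fun x => smul_inv_smul d x }
  have hlin' : ∀ d x, lin d x = d • x := fun _ _ => rfl
  let φ : D →* (E ≃ₗ[ZMod p] E) :=
    { toFun := lin
      map_one' := by
        apply LinearEquiv.ext
        intro x
        rw [hlin', one_smul]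
        rfl
      map_mul' := fun a b => by
        apply LinearEquiv.ext
        intro x
        rw [LinearEquiv.mul_apply, hlin', hlin', hlin', mul_smul] }
  have hφ : ∀ d x, φ d x = d • x := fun _ _ => rfl
  have hinj : Function.Injective φ := by
    intro a b hab
    apply FaithfulSMul.eq_of_smul_eq_smul (α := E)
    intro x
    rw [← hφ, ← hφ, hab]
  let e : D ≃* φ.range := MonoidHom.ofInjective hinj
  have hcardR : Nat.card φ.range = Nat.card D := (Nat.card_congr e.toEquiv).symm
  rw [ClassCount.card_conjClasses_congr e]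
  apply hlin E φ.range (by rw [hcardR]; exact hpD)
  · refine ⟨v₁, v₂, hv₁, hv₂, ?_, ?_⟩
    · rintro _ ⟨d, rfl⟩
      exact hne d
    · intro w hw
      rcases htr w hw with ⟨d, hd⟩ | ⟨d, hd⟩
      · exact Or.inl ⟨φ d, ⟨d, rfl⟩, hd⟩
      · exact Or.inr ⟨φ d, ⟨d, rfl⟩, hd⟩
  · intro W hW
    rcases hirr W.toAddSubgroup (fun d w hw => hW (φ d) ⟨d, rfl⟩ w hw) with h | h
    · left
      rw [eq_bot_iff]
      intro w hw
      have h1 : w ∈ W.toAddSubgroup := hw
      rw [h] at h1
      exact h1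
    · right
      rw [eq_top_iff]
      intro w _
      have h1 : w ∈ W.toAddSubgroup := by rw [h]; trivial
      exact h1
  · by_contra hcon
    have hE' := Hering.card_eq (p := p) (V := E)
    have : Module.Finite (ZMod p) E := Module.Finite.of_finite
    have hpos : 0 < finrank (ZMod p) E := Module.finrank_pos
    have h1 : finrank (ZMod p) E = 1 := by omega
    rw [h1, pow_one] at hE'
    exact hcard hE'

/-- The case of a trivial `p'`-core. -/
theorem core {G : Type u} [Group G] [Finite G] (hlin : LinStmt.{u} p)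
    (hsolv : Cfsg.IsPSolvable p G) (hcore : Cfsg.pPrimeCore p G = ⊥) (hT : TwoCl p G) :
    p - 1 < 2 * Nat.card (PReg p G) ∨ EqCase p G := by
  classical
  have hp' : p.Prime := hp.out
  have hcent := Cfsg.Agent.Lib.PSolvable.centralizer_pCore_le_of_pSolvable p hsolv hcore
  obtain ⟨x₁, x₂, hx₁, hx₂, hk₁, hk₂, hne, hall⟩ := id hT
  set V := Cfsg.pCore p G with hV
  have hVn : V.Normal := by rw [hV]; exact Cfsg.Agent.Lib.Cores.pCore_normal p
  have hVp : IsPGroup p V := by rw [hV]; exact Cfsg.Agent.Lib.Cores.pCore_isPGroup p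
  have hV1 : V ≠ ⊥ := by
    intro h
    rw [h] at hcent
    have h1 : x₁ ∈ Subgroup.centralizer ((⊥ : Subgroup G) : Set G) := by
      rw [Subgroup.mem_centralizer_iff]
      intro x hx
      have hx' : x = 1 := hx
      rw [hx', one_mul, mul_one]
    exact hx₁ (hcent h1)
  have hpe : ∀ x ∈ V, ∃ k : ℕ, orderOf x = p ^ k := by
    intro x hx
    obtain ⟨k, hk⟩ := (IsPGroup.iff_orderOf.1 hVp) ⟨x, hx⟩
    rw [Subgroup.orderOf_mk] at hk
    exact ⟨k, hk⟩
  obtain ⟨x₀, hx₀, hx₀1⟩ : ∃ x : G, x ∈ V ∧ x ≠ 1 := by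
    by_contra hcon
    push Not at hcon
    exact hV1 ((Subgroup.eq_bot_iff_forall _).2 hcon)
  by_cases hout : ∃ b : G, b ∉ V ∧ ∃ k : ℕ, orderOf b = p ^ k
  · obtain ⟨b, hb, hkb⟩ := hout
    exact Or.inl (strict_of_normal hsolv hT V hVn hx₀ hx₀1 (hpe x₀ hx₀) hb hkb)
  push Not at hout
  have hmem : ∀ b : G, (∃ k : ℕ, orderOf b = p ^ k) → b ∈ V := by
    intro b hb
    by_contra hbV
    obtain ⟨k, hk⟩ := hb
    exact hout b hbV k hk
  -- proper normal subgroups
  by_cases hmin : ∃ U : Subgroup G, U.Normal ∧ U ≤ V ∧ U ≠ ⊥ ∧ U ≠ V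
  · obtain ⟨U, hU, hUV, hU1, hU2⟩ := hmin
    obtain ⟨a, ha, ha1⟩ : ∃ x : G, x ∈ U ∧ x ≠ 1 := by
      by_contra hcon
      push Not at hcon
      exact hU1 ((Subgroup.eq_bot_iff_forall _).2 hcon)
    obtain ⟨b, hb, hbU⟩ := SetLike.exists_of_lt (lt_of_le_of_ne hUV hU2)
    exact Or.inl (strict_of_normal hsolv hT U hU ha ha1 (hpe a (hUV ha)) hbU (hpe b hb))
  push Not at hmin
  have hmin' : ∀ U : Subgroup G, U.Normal → U ≤ V → U = ⊥ ∨ U = V := by
    intro U h1 h2
    by_cases h3 : U = ⊥
    · exact Or.inl h3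
    · exact Or.inr (hmin U h1 h2 h3)
  -- `V` is commutative
  have hVc : ∀ x ∈ V, ∀ y ∈ V, x * y = y * x := by
    have hZn : ((Subgroup.center V).map V.subtype).Normal := by
      refine ⟨?_⟩
      rintro _ ⟨z, hz, rfl⟩ g
      have hz' : ∀ y : V, y * z = z * y := Subgroup.mem_center_iff.1 hz
      refine ⟨⟨g * z * g⁻¹, hVn.conj_mem z z.2 g⟩, ?_, rfl⟩
      rw [SetLike.mem_coe, Subgroup.mem_center_iff]
      intro y
      apply Subtype.ext
      have h1 := congrArg Subtype.val (hz' ⟨g⁻¹ * y * g⁻¹⁻¹, hVn.conj_mem y y.2 g⁻¹⟩)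
      have h2 : g⁻¹ * (y : G) * g⁻¹⁻¹ * z = z * (g⁻¹ * (y : G) * g⁻¹⁻¹) := h1
      show (y : G) * (g * z * g⁻¹) = g * z * g⁻¹ * y
      have h3 : (y : G) * (g * z * g⁻¹) = g * (g⁻¹ * (y : G) * g⁻¹⁻¹ * z) * g⁻¹ := by group
      rw [h3, h2]
      group
    have hZ1 : (Subgroup.center V).map V.subtype ≠ ⊥ := by
      intro h
      have hnt : Nontrivial V := (Subgroup.nontrivial_iff_ne_bot V).2 hV1
      have h1 := hVp.bot_lt_center
      rw [Subgroup.map_eq_bot_iff, Subgroup.ker_subtype] at h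
      exact absurd (h1.trans_le h) (lt_irrefl _)
    have hZV := (hmin' _ hZn (Subgroup.map_subtype_le _)).resolve_left hZ1
    intro x hx y hy
    have hx' : x ∈ (Subgroup.center V).map V.subtype := by rw [hZV]; exact hx
    obtain ⟨z, hz, rfl⟩ := hx'
    have h1 := Subgroup.mem_center_iff.1 hz ⟨y, hy⟩
    exact (congrArg Subtype.val h1).symm
  -- `V` has exponent `p`
  have hVe : ∀ x ∈ V, x ^ p = 1 := by
    let Ω : Subgroup G :=
      { carrier := {x | x ∈ V ∧ x ^ p = 1}
        one_mem' := ⟨V.one_mem, one_pow _⟩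
        mul_mem' := fun {a b} ha hb => ⟨V.mul_mem ha.1 hb.1, by
          rw [(show Commute a b from hVc a ha.1 b hb.1).mul_pow, ha.2, hb.2, one_mul]⟩
        inv_mem' := fun {a} ha => ⟨V.inv_mem ha.1, by rw [inv_pow, ha.2, inv_one]⟩ }
    have hΩn : Ω.Normal := by
      refine ⟨fun x hx g => ⟨hVn.conj_mem x hx.1 g, ?_⟩⟩
      rw [conj_pow, hx.2]
      group
    have hΩ1 : Ω ≠ ⊥ := by
      obtain ⟨k, hk⟩ := hpe x₀ hx₀
      have hk0 : k ≠ 0 := by
        rintro rfl
        rw [pow_zero, orderOf_eq_one_iff] at hk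
        exact hx₀1 hk
      obtain ⟨j, rfl⟩ := Nat.exists_eq_succ_of_ne_zero hk0
      intro h
      have h1 : x₀ ^ (p ^ j) ∈ Ω := by
        refine ⟨V.pow_mem hx₀ _, ?_⟩
        rw [← pow_mul, ← pow_succ, ← hk, pow_orderOf_eq_one]
      rw [h, Subgroup.mem_bot] at h1
      have h2 := orderOf_dvd_of_pow_eq_one h1
      rw [hk] at h2
      have h3 := Nat.le_of_dvd (pow_pos hp'.pos _) h2
      have h4 : p ^ j < p ^ (j + 1) := Nat.pow_lt_pow_right hp'.one_lt (Nat.lt_succ_self j)
      have h5 : p ^ j.succ = p ^ (j + 1) := rfl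
      omega
    have hΩV := (hmin' Ω hΩn (fun x hx => hx.1)).resolve_left hΩ1
    intro x hx
    rw [← hΩV] at hx
    exact hx.2
  -- the complement
  obtain ⟨S⟩ : Nonempty (Sylow p G) := inferInstance
  have hSV : (S : Subgroup G) ≤ V := by
    intro y hy
    apply hmem
    obtain ⟨k, hk⟩ := (IsPGroup.iff_orderOf.1 S.isPGroup') ⟨y, hy⟩
    rw [Subgroup.orderOf_mk] at hk
    exact ⟨k, hk⟩
  have hVS : V = (S : Subgroup G) := S.is_maximal' hVp hSV
  have hidx : ¬ p ∣ V.index := by
    rw [hVS]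
    exact S.not_dvd_index
  have hcop : (Nat.card V).Coprime V.index := by
    obtain ⟨n, hn⟩ := IsPGroup.iff_card.1 hVp
    rw [hn]
    exact Nat.Coprime.pow_left n ((Nat.Prime.coprime_iff_not_dvd hp').2 hidx)
  obtain ⟨H, hH⟩ := Subgroup.exists_right_complement'_of_coprime hcop
  have hHc : Nat.card H = V.index := hH.symm.index_eq_card.symm
  have hpH : ¬ p ∣ Nat.card H := by rw [hHc]; exact hidx
  have hcentV : ∀ g : G, (∀ v ∈ V, g * v = v * g) → g ∈ V := by
    intro g hg
    apply hcent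
    rw [Subgroup.mem_centralizer_iff]
    intro v hv
    exact (hg v hv).symm
  have hfaith : ∀ h ∈ H, (∀ v ∈ V, h * v = v * h) → h = 1 := by
    intro h hh hc
    exact Subgroup.disjoint_def.1 hH.disjoint (hcentV h hc) hh
  -- conjugacy in `V` is realised by `H`
  have hconjH : ∀ v ∈ V, ∀ w : G, IsConj v w → ∃ h ∈ H, h * v * h⁻¹ = w := by
    intro v hv w hvw
    obtain ⟨g, hg⟩ := isConj_iff.1 hvw
    have hg' : g ∈ (V : Set G) * (H : Set G) := by
      rw [Subgroup.IsComplement.mul_eq hH]; trivial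
    obtain ⟨x, hx, h, hh, rfl⟩ := hg'
    refine ⟨h, hh, ?_⟩
    have h1 : h * v * h⁻¹ ∈ V := hVn.conj_mem v hv h
    have h2 := hVc x hx _ h1
    have hg2 : x * h * v * (x * h)⁻¹ = w := hg
    rw [← hg2]
    have h3 : x * h * v * (x * h)⁻¹ = x * (h * v * h⁻¹) * x⁻¹ := by group
    rw [h3, h2, mul_inv_cancel_right]
  have hκ : Nat.card (PReg p G) = Nat.card (ConjClasses H) := by
    rw [← card_quotient_eq V hVp, card_congr hH.symm.QuotientMulEquiv, card_eq_of_not_dvd hpH]
  have hx₁V := hmem x₁ hk₁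
  have hx₂V := hmem x₂ hk₂
  by_cases hcard : Nat.card V = p
  · -- dimension one
    right
    have hreg : ∀ v ∈ V, v ≠ 1 → ∀ h ∈ H, h * v * h⁻¹ = v → h = 1 := by
      intro v hv hv1 h hh hhv
      apply hfaith h hh
      have hvz : Subgroup.zpowers v = V := by
        apply Subgroup.eq_of_le_of_card_ge (by rw [Subgroup.zpowers_le]; exact hv)
        rw [hcard, Nat.card_zpowers, orderOf_eq_prime (hVe v hv) hv1]
      intro w hw
      rw [← hvz] at hw
      obtain ⟨i, rfl⟩ := hw
      have h1 : h * v = v * h := by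
        have := congrArg (fun z => z * h) hhv
        simpa only [mul_assoc, _root_.inv_mul_cancel, _root_.mul_one] using this
      exact ((show Commute h v from h1).zpow_right i).eq
    have hHcomm : ∀ a ∈ H, ∀ b ∈ H, a * b = b * a := by
      -- automorphisms of a cyclic group commute
      intro a ha b hb
      have hvz : Subgroup.zpowers x₁ = V := by
        apply Subgroup.eq_of_le_of_card_ge (by rw [Subgroup.zpowers_le]; exact hx₁V)
        rw [hcard, Nat.card_zpowers, orderOf_eq_prime (hVe x₁ hx₁V) hx₁]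
      obtain ⟨i, hi⟩ : ∃ i : ℤ, x₁ ^ i = a * x₁ * a⁻¹ := by
        have := hVn.conj_mem x₁ hx₁V a
        rw [← hvz] at this
        exact this
      obtain ⟨j, hj⟩ : ∃ j : ℤ, x₁ ^ j = b * x₁ * b⁻¹ := by
        have := hVn.conj_mem x₁ hx₁V b
        rw [← hvz] at this
        exact this
      have h1 : a * b * x₁ * (a * b)⁻¹ = x₁ ^ (i * j) := by
        have : a * b * x₁ * (a * b)⁻¹ = a * (b * x₁ * b⁻¹) * a⁻¹ := by group
        rw [this, ← hj, ← conj_zpow, ← hi, ← zpow_mul]
      have h2 : b * a * x₁ * (b * a)⁻¹ = x₁ ^ (i * j) := by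
        have : b * a * x₁ * (b * a)⁻¹ = b * (a * x₁ * a⁻¹) * b⁻¹ := by group
        rw [this, ← hi, ← conj_zpow, ← hj, ← zpow_mul, mul_comm]
      have h3 : ((b * a)⁻¹ * (a * b)) * x₁ * ((b * a)⁻¹ * (a * b))⁻¹ = x₁ := by
        have : ((b * a)⁻¹ * (a * b)) * x₁ * ((b * a)⁻¹ * (a * b))⁻¹ =
          (b * a)⁻¹ * (a * b * x₁ * (a * b)⁻¹) * (b * a) := by group
        rw [this, h1, ← h2]
        group
      have h4 := hreg x₁ hx₁V hx₁ _ (H.mul_mem (H.inv_mem (H.mul_mem hb ha)) (H.mul_mem ha hb)) h3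
      exact (inv_mul_eq_one.1 h4).symm
    -- counting
    have hcount : 2 * Nat.card H = p - 1 := by
      let F : H ⊕ H → {w : V // w ≠ 1} := fun s => s.elim
        (fun h : H => ⟨⟨h * x₁ * (h : G)⁻¹, hVn.conj_mem x₁ hx₁V h⟩, fun e => hx₁ (by
          have e' : (h : G) * x₁ * (h : G)⁻¹ = 1 := congrArg Subtype.val e
          have : x₁ = (h : G)⁻¹ * ((h : G) * x₁ * (h : G)⁻¹) * h := by group
          rw [this, e']; group)⟩)
        (fun h : H => ⟨⟨h * x₂ * (h : G)⁻¹, hVn.conj_mem x₂ hx₂V h⟩, fun e => hx₂ (by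
          have e' : (h : G) * x₂ * (h : G)⁻¹ = 1 := congrArg Subtype.val e
          have : x₂ = (h : G)⁻¹ * ((h : G) * x₂ * (h : G)⁻¹) * h := by group
          rw [this, e']; group)⟩)
      have hinjx : ∀ x ∈ V, x ≠ 1 → ∀ a b : H, (a : G) * x * (a : G)⁻¹ = b * x * (b : G)⁻¹ → a = b := by
        intro x hx hx1 a b hab
        have h1 : ((b : G)⁻¹ * a) * x * ((b : G)⁻¹ * a)⁻¹ = x := by
          have : ((b : G)⁻¹ * a) * x * ((b : G)⁻¹ * a)⁻¹ = (b : G)⁻¹ * ((a : G) * x * (a : G)⁻¹) * b := by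
            group
          rw [this, hab]; group
        have h2 := hreg x hx hx1 _ (H.mul_mem (H.inv_mem b.2) a.2) h1
        exact Subtype.ext (inv_mul_eq_one.1 h2).symm
      have hF : Function.Bijective F := by
        constructor
        · rintro (a | a) (b | b) hab
          · have h1 : (a : G) * x₁ * (a : G)⁻¹ = b * x₁ * (b : G)⁻¹ :=
              congrArg (fun z : {w : V // w ≠ 1} => ((z : V) : G)) hab
            rw [hinjx x₁ hx₁V hx₁ a b h1]
          · exfalso
            have h1 : (a : G) * x₁ * (a : G)⁻¹ = b * x₂ * (b : G)⁻¹ :=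
              congrArg (fun z : {w : V // w ≠ 1} => ((z : V) : G)) hab
            apply hne
            have h2 : IsConj x₁ ((a : G) * x₁ * (a : G)⁻¹) := isConj_iff.2 ⟨a, rfl⟩
            have h3 : IsConj x₂ ((b : G) * x₂ * (b : G)⁻¹) := isConj_iff.2 ⟨b, rfl⟩
            rw [h1] at h2
            exact h2.trans h3.symm
          · exfalso
            have h1 : (a : G) * x₂ * (a : G)⁻¹ = b * x₁ * (b : G)⁻¹ :=
              congrArg (fun z : {w : V // w ≠ 1} => ((z : V) : G)) hab
            apply hne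
            have h2 : IsConj x₂ ((a : G) * x₂ * (a : G)⁻¹) := isConj_iff.2 ⟨a, rfl⟩
            have h3 : IsConj x₁ ((b : G) * x₁ * (b : G)⁻¹) := isConj_iff.2 ⟨b, rfl⟩
            rw [h1] at h2
            exact h3.trans h2.symm
          · have h1 : (a : G) * x₂ * (a : G)⁻¹ = b * x₂ * (b : G)⁻¹ :=
              congrArg (fun z : {w : V // w ≠ 1} => ((z : V) : G)) hab
            rw [hinjx x₂ hx₂V hx₂ a b h1]
        · rintro ⟨⟨w, hw⟩, hw1⟩
          have hw1' : w ≠ 1 := fun e => hw1 (Subtype.ext e)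
          rcases hall w hw1' (hpe w hw) with h | h
          · obtain ⟨c, hc, hcw⟩ := hconjH x₁ hx₁V w h
            exact ⟨Sum.inl ⟨c, hc⟩, Subtype.ext (Subtype.ext hcw)⟩
          · obtain ⟨c, hc, hcw⟩ := hconjH x₂ hx₂V w h
            exact ⟨Sum.inr ⟨c, hc⟩, Subtype.ext (Subtype.ext hcw)⟩
      have h1 := Nat.card_congr (Equiv.ofBijective F hF)
      rw [Nat.card_sum] at h1
      have h2 : Nat.card {w : V // w ≠ 1} = ({1} : Set V)ᶜ.ncard := by
        rw [← Nat.card_coe_set_eq]
        rfl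
      rw [h2, Set.ncard_compl, Set.ncard_singleton, hcard] at h1
      omega
    refine ⟨?_, ?_, ?_, affine_embed V H hVn hcard hH hcentV⟩
    · rw [hκ, ← hcount]
      congr 1
      refine Nat.card_congr (Equiv.ofBijective (ConjClasses.mk : H → ConjClasses H)
        ⟨?_, ConjClasses.mk_surjective⟩).symm
      intro a b hab
      obtain ⟨c, hc⟩ := isConj_iff.1 (ConjClasses.mk_eq_mk_iff_isConj.1 hab)
      rw [show c * a = a * c from Subtype.ext (hHcomm c c.2 a a.2), mul_inv_cancel_right] at hc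
      exact hc
    · rintro rfl
      omega
    · rw [← hH.card_mul_card, hcard, ← hcount]
      ring
  · -- higher dimension
    left
    letI : CommGroup V :=
      { (inferInstance : Group V) with
        mul_comm := fun a b => Subtype.ext (hVc a a.2 b b.2) }
    have hnt : Nontrivial V := (Subgroup.nontrivial_iff_ne_bot V).2 hV1
    have : Nontrivial (Additive V) := hnt
    let c : H → V → V := fun h v => ⟨h * v * (h : G)⁻¹, hVn.conj_mem v v.2 h⟩
    letI : DistribMulAction H (Additive V) :=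
      { smul := fun h v => Additive.ofMul (c h (Additive.toMul v))
        one_smul := fun v => by
          apply Additive.toMul.injective
          apply Subtype.ext
          show ((1 : H) : G) * ((Additive.toMul v : V) : G) * ((1 : H) : G)⁻¹ = _
          simp only [_root_.OneMemClass.coe_one, _root_.one_mul, _root_.inv_one, _root_.mul_one]
        mul_smul := fun a b v => by
          apply Additive.toMul.injective
          apply Subtype.ext
          show ((a * b : H) : G) * ((Additive.toMul v : V) : G) * ((a * b : H) : G)⁻¹ =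
            (a : G) * ((b : G) * ((Additive.toMul v : V) : G) * (b : G)⁻¹) * (a : G)⁻¹
          rw [Subgroup.coe_mul]
          group
        smul_zero := fun a => by
          apply Additive.toMul.injective
          apply Subtype.ext
          show (a : G) * ((1 : V) : G) * (a : G)⁻¹ = ((1 : V) : G)
          simp only [_root_.OneMemClass.coe_one, _root_.mul_one, _root_.mul_inv_cancel]
        smul_add := fun a v w => by
          apply Additive.toMul.injective
          apply Subtype.ext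
          show (a : G) * (((Additive.toMul v : V) : G) * ((Additive.toMul w : V) : G)) * (a : G)⁻¹ =
            ((a : G) * ((Additive.toMul v : V) : G) * (a : G)⁻¹) *
              ((a : G) * ((Additive.toMul w : V) : G) * (a : G)⁻¹)
          group }
    have hF : FaithfulSMul H (Additive V) := by
      refine ⟨fun {a b} hab => ?_⟩
      have h1 : ∀ v ∈ V, (a : G) * v * (a : G)⁻¹ = (b : G) * v * (b : G)⁻¹ := by
        intro v hv
        have h2 := hab (Additive.ofMul (⟨v, hv⟩ : V))
        have h3 := congrArg (fun z : Additive V => ((Additive.toMul z : V) : G)) h2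
        exact h3
      have h2 : (b : G)⁻¹ * a = 1 := by
        apply hfaith _ (H.mul_mem (H.inv_mem b.2) a.2)
        intro v hv
        have h3 := h1 v hv
        have h4 : (a : G) * v = (b : G) * v * (b : G)⁻¹ * a := by
          rw [← h3]; group
        rw [mul_assoc, h4]
        group
      exact Subtype.ext (inv_mul_eq_one.1 h2).symm
    have hfin : Finite (Additive V) := inferInstanceAs (Finite V)
    have hmain := act_two (p := p) (D := H) (E := Additive V) (by
      intro x
      apply Additive.toMul.injective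
      apply Subtype.ext
      show (((Additive.toMul x : V) ^ p : V) : G) = 1
      rw [Subgroup.coe_pow]
      exact hVe _ (Additive.toMul x).2) hlin (v₁ := Additive.ofMul (⟨x₁, hx₁V⟩ : V))
      (v₂ := Additive.ofMul (⟨x₂, hx₂V⟩ : V))
      (fun h => hx₁ (congrArg Subtype.val (Additive.ofMul.injective h)))
      (fun h => hx₂ (congrArg Subtype.val (Additive.ofMul.injective h)))
      (by
        intro d hd
        have h1 : (d : G) * x₁ * (d : G)⁻¹ = x₂ :=
          congrArg (fun z : Additive V => ((Additive.toMul z : V) : G)) hd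
        exact hne (isConj_iff.2 ⟨d, h1⟩))
      (by
        intro w hw
        have hw1 : ((Additive.toMul w : V) : G) ≠ 1 := fun h =>
          hw (Additive.toMul.injective (Subtype.ext h))
        rcases hall _ hw1 (hpe _ (Additive.toMul w).2) with h | h
        · left
          obtain ⟨d, hd, hdw⟩ := hconjH x₁ hx₁V _ h
          exact ⟨⟨d, hd⟩, Additive.toMul.injective (Subtype.ext hdw)⟩
        · right
          obtain ⟨d, hd, hdw⟩ := hconjH x₂ hx₂V _ h
          exact ⟨⟨d, hd⟩, Additive.toMul.injective (Subtype.ext hdw)⟩)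
      (by
        intro W hW
        let U : Subgroup G :=
          { carrier := {x | ∃ hx : x ∈ V, Additive.ofMul (⟨x, hx⟩ : V) ∈ W}
            one_mem' := ⟨V.one_mem, W.zero_mem⟩
            mul_mem' := fun {a b} ha hb => by
              obtain ⟨ha, ha'⟩ := ha
              obtain ⟨hb, hb'⟩ := hb
              exact ⟨V.mul_mem ha hb, W.add_mem ha' hb'⟩
            inv_mem' := fun {a} ha => by
              obtain ⟨ha, ha'⟩ := ha
              exact ⟨V.inv_mem ha, W.neg_mem ha'⟩ }
        have hUn : U.Normal := by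
          refine ⟨fun x hx g => ?_⟩
          obtain ⟨hx, hxW⟩ := hx
          have hg' : g ∈ (V : Set G) * (H : Set G) := by
            rw [Subgroup.IsComplement.mul_eq hH]; trivial
          obtain ⟨y, hy, h, hh, rfl⟩ := hg'
          have h1 : h * x * h⁻¹ ∈ V := hVn.conj_mem x hx h
          have h2 := hVc y hy _ h1
          have h3 : y * h * x * (y * h)⁻¹ = h * x * h⁻¹ := by
            have h4 : y * h * x * (y * h)⁻¹ = y * (h * x * h⁻¹) * y⁻¹ := by group
            rw [h4, h2, mul_inv_cancel_right]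
          show ∃ hx : y * h * x * (y * h)⁻¹ ∈ V, Additive.ofMul (⟨_, hx⟩ : V) ∈ W
          have h5 := hW ⟨h, hh⟩ _ hxW
          refine ⟨hVn.conj_mem x hx _, ?_⟩
          have h6 : (Additive.ofMul (⟨y * h * x * (y * h)⁻¹, hVn.conj_mem x hx _⟩ : V)) =
              (⟨h, hh⟩ : H) • (Additive.ofMul (⟨x, hx⟩ : V)) :=
            Additive.toMul.injective (Subtype.ext h3)
          rw [h6]
          exact h5
        rcases hmin' U hUn (fun x hx => hx.1) with h | h
        · left
          rw [eq_bot_iff]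
          intro w hw
          have h1 : ((Additive.toMul w : V) : G) ∈ U := ⟨(Additive.toMul w).2, hw⟩
          rw [h, Subgroup.mem_bot] at h1
          exact Additive.toMul.injective (Subtype.ext h1)
        · right
          rw [eq_top_iff]
          intro w _
          have h1 : ((Additive.toMul w : V) : G) ∈ U := by rw [h]; exact (Additive.toMul w).2
          exact h1.2)
      hpH hcard
    rw [hκ]
    have := hp'.pos
    omega

/-- The theorem, given the linear statement. -/
theorem main {G : Type u} [Group G] [Finite G] (hlin : LinStmt.{u} p)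
    (hsolv : Cfsg.IsPSolvable p G) (hT : TwoCl p G) :
    p - 1 < 2 * Nat.card (PReg p G) ∨ EqCase p G := by
  classical
  by_cases hN : Cfsg.pPrimeCore p G = ⊥
  · exact core hlin hsolv hN hT
  left
  have hNn : (Cfsg.pPrimeCore p G).Normal := Lib.Cores.pPrimeCore_normal p
  have hNp : ¬ p ∣ Nat.card (Cfsg.pPrimeCore p G) := by
    have := Lib.Cores.pPrimeCore_coprime (G := G) p
    exact (Nat.Prime.coprime_iff_not_dvd hp.out).1 this.symm
  have hle := (card_quotient_add_one_le (p := p) (Cfsg.pPrimeCore p G) hNp hN).1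
  have hsolQ := Lib.PSolvable.IsPSolvable_of_surjective p hsolv
    (QuotientGroup.mk' (Cfsg.pPrimeCore p G)) (QuotientGroup.mk'_surjective _)
  have hcoreQ := Lib.Cores.pPrimeCore_quotient_pPrimeCore (G := G) p
  obtain ⟨x₁, x₂, hx₁, hx₂, hk₁, hk₂, hne, hall⟩ := hT
  set π := QuotientGroup.mk' (Cfsg.pPrimeCore p G) with hπ
  have hπs : Function.Surjective π := QuotientGroup.mk'_surjective _
  have hne1 : ∀ x : G, x ≠ 1 → (∃ k : ℕ, orderOf x = p ^ k) → π x ≠ 1 := by
    intro x hx hkx h
    rw [← MonoidHom.mem_ker, hπ, QuotientGroup.ker_mk'] at h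
    obtain ⟨k, hk⟩ := hkx
    have h1 : orderOf x ∣ Nat.card (Cfsg.pPrimeCore p G) := Subgroup.orderOf_dvd_natCard _ h
    have hk0 : k ≠ 0 := by
      rintro rfl
      rw [pow_zero, orderOf_eq_one_iff] at hk
      exact hx hk
    exact hNp ((dvd_pow_self p hk0).trans (hk ▸ h1))
  have hkπ : ∀ x : G, (∃ k : ℕ, orderOf x = p ^ k) → ∃ k : ℕ, orderOf (π x) = p ^ k := by
    rintro x ⟨k, hk⟩
    have h1 : orderOf (π x) ∣ p ^ k := hk ▸ orderOf_map_dvd _ x
    obtain ⟨j, -, hj⟩ := (Nat.dvd_prime_pow hp.out).1 h1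
    exact ⟨j, hj⟩
  have hallQ : ∀ y, y ≠ 1 → (∃ k : ℕ, orderOf y = p ^ k) → IsConj (π x₁) y ∨ IsConj (π x₂) y := by
    intro y hy hky
    obtain ⟨g, rfl, hg⟩ := PSolvA.exists_lift_pow π hπs hky
    have hg1 : g ≠ 1 := fun h => hy (by rw [h, map_one])
    rcases hall g hg1 hg with h | h
    · left
      obtain ⟨c, hc⟩ := isConj_iff.1 h
      exact isConj_iff.2 ⟨π c, by rw [← hc, map_mul, map_mul, map_inv]⟩
    · right
      obtain ⟨c, hc⟩ := isConj_iff.1 h
      exact isConj_iff.2 ⟨π c, by rw [← hc, map_mul, map_mul, map_inv]⟩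
  by_cases hc12 : IsConj (π x₁) (π x₂)
  · have h1 := strict_of_one hsolQ (dvd_of_pow (hne1 x₁ hx₁ hk₁) (hkπ x₁ hk₁)) (by
      intro x y hx hy hkx hky
      have h1 : ∀ y, y ≠ 1 → (∃ k : ℕ, orderOf y = p ^ k) → IsConj (π x₁) y := by
        intro y hy hky
        rcases hallQ y hy hky with h | h
        · exact h
        · exact hc12.trans h
      exact (h1 x hx hkx).symm.trans (h1 y hy hky))
    omega
  · rcases core hlin hsolQ hcoreQ ⟨π x₁, π x₂, hne1 x₁ hx₁ hk₁, hne1 x₂ hx₂ hk₂, hkπ x₁ hk₁,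
      hkπ x₂ hk₂, hc12, hallQ⟩ with h | h
    · omega
    · have := h.1
      omega

/-- The final form, given the linear statement. -/
theorem final {G : Type u} [Group G] [Finite G] (hlin : LinStmt.{u} p)
    (hsolv : Cfsg.IsPSolvable p G)
    (h3 : Nat.card {c : ConjClasses G // ∃ g : G, ConjClasses.mk g = c ∧
      ∃ k : ℕ, orderOf g = p ^ k} = 3) :
    p - 1 ≤ 2 * Nat.card (PReg p G) ∧ (2 * Nat.card (PReg p G) = p - 1 ↔
      (p ≠ 2 ∧ 2 * Nat.card G = p * (p - 1) ∧
        ∃ f : G →* Cfsg.affineGroup (ZMod p), Function.Injective f)) := by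
  rcases main hlin hsolv (twoCl_of_card h3) with h | h
  · refine ⟨h.le, ⟨fun h1 => absurd h1 h.ne', ?_⟩⟩
    rintro ⟨h1, h2, f, hf⟩
    exact absurd (eq_of_embed h1 h2 f hf) h.ne'
  · exact ⟨h.1.ge, ⟨fun _ => h.2, fun _ => h.1⟩⟩

end Cfsg.Agent.H697.Three
end

-- part: H698/MinN
section
/-!
# Minimal normal subgroups above an abelian normal subgroup, in groups without components
-/

set_option autoImplicit false

namespace Cfsg.Agent.H698.MinN

open Cfsg Subgroup
open scoped commutatorElement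

variable {D : Type*} [Group D]

theorem exists_min [Finite D] (hlay : ∀ K : Subgroup D, ¬ IsComponent K) {A : Subgroup D}
    (hAn : A.Normal) (hAc : ∀ a ∈ A, ∀ b ∈ A, a * b = b * a) (hC : ¬ centralizer (A : Set D) ≤ A) :
    ∃ N : Subgroup D, N.Normal ∧ A < N ∧ N ≤ centralizer (A : Set D) ∧ (∀ x ∈ N, ∀ y ∈ N, ⁅x, y⁆ ∈ A) ∧
      ∃ r : ℕ, r.Prime ∧ ∀ x ∈ N, x ^ r ∈ A := by
  have hAC : A ≤ centralizer (A : Set D) := fun a ha => mem_centralizer_iff.2 fun b hb => hAc b hb a ha
  obtain ⟨N, hN⟩ := Set.Finite.exists_minimal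
    (s := {N : Subgroup D | N.Normal ∧ A < N ∧ N ≤ centralizer (A : Set D)}) (Set.toFinite _)
    ⟨centralizer (A : Set D), inferInstance, lt_of_le_of_ne hAC (fun h => hC h.symm.le), le_rfl⟩
  obtain ⟨⟨hNn, hAN, hNC⟩, hmin⟩ := hN
  have hmin' : ∀ M : Subgroup D, M.Normal → A ≤ M → M ≤ N → M = A ∨ M = N := by
    intro M hM h1 h2
    by_cases h3 : M = A
    · exact Or.inl h3
    · right
      exact le_antisymm h2 (hmin ⟨hM, lt_of_le_of_ne h1 (Ne.symm h3), h2.trans hNC⟩ h2)
  have hcen : ∀ x ∈ N, ∀ a ∈ A, a * x = x * a := fun x hx a ha => mem_centralizer_iff.1 (hNC hx) a ha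
  -- commutators
  have hcomm : ∀ x ∈ N, ∀ y ∈ N, ⁅x, y⁆ ∈ A := by
    by_contra hcon
    let M : Subgroup D := ⁅N, N⁆
    have hMn : M.Normal := inferInstance
    have hMN : M ≤ N := commutator_le_left N N
    have h1 : M ⊔ A = N := by
      rcases hmin' (M ⊔ A) inferInstance le_sup_right (sup_le hMN hAN.le) with h | h
      · exfalso
        apply hcon
        intro x hx y hy
        have : M ≤ A := by rw [← h]; exact le_sup_left
        exact this (commutator_mem_commutator hx hy)
      · exact h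
    -- `M` is perfect
    have hMperf : ⁅M, M⁆ = M := by
      apply le_antisymm (commutator_le_left M M)
      change ⁅N, N⁆ ≤ ⁅M, M⁆
      rw [commutator_le]
      intro x hx y hy
      rw [← h1] at hx hy
      obtain ⟨m, hm, a, ha, rfl⟩ := mem_sup_of_normal_right.1 hx
      obtain ⟨m', hm', a', ha', rfl⟩ := mem_sup_of_normal_right.1 hy
      have c1 : ∀ b ∈ A, ∀ x ∈ N, b * x = x * b := fun b hb x hx => hcen x hx b hb
      have e1 : ⁅m * a, m' * a'⁆ = ⁅m, m'⁆ := by
        have k1 := c1 a ha (m' * a') (N.mul_mem (hMN hm') (hAN.le ha'))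
        have k2 := c1 a' ha' m⁻¹ (N.inv_mem (hMN hm))
        calc ⁅m * a, m' * a'⁆ = m * (a * (m' * a')) * a⁻¹ * m⁻¹ * (m' * a')⁻¹ := by
              rw [commutatorElement_def]; group
          _ = m * (m' * a' * a) * a⁻¹ * m⁻¹ * (m' * a')⁻¹ := by rw [k1]
          _ = m * m' * (a' * m⁻¹) * (m' * a')⁻¹ := by group
          _ = m * m' * (m⁻¹ * a') * (m' * a')⁻¹ := by rw [k2]
          _ = ⁅m, m'⁆ := by rw [commutatorElement_def]; group
      rw [e1]
      exact commutator_mem_commutator hm hm'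
    have hMne : M ≠ ⊥ := by
      intro h
      rw [h, bot_sup_eq] at h1
      exact hAN.ne h1
    have hMns : ¬ Group.IsSolvable M := by
      intro hs
      have hp : Group.IsPerfect M := isPerfect_iff.mpr hMperf
      have hnt : Nontrivial M := (Subgroup.nontrivial_iff_ne_bot M).2 hMne
      exact Group.IsPerfect.not_isSolvable M hs
    have hΦn : (fittingSubgroup D).Normal := SignalizersComponents.ComponentExists.fittingSubgroup_normal D
    have hΦs : Group.IsSolvable (fittingSubgroup D) := by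
      have := Lib.Cores.fittingSubgroup_isNilpotent (G := D)
      infer_instance
    have hAΦ : A ≤ fittingSubgroup D := by
      refine SignalizersComponents.ComponentExists.le_fittingSubgroup hAn ?_
      apply SignalizersComponents.ComponentExists.isNilpotent_of_commutator_commutator
      have h2 : ⁅A, A⁆ = ⊥ := by
        rw [commutator_eq_bot_iff_le_centralizer]
        exact hAC
      rw [h2, commutator_bot_left]
    rcases hmin' (fittingSubgroup D ⊓ N) inferInstance (le_inf hAΦ hAN.le) inf_le_right with h | h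
    · -- three subgroups
      have h3 : ⁅⁅fittingSubgroup D, N⁆, N⁆ = ⊥ := by
        have h4 : ⁅fittingSubgroup D, N⁆ ≤ A := by
          rw [← h]
          exact commutator_le_inf _ _
        rw [commutator_eq_bot_iff_le_centralizer]
        refine h4.trans ?_
        intro a ha
        rw [mem_centralizer_iff]
        intro x hx
        exact (hcen x hx a ha).symm
      have h4 : ⁅⁅N, fittingSubgroup D⁆, N⁆ = ⊥ := by rw [commutator_comm N]; exact h3
      have h5 := commutator_commutator_eq_bot_of_rotate h4 h3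
      have h6 : M ≤ centralizer (fittingSubgroup D : Set D) := commutator_eq_bot_iff_le_centralizer.1 h5
      obtain ⟨K, hK, -⟩ := SignalizersComponents.ComponentExists.exists_isComponent_le hMn.isSubnormal hMns h6
      exact hlay K hK
    · apply hMns
      refine SignalizersComponents.ComponentExists.isSolvable_of_le ?_ hΦs
      refine hMN.trans ?_
      rw [← h]
      exact inf_le_left
  refine ⟨N, hNn, hAN, hNC, hcomm, ?_⟩
  -- exponent
  have hlt : 1 < A.relIndex N := by
    have h1 : A.relIndex N ≠ 0 := index_ne_zero_of_finite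
    have h2 : A.relIndex N ≠ 1 := fun h => hAN.not_ge (relIndex_eq_one.1 h)
    omega
  obtain ⟨r, hr, hrd⟩ := Nat.exists_prime_and_dvd hlt.ne'
  have : Fact r.Prime := ⟨hr⟩
  have hAn' : (A.subgroupOf N).Normal := hAn.subgroupOf N
  have hmul : ∀ x ∈ N, ∀ y ∈ N, ∀ k : ℕ, ∃ a ∈ A, (x * y) ^ k = x ^ k * y ^ k * a := by
    intro x hx y hy k
    have hq : ∀ u v : N ⧸ A.subgroupOf N, u * v = v * u := by
      intro u v
      induction u using QuotientGroup.induction_on with
      | H u =>
        induction v using QuotientGroup.induction_on with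
        | H v =>
          rw [← QuotientGroup.mk_mul, ← QuotientGroup.mk_mul, QuotientGroup.eq, mem_subgroupOf]
          have h1 := hcomm (v : D)⁻¹ (N.inv_mem v.2) (u : D)⁻¹ (N.inv_mem u.2)
          rw [commutatorElement_def] at h1
          have h2 : (((u * v)⁻¹ * (v * u) : N) : D) = (v : D)⁻¹ * (u : D)⁻¹ * (v : D)⁻¹⁻¹ * (u : D)⁻¹⁻¹ := by
            push_cast
            group
          rw [h2]
          exact h1
    have h1 : ((⟨x, hx⟩ * ⟨y, hy⟩ : N) : N ⧸ A.subgroupOf N) ^ k =
        ((⟨x, hx⟩ : N) : N ⧸ A.subgroupOf N) ^ k * ((⟨y, hy⟩ : N) : N ⧸ A.subgroupOf N) ^ k := by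
      rw [QuotientGroup.mk_mul]
      exact Commute.mul_pow (hq _ _) k
    rw [← QuotientGroup.mk_pow, ← QuotientGroup.mk_pow, ← QuotientGroup.mk_pow, ← QuotientGroup.mk_mul,
      eq_comm, QuotientGroup.eq, mem_subgroupOf] at h1
    refine ⟨_, h1, ?_⟩
    push_cast
    group
  let P : Subgroup D :=
    { carrier := {x | x ∈ N ∧ x ^ r ∈ A}
      one_mem' := ⟨N.one_mem, by rw [one_pow]; exact A.one_mem⟩
      mul_mem' := by
        rintro x y ⟨hx, hx'⟩ ⟨hy, hy'⟩
        refine ⟨N.mul_mem hx hy, ?_⟩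
        obtain ⟨a, ha, h⟩ := hmul x hx y hy r
        rw [h]
        exact A.mul_mem (A.mul_mem hx' hy') ha
      inv_mem' := by
        rintro x ⟨hx, hx'⟩
        exact ⟨N.inv_mem hx, by rw [inv_pow]; exact A.inv_mem hx'⟩ }
  have hPn : P.Normal := ⟨by
    rintro x ⟨hx, hx'⟩ g
    refine ⟨hNn.conj_mem x hx g, ?_⟩
    rw [conj_pow]
    exact hAn.conj_mem _ hx' g⟩
  refine ⟨r, hr, ?_⟩
  rcases hmin' P hPn (fun a ha => ⟨hAN.le ha, A.pow_mem ha r⟩) (fun x hx => hx.1) with h | h
  · exfalso
    have h1 : r ∣ Nat.card (N ⧸ A.subgroupOf N) := hrd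
    obtain ⟨u, hu⟩ := exists_prime_orderOf_dvd_card' r h1
    obtain ⟨x, rfl⟩ := QuotientGroup.mk_surjective u
    have h2 : (x : N ⧸ A.subgroupOf N) ^ r = 1 := by rw [← hu, pow_orderOf_eq_one]
    rw [← QuotientGroup.mk_pow, QuotientGroup.eq_one_iff, mem_subgroupOf] at h2
    have h3 : (x : D) ∈ P := ⟨x.2, h2⟩
    rw [h] at h3
    have h4 : (x : N ⧸ A.subgroupOf N) = 1 := by
      rw [QuotientGroup.eq_one_iff, mem_subgroupOf]
      exact h3
    rw [h4, orderOf_one] at hu
    exact hr.one_lt.ne hu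
  · intro x hx
    rw [← h] at hx
    exact hx.2

end Cfsg.Agent.H698.MinN
end

-- part: H698/NumE
section
/-!
# Numerics for the symplectic case
-/

set_option autoImplicit false

namespace Cfsg.Agent.H698.NumE

/-- `(m + 1) ^ k ≤ 11 m ^ k` for `k ≤ 2 m`. -/
theorem step {m k : ℕ} (hm : 1 ≤ m) (hk : k ≤ 2 * m) : (m + 1) ^ k ≤ 11 * m ^ k := by
  have hm0 : (0 : ℝ) < m := by exact_mod_cast hm
  have h1 : ((m : ℝ) + 1) = m * (1 + 1 / m) := by field_simp
  have h2 : (1 + 1 / (m : ℝ)) ^ k ≤ 11 := by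
    calc (1 + 1 / (m : ℝ)) ^ k ≤ (Real.exp (1 / m)) ^ k := by
          refine pow_le_pow_left₀ (by positivity) ?_ k
          have := Real.add_one_le_exp (1 / (m : ℝ))
          linarith only [this]
      _ = Real.exp (k * (1 / m)) := by rw [← Real.exp_nat_mul]
      _ ≤ Real.exp 2 := by
          rw [Real.exp_le_exp]
          rw [mul_one_div, div_le_iff₀ hm0]
          exact_mod_cast hk
      _ = Real.exp 1 ^ 2 := by rw [← Real.exp_nat_mul]; norm_num
      _ ≤ 3 ^ 2 := pow_le_pow_left₀ (Real.exp_pos 1).le (Real.exp_one_lt_three.le) 2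
      _ ≤ 11 := by norm_num
  have h3 : ((m : ℝ) + 1) ^ k ≤ 11 * (m : ℝ) ^ k := by
    rw [h1, mul_pow, mul_comm]
    exact mul_le_mul_of_nonneg_right h2 (by positivity)
  exact_mod_cast h3

theorem grow {m₀ k : ℕ} (hm0 : 1 ≤ m₀) (h0 : m₀ ^ k ≤ 11 ^ (m₀ - 1)) (hk : k ≤ 2 * m₀) {m : ℕ} (hm : m₀ ≤ m) :
    m ^ k ≤ 11 ^ (m - 1) := by
  induction m, hm using Nat.le_induction with
  | base => exact h0
  | succ m hm ih =>
    have h1 := step (m := m) (k := k) (by omega) (by omega)
    calc (m + 1) ^ k ≤ 11 * m ^ k := h1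
      _ ≤ 11 * 11 ^ (m - 1) := Nat.mul_le_mul_left _ ih
      _ = 11 ^ (m + 1 - 1) := by
          rw [← pow_succ']
          congr 1
          omega

theorem big {j m : ℕ} (hj : 4 ≤ j) (hm : 2 ^ j ≤ m) : m ^ (2 * j + 3) ≤ 11 ^ (m - 1) := by
  have h1 : ∀ j, 4 ≤ j → j * (2 * j + 3) ≤ 3 * (2 ^ j - 1) ∧ 2 * j + 3 ≤ 2 * 2 ^ j := by
    intro j hj
    induction j, hj using Nat.le_induction with
    | base => norm_num
    | succ j hj ih =>
      obtain ⟨ih1, ih2⟩ := ih
      have h2 : 2 ^ (j + 1) = 2 * 2 ^ j := by ring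
      have h3 : 1 ≤ 2 ^ j := Nat.one_le_two_pow
      constructor
      · rw [h2]
        obtain ⟨t, ht⟩ : ∃ t, 2 ^ j = t + 1 := ⟨2 ^ j - 1, by omega⟩
        rw [ht] at ih1 ⊢
        have e1 : 2 * (t + 1) - 1 = 2 * t + 1 := by omega
        rw [e1]
        rw [Nat.add_sub_cancel] at ih1
        nlinarith only [hj, ih1]
      · rw [h2]
        omega
  obtain ⟨h2, h3⟩ := h1 j hj
  refine grow (m₀ := 2 ^ j) Nat.one_le_two_pow ?_ h3 hm
  calc (2 ^ j) ^ (2 * j + 3) = 2 ^ (j * (2 * j + 3)) := by rw [← pow_mul]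
    _ ≤ 2 ^ (3 * (2 ^ j - 1)) := Nat.pow_le_pow_right (by norm_num) h2
    _ = 8 ^ (2 ^ j - 1) := by rw [pow_mul]; norm_num
    _ ≤ 11 ^ (2 ^ j - 1) := Nat.pow_le_pow_left (by norm_num) _

/-- The bound for `a ≥ 2`. -/
theorem bound2 {j m r : ℕ} (hj : 1 ≤ j) (hr : 2 ≤ r) (hrm : r ^ j ≤ m) : r ^ (2 * j ^ 2 + 3 * j) ≤ 2 * 11 ^ m := by
  have h1 : r ^ (2 * j ^ 2 + 3 * j) = (r ^ j) ^ (2 * j + 3) := by
    rw [← pow_mul]
    congr 1
    ring
  have h2 : 2 ^ j ≤ m := (Nat.pow_le_pow_left hr j).trans hrm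
  have h3 : r ^ (2 * j ^ 2 + 3 * j) ≤ m ^ (2 * j + 3) := by
    rw [h1]
    exact Nat.pow_le_pow_left hrm _
  refine h3.trans ?_
  have key : m ^ (2 * j + 3) ≤ 11 ^ (m - 1) → m ^ (2 * j + 3) ≤ 2 * 11 ^ m := by
    intro h
    refine h.trans ?_
    have : 11 ^ (m - 1) ≤ 11 ^ m := Nat.pow_le_pow_right (by norm_num) (by omega)
    omega
  rcases Nat.lt_or_ge j 4 with hj4 | hj4
  · interval_cases j
    · rcases Nat.lt_or_ge m 4 with hm | hm
      · interval_cases m <;> norm_num only [_root_.pow_one, _root_.implies_true] at *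
      · exact key (grow (m₀ := 4) (by norm_num) (by norm_num) (by norm_num) hm)
    · rcases Nat.lt_or_ge m 7 with hm | hm
      · interval_cases m <;> norm_num only [_root_.implies_true] at *
      · exact key (grow (m₀ := 7) (by norm_num) (by norm_num) (by norm_num) hm)
    · rcases Nat.lt_or_ge m 10 with hm | hm
      · interval_cases m <;> norm_num only [_root_.implies_true] at *
      · exact key (grow (m₀ := 10) (by norm_num) (by norm_num) (by norm_num) hm)
  · exact key (big hj4 h2)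

/-- The bound for `a = 1`: two exceptions. -/
theorem bound1 {j m r : ℕ} (hj : 1 ≤ j) (hr : 2 ≤ r) (hrm : r ^ j ≤ m) (hm4 : 4 ≤ m) (heven : 2 ∣ m) :
    r ^ (2 * j ^ 2 + 3 * j) ≤ 11 ^ (m - 1) ∨ (m = 4 ∧ r = 2 ∧ j = 2) ∨ (m = 8 ∧ r = 2 ∧ j = 3) := by
  have h1 : r ^ (2 * j ^ 2 + 3 * j) = (r ^ j) ^ (2 * j + 3) := by
    rw [← pow_mul]
    congr 1
    ring
  have h2 : 2 ^ j ≤ m := (Nat.pow_le_pow_left hr j).trans hrm
  have h3 : r ^ (2 * j ^ 2 + 3 * j) ≤ m ^ (2 * j + 3) := by
    rw [h1]
    exact Nat.pow_le_pow_left hrm _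
  rcases Nat.lt_or_ge j 4 with hj4 | hj4
  · interval_cases j
    · left
      exact h3.trans (grow (m₀ := 4) (by norm_num) (by norm_num) (by norm_num) hm4)
    · rcases Nat.lt_or_ge m 7 with hm | hm
      · have hr3 : r < 3 := by
          by_contra h
          push Not at h
          have := Nat.pow_le_pow_left h 2
          omega
        have hr2 : r = 2 := by omega
        subst hr2
        interval_cases m
        · right; left; exact ⟨rfl, rfl, rfl⟩
        · omega
        · left; norm_num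
      · left
        exact h3.trans (grow (m₀ := 7) (by norm_num) (by norm_num) (by norm_num) hm)
    · rcases Nat.lt_or_ge m 10 with hm | hm
      · have hr3 : r < 3 := by
          by_contra h
          push Not at h
          have := Nat.pow_le_pow_left h 3
          omega
        have hr2 : r = 2 := by omega
        subst hr2
        norm_num at h2
        interval_cases m
        · right; right; exact ⟨rfl, rfl, rfl⟩
        · omega
      · left
        exact h3.trans (grow (m₀ := 10) (by norm_num) (by norm_num) (by norm_num) hm)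
  · left
    exact h3.trans (big hj4 h2)

theorem main {p n a m r j α z Q κ k : ℕ} (hp : p.Prime) (hp11 : 11 ≤ p) (hn : 4 ≤ n) (heven : 2 ∣ n)
    (hnam : n = a * m) (hr : r.Prime) (hj : 1 ≤ j) (hrm : r ^ j ≤ m) (hrα : r ∣ α) (hα : α ∣ p ^ a - 1)
    (hαz : α ≤ a * z) (hQ : Q ≤ a * r ^ (2 * j ^ 2 + 3 * j)) (hineq : p ^ n ≤ 2 * (α * Q) + 1)
    (hk : z + κ ≤ k + 1) (hκ2 : 2 ≤ κ) (L5 : κ ≤ 5 → Q ≤ 1806)
    (L6 : κ ≤ 6 → Q ≤ 3263442) : p ≤ 2 * k := by
  by_contra hcon
  push Not at hcon
  have hz : 2 * z ≤ p - 3 := by omega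
  have ha0 : a ≠ 0 := by
    rintro rfl
    omega
  have hm2 : 2 ≤ m := by
    have h1 : 2 ^ j ≤ r ^ j := Nat.pow_le_pow_left hr.two_le j
    have h2 : 2 ^ 1 ≤ 2 ^ j := Nat.pow_le_pow_right (by norm_num) hj
    omega
  set S := r ^ (2 * j ^ 2 + 3 * j) with hS
  have hmain : p ^ n ≤ a ^ 2 * S * (p - 3) + 1 := by
    refine hineq.trans ?_
    have : 2 * (α * Q) ≤ a ^ 2 * S * (2 * z) := by
      calc 2 * (α * Q) ≤ 2 * ((a * z) * (a * S)) := Nat.mul_le_mul_left _ (Nat.mul_le_mul hαz hQ)
        _ = _ := by ring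
    have h2 : a ^ 2 * S * (2 * z) ≤ a ^ 2 * S * (p - 3) := Nat.mul_le_mul_left _ hz
    omega
  have hfalse : a ^ 2 * S ≤ 11 ^ (n - 1) → False := by
    intro h
    have h1 : 11 ^ (n - 1) ≤ p ^ (n - 1) := Nat.pow_le_pow_left hp11 _
    have h2 : p ^ n = p ^ (n - 1) * p := by
      rw [← pow_succ]
      congr 1
      omega
    have h3 : a ^ 2 * S * (p - 3) ≤ p ^ (n - 1) * (p - 3) := Nat.mul_le_mul_right _ (h.trans h1)
    have h4 : p ^ (n - 1) * p = p ^ (n - 1) * (p - 3) + p ^ (n - 1) * 3 := by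
      rw [← mul_add]
      congr 1
      omega
    have h5 : 1 ≤ p ^ (n - 1) := Nat.one_le_pow _ _ hp.pos
    omega
  rcases Nat.lt_or_ge a 2 with ha | ha
  · have ha1 : a = 1 := by omega
    subst ha1
    rw [one_mul] at hnam
    subst hnam
    rcases bound1 hj hr.two_le hrm hn heven with h | ⟨rfl, rfl, rfl⟩ | ⟨rfl, rfl, rfl⟩
    · exact hfalse (by rw [one_pow, one_mul]; exact h)
    · -- `n = 4`
      have hS' : S = 16384 := by rw [hS]; norm_num
      rw [hS'] at hQ hmain
      rw [pow_one] at hα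
      rw [one_mul] at hαz hQ
      obtain ⟨t, ht⟩ := hα
      have ht3 : 3 ≤ t := by
        by_contra h
        push Not at h
        interval_cases t <;> (clear * - hp11 ht hk hκ2 hcon hαz; omega)
      have hα3 : 3 * α ≤ p - 1 := by
        rw [ht, mul_comm]
        exact Nat.mul_le_mul_left _ ht3
      have h1 : p ^ 4 ≤ 32768 * α + 1 := by
        refine hineq.trans ?_
        have := Nat.mul_le_mul_left α hQ
        omega
      have hp21 : p ≤ 22 := by
        by_contra h
        push Not at h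
        have h2 : 23 ^ 3 ≤ p ^ 3 := Nat.pow_le_pow_left h 3
        have h3 : p ^ 4 = p ^ 3 * p := by ring
        have h4 : 23 ^ 3 * p ≤ p ^ 3 * p := Nat.mul_le_mul_right _ h2
        omega
      obtain ⟨β, rfl⟩ := hrα
      have hQ' : p ^ 4 ≤ 4 * (β * Q) + 1 := by
        refine hineq.trans (le_of_eq ?_)
        ring
      have hκ : κ ≤ 5 → False := by
        intro h
        have hQ5 := L5 h
        have h7 : β * Q ≤ β * 1806 := Nat.mul_le_mul_left _ hQ5
        interval_cases p <;> norm_num at hp <;> omega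
      have hκ6 : 6 ≤ κ := by
        by_contra h
        exact hκ (by omega)
      interval_cases p <;> norm_num at hp
      · omega
      · omega
      · omega
      · have hβ : β < 4 := by omega
        interval_cases β <;> (clear * - hineq hQ ht hk hκ6 hcon hz hαz; omega)
    · -- `n = 8`
      have hS' : S = 134217728 := by rw [hS]; norm_num
      rw [hS'] at hQ hmain
      rw [pow_one] at hα
      rw [one_mul] at hαz hQ
      obtain ⟨t, ht⟩ := hα
      have ht3 : 3 ≤ t := by
        by_contra h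
        push Not at h
        interval_cases t <;> (clear * - hp11 ht hk hκ2 hcon hαz hrα; omega)
      have hα3 : 3 * α ≤ p - 1 := by
        rw [ht, mul_comm]
        exact Nat.mul_le_mul_left _ ht3
      have h1 : p ^ 8 ≤ 268435456 * α + 1 := by
        refine hineq.trans ?_
        have := Nat.mul_le_mul_left α hQ
        omega
      have hp16 : p ≤ 14 := by
        by_contra h
        push Not at h
        have h2 : 15 ^ 7 ≤ p ^ 7 := Nat.pow_le_pow_left h 7
        have h3 : p ^ 8 = p ^ 7 * p := by ring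
        have h4 : 15 ^ 7 * p ≤ p ^ 7 * p := Nat.mul_le_mul_right _ h2
        omega
      obtain ⟨β, rfl⟩ := hrα
      have hQ' : p ^ 8 ≤ 4 * (β * Q) + 1 := by
        refine hineq.trans (le_of_eq ?_)
        ring
      have hκ : κ ≤ 6 → False := by
        intro h
        have hQ5 := L6 h
        have h7 : β * Q ≤ β * 3263442 := Nat.mul_le_mul_left _ hQ5
        interval_cases p <;> norm_num at hp <;> omega
      have hκ6 : 7 ≤ κ := by
        by_contra h
        exact hκ (by omega)
      interval_cases p <;> norm_num at hp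
      · omega
      · omega
  · apply hfalse
    have h1 := bound2 hj hr.two_le hrm
    have h2 : ∀ a, 2 ≤ a → 2 * a ^ 2 ≤ 11 ^ (2 * a - 3) := by
      intro a ha
      induction a, ha using Nat.le_induction with
      | base => norm_num
      | succ a ha ih =>
        have h3 : 2 * (a + 1) - 3 = (2 * a - 3) + 2 := by (clear * - ha; omega)
        rw [h3, pow_add]
        nlinarith only [ha, ih]
    have h3 := h2 a ha
    have h4 : m + (2 * a - 3) ≤ n - 1 := by
      have : a * m = m + (a - 1) * m := by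
        obtain ⟨b, rfl⟩ : ∃ b, a = b + 1 := ⟨a - 1, by omega⟩
        rw [Nat.add_sub_cancel]
        ring
      have h5 : (a - 1) * 2 ≤ (a - 1) * m := Nat.mul_le_mul_left _ hm2
      (clear * - hnam ha this h5; omega)
    calc a ^ 2 * S ≤ a ^ 2 * (2 * 11 ^ m) := Nat.mul_le_mul_left _ h1
      _ = (2 * a ^ 2) * 11 ^ m := by ring
      _ ≤ 11 ^ (2 * a - 3) * 11 ^ m := Nat.mul_le_mul_right _ h3
      _ = 11 ^ (m + (2 * a - 3)) := by rw [← pow_add, add_comm]
      _ ≤ 11 ^ (n - 1) := Nat.pow_le_pow_right (by norm_num) h4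

end Cfsg.Agent.H698.NumE
end

-- part: H698/CaseE
section
/-!
# The case without components
-/

set_option autoImplicit false

namespace Cfsg.Agent.H698.CaseE

open Cfsg Cfsg.Agent.H717.FieldOf Cfsg.Agent.H698.Orb Cfsg.Agent.H698.Idem Cfsg.Agent.H698.Env Cfsg.Agent.H698.Dich
open Cfsg.Agent.H698.Fld
open scoped commutatorElement

universe u

/-- The bound for groups of symplectic type. -/
def SympType : Prop := ∀ (C : Type u) [Group C] [Finite C] (A N : Subgroup C), A ≤ N → A ≤ Subgroup.center C →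
  IsCyclic A → N.Normal → ∀ r : ℕ, r.Prime → (∀ x ∈ N, x ^ r ∈ A) → (∀ x ∈ N, ∀ y ∈ N, ⁅x, y⁆ ∈ A) →
  Subgroup.centralizer (N : Set C) ≤ A → ∃ j : ℕ, A.relIndex N = r ^ (2 * j) ∧ A.index ≤ r ^ (2 * j ^ 2 + 3 * j)

theorem pow_eq_one_of_comm {G : Type*} [Group G] {c x y : G} {r : ℕ} (hc : y * x * y⁻¹ = c * x)
    (hcx : c * x = x * c) (hxy : y * x ^ r = x ^ r * y) : c ^ r = 1 := by
  have h1 : y * x ^ r * y⁻¹ = c ^ r * x ^ r := by
    rw [← conj_pow, hc]
    exact (show Commute c x from hcx).mul_pow r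
  rw [hxy, mul_inv_cancel_right] at h1
  exact (mul_eq_right (a := c ^ r)).1 h1.symm

theorem sq_lt {n : ℕ} (hn : 4 ≤ n) : n ^ 2 < 11 ^ (n - 1) := by
  induction n, hn using Nat.le_induction with
  | base => norm_num
  | succ n hn ih =>
    have h1 : 11 ^ (n + 1 - 1) = 11 * 11 ^ (n - 1) := by
      rw [← pow_succ']
      congr 1
      omega
    rw [h1]
    nlinarith only [ih]

/-- **The case without components.** -/
theorem main {D E : Type u} [Group D] [Finite D] [AddCommGroup E] [Finite E] [Nontrivial E] [DistribMulAction D E]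
    [FaithfulSMul D E] (hSymp : SympType.{u})
    (h2 : TwoOrb D E) {p n : ℕ} (hp : p.Prime) (hp11 : 11 ≤ p) (hpE : ∀ e : E, p • e = 0) (hcop : ¬ p ∣ Nat.card D)
    (hn : 4 ≤ n) (heven : 2 ∣ n) (hE : Nat.card E = p ^ n) (hni : ¬ Imprim D E)
    (hlay : ∀ K : Subgroup D, ¬ IsComponent K) :
    p ≤ 2 * Nat.card (ConjClasses D) := by
  have hpf : Fact p.Prime := ⟨hp⟩
  obtain ⟨A, hA⟩ := Set.Finite.exists_maximal
    (s := {B : Subgroup D | B.Normal ∧ ∀ a ∈ B, ∀ b ∈ B, a * b = b * a}) (Set.toFinite _)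
    ⟨⊥, inferInstance, fun a ha b hb => by rw [Subgroup.mem_bot.1 ha, Subgroup.mem_bot.1 hb]⟩
  obtain ⟨⟨hAn, hAc⟩, hmax⟩ := hA
  have hmax' : ∀ B : Subgroup D, B.Normal → (∀ a ∈ B, ∀ b ∈ B, a * b = b * a) → A ≤ B → B ≤ A :=
    fun B h1 h2 h3 => hmax ⟨h1, h2⟩ h3
  have hS : Scal E A := by
    rcases dich h2 hp hpE hcop A with h | h | h
    · exact absurd h hni
    · exact h.scal hAc
    · exact h
  obtain ⟨F, _, _, _, ⟨f⟩⟩ := exists_fd A hS
  obtain ⟨a, ha1, hFa, hCa⟩ := f.numbers hp hpE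
  have hfinFE : Module.Finite F E := Module.Finite.of_finite
  obtain ⟨m, hm⟩ : ∃ m, Module.finrank F E = m := ⟨_, rfl⟩
  have hnam : n = a * m := by
    have h3 := Module.natCard_eq_pow_finrank (K := F) (V := E)
    rw [hm, hFa, hE, ← pow_mul] at h3
    exact Nat.pow_right_injective hp.two_le h3
  have hm0 : m ≠ 0 := by
    rintro rfl
    omega
  have hDcard := Count.card_le h2
  rw [hE] at hDcard
  by_cases hC : Subgroup.centralizer (A : Set D) ≤ A
  · have hidx : A.index ≤ a := by
      refine le_trans (Nat.le_of_dvd (Nat.pos_of_ne_zero Subgroup.index_ne_zero_of_finite)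
        (Subgroup.index_dvd_of_le hC)) hCa
    refine Count.of_abelian hp.two_le (by omega) hDcard A hAc hidx ?_
    have h3 : a ≤ n := by
      rw [hnam]
      exact Nat.le_mul_of_pos_right _ (by omega)
    calc a ^ 2 ≤ n ^ 2 := Nat.pow_le_pow_left h3 2
      _ < 11 ^ (n - 1) := sq_lt hn
      _ ≤ p ^ (n - 1) := Nat.pow_le_pow_left hp11 _
  · obtain ⟨N, hNn, hAN, hNC, hcomm, r, hr, hpow⟩ := MinN.exists_min hlay hAn hAc hC
    have hcen : ∀ x ∈ N, ∀ b ∈ A, b * x = x * b := fun x hx b hb =>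
      Subgroup.mem_centralizer_iff.1 (hNC hx) b hb
    have hnonab : ¬ ∀ x ∈ N, ∀ y ∈ N, x * y = y * x := fun h => hAN.not_ge (hmax' N hNn h hAN.le)
    have hirr : Irred E N := by
      rcases dich h2 hp hpE hcop N with h | h | h
      · exact absurd h hni
      · exact h
      · exact absurd (fun x hx y hy => h.comm hx hy) hnonab
    have hcN : Subgroup.centralizer (N : Set D) ≤ A := by
      refine hmax' _ inferInstance ?_ ?_
      · intro x hx y hy
        rw [Subgroup.mem_centralizer_iff] at hx hy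
        exact centralizer_comm hirr hx hy
      · intro b hb
        rw [Subgroup.mem_centralizer_iff]
        intro x hx
        exact (hcen x hx b hb).symm
    obtain ⟨C, hCdef⟩ : ∃ C : Subgroup D, C = Subgroup.centralizer (A : Set D) := ⟨_, rfl⟩
    have hNC' : N ≤ C := by rw [hCdef]; exact hNC
    have hAC : A ≤ C := hAN.le.trans hNC'
    have hcyc : IsCyclic (A.subgroupOf C) := by
      have := f.isCyclic
      exact isCyclic_of_surjective (Subgroup.subgroupOfEquivOfLe hAC).symm
        (Subgroup.subgroupOfEquivOfLe hAC).symm.surjective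
    obtain ⟨j, hj1, hj2⟩ := hSymp C (A.subgroupOf C) (N.subgroupOf C) (Subgroup.comap_mono hAN.le) (by
        intro b hb
        rw [Subgroup.mem_center_iff]
        intro x
        apply Subtype.ext
        have hx : (x : D) ∈ Subgroup.centralizer (A : Set D) := hCdef ▸ x.2
        exact (Subgroup.mem_centralizer_iff.1 hx b hb).symm) hcyc (hNn.subgroupOf C) r hr
      (fun x hx => hpow x hx) (fun x hx y hy => hcomm x hx y hy) (by
        intro x hx
        rw [Subgroup.mem_subgroupOf]
        apply hcN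
        rw [Subgroup.mem_centralizer_iff] at hx ⊢
        intro y hy
        exact congrArg Subtype.val (hx ⟨y, hNC' hy⟩ hy))
    have hrel : A.relIndex N = r ^ (2 * j) := by
      rw [← hj1]
      have h3 : (A.subgroupOf C).relIndex (N.subgroupOf C) = A.relIndex N :=
        Subgroup.relIndex_subgroupOf hNC'
      exact h3.symm
    have hle := LinInd.relIndex_le f hNC hcomm (fun x hx h => hcN (by
      rw [Subgroup.mem_centralizer_iff]
      intro y hy
      exact (h y hy).symm)) hm
    have hrm : r ^ j ≤ m := by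
      rw [hrel, mul_comm 2 j, pow_mul] at hle
      exact (Nat.pow_le_pow_iff_left (by norm_num)).1 hle
    have hj : 1 ≤ j := by
      by_contra h
      have hj0 : j = 0 := by omega
      rw [hj0, mul_zero, pow_zero] at hrel
      exact hAN.not_ge (Subgroup.relIndex_eq_one.1 hrel)
    have hrα : r ∣ Nat.card A := by
      push Not at hnonab
      obtain ⟨x, hx, y, hy, hxy⟩ := hnonab
      have hc := hcomm y hy x hx
      have h3 : ⁅y, x⁆ ^ r = 1 := by
        refine pow_eq_one_of_comm (x := x) (y := y) ?_ (hcen x hx _ hc) ?_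
        · rw [commutatorElement_def]
          group
        · exact (hcen y hy _ (hpow x hx)).symm
      have h4 : ⁅y, x⁆ ≠ 1 := by
        rw [Ne, commutatorElement_eq_one_iff_mul_comm]
        exact fun h => hxy h.symm
      have h5 : orderOf (⟨⁅y, x⁆, hc⟩ : A) = r := by
        have h6 : (⟨⁅y, x⁆, hc⟩ : A) ^ r = 1 := Subtype.ext h3
        rcases (Nat.dvd_prime hr).1 (orderOf_dvd_of_pow_eq_one h6) with h7 | h7
        · exact absurd (congrArg Subtype.val (orderOf_eq_one_iff.1 h7)) h4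
        · exact h7
      rw [← h5]
      exact orderOf_dvd_natCard _
    have hα : Nat.card A ∣ p ^ a - 1 := by
      rw [← hFa]
      exact f.card_dvd
    obtain ⟨z, hz1, hz2⟩ := Count.count A hCa
    have hQ : Nat.card (D ⧸ A) ≤ a * r ^ (2 * j ^ 2 + 3 * j) := by
      have h3 : A.relIndex C * C.index = A.index := Subgroup.relIndex_mul_index hAC
      have h4 : A.relIndex C ≤ r ^ (2 * j ^ 2 + 3 * j) := hj2
      have h5 : C.index ≤ a := by rw [hCdef]; exact hCa
      change A.index ≤ _
      rw [← h3, mul_comm a]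
      exact Nat.mul_le_mul h4 h5
    have hDA : Nat.card D = Nat.card A * Nat.card (D ⧸ A) := by
      rw [mul_comm]
      exact Subgroup.card_eq_card_quotient_mul_card_subgroup A
    have hnt : Nontrivial (D ⧸ A) := by
      rw [← Finite.one_lt_card_iff_nontrivial]
      have h3 : A.index ≠ 1 := fun h => hC (by rw [Subgroup.index_eq_one.1 h]; exact le_top)
      have h4 : A.index ≠ 0 := Subgroup.index_ne_zero_of_finite
      change 1 < A.index
      omega
    have hκ2 : 2 ≤ Nat.card (ConjClasses (D ⧸ A)) := by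
      obtain ⟨q, hq⟩ := exists_ne (1 : D ⧸ A)
      have : Nontrivial (ConjClasses (D ⧸ A)) := ⟨ConjClasses.mk q, ConjClasses.mk 1, fun h => hq (by
        rw [ConjClasses.mk_eq_mk_iff_isConj, isConj_comm, isConj_one_right] at h
        exact h)⟩
      exact Finite.one_lt_card_iff_nontrivial.2 this
    refine NumE.main (α := Nat.card A) (Q := Nat.card (D ⧸ A)) hp hp11 hn heven hnam hr hj hrm hrα hα hz1 hQ
      (by rw [← hDA]; exact hDcard) hz2 hκ2 ?_ ?_
    · intro h
      exact Landau.le_1806 h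
    · intro h
      exact Landau.le_3263442 h

end Cfsg.Agent.H698.CaseE
end
end

section
prune_inst 0xbcfcf8abb8a9deffff7e7fa6f8cffc19909fffe6dffd43ffe069ff8bdf03250bc5fbaf09e410fe9ed6e01410b87813f97eceffe26bdc7ffffd5ff45ffbee1fa5efbd08119194240f342ffef3f0778a7f000000000000000000000000000041000000000000

-- part: H202/TwoTransAltD
section
prune_inst 0x400307444114000000000059051003e46d6000190002b8001d92007420e84af0300000f60bcb0160201eaa2a4407ec068130000d9421000002a008200411c05a1042b76c662b5ad0cb50010c0f885580c00000000000000000000000000000004200000002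
set_option linter.all false
open scoped Cfsg.Agent.FastGrp

/-!
# HUB H1, P10: 2-transitive groups with alternating socle, part D: assembly (helper202)
-/

set_option autoImplicit false
set_option linter.unusedSectionVars false
set_option linter.style.haveILetI false

namespace Cfsg.Agent.H202.TwoTransAlt

open MulAction Equiv Cfsg.Agent.H384.TwoTrans

universe u v

/-! ## degree 6 -/

open Cfsg.Agent.LFourA.AltPsiAut

theorem card_mulAut_A6 : Nat.card (MulAut (alternatingGroup (Fin 6))) ≤ 1440 := by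
  classical
  haveI : Finite (MulAut (alternatingGroup (Fin 6))) :=
    Finite.of_injective (fun σ => (σ : alternatingGroup (Fin 6) → alternatingGroup (Fin 6))) DFunLike.coe_injective
  have h1 : Nat.card NE ≤ 720 := by
    choose σ hσ using fun a : NE => exists_perm a.2
    have h2 : Function.Injective σ := by
      intro a b hab
      apply Subtype.ext
      refine MulEquiv.ext fun x => Subtype.ext ?_
      rw [hσ, hσ, hab]
    have h3 := Nat.card_le_card_of_injective σ h2
    rw [Nat.card_perm, Nat.card_fin] at h3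
    exact h3
  by_cases h : ∃ β : MulAut (alternatingGroup (Fin 6)), β ∉ NE
  · obtain ⟨β, hβ⟩ := h
    have hmem : ∀ a : MulAut (alternatingGroup (Fin 6)), a ∉ NE → β⁻¹ * a ∈ NE := fun a ha => inv_mul_mem hβ ha
    let f : MulAut (alternatingGroup (Fin 6)) → NE × Bool := fun a =>
      if ha : a ∈ NE then (⟨a, ha⟩, true) else (⟨β⁻¹ * a, hmem a ha⟩, false)
    have hf : Function.Injective f := by
      intro a b hab
      by_cases ha : a ∈ NE <;> by_cases hb : b ∈ NE <;> simp [f, ha, hb] at hab <;> exact hab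
    have h2 := Nat.card_le_card_of_injective f hf
    rw [Nat.card_prod, Nat.card_eq_fintype_card (α := Bool), Fintype.card_bool] at h2
    omega
  · push Not at h
    have h2 : Nat.card (MulAut (alternatingGroup (Fin 6))) ≤ Nat.card NE :=
      Nat.card_le_card_of_injective (fun a => (⟨a, h a⟩ : NE)) (fun a b hab => congrArg Subtype.val hab)
    omega

end Cfsg.Agent.H202.TwoTransAlt
end

-- part: H697/SympType
section
prune_inst 0x2
set_option linter.all false
open scoped Cfsg.Agent.FastGrp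

/-!
# Normal subgroups of symplectic type
-/

set_option autoImplicit false
set_option linter.style.haveILetI false

universe u

namespace Cfsg.Agent.H697.SympType

open Subgroup Module
open Cfsg.Agent.H553

variable {C : Type u} [Group C]

/-- The commutator. -/
def cm (x y : C) : C := x * y * x⁻¹ * y⁻¹

theorem cm_mul_left {x y z : C} (h : ∀ g : C, cm y z * g = g * cm y z) :
    cm (x * y) z = cm x z * cm y z := by
  have h1 : cm (x * y) z = x * cm y z * (z * x⁻¹ * z⁻¹) := by unfold cm; group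
  rw [h1, ← h x, mul_assoc, h]
  unfold cm
  group

theorem cm_mul_right {x y z : C} (h : ∀ g : C, cm x z * g = g * cm x z) :
    cm x (y * z) = cm x y * cm x z := by
  have h1 : cm x (y * z) = (x * y * x⁻¹) * (cm x z * y⁻¹) := by unfold cm; group
  rw [h1, h, ← mul_assoc]
  congr 1

theorem cm_eq_one {x y : C} : cm x y = 1 ↔ x * y = y * x := by
  unfold cm
  rw [mul_inv_eq_one, mul_inv_eq_iff_eq_mul]

theorem conj_cm (g x y : C) : g * cm x y * g⁻¹ = cm (g * x * g⁻¹) (g * y * g⁻¹) := by
  unfold cm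
  group

section abstract

theorem add_sp {r : ℕ} [hr : Fact r.Prime] {W : Type u} [AddCommGroup W] [Module (ZMod r) W]
    [Finite W] {S : Type*} [Group S] [Finite S] (φ : S → (W → W))
    (hφa : ∀ s x y, φ s (x + y) = φ s x + φ s y)
    (hφ1 : ∀ x, φ 1 x = x) (hφm : ∀ s t x, φ (s * t) x = φ s (φ t x))
    (hφ : ∀ s, (∀ x, φ s x = x) → s = 1)
    (c : W → W → ZMod r) (hl : ∀ x y z, c (x + y) z = c x z + c y z)
    (hrr : ∀ x y z, c x (y + z) = c x y + c x z) (halt : ∀ x, c x x = 0)
    (hnd : ∀ x, (∀ y, c x y = 0) → x = 0) (hinv : ∀ s x y, c (φ s x) (φ s y) = c x y) :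
    (∃ n : ℕ, Nat.card W = r ^ (2 * n) ∧ Nat.card S ≤ r ^ (2 * n ^ 2 + n)) ∧
      ∀ f : W → ZMod r, (∀ x y, f (x + y) = f x + f y) → ∃ a, ∀ b, c a b = f b := by
  have hfd : Module.Finite (ZMod r) W := Module.Finite.of_finite
  let c₁ : W → (W →ₗ[ZMod r] ZMod r) := fun x =>
    AddMonoidHom.toZModLinearMap r (AddMonoidHom.mk' (fun y : W => c x y) (fun y z => hrr _ _ _))
  have hc₁ : ∀ x y, c₁ x y = c x y := fun x y => by
    change AddMonoidHom.toZModLinearMap r _ y = _
    rw [AddMonoidHom.coe_toZModLinearMap]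
    rfl
  let B : LinearMap.BilinForm (ZMod r) W :=
    AddMonoidHom.toZModLinearMap r (AddMonoidHom.mk' c₁ (fun x y => by
      refine LinearMap.ext fun z => ?_
      rw [LinearMap.add_apply, hc₁, hc₁, hc₁]
      exact hl _ _ _))
  have hB1 : ∀ x, B x = c₁ x := fun x => by
    change AddMonoidHom.toZModLinearMap r _ x = _
    rw [AddMonoidHom.coe_toZModLinearMap]
    rfl
  have hB : ∀ x y, B x y = c x y := fun x y => by
    rw [hB1]
    exact hc₁ x y
  let ρ : S →* Module.End (ZMod r) W :=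
    { toFun := fun g => AddMonoidHom.toZModLinearMap r
        (AddMonoidHom.mk' (fun x : W => φ g x) (fun x y => hφa g x y))
      map_one' := by
        refine LinearMap.ext fun x => ?_
        rw [AddMonoidHom.coe_toZModLinearMap, Module.End.one_apply]
        exact hφ1 x
      map_mul' := fun g h => by
        refine LinearMap.ext fun x => ?_
        rw [Module.End.mul_apply, AddMonoidHom.coe_toZModLinearMap,
          AddMonoidHom.coe_toZModLinearMap, AddMonoidHom.coe_toZModLinearMap]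
        exact hφm g h x }
  have hρ : ∀ (g : S) (x : W), ρ g x = φ g x := fun g x => by
    change AddMonoidHom.toZModLinearMap r _ x = _
    rw [AddMonoidHom.coe_toZModLinearMap]
    rfl
  have hnd' : ∀ v : W, (∀ w, B v w = 0) → v = 0 := fun v hv =>
    hnd v (fun w => by rw [← hB]; exact hv w)
  constructor
  · obtain ⟨n, hn, f, hf⟩ := Sy.exists_embedding ρ (by
      rw [injective_iff_map_eq_one]
      intro s hs
      apply hφ
      intro x
      rw [← hρ, hs, Module.End.one_apply]) B (fun v => by rw [hB]; exact halt _) hnd'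
      (fun s v w => by rw [hB, hB, hρ, hρ]; exact hinv s _ _)
    exact ⟨n, hn, (Nat.card_le_card_of_injective f hf).trans (Sy.card_sp_le r n)⟩
  · intro f hf
    let f₁ : W →ₗ[ZMod r] ZMod r :=
      AddMonoidHom.toZModLinearMap r (AddMonoidHom.mk' (fun x : W => f x) (fun x y => hf _ _))
    have hf₁ : ∀ x : W, f₁ x = f x := fun x => by
      change AddMonoidHom.toZModLinearMap r _ x = _
      rw [AddMonoidHom.coe_toZModLinearMap]
      rfl
    have hBi : Function.Injective B := by
      rw [← LinearMap.ker_eq_bot, LinearMap.ker_eq_bot']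
      intro v hv
      apply hnd'
      intro w
      rw [hv, LinearMap.zero_apply]
    have hBs : Function.Surjective B :=
      (LinearMap.injective_iff_surjective_of_finrank_eq_finrank
        (Subspace.dual_finrank_eq (K := ZMod r) (V := W)).symm).1 hBi
    obtain ⟨a, ha⟩ := hBs f₁
    refine ⟨a, fun b => ?_⟩
    have h1 := LinearMap.congr_fun ha b
    rw [hB, hf₁] at h1
    exact h1

variable {M : Type u} [CommGroup M] [Finite M] {r : ℕ} [hr : Fact r.Prime]

/-- Nondegenerate forms: additive functionals are represented, and isometries embed in the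
symplectic group. -/
theorem abs_sp (hexp : ∀ x : M, x ^ r = 1) {S : Type*} [Group S] [Finite S] (φ : S → (M → M))
    (hφa : ∀ s x y, φ s (x * y) = φ s x * φ s y)
    (hφ1 : ∀ x, φ 1 x = x) (hφm : ∀ s t x, φ (s * t) x = φ s (φ t x))
    (hφ : ∀ s, (∀ x, φ s x = x) → s = 1)
    (c : M → M → ZMod r) (hl : ∀ x y z, c (x * y) z = c x z + c y z)
    (hrr : ∀ x y z, c x (y * z) = c x y + c x z) (halt : ∀ x, c x x = 0)
    (hnd : ∀ x, (∀ y, c x y = 0) → x = 1) (hinv : ∀ s x y, c (φ s x) (φ s y) = c x y) :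
    (∃ n : ℕ, Nat.card M = r ^ (2 * n) ∧ Nat.card S ≤ r ^ (2 * n ^ 2 + n)) ∧
      ∀ f : M → ZMod r, (∀ x y, f (x * y) = f x + f y) → ∃ a, ∀ b, c a b = f b := by
  have hm : Module (ZMod r) (Additive M) :=
    AddCommGroup.zmodModule (fun x : Additive M => congrArg Additive.ofMul (hexp x.toMul))
  exact add_sp (W := Additive M) (fun s x => Additive.ofMul (φ s x.toMul))
    (fun s x y => congrArg Additive.ofMul (hφa s x.toMul y.toMul))
    (fun x => congrArg Additive.ofMul (hφ1 x.toMul))
    (fun s t x => congrArg Additive.ofMul (hφm s t x.toMul))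
    (fun s h => hφ s (fun x => congrArg Additive.toMul (h (Additive.ofMul x))))
    (fun x y => c x.toMul y.toMul) (fun x y z => hl _ _ _) (fun x y z => hrr _ _ _)
    (fun x => halt _) (fun x h => congrArg Additive.ofMul (hnd x.toMul fun y => h (Additive.ofMul y)))
    (fun s x y => hinv s _ _)

/-- Duality. -/
theorem abs_dual (hexp : ∀ x : M, x ^ r = 1)
    (c : M → M → ZMod r) (hl : ∀ x y z, c (x * y) z = c x z + c y z)
    (hrr : ∀ x y z, c x (y * z) = c x y + c x z) (halt : ∀ x, c x x = 0)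
    (hnd : ∀ x, (∀ y, c x y = 0) → x = 1) (f : M → ZMod r) (hf : ∀ x y, f (x * y) = f x + f y) :
    ∃ a, ∀ b, c a b = f b :=
  (abs_sp hexp (S := (⊥ : Subgroup M)) (fun _ x => x) (fun _ _ _ => rfl) (fun _ => rfl)
    (fun _ _ _ => rfl) (fun _ _ => Subsingleton.elim _ _) c hl hrr halt hnd (fun _ _ _ => rfl)).2 f hf

end abstract

variable [Finite C]

/-- **Symplectic type.** `N / A` elementary abelian with `A` central cyclic and `C_C(N) ≤ A`. -/
theorem main {A N : Subgroup C} (hAN : A ≤ N) (hA : A ≤ center C) (hAc : IsCyclic A)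
    (hN : N.Normal) {r : ℕ} [hr : Fact r.Prime] (hexp : ∀ x ∈ N, x ^ r ∈ A)
    (hcomm : ∀ x ∈ N, ∀ y ∈ N, x * y * x⁻¹ * y⁻¹ ∈ A) (hcent : centralizer (N : Set C) ≤ A) :
    ∃ j : ℕ, A.relIndex N = r ^ (2 * j) ∧ A.index ≤ r ^ (2 * j ^ 2 + 3 * j) := by
  classical
  have hcomm' : ∀ x ∈ N, ∀ y ∈ N, cm x y ∈ A := hcomm
  -- `A` is the centre
  have hAZ : A = center C := le_antisymm hA ((center_le_centralizer _).trans hcent)
  have hcyc : IsCyclic (center C) := hAZ ▸ hAc
  obtain ⟨L, hL1, hL2⟩ := CF.exists_L hcyc r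
  have hzc : ∀ a ∈ A, ∀ x : C, a * x = x * a := fun a ha x =>
    (mem_center_iff.1 (hA ha) x).symm
  have hAx : ∀ a ∈ A, ∀ x : C, cm a x = 1 := fun a ha x => cm_eq_one.2 (hzc a ha x)
  have hxA : ∀ a ∈ A, ∀ x : C, cm x a = 1 := fun a ha x => cm_eq_one.2 (hzc a ha x).symm
  have hpow : ∀ x : C, (∀ y ∈ N, cm x y ∈ A) → ∀ y ∈ N, cm x y ^ r = 1 := by
    intro x hx y hy
    have h1 : ∀ k : ℕ, cm x (y ^ k) = cm x y ^ k := by
      intro k
      induction k with
      | zero => rw [pow_zero, pow_zero]; exact hxA 1 A.one_mem x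
      | succ k ih => rw [pow_succ, cm_mul_right (hzc _ (hx y hy)), ih, pow_succ]
    rw [← h1]
    exact hxA _ (hexp y hy) x
  have hLadd : ∀ a ∈ A, a ^ r = 1 → ∀ b ∈ A, b ^ r = 1 → L (a * b) = L a + L b :=
    fun a ha har b hb hbr => hL1 a b (hA ha) har (hA hb) hbr
  have hLinj : ∀ a ∈ A, a ^ r = 1 → ∀ b ∈ A, b ^ r = 1 → L a = L b → a = b := by
    intro a ha har b hb hbr hab
    have hinv : b⁻¹ ^ r = 1 := by rw [inv_pow, hbr, inv_one]
    have h1 : L (a * b⁻¹) = 0 := by
      have h2 := hLadd (a * b⁻¹) (A.mul_mem ha (A.inv_mem hb))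
        (by
          have h3 : Commute a b⁻¹ := hzc a ha b⁻¹
          rw [h3.mul_pow, har, hinv, one_mul]) b hb hbr
      rw [inv_mul_cancel_right, hab] at h2
      exact left_eq_add.1 (by rw [add_comm]; exact h2)
    have h3 := hL2 (a * b⁻¹) (hA (A.mul_mem ha (A.inv_mem hb))) (by
          have h3 : Commute a b⁻¹ := hzc a ha b⁻¹
          rw [h3.mul_pow, har, hinv, one_mul]) h1
    exact mul_inv_eq_one.1 h3
  -- the quotient
  let A' : Subgroup N := A.subgroupOf N
  have hA'n : A'.Normal := by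
    refine ⟨fun x hx g => ?_⟩
    rw [mem_subgroupOf] at hx ⊢
    have h1 : ((g * x * g⁻¹ : N) : C) = x := by
      push_cast
      rw [← hzc x hx g, mul_inv_cancel_right]
    rw [h1]
    exact hx
  let M := N ⧸ A'
  have hmk : ∀ x y : N, (QuotientGroup.mk x : M) = QuotientGroup.mk y ↔ (x : C)⁻¹ * y ∈ A := by
    intro x y
    rw [QuotientGroup.eq]
    rfl
  letI : CommGroup M :=
    { (inferInstance : Group M) with
      mul_comm := by
        intro a b
        obtain ⟨x, rfl⟩ := QuotientGroup.mk_surjective a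
        obtain ⟨y, rfl⟩ := QuotientGroup.mk_surjective b
        rw [← QuotientGroup.mk_mul, ← QuotientGroup.mk_mul, hmk]
        have h1 := hcomm' (y : C)⁻¹ (N.inv_mem y.2) (x : C)⁻¹ (N.inv_mem x.2)
        unfold cm at h1
        push_cast
        convert h1 using 1
        group }
  have hexpM : ∀ m : M, m ^ r = 1 := by
    intro m
    obtain ⟨x, rfl⟩ := QuotientGroup.mk_surjective m
    rw [← QuotientGroup.mk_pow, ← QuotientGroup.mk_one, eq_comm, hmk]
    push_cast
    rw [inv_one, one_mul]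
    exact hexp x x.2
  have hwd : ∀ x y a b : C, a ∈ A → b ∈ A → cm (x * a) (y * b) = cm x y := by
    intro x y a b ha hb
    have h1 : cm (x * a) (y * b) = cm x (y * b) := by
      rw [cm_mul_left (by rw [hAx a ha]; intro g; rw [one_mul, mul_one]), hAx a ha, mul_one]
    rw [h1, cm_mul_right (by rw [hxA b hb]; intro g; rw [one_mul, mul_one]), hxA b hb, mul_one]
  let c : M → M → ZMod r := fun a b => L (cm ((Quotient.out a : N) : C) ((Quotient.out b : N) : C))
  have hc : ∀ x y : N, c (QuotientGroup.mk x) (QuotientGroup.mk y) = L (cm (x : C) (y : C)) := by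
    intro x y
    have h1 : ∀ z : N, ∃ a ∈ A, ((Quotient.out (QuotientGroup.mk z : M) : N) : C) = z * a := by
      intro z
      refine ⟨(z : C)⁻¹ * ((Quotient.out (QuotientGroup.mk z : M) : N) : C), ?_, by group⟩
      rw [← hmk]
      exact (QuotientGroup.out_eq' _).symm
    obtain ⟨a, ha, hax⟩ := h1 x
    obtain ⟨b, hb, hby⟩ := h1 y
    show L (cm _ _) = _
    rw [hax, hby, hwd _ _ _ _ ha hb]
  have hcN : ∀ x y : N, cm (x : C) (y : C) ∈ A := fun x y => hcomm' x x.2 y y.2
  have hcNr : ∀ x y : N, cm (x : C) (y : C) ^ r = 1 := fun x y =>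
    hpow x (fun z hz => hcomm' x x.2 z hz) y y.2
  have hl : ∀ a b d : M, c (a * b) d = c a d + c b d := by
    intro a b d
    obtain ⟨x, rfl⟩ := QuotientGroup.mk_surjective a
    obtain ⟨y, rfl⟩ := QuotientGroup.mk_surjective b
    obtain ⟨z, rfl⟩ := QuotientGroup.mk_surjective d
    rw [← QuotientGroup.mk_mul, hc, hc, hc, ← hLadd _ (hcN _ _) (hcNr _ _) _ (hcN _ _) (hcNr _ _)]
    congr 1
    push_cast
    exact cm_mul_left (hzc _ (hcN _ _))
  have hrr : ∀ a b d : M, c a (b * d) = c a b + c a d := by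
    intro a b d
    obtain ⟨x, rfl⟩ := QuotientGroup.mk_surjective a
    obtain ⟨y, rfl⟩ := QuotientGroup.mk_surjective b
    obtain ⟨z, rfl⟩ := QuotientGroup.mk_surjective d
    rw [← QuotientGroup.mk_mul, hc, hc, hc, ← hLadd _ (hcN _ _) (hcNr _ _) _ (hcN _ _) (hcNr _ _)]
    congr 1
    push_cast
    exact cm_mul_right (hzc _ (hcN _ _))
  have halt : ∀ a : M, c a a = 0 := by
    intro a
    obtain ⟨x, rfl⟩ := QuotientGroup.mk_surjective a
    rw [hc]
    have h1 : cm (x : C) (x : C) = 1 := cm_eq_one.2 rfl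
    have h2 := hLadd 1 A.one_mem (one_pow r) 1 A.one_mem (one_pow r)
    rw [mul_one] at h2
    rw [h1]
    exact left_eq_add.1 h2
  have hL1' : L 1 = 0 := by
    have h2 := hLadd 1 A.one_mem (one_pow r) 1 A.one_mem (one_pow r)
    rw [mul_one] at h2
    exact left_eq_add.1 h2
  have hnd : ∀ a : M, (∀ b, c a b = 0) → a = 1 := by
    intro a ha
    obtain ⟨x, rfl⟩ := QuotientGroup.mk_surjective a
    rw [← QuotientGroup.mk_one, eq_comm, hmk]
    push_cast
    rw [inv_one, one_mul]
    apply hcent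
    rw [mem_centralizer_iff]
    intro y hy
    have h1 := ha (QuotientGroup.mk ⟨y, hy⟩)
    rw [hc] at h1
    have h2 := hL2 _ (hA (hcN x ⟨y, hy⟩)) (hcNr x ⟨y, hy⟩) h1
    exact (cm_eq_one.1 h2).symm
  -- the action
  let φ : C ⧸ N → (M → M) := fun s =>
    QuotientGroup.map A' A' (MulAut.conjNormal (H := N) (Quotient.out s)).toMonoidHom (by
      intro x hx
      rw [mem_comap, mem_subgroupOf]
      rw [mem_subgroupOf] at hx
      have h1 : ((MulAut.conjNormal (Quotient.out s) x : N) : C) = x := by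
        rw [MulAut.conjNormal_apply, ← hzc x hx, mul_inv_cancel_right]
      show ((MulAut.conjNormal (Quotient.out s) x : N) : C) ∈ A
      rw [h1]
      exact hx)
  have hφ : ∀ (g : C) (x : N), φ (QuotientGroup.mk g) (QuotientGroup.mk x) =
      QuotientGroup.mk (⟨g * x * g⁻¹, hN.conj_mem x x.2 g⟩ : N) := by
    intro g x
    have h1 : φ (QuotientGroup.mk g) (QuotientGroup.mk x) =
      (QuotientGroup.mk (MulAut.conjNormal (Quotient.out (QuotientGroup.mk g : C ⧸ N)) x : N) : M) :=
      rfl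
    rw [h1, hmk, MulAut.conjNormal_apply]
    have h2 : (Quotient.out (QuotientGroup.mk g : C ⧸ N))⁻¹ * g ∈ N := by
      rw [← QuotientGroup.eq]
      exact QuotientGroup.out_eq' _
    set k := Quotient.out (QuotientGroup.mk g : C ⧸ N)
    have h3 := hcomm' (x : C)⁻¹ (N.inv_mem x.2) (k⁻¹ * g) h2
    have h4 : (k * (x : C) * k⁻¹)⁻¹ * (g * x * g⁻¹) = k * cm (x : C)⁻¹ (k⁻¹ * g) * k⁻¹ := by
      unfold cm; group
    show (k * (x : C) * k⁻¹)⁻¹ * (g * x * g⁻¹) ∈ A
    rw [h4, ← hzc _ h3 k, mul_inv_cancel_right]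
    exact h3
  have hfinM : Finite M := inferInstanceAs (Finite (N ⧸ A'))
  obtain ⟨⟨n, hn1, hn2⟩, hdual⟩ := abs_sp (M := M) (r := r) hexpM (S := C ⧸ N) φ
    (by
      intro s a b
      obtain ⟨g, rfl⟩ := QuotientGroup.mk_surjective s
      obtain ⟨x, rfl⟩ := QuotientGroup.mk_surjective a
      obtain ⟨y, rfl⟩ := QuotientGroup.mk_surjective b
      rw [← QuotientGroup.mk_mul, hφ, hφ, hφ, ← QuotientGroup.mk_mul]
      congr 1
      apply Subtype.ext
      push_cast
      group)
    (by
      intro a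
      obtain ⟨x, rfl⟩ := QuotientGroup.mk_surjective a
      rw [← QuotientGroup.mk_one, hφ]
      congr 1
      apply Subtype.ext
      push_cast
      group)
    (by
      intro s t a
      obtain ⟨g, rfl⟩ := QuotientGroup.mk_surjective s
      obtain ⟨h, rfl⟩ := QuotientGroup.mk_surjective t
      obtain ⟨x, rfl⟩ := QuotientGroup.mk_surjective a
      rw [← QuotientGroup.mk_mul, hφ, hφ, hφ]
      congr 1
      apply Subtype.ext
      push_cast
      group)
    (by
      intro s hs
      obtain ⟨g, rfl⟩ := QuotientGroup.mk_surjective s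
      have hgN : ∀ x ∈ N, cm g x ∈ A := by
        intro x hx
        have h1 := hs (QuotientGroup.mk ⟨x, hx⟩)
        rw [hφ, hmk] at h1
        have h2 := A.inv_mem h1
        have h3 : cm g x = x * ((g * x * g⁻¹)⁻¹ * x)⁻¹ * x⁻¹ := by unfold cm; group
        rw [h3]
        have h4 := hzc _ h2 x
        rw [← h4, mul_inv_cancel_right]
        exact h2
      let f : M → ZMod r := fun a => L (cm g ((Quotient.out a : N) : C))
      have hf : ∀ x : N, f (QuotientGroup.mk x) = L (cm g (x : C)) := by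
        intro x
        show L (cm g ((Quotient.out (QuotientGroup.mk x : M) : N) : C)) = _
        have ha : (x : C)⁻¹ * ((Quotient.out (QuotientGroup.mk x : M) : N) : C) ∈ A := by
          rw [← hmk]
          exact (QuotientGroup.out_eq' _).symm
        have hx : ((Quotient.out (QuotientGroup.mk x : M) : N) : C) =
            x * ((x : C)⁻¹ * ((Quotient.out (QuotientGroup.mk x : M) : N) : C)) := by group
        rw [hx, cm_mul_right (by rw [hxA _ ha]; intro g; rw [one_mul, mul_one]), hxA _ ha, mul_one]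
      obtain ⟨a, ha⟩ := abs_dual hexpM c hl hrr halt hnd f (by
        intro a b
        obtain ⟨x, rfl⟩ := QuotientGroup.mk_surjective a
        obtain ⟨y, rfl⟩ := QuotientGroup.mk_surjective b
        rw [← QuotientGroup.mk_mul, hf, hf, hf, ← hLadd _ (hgN x x.2) (hpow g hgN x x.2) _
          (hgN y y.2) (hpow g hgN y y.2)]
        congr 1
        push_cast
        exact cm_mul_right (hzc _ (hgN y y.2)))
      obtain ⟨n, rfl⟩ := QuotientGroup.mk_surjective a
      have h1 : (n : C)⁻¹ * g ∈ A := by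
        apply hcent
        rw [mem_centralizer_iff]
        intro x hx
        have h2 := ha (QuotientGroup.mk ⟨x, hx⟩)
        rw [hc, hf] at h2
        have h3 := hLinj _ (hcN n ⟨x, hx⟩) (hcNr n ⟨x, hx⟩) _ (hgN x hx) (hpow g hgN x hx) h2
        have h4 : (n : C) * x * (n : C)⁻¹ = g * x * g⁻¹ := mul_right_cancel h3
        have h5 : x * ((n : C)⁻¹ * g) = (n : C)⁻¹ * (n * x * (n : C)⁻¹) * g := by group
        rw [h5, h4]
        group
      rw [← QuotientGroup.mk_one, QuotientGroup.eq, mul_one]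
      have h6 : g = (n : C) * ((n : C)⁻¹ * g) := by group
      rw [h6]
      exact N.inv_mem (N.mul_mem n.2 (hAN h1))) c hl hrr halt hnd
    (by
      intro s a b
      obtain ⟨g, rfl⟩ := QuotientGroup.mk_surjective s
      obtain ⟨x, rfl⟩ := QuotientGroup.mk_surjective a
      obtain ⟨y, rfl⟩ := QuotientGroup.mk_surjective b
      rw [hφ, hφ, hc, hc, ← conj_cm, ← hzc _ (hcN x y) g, mul_inv_cancel_right])
  have hrel : A.relIndex N = r ^ (2 * n) := hn1
  refine ⟨n, hrel, ?_⟩
  have h1 := Subgroup.relIndex_mul_index hAN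
  have h2 : N.index ≤ r ^ (2 * n ^ 2 + n) := hn2
  rw [← h1, hrel]
  calc r ^ (2 * n) * N.index ≤ r ^ (2 * n) * r ^ (2 * n ^ 2 + n) := Nat.mul_le_mul le_rfl h2
    _ = r ^ (2 * n ^ 2 + 3 * n) := by rw [← pow_add]; congr 1; ring

end Cfsg.Agent.H697.SympType
end

-- part: H698/MainRes
section
prune_inst 0x300001004500100000000000000000202000000000000000000000000008004000000000000000000000000000000000001000000000000000000000000001200000000000000000000000000002000000000000000000000000000000000000000000000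
set_option linter.all false
open scoped Cfsg.Agent.FastGrp

-- part: H697/ThreeImp
section
/-!
# Two orbits on vectors: the imprimitive case
-/

set_option autoImplicit false
set_option linter.style.haveILetI false

universe u v

namespace Cfsg.Agent.H697.ThreeImp

open Cfsg.Agent.H698

/-- Classes of a subgroup of index two. -/
theorem index_two {D : Type*} [Group D] [Finite D] (K : Subgroup D) (s : D) (hs : s ∉ K)
    (hK : ∀ d : D, d ∈ K ∨ d * s⁻¹ ∈ K) (hKn : K.Normal) :
    Nat.card (ConjClasses K) + 3 ≤ 2 * Nat.card (ConjClasses D) := by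
  classical
  have := Fintype.ofFinite (ConjClasses K)
  have := Fintype.ofFinite (ConjClasses D)
  let f : ConjClasses K → ConjClasses D := ConjClasses.map K.subtype
  have hf : ∀ x : K, f (ConjClasses.mk x) = ConjClasses.mk (x : D) := fun _ => rfl
  let fib : ConjClasses D → Finset (ConjClasses K) := fun c => Finset.univ.filter (fun a => f a = c)
  have hsum : Fintype.card (ConjClasses K) = ∑ c : ConjClasses D, (fib c).card := by
    rw [← Finset.card_univ]
    exact Finset.card_eq_sum_card_fiberwise (f := f) (t := Finset.univ) (fun _ _ => Finset.mem_univ _)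
  have h2 : ∀ c, (fib c).card ≤ 2 := by
    intro c
    by_cases hne : (fib c).Nonempty
    · obtain ⟨a, ha⟩ := hne
      obtain ⟨x, rfl⟩ := ConjClasses.mk_surjective a
      rw [Finset.mem_filter, hf] at ha
      have hxc := ha.2
      have hsub : fib c ⊆ {ConjClasses.mk x,
          ConjClasses.mk (⟨s * x * s⁻¹, hKn.conj_mem x x.2 s⟩ : K)} := by
        intro b hb
        obtain ⟨y, rfl⟩ := ConjClasses.mk_surjective b
        rw [Finset.mem_filter, hf] at hb
        have h3 := hb.2
        rw [← hxc, ConjClasses.mk_eq_mk_iff_isConj, isConj_comm, isConj_iff] at h3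
        obtain ⟨g, hg⟩ := h3
        rw [Finset.mem_insert, Finset.mem_singleton]
        rcases hK g with h4 | h4
        · left
          rw [ConjClasses.mk_eq_mk_iff_isConj, isConj_comm, isConj_iff]
          exact ⟨⟨g, h4⟩, Subtype.ext hg⟩
        · right
          rw [ConjClasses.mk_eq_mk_iff_isConj, isConj_comm, isConj_iff]
          refine ⟨⟨g * s⁻¹, h4⟩, Subtype.ext ?_⟩
          show g * s⁻¹ * (s * x * s⁻¹) * (g * s⁻¹)⁻¹ = y
          rw [← hg]
          group
      exact (Finset.card_le_card hsub).trans Finset.card_le_two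
    · rw [Finset.not_nonempty_iff_eq_empty] at hne
      rw [hne, Finset.card_empty]
      omega
  have h1 : (fib 1).card ≤ 1 := by
    rw [Finset.card_le_one]
    intro a ha b hb
    obtain ⟨x, rfl⟩ := ConjClasses.mk_surjective a
    obtain ⟨y, rfl⟩ := ConjClasses.mk_surjective b
    rw [Finset.mem_filter, hf, ConjClasses.one_eq_mk_one, ConjClasses.mk_eq_mk_iff_isConj,
      isConj_one_left] at ha hb
    have hx : x = 1 := Subtype.ext ha.2
    have hy : y = 1 := Subtype.ext hb.2
    rw [hx, hy]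
  have h0 : (fib (ConjClasses.mk s)).card = 0 := by
    rw [Finset.card_eq_zero, Finset.eq_empty_iff_forall_notMem]
    intro a ha
    obtain ⟨x, rfl⟩ := ConjClasses.mk_surjective a
    rw [Finset.mem_filter, hf, ConjClasses.mk_eq_mk_iff_isConj, isConj_iff] at ha
    obtain ⟨g, hg⟩ := ha.2
    apply hs
    rw [← hg]
    exact hKn.conj_mem x x.2 g
  have hne : ConjClasses.mk s ≠ 1 := by
    intro h
    rw [ConjClasses.one_eq_mk_one, ConjClasses.mk_eq_mk_iff_isConj, isConj_one_left] at h
    exact hs (h ▸ K.one_mem)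
  have hmem : ConjClasses.mk s ∈ (Finset.univ : Finset (ConjClasses D)).erase 1 :=
    Finset.mem_erase.2 ⟨hne, Finset.mem_univ _⟩
  rw [← Finset.add_sum_erase _ _ (Finset.mem_univ (1 : ConjClasses D)),
    ← Finset.add_sum_erase _ _ hmem, h0] at hsum
  have h3 : ∑ c ∈ ((Finset.univ : Finset (ConjClasses D)).erase 1).erase (ConjClasses.mk s),
      (fib c).card ≤ (((Finset.univ : Finset (ConjClasses D)).erase 1).erase (ConjClasses.mk s)).card * 2 :=
    Finset.sum_le_card_nsmul _ _ 2 (fun c _ => h2 c)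
  have h5 := Finset.card_erase_of_mem hmem
  have h6 := Finset.card_erase_of_mem (Finset.mem_univ (1 : ConjClasses D))
  have h7 : 0 < ((Finset.univ : Finset (ConjClasses D)).erase 1).card := Finset.card_pos.2 ⟨_, hmem⟩
  rw [h6, Finset.card_univ] at h5
  rw [h6, Finset.card_univ] at h7
  rw [Nat.card_eq_fintype_card, Nat.card_eq_fintype_card]
  omega

/-- **The imprimitive case.** -/
theorem main {D : Type v} {E : Type u} [Group D] [Finite D] [AddCommGroup E] [Finite E]
    [DistribMulAction D E] {p : ℕ} [hp : Fact p.Prime]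
    (hpE : ∀ e : E, p • e = 0) (hpD : ¬ p ∣ Nat.card D) (hE4 : p ^ 4 ≤ Nat.card E)
    (h2 : Orb.TwoOrb D E) (hI : Idem.Imprim D E) : p ≤ 2 * Nat.card (ConjClasses D) := by
  classical
  have hp' : p.Prime := hp.out
  obtain ⟨E₁, E₂, hc, hE₁, hE₂, hD⟩ := hI
  have hdisj : ∀ {x : E}, x ∈ E₁ → x ∈ E₂ → x = 0 := AddSubgroup.disjoint_def.1 hc.disjoint
  obtain ⟨⟨a₁, ha₁⟩, ha₁0⟩ := AddSubgroup.ne_bot_iff_exists_ne_zero.1 hE₁
  obtain ⟨⟨a₂, ha₂⟩, ha₂0⟩ := AddSubgroup.ne_bot_iff_exists_ne_zero.1 hE₂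
  have ha₁0' : a₁ ≠ 0 := fun h => ha₁0 (Subtype.ext h)
  have ha₂0' : a₂ ≠ 0 := fun h => ha₂0 (Subtype.ext h)
  -- somebody swaps
  obtain ⟨s, hs1, hs2⟩ : ∃ s : D, (∀ e ∈ E₁, s • e ∈ E₂) ∧ (∀ e ∈ E₂, s • e ∈ E₁) := by
    by_contra hcon
    push Not at hcon
    have hinv : Orb.Inv (⊤ : Subgroup D) E₁ := by
      intro d _ w hw
      rcases hD d with h | h
      · exact h.1 w hw
      · exfalso
        obtain ⟨e, he, hne⟩ := hcon d h.1
        exact hne (h.2 e he)
    rcases h2.eq_bot_or_top hp' hpE hpD E₁ hinv with h | h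
    · exact hE₁ h
    · apply ha₂0'
      apply hdisj _ ha₂
      rw [h]
      trivial
  -- the stabiliser
  let K : Subgroup D :=
    { carrier := {d | (∀ e ∈ E₁, d • e ∈ E₁) ∧ (∀ e ∈ E₂, d • e ∈ E₂)}
      one_mem' := ⟨fun e he => by rwa [one_smul], fun e he => by rwa [one_smul]⟩
      mul_mem' := fun {a b} ha hb => ⟨fun e he => by rw [mul_smul]; exact ha.1 _ (hb.1 e he),
        fun e he => by rw [mul_smul]; exact ha.2 _ (hb.2 e he)⟩
      inv_mem' := fun {a} ha => by
        rcases hD a⁻¹ with h | h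
        · exact h
        · exfalso
          apply ha₁0'
          have h3 := ha.2 _ (h.1 a₁ ha₁)
          rw [smul_inv_smul] at h3
          exact hdisj ha₁ h3 }
  have hKm : ∀ d : D, d ∈ K ↔ (∀ e ∈ E₁, d • e ∈ E₁) ∧ (∀ e ∈ E₂, d • e ∈ E₂) := fun _ => Iff.rfl
  have hsK : s ∉ K := by
    intro h
    apply ha₁0'
    have h3 := h.1 a₁ ha₁
    have h4 := hs1 a₁ ha₁
    have h5 := hdisj h3 h4
    exact (smul_eq_zero_iff_eq s).1 h5
  have hKs : ∀ d : D, d ∈ K ∨ ((∀ e ∈ E₁, d • e ∈ E₂) ∧ (∀ e ∈ E₂, d • e ∈ E₁)) := fun d => hD d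
  have hsinv : (∀ e ∈ E₁, s⁻¹ • e ∈ E₂) ∧ (∀ e ∈ E₂, s⁻¹ • e ∈ E₁) := by
    rcases hKs s⁻¹ with h | h
    · exact absurd (by simpa using K.inv_mem h) hsK
    · exact h
  have hK2 : ∀ d : D, d ∈ K ∨ d * s⁻¹ ∈ K := by
    intro d
    rcases hKs d with h | h
    · exact Or.inl h
    · right
      rw [hKm]
      exact ⟨fun e he => by rw [mul_smul]; exact h.2 _ (hsinv.1 e he),
        fun e he => by rw [mul_smul]; exact h.1 _ (hsinv.2 e he)⟩
  have hKn : K.Normal := by
    refine ⟨fun k hk g => ?_⟩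
    rcases hKs g with h | h
    · exact K.mul_mem (K.mul_mem h hk) (K.inv_mem h)
    · have hg' : (∀ e ∈ E₁, g⁻¹ • e ∈ E₂) ∧ (∀ e ∈ E₂, g⁻¹ • e ∈ E₁) := by
        rcases hKs g⁻¹ with h3 | h3
        · exfalso
          have h4 : g ∈ K := by simpa using K.inv_mem h3
          apply ha₁0'
          exact (smul_eq_zero_iff_eq g).1 (hdisj (h4.1 a₁ ha₁) (h.1 a₁ ha₁))
        · exact h3
      rw [hKm]
      exact ⟨fun e he => by rw [mul_smul, mul_smul]; exact h.2 _ (hk.2 _ (hg'.1 e he)),
        fun e he => by rw [mul_smul, mul_smul]; exact h.1 _ (hk.1 _ (hg'.2 e he))⟩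
  have hidx := index_two K s hsK hK2 hKn
  -- the sizes
  have hcard12 : Nat.card E₁ ≤ Nat.card E₂ ∧ Nat.card E₂ ≤ Nat.card E₁ := by
    constructor
    · exact Nat.card_le_card_of_injective (fun e : E₁ => (⟨s • (e : E), hs1 e e.2⟩ : E₂))
        (fun x y h => Subtype.ext (smul_left_cancel s (congrArg Subtype.val h)))
    · exact Nat.card_le_card_of_injective (fun e : E₂ => (⟨s • (e : E), hs2 e e.2⟩ : E₁))
        (fun x y h => Subtype.ext (smul_left_cancel s (congrArg Subtype.val h)))
  have hcardE : Nat.card E ≤ Nat.card E₁ * Nat.card E₂ := by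
    rw [← Nat.card_prod]
    apply Nat.card_le_card_of_surjective (fun x : E₁ × E₂ => (x.1 : E) + (x.2 : E))
    intro e
    have h3 : e ∈ E₁ ⊔ E₂ := by rw [hc.sup_eq_top]; trivial
    obtain ⟨y, hy, z, hz, rfl⟩ := AddSubgroup.mem_sup.1 h3
    exact ⟨(⟨y, hy⟩, ⟨z, hz⟩), rfl⟩
  have hE1 : p ^ 2 ≤ Nat.card E₁ := by
    by_contra hcon
    push Not at hcon
    have h3 : Nat.card E₁ * Nat.card E₂ ≤ Nat.card E₁ * Nat.card E₁ :=
      Nat.mul_le_mul le_rfl hcard12.2
    have h4 : Nat.card E₁ * Nat.card E₁ < p ^ 2 * p ^ 2 := Nat.mul_lt_mul'' hcon hcon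
    have h5 : p ^ 2 * p ^ 2 = p ^ 4 := by ring
    rw [h5] at h4
    omega
  -- transitivity
  have htr : ∀ a ∈ E₁, ∀ b ∈ E₁, a ≠ 0 → b ≠ 0 → ∃ d ∈ K, d • a = b := by
    intro a ha b hb ha0 hb0
    have hsum : ∀ d : D, d • a ≠ a + a₂ := by
      intro d hd
      rcases hKs d with h | h
      · have h3 := h.1 a ha
        rw [hd] at h3
        have h4 : a₂ ∈ E₁ := by simpa using E₁.sub_mem h3 ha
        exact ha₂0' (hdisj h4 ha₂)
      · have h3 := h.1 a ha
        rw [hd] at h3
        have h4 : a ∈ E₂ := by simpa using E₂.sub_mem h3 ha₂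
        exact ha0 (hdisj ha h4)
    have hsum0 : a + a₂ ≠ 0 := by
      intro h
      apply ha₂0'
      apply hdisj _ ha₂
      rw [eq_neg_of_add_eq_zero_right h]
      exact E₁.neg_mem ha
    rcases h2.cover ha0 hsum0 hsum hb0 with ⟨d, hd⟩ | ⟨d, hd⟩
    · rcases hKs d with h | h
      · exact ⟨d, h, hd⟩
      · exfalso
        have h3 := h.1 a ha
        rw [hd] at h3
        exact hb0 (hdisj hb h3)
    · exfalso
      have h5 : a + a₂ = d⁻¹ • b := by rw [← hd, inv_smul_smul]
      rcases hKs d⁻¹ with h | h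
      · have h3 := h.1 b hb
        rw [← h5] at h3
        have h4 : a₂ ∈ E₁ := by simpa using E₁.sub_mem h3 ha
        exact ha₂0' (hdisj h4 ha₂)
      · have h3 := h.1 b hb
        rw [← h5] at h3
        have h4 : a ∈ E₂ := by simpa using E₂.sub_mem h3 ha₂
        exact ha0 (hdisj ha h4)
  -- the action on the first block
  letI act : DistribMulAction K E₁ :=
    { smul := fun d e => ⟨(d : D) • (e : E), d.2.1 e e.2⟩
      one_smul := fun e => Subtype.ext (one_smul D (e : E))
      mul_smul := fun d d' e => Subtype.ext (mul_smul (d : D) (d' : D) (e : E))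
      smul_zero := fun d => Subtype.ext (smul_zero (d : D))
      smul_add := fun d e e' => Subtype.ext (smul_add (d : D) (e : E) (e' : E)) }
  have hact : ∀ (d : K) (e : E₁), ((d • e : E₁) : E) = (d : D) • (e : E) := fun _ _ => rfl
  let φ : K →* Equiv.Perm E₁ := MulAction.toPermHom K E₁
  have hφ : ∀ (d : K) (e : E₁), φ d e = d • e := fun _ _ => rfl
  have hnt : Nontrivial E₁ := ⟨⟨⟨a₁, ha₁⟩, 0, ha₁0⟩⟩
  have hk : Nat.card (ConjClasses φ.range) ≤ Nat.card (ConjClasses K) := by
    apply Nat.card_le_card_of_surjective (ConjClasses.map φ.rangeRestrict)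
    exact ConjClasses.map_surjective φ.rangeRestrict_surjective
  have hpφ : ¬ p ∣ Nat.card φ.range := fun h =>
    hpD ((h.trans (Subgroup.card_range_dvd φ)).trans (Subgroup.card_subgroup_dvd_card K))
  letI act' : DistribMulAction φ.range E₁ :=
    { smul := fun d e => (d : Equiv.Perm E₁) e
      one_smul := fun e => rfl
      mul_smul := fun d d' e => rfl
      smul_zero := fun d => by
        obtain ⟨k, hk⟩ := d.2
        show (d : Equiv.Perm E₁) 0 = 0
        rw [← hk, hφ, smul_zero]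
      smul_add := fun d e e' => by
        obtain ⟨k, hk⟩ := d.2
        show (d : Equiv.Perm E₁) (e + e') = (d : Equiv.Perm E₁) e + (d : Equiv.Perm E₁) e'
        rw [← hk, hφ, hφ, hφ, smul_add] }
  have hact' : ∀ (d : φ.range) (e : E₁), d • e = (d : Equiv.Perm E₁) e := fun _ _ => rfl
  haveI : FaithfulSMul φ.range E₁ := by
    refine ⟨fun {d d'} h => ?_⟩
    apply Subtype.ext
    apply Equiv.ext
    intro e
    exact h e
  rcases ActMain.act_main (D := φ.range) (E := E₁) (p := p)
    (fun e => Subtype.ext (hpE (e : E))) (by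
      intro a b ha hb
      obtain ⟨d, hdK, hd⟩ := htr a a.2 b b.2 (fun h => ha (Subtype.ext h)) (fun h => hb (Subtype.ext h))
      exact ⟨⟨φ ⟨d, hdK⟩, ⟨_, rfl⟩⟩, Subtype.ext hd⟩) hpφ with h | h | ⟨h3, h4, h5, ⟨e⟩⟩
  · omega
  · exfalso
    rw [h] at hE1
    have := hp'.two_le
    nlinarith only [hE1, this]
  · have h6 := ClassCount.card_conjClasses_congr e
    rw [SL25.card_conjClasses] at h6
    omega

end Cfsg.Agent.H697.ThreeImp
end

-- part: H697/ThreeWeight
section
/-!
# Two-intersection sets over the prime field with orbit lengths prime to `p`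
-/

set_option autoImplicit false

namespace Cfsg.Agent.H697.ThreeWeight

open Module Finset

section arith

/-- One labelling of the arithmetic. -/
private theorem key {P : ℤ} (hP3 : 3 ≤ P) (j : ℕ) {a b x y η : ℤ} (hη : η = 1 ∨ η = -1)
    (hab : a + b = P ^ 2 * (P ^ j * P ^ j) - 1) (da : (P - 1) ∣ a) (hy : (P - 1) ∣ y)
    (hxy : x - y = (P - 1) * (η * P ^ j))
    (h1 : a * x + b * y = a * (P * (P ^ j * P ^ j) - 1)) : (P ^ (j + 1) - η) ∣ a := by
  have hη2 : η ^ 2 = 1 := by rcases hη with rfl | rfl <;> norm_num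
  obtain ⟨y', hy'⟩ := hy
  obtain ⟨a', ha'⟩ := da
  have hx : x = y + (P - 1) * (η * P ^ j) := by linear_combination hxy
  have h2 : (P ^ 2 * (P ^ j * P ^ j) - 1) * y =
      a * (P * (P ^ j * P ^ j) - 1 - (P - 1) * (η * P ^ j)) := by
    rw [← hab]
    rw [hx] at h1
    linear_combination h1
  have h3 : (P * P ^ j + η) * ((P * P ^ j - η) * y) = (P * P ^ j + η) * (a * (P ^ j - η)) := by
    linear_combination h2 + (a - y) * hη2
  have hne : P * P ^ j + η ≠ 0 := by
    have h7 : (1 : ℤ) ≤ P ^ j := one_le_pow₀ (by linarith)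
    have h8 : (3 : ℤ) ≤ P * P ^ j := by nlinarith only [hP3, h7]
    rcases hη with rfl | rfl
    · linarith
    · linarith
  have h4 := mul_left_cancel₀ hne h3
  have hp1' : P - 1 ≠ 0 := by linarith
  have h5 : (P * P ^ j - η) * y' = a' * (P ^ j - η) := by
    apply mul_left_cancel₀ hp1'
    linear_combination h4 + (P ^ j - η) * ha' - (P * P ^ j - η) * hy'
  have h6 : (P * P ^ j - η) ∣ η * a := by
    refine ⟨a' - P * y', ?_⟩
    linear_combination P * h5 + η * ha'
  have h7 : (P * P ^ j - η) ∣ a := by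
    have h8 : a = η * (η * a) := by linear_combination (-a) * hη2
    rw [h8]
    exact Dvd.dvd.mul_left h6 η
  have h8 : P ^ (j + 1) - η = P * P ^ j - η := by ring
  rw [h8]
  exact h7

private theorem fin' {P : ℤ} (j : ℕ) {a b η : ℤ} (hη : η = 1 ∨ η = -1)
    (hab : a + b = P ^ 2 * (P ^ j * P ^ j) - 1) (h : (P ^ (j + 1) - η) ∣ a) :
    (P ^ (j + 1) - η) ∣ b := by
  have hη2 : η ^ 2 = 1 := by rcases hη with rfl | rfl <;> norm_num
  have h1 : (P ^ (j + 1) - η) ∣ a + b := by
    refine ⟨P ^ (j + 1) + η, ?_⟩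
    rw [hab]
    linear_combination hη2
  exact (dvd_add_right h).1 h1

set_option maxHeartbeats 1000000 in
/-- The arithmetic of two-intersection sets. `q = p ^ (n - 2)`. -/
theorem arith {p n : ℕ} (hp : p.Prime) (hp3 : 3 ≤ p) (hn : 2 ≤ n) {a b A B x1 x2 u1 u2 : ℤ}
    (ha : 0 < a) (hb : 0 < b) (hA : 0 < A) (hB : 0 < B)
    (hab : a + b = p ^ n - 1) (hAB : A + B = p ^ n - 1)
    (e1 : A * x1 + B * x2 = a * (p ^ (n - 1) - 1))
    (e2 : A * x1 ^ 2 + B * x2 ^ 2 =
      a * ((p - 1) * (p ^ (n - 1) - 1) + (a - p + 1) * (p ^ (n - 2) - 1)))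
    (e3 : a * u1 = A * x1) (e4 : a * u1 + b * u2 = A * (p ^ (n - 1) - 1))
    (da : ((p : ℤ) - 1) ∣ a) (dx1 : ((p : ℤ) - 1) ∣ x1) (dx2 : ((p : ℤ) - 1) ∣ x2)
    (du1 : ((p : ℤ) - 1) ∣ u1) (du2 : ((p : ℤ) - 1) ∣ u2)
    (pa : ¬ (p : ℤ) ∣ a) (pb : ¬ (p : ℤ) ∣ b) (pA : ¬ (p : ℤ) ∣ A) (pB : ¬ (p : ℤ) ∣ B) :
    ∃ (m : ℕ) (ε : ℤ), (ε = 1 ∨ ε = -1) ∧ n = 2 * m ∧ ((p : ℤ) ^ m - ε) ∣ a ∧
      ((p : ℤ) ^ m - ε) ∣ b := by
  have hpZ : Prime (p : ℤ) := Nat.prime_iff_prime_int.1 hp
  have hp1 : (p : ℤ) - 1 ≠ 0 := by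
    have : (3 : ℤ) ≤ p := by exact_mod_cast hp3
    omega
  obtain ⟨k, rfl⟩ : ∃ k, n = k + 2 := ⟨n - 2, by omega⟩
  simp only [Nat.add_sub_cancel, show k + 2 - 1 = k + 1 by omega] at e1 e2 e4
  set P : ℤ := (p : ℤ) with hP
  set q : ℤ := P ^ k with hq
  have hq1 : P ^ (k + 1) = P * q := by rw [hq]; ring
  have hq2 : P ^ (k + 2) = P ^ 2 * q := by rw [hq]; ring
  rw [hq1] at e1 e2 e4
  rw [hq2] at hab hAB
  have hqpos : 0 < q := by
    rw [hq]
    apply pow_pos
    rw [hP]
    exact_mod_cast hp.pos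
  -- the basic identity
  have E : A * B * (x1 - x2) ^ 2 = (P - 1) ^ 2 * q * (a * b) := by
    have h1 : A * B * (x1 - x2) ^ 2 =
        (A + B) * (A * x1 ^ 2 + B * x2 ^ 2) - (A * x1 + B * x2) ^ 2 := by ring
    have hb' : b = P ^ 2 * q - 1 - a := by linarith only [hab]
    rw [h1, hAB, e2, e1, hb']
    ring
  have hAB0 : A * B ≠ 0 := (mul_pos hA hB).ne'
  have hab0 : a * b ≠ 0 := (mul_pos ha hb).ne'
  have E2 : a * b * (u1 - u2) = A * B * (x1 - x2) := by
    have h1 : b * u2 = A * (P * q - 1) - A * x1 := by linarith only [e3, e4]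
    have h2 : a * b * (u1 - u2) = b * (a * u1) - a * (b * u2) := by ring
    rw [h2, e3, h1]
    have h3 : a * (P * q - 1) = A * x1 + B * x2 := e1.symm
    have h4 : b * (A * x1) - a * (A * (P * q - 1) - A * x1) =
        A * ((a + b) * x1 - a * (P * q - 1)) := by ring
    rw [h4, hab, ← hAB, h3]
    ring
  have E3 : (u1 - u2) * (x1 - x2) = (P - 1) ^ 2 * q := by
    have h1 : a * b * ((u1 - u2) * (x1 - x2)) = a * b * ((P - 1) ^ 2 * q) := by
      calc a * b * ((u1 - u2) * (x1 - x2)) = (a * b * (u1 - u2)) * (x1 - x2) := by ring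
        _ = A * B * (x1 - x2) ^ 2 := by rw [E2]; ring
        _ = a * b * ((P - 1) ^ 2 * q) := by rw [E]; ring
    exact mul_left_cancel₀ hab0 h1
  obtain ⟨X, hX⟩ := dvd_sub dx1 dx2
  obtain ⟨U, hU⟩ := dvd_sub du1 du2
  have hp12 : (P - 1) ^ 2 ≠ 0 := pow_ne_zero 2 hp1
  have E4 : U * X = q := by
    rw [hX, hU] at E3
    have h1 : (P - 1) ^ 2 * (U * X) = (P - 1) ^ 2 * q := by rw [← E3]; ring
    exact mul_left_cancel₀ hp12 h1
  have E5 : A * B * X ^ 2 = q * (a * b) := by
    rw [hX] at E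
    have h1 : (P - 1) ^ 2 * (A * B * X ^ 2) = (P - 1) ^ 2 * (q * (a * b)) := by
      calc (P - 1) ^ 2 * (A * B * X ^ 2) = A * B * ((P - 1) * X) ^ 2 := by ring
        _ = _ := by rw [E]; ring
    exact mul_left_cancel₀ hp12 h1
  -- `X = ± p ^ j`
  have hXd : X ∣ P ^ k := ⟨U, by rw [← hq, ← E4]; ring⟩
  obtain ⟨j, hjk, hXj⟩ : ∃ j ≤ k, X = P ^ j ∨ X = -P ^ j := by
    obtain ⟨j, hj, hassoc⟩ := (dvd_prime_pow hpZ k).1 hXd
    exact ⟨j, hj, Int.associated_iff.1 hassoc⟩
  obtain ⟨ε, hε, hXε⟩ : ∃ ε : ℤ, (ε = 1 ∨ ε = -1) ∧ X = ε * P ^ j := by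
    rcases hXj with h | h
    · exact ⟨1, Or.inl rfl, by rw [h]; ring⟩
    · exact ⟨-1, Or.inr rfl, by rw [h]; ring⟩
  have hε2 : ε ^ 2 = 1 := by rcases hε with rfl | rfl <;> norm_num
  have hX2 : X ^ 2 = P ^ (2 * j) := by
    rw [hXε, mul_pow, hε2, one_mul, ← pow_mul]
    congr 1; ring
  rw [hX2, hq] at E5
  have hpAB : ¬ P ∣ A * B := fun h => (hpZ.dvd_or_dvd h).elim pA pB
  have hpab : ¬ P ∣ a * b := fun h => (hpZ.dvd_or_dvd h).elim pa pb
  have hkj : k = 2 * j := by
    have hP0 : P ≠ 0 := hpZ.ne_zero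
    rcases lt_trichotomy k (2 * j) with h | h | h
    · exfalso
      obtain ⟨c, hc⟩ : ∃ c, 2 * j = k + (c + 1) := ⟨2 * j - k - 1, by omega⟩
      rw [hc] at E5
      have h1 : P ^ k * (A * B * P ^ (c + 1)) = P ^ k * (a * b) := by rw [← E5]; ring
      have h2 := mul_left_cancel₀ (pow_ne_zero k hP0) h1
      exact hpab ⟨A * B * P ^ c, by rw [← h2]; ring⟩
    · exact h
    · exfalso
      obtain ⟨c, hc⟩ : ∃ c, k = 2 * j + (c + 1) := ⟨k - 2 * j - 1, by omega⟩
      rw [hc] at E5
      have h1 : P ^ (2 * j) * (A * B) = P ^ (2 * j) * (P ^ (c + 1) * (a * b)) := by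
        rw [← mul_assoc (P ^ (2 * j)) (P ^ (c + 1)), ← pow_add, ← E5]; ring
      have h2 := mul_left_cancel₀ (pow_ne_zero (2 * j) hP0) h1
      exact hpAB ⟨P ^ c * (a * b), by rw [h2]; ring⟩
  subst hkj
  have hABab : A * B = a * b := by
    have hP0 : P ≠ 0 := hpZ.ne_zero
    apply mul_left_cancel₀ (pow_ne_zero (2 * j) hP0)
    rw [← E5]; ring
  have hsum : A + B = a + b := by rw [hAB, hab]
  -- `A = a` or `A = b`
  have hqj : q = P ^ j * P ^ j := by rw [hq, ← pow_add]; congr 1; ring
  have hP3 : (3 : ℤ) ≤ P := by rw [hP]; exact_mod_cast hp3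
  have hab' : a + b = P ^ 2 * (P ^ j * P ^ j) - 1 := by rw [hab, hqj]
  have hcase : A = a ∨ A = b := by
    have h1 : (A - a) * (A - b) = 0 := by
      linear_combination A * hsum - hABab
    rcases mul_eq_zero.1 h1 with h | h
    · left; linear_combination h
    · right; linear_combination h
  rcases hcase with h | h
  · have hBb : B = b := by linear_combination hsum - h
    have h1 := key hP3 j (x := x1) (y := x2) hε hab' da dx2 (by rw [hX, hXε])
      (by rw [← hqj, ← e1, h, hBb])
    exact ⟨j + 1, ε, hε, by ring, h1, fin' j hε hab' h1⟩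
  · have hBa : B = a := by linear_combination hsum - h
    have hε' : -ε = 1 ∨ -ε = -1 := by rcases hε with rfl | rfl <;> simp
    have h1 := key hP3 j (x := x2) (y := x1) hε' hab' da dx1
      (by linear_combination (-1 : ℤ) * hX - (P - 1) * hXε)
      (by rw [← hqj, ← e1, h, hBa]; ring)
    exact ⟨j + 1, -ε, hε', by ring, h1, fin' j hε' hab' h1⟩

end arith

end Cfsg.Agent.H697.ThreeWeight
end

-- part: H697/ThreeCount
section
/-!
# Counting in two-intersection sets over the prime field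
-/

set_option autoImplicit false

universe u

namespace Cfsg.Agent.H697.ThreeCount

open Module

variable {p : ℕ} [hp : Fact p.Prime] {V : Type u} [AddCommGroup V] [Module (ZMod p) V] [Finite V]

theorem card_ann (W : Submodule (ZMod p) V) :
    Nat.card W.dualAnnihilator = p ^ (finrank (ZMod p) V - finrank (ZMod p) W) := by
  have : Module.Finite (ZMod p) V := Module.Finite.of_finite
  have h1 := Subspace.finrank_add_finrank_dualAnnihilator_eq W
  have : Finite (Dual (ZMod p) V) := Module.finite_of_finite (ZMod p)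
  rw [Module.natCard_eq_pow_finrank (K := ZMod p), Nat.card_zmod]
  congr 1
  omega

theorem ncard_one {v : V} (hv : v ≠ 0) :
    {f : Dual (ZMod p) V | f v = 0}.ncard = p ^ (finrank (ZMod p) V - 1) := by
  have h1 := card_ann (p := p) (Submodule.span (ZMod p) {v})
  rw [finrank_span_singleton hv] at h1
  rw [← h1, ← Nat.card_coe_set_eq]
  apply congrArg
  congr 1
  ext f
  simp only [Set.mem_ofPred_eq, SetLike.mem_coe, Submodule.mem_dualAnnihilator]
  constructor
  · intro h w hw
    obtain ⟨c, rfl⟩ := Submodule.mem_span_singleton.1 hw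
    rw [map_smul, h, smul_zero]
  · intro h
    exact h v (Submodule.mem_span_singleton_self v)

theorem ncard_two {v w : V} (hv : v ≠ 0) (hw : ∀ c : ZMod p, w ≠ c • v) :
    {f : Dual (ZMod p) V | f v = 0 ∧ f w = 0}.ncard = p ^ (finrank (ZMod p) V - 2) := by
  have hli : LinearIndependent (ZMod p) ![v, w] := by
    rw [LinearIndependent.pair_iff' hv]
    intro a h
    exact hw a h.symm
  have h2 : finrank (ZMod p) (Submodule.span (ZMod p) (Set.range ![v, w])) = 2 := by
    rw [finrank_span_eq_card hli, Fintype.card_fin]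
  have h1 := card_ann (p := p) (Submodule.span (ZMod p) (Set.range ![v, w]))
  rw [h2] at h1
  rw [← h1, ← Nat.card_coe_set_eq]
  apply congrArg
  congr 1
  ext f
  simp only [Set.mem_ofPred_eq, SetLike.mem_coe, Submodule.mem_dualAnnihilator]
  constructor
  · rintro ⟨ha, hb⟩ x hx
    have h3 : Submodule.span (ZMod p) (Set.range ![v, w]) ≤ LinearMap.ker f := by
      rw [Submodule.span_le]
      rintro _ ⟨i, rfl⟩
      fin_cases i
      · exact ha
      · exact hb
    exact h3 hx
  · intro h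
    exact ⟨h v (Submodule.subset_span ⟨0, rfl⟩), h w (Submodule.subset_span ⟨1, rfl⟩)⟩

theorem ncard_ker {f : Dual (ZMod p) V} (hf : f ≠ 0) :
    {v : V | f v = 0}.ncard = p ^ (finrank (ZMod p) V - 1) := by
  have : Module.Finite (ZMod p) V := Module.Finite.of_finite
  have h1 := LinearMap.finrank_range_add_finrank_ker f
  have h2 : LinearMap.range f = ⊤ := LinearMap.range_eq_top.2 (LinearMap.surjective hf)
  rw [h2, finrank_top, finrank_self] at h1
  have h3 : Nat.card (LinearMap.ker f) = p ^ finrank (ZMod p) (LinearMap.ker f) := by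
    rw [Module.natCard_eq_pow_finrank (K := ZMod p), Nat.card_zmod]
  rw [← Nat.card_coe_set_eq]
  have h4 : Nat.card (LinearMap.ker f) = Nat.card {v : V | f v = 0} := rfl
  rw [← h4, h3]
  congr 1
  omega

omit [Finite V] in
/-- The number of elements of a cone without `0`. -/
theorem dvd_cone [DecidableEq V] (T : Finset V) (h0 : (0 : V) ∉ T)
    (hT : ∀ c : ZMod p, c ≠ 0 → ∀ v ∈ T, c • v ∈ T) : (p - 1) ∣ T.card := by
  classical
  have hcard := Finset.card_eq_sum_card_image (fun v : V => Submodule.span (ZMod p) {v}) T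
  rw [hcard]
  apply Finset.dvd_sum
  intro W hW
  obtain ⟨v, hv, rfl⟩ := Finset.mem_image.1 hW
  have hv0 : v ≠ 0 := by rintro rfl; exact h0 hv
  have h1 : (Finset.filter (fun w : V => Submodule.span (ZMod p) {w} = Submodule.span (ZMod p) {v}) T)
      = (Finset.univ : Finset (ZMod p)ˣ).image (fun c : (ZMod p)ˣ => (c : ZMod p) • v) := by
    ext w
    rw [Finset.mem_filter, Finset.mem_image]
    constructor
    · rintro ⟨-, hw⟩
      obtain ⟨c, hc⟩ := (Submodule.span_singleton_eq_span_singleton).1 hw.symm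
      exact ⟨c, Finset.mem_univ _, hc⟩
    · rintro ⟨c, -, rfl⟩
      refine ⟨hT c c.ne_zero v hv, ?_⟩
      rw [Submodule.span_singleton_eq_span_singleton]
      refine ⟨c⁻¹, ?_⟩
      show ((c⁻¹ : (ZMod p)ˣ) : ZMod p) • ((c : ZMod p) • v) = v
      rw [smul_smul, ← Units.val_mul, inv_mul_cancel, Units.val_one, one_smul]
  rw [h1, Finset.card_image_of_injective, Finset.card_univ, ZMod.card_units]
  intro c d hcd
  exact Units.ext (smul_left_injective (ZMod p) hv0 hcd)

section double

variable [Fintype V] [DecidableEq V] [Fintype (Dual (ZMod p) V)] [DecidableEq (Dual (ZMod p) V)]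

omit [Finite V] [DecidableEq V] in
/-- First moment. -/
theorem sum_one (O : Finset V) (h0 : (0 : V) ∉ O) :
    ∑ f ∈ (Finset.univ : Finset (Dual (ZMod p) V)).erase 0, (Finset.filter (fun v => f v = 0) O).card =
      O.card * (p ^ (finrank (ZMod p) V - 1) - 1) := by
  have h1 := Finset.sum_card_bipartiteAbove_eq_sum_card_bipartiteBelow
    (s := (Finset.univ : Finset (Dual (ZMod p) V)).erase 0) (t := O)
    (fun (f : Dual (ZMod p) V) (v : V) => f v = 0)
  refine h1.trans (Finset.sum_const_nat ?_)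
  intro v hv
  have hv0 : v ≠ 0 := by rintro rfl; exact h0 hv
  have h2 := ncard_one (p := p) hv0
  rw [← h2]
  have h3 : Finset.bipartiteBelow (fun (f : Dual (ZMod p) V) (v : V) => f v = 0)
      ((Finset.univ : Finset (Dual (ZMod p) V)).erase 0) v =
      (Finset.univ.filter (fun f : Dual (ZMod p) V => f v = 0)).erase 0 := by
    ext f
    simp only [Finset.bipartiteBelow, _root_.Finset.mem_filter, _root_.Finset.mem_erase, _root_.ne_eq, _root_.Finset.mem_univ, _root_.and_true, _root_.true_and]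
  rw [h3, Finset.card_erase_of_mem (by simp only [_root_.Finset.mem_filter, _root_.Finset.mem_univ, _root_.LinearMap.zero_apply, _root_.and_self]), Set.ncard_eq_toFinset_card']
  congr 2
  ext f
  simp only [_root_.Finset.mem_filter, _root_.Finset.mem_univ, _root_.true_and, _root_.Set.toFinset_ofPred]

omit [Finite V] in
/-- Second moment. -/
theorem sum_two (O : Finset V) (h0 : (0 : V) ∉ O)
    (hO : ∀ c : ZMod p, c ≠ 0 → ∀ v ∈ O, c • v ∈ O) :
    ∑ f ∈ (Finset.univ : Finset (Dual (ZMod p) V)).erase 0,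
      ((Finset.filter (fun v => f v = 0) O).card : ℤ) ^ 2 =
      O.card * (((p : ℤ) - 1) * ((p : ℤ) ^ (finrank (ZMod p) V - 1) - 1) +
        ((O.card : ℤ) - p + 1) * ((p : ℤ) ^ (finrank (ZMod p) V - 2) - 1)) := by
  classical
  have hp1 : 1 ≤ p := hp.out.one_lt.le
  -- pairs
  have h1 := Finset.sum_card_bipartiteAbove_eq_sum_card_bipartiteBelow
    (s := (Finset.univ : Finset (Dual (ZMod p) V)).erase 0) (t := O ×ˢ O)
    (fun (f : Dual (ZMod p) V) (x : V × V) => f x.1 = 0 ∧ f x.2 = 0)
  have h2 : ∀ f : Dual (ZMod p) V, (Finset.bipartiteAbove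
      (fun (f : Dual (ZMod p) V) (x : V × V) => f x.1 = 0 ∧ f x.2 = 0) (O ×ˢ O) f).card =
      (Finset.filter (fun v => f v = 0) O).card ^ 2 := by
    intro f
    rw [sq, ← Finset.card_product]
    congr 1
    ext ⟨a, b⟩
    simp only [Finset.bipartiteAbove, Finset.mem_filter, Finset.mem_product]
    (clear * -; tauto)
  simp_rw [h2] at h1
  have h3 : ∀ v ∈ O, ∀ w ∈ O, ((Finset.bipartiteBelow
      (fun (f : Dual (ZMod p) V) (x : V × V) => f x.1 = 0 ∧ f x.2 = 0)
      ((Finset.univ : Finset (Dual (ZMod p) V)).erase 0) (v, w)).card : ℤ) =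
      if w ∈ Submodule.span (ZMod p) {v} then (p : ℤ) ^ (finrank (ZMod p) V - 1) - 1 else
        (p : ℤ) ^ (finrank (ZMod p) V - 2) - 1 := by
    intro v hv w hw
    have hv0 : v ≠ 0 := by rintro rfl; exact h0 hv
    have h4 : Finset.bipartiteBelow
      (fun (f : Dual (ZMod p) V) (x : V × V) => f x.1 = 0 ∧ f x.2 = 0)
      ((Finset.univ : Finset (Dual (ZMod p) V)).erase 0) (v, w) =
      (Finset.univ.filter (fun f : Dual (ZMod p) V => f v = 0 ∧ f w = 0)).erase 0 := by
      ext f
      simp only [Finset.bipartiteBelow, _root_.Finset.mem_filter, _root_.Finset.mem_erase, _root_.ne_eq, _root_.Finset.mem_univ, _root_.and_true, _root_.true_and]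
    rw [h4, Finset.card_erase_of_mem (by simp only [_root_.Finset.mem_filter, _root_.Finset.mem_univ, _root_.LinearMap.zero_apply, _root_.and_self])]
    split_ifs with hs
    · have h5 : (Finset.univ.filter (fun f : Dual (ZMod p) V => f v = 0 ∧ f w = 0)).card =
          p ^ (finrank (ZMod p) V - 1) := by
        rw [← ncard_one (p := p) hv0, Set.ncard_eq_toFinset_card']
        congr 1
        ext f
        simp only [Finset.mem_filter, Finset.mem_univ, true_and, Set.mem_toFinset, Set.mem_ofPred_eq]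
        constructor
        · exact fun h => h.1
        · intro h
          obtain ⟨c, rfl⟩ := Submodule.mem_span_singleton.1 hs
          exact ⟨h, by rw [map_smul, h, smul_zero]⟩
      rw [h5, Nat.cast_sub (Nat.one_le_pow _ _ hp1)]
      push_cast
      ring
    · have h5 : (Finset.univ.filter (fun f : Dual (ZMod p) V => f v = 0 ∧ f w = 0)).card =
          p ^ (finrank (ZMod p) V - 2) := by
        rw [← ncard_two (p := p) hv0 (w := w), Set.ncard_eq_toFinset_card']
        · congr 1
          ext f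
          simp only [_root_.Finset.mem_filter, _root_.Finset.mem_univ, _root_.true_and, _root_.Set.toFinset_ofPred]
        · rintro c rfl
          exact hs (Submodule.smul_mem _ _ (Submodule.mem_span_singleton_self v))
      rw [h5, Nat.cast_sub (Nat.one_le_pow _ _ hp1)]
      push_cast
      ring
  have h4 : ∀ v ∈ O, ((O.filter (fun w => w ∈ Submodule.span (ZMod p) {v})).card : ℤ) = p - 1 := by
    intro v hv
    have hv0 : v ≠ 0 := by rintro rfl; exact h0 hv
    have h5 : O.filter (fun w => w ∈ Submodule.span (ZMod p) {v}) =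
        (Finset.univ : Finset (ZMod p)ˣ).image (fun c : (ZMod p)ˣ => (c : ZMod p) • v) := by
      ext w
      rw [Finset.mem_filter, Finset.mem_image]
      constructor
      · rintro ⟨hwO, hw⟩
        obtain ⟨c, rfl⟩ := Submodule.mem_span_singleton.1 hw
        have hc : c ≠ 0 := by
          rintro rfl
          rw [zero_smul] at hwO
          exact h0 hwO
        exact ⟨Units.mk0 c hc, Finset.mem_univ _, rfl⟩
      · rintro ⟨c, -, rfl⟩
        exact ⟨hO c c.ne_zero v hv,
          Submodule.smul_mem _ _ (Submodule.mem_span_singleton_self v)⟩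
    rw [h5, Finset.card_image_of_injective, Finset.card_univ, ZMod.card_units,
      Nat.cast_sub hp1, Nat.cast_one]
    intro c d hcd
    exact Units.ext (smul_left_injective (ZMod p) hv0 hcd)
  have h1' : ∑ f ∈ (Finset.univ : Finset (Dual (ZMod p) V)).erase 0,
      ((Finset.filter (fun v => f v = 0) O).card : ℤ) ^ 2 =
      ∑ x ∈ O ×ˢ O, ((Finset.bipartiteBelow
      (fun (f : Dual (ZMod p) V) (x : V × V) => f x.1 = 0 ∧ f x.2 = 0)
      ((Finset.univ : Finset (Dual (ZMod p) V)).erase 0) x).card : ℤ) := by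
    exact_mod_cast h1
  rw [h1', Finset.sum_product]
  have h5 : ∀ v ∈ O, ∑ w ∈ O, ((Finset.bipartiteBelow
      (fun (f : Dual (ZMod p) V) (x : V × V) => f x.1 = 0 ∧ f x.2 = 0)
      ((Finset.univ : Finset (Dual (ZMod p) V)).erase 0) (v, w)).card : ℤ) =
      ((p : ℤ) - 1) * ((p : ℤ) ^ (finrank (ZMod p) V - 1) - 1) +
        ((O.card : ℤ) - p + 1) * ((p : ℤ) ^ (finrank (ZMod p) V - 2) - 1) := by
    intro v hv
    rw [Finset.sum_congr rfl (h3 v hv), Finset.sum_ite, Finset.sum_const, Finset.sum_const,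
      nsmul_eq_mul, nsmul_eq_mul, h4 v hv]
    have h6 : ((O.filter (fun w => ¬ w ∈ Submodule.span (ZMod p) {v})).card : ℤ) =
        (O.card : ℤ) - p + 1 := by
      have h7 := Finset.card_filter_add_card_filter_not (s := O)
        (fun w => w ∈ Submodule.span (ZMod p) {v})
      have h8 := h4 v hv
      have h9 : ((O.filter (fun w => w ∈ Submodule.span (ZMod p) {v})).card : ℤ) +
        ((O.filter (fun w => ¬ w ∈ Submodule.span (ZMod p) {v})).card : ℤ) = O.card := by
        exact_mod_cast h7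
      linarith only [h7, h8]
    rw [h6]
  rw [Finset.sum_congr rfl h5, Finset.sum_const, nsmul_eq_mul]

omit [Finite V] in
/-- **Two-intersection sets** with orbit lengths prime to `p`. -/
theorem comb (hp3 : 3 ≤ p) (hn : 2 ≤ finrank (ZMod p) V) (O₁ O₂ : Finset V)
    (A B : Finset (Dual (ZMod p) V)) (hO : O₁ ∪ O₂ = Finset.univ.erase 0) (hdO : Disjoint O₁ O₂)
    (hA : A ∪ B = Finset.univ.erase 0) (hdA : Disjoint A B)
    (sO₁ : ∀ c : ZMod p, c ≠ 0 → ∀ v ∈ O₁, c • v ∈ O₁)
    (sA : ∀ c : ZMod p, c ≠ 0 → ∀ v ∈ A, c • v ∈ A)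
    (hO₁ : O₁.Nonempty) (hO₂ : O₂.Nonempty) (hA₁ : A.Nonempty) (hB₁ : B.Nonempty)
    (x₁ x₂ u₁ u₂ : ℕ) (hx₁ : ∀ f ∈ A, (O₁.filter (fun v => f v = 0)).card = x₁)
    (hx₂ : ∀ f ∈ B, (O₁.filter (fun v => f v = 0)).card = x₂)
    (hu₁ : ∀ v ∈ O₁, (A.filter (fun f => f v = 0)).card = u₁)
    (hu₂ : ∀ v ∈ O₂, (A.filter (fun f => f v = 0)).card = u₂)
    (pO₁ : ¬ p ∣ O₁.card) (pO₂ : ¬ p ∣ O₂.card) (pA : ¬ p ∣ A.card) (pB : ¬ p ∣ B.card) :
    ∃ (m : ℕ) (ε : ℤ), (ε = 1 ∨ ε = -1) ∧ finrank (ZMod p) V = 2 * m ∧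
      ((p : ℤ) ^ m - ε) ∣ (O₁.card : ℤ) ∧ ((p : ℤ) ^ m - ε) ∣ (O₂.card : ℤ) := by
  classical
  have hp1 : 1 ≤ p := hp.out.one_lt.le
  have h0O : (0 : V) ∉ O₁ := by
    intro h
    have : (0 : V) ∈ O₁ ∪ O₂ := Finset.mem_union_left _ h
    rw [hO] at this
    exact (Finset.mem_erase.1 this).1 rfl
  have h0A : (0 : Dual (ZMod p) V) ∉ A := by
    intro h
    have : (0 : Dual (ZMod p) V) ∈ A ∪ B := Finset.mem_union_left _ h
    rw [hA] at this
    exact (Finset.mem_erase.1 this).1 rfl
  have hVc : Fintype.card V = p ^ finrank (ZMod p) V := by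
    have h1 := Module.natCard_eq_pow_finrank (K := ZMod p) (V := V)
    rwa [Nat.card_zmod, Nat.card_eq_fintype_card] at h1
  have hDc : Fintype.card (Dual (ZMod p) V) = p ^ finrank (ZMod p) V := by
    have h1 := Module.natCard_eq_pow_finrank (K := ZMod p) (V := Dual (ZMod p) V)
    rwa [Nat.card_zmod, Nat.card_eq_fintype_card, Subspace.dual_finrank_eq] at h1
  have hab : O₁.card + O₂.card = p ^ finrank (ZMod p) V - 1 := by
    rw [← Finset.card_union_of_disjoint hdO, hO, Finset.card_erase_of_mem (Finset.mem_univ _),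
      Finset.card_univ, hVc]
  have hAB : A.card + B.card = p ^ finrank (ZMod p) V - 1 := by
    rw [← Finset.card_union_of_disjoint hdA, hA, Finset.card_erase_of_mem (Finset.mem_univ _),
      Finset.card_univ, hDc]
  set n := finrank (ZMod p) V with hn'
  have hpn : 1 ≤ p ^ n := Nat.one_le_pow _ _ hp1
  have hpn1 : 1 ≤ p ^ (n - 1) := Nat.one_le_pow _ _ hp1
  -- the equations
  have e1 : A.card * x₁ + B.card * x₂ = O₁.card * (p ^ (n - 1) - 1) := by
    rw [← sum_one (p := p) O₁ h0O, ← hA, Finset.sum_union hdA, Finset.sum_congr rfl hx₁,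
      Finset.sum_congr rfl hx₂, Finset.sum_const, Finset.sum_const, smul_eq_mul, smul_eq_mul]
  have e2 : (A.card : ℤ) * (x₁ : ℤ) ^ 2 + (B.card : ℤ) * (x₂ : ℤ) ^ 2 =
      (O₁.card : ℤ) * (((p : ℤ) - 1) * ((p : ℤ) ^ (n - 1) - 1) +
        ((O₁.card : ℤ) - p + 1) * ((p : ℤ) ^ (n - 2) - 1)) := by
    rw [← sum_two (p := p) O₁ h0O sO₁, ← hA, Finset.sum_union hdA,
      Finset.sum_congr rfl (g := fun _ => (x₁ : ℤ) ^ 2) (fun f hf => by rw [hx₁ f hf]),
      Finset.sum_congr (s₁ := B) rfl (g := fun _ => (x₂ : ℤ) ^ 2) (fun f hf => by rw [hx₂ f hf]),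
      Finset.sum_const, Finset.sum_const, nsmul_eq_mul, nsmul_eq_mul]
  have e3 : O₁.card * u₁ = A.card * x₁ := by
    have h1 := Finset.sum_card_bipartiteAbove_eq_sum_card_bipartiteBelow
      (s := A) (t := O₁) (fun (f : Dual (ZMod p) V) (v : V) => f v = 0)
    have a1 := Finset.sum_const_nat (s := A) (m := x₁) (f := fun f => (Finset.bipartiteAbove
      (fun (f : Dual (ZMod p) V) (v : V) => f v = 0) O₁ f).card) (fun f hf => hx₁ f hf)
    have a2 := Finset.sum_const_nat (s := O₁) (m := u₁) (f := fun v => (Finset.bipartiteBelow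
      (fun (f : Dual (ZMod p) V) (v : V) => f v = 0) A v).card) (fun f hf => hu₁ f hf)
    rw [← a1, ← a2, h1]
  have e4 : O₁.card * u₁ + O₂.card * u₂ = A.card * (p ^ (n - 1) - 1) := by
    have h1 := Finset.sum_card_bipartiteAbove_eq_sum_card_bipartiteBelow
      (s := A) (t := O₁ ∪ O₂) (fun (f : Dual (ZMod p) V) (v : V) => f v = 0)
    have a1 := Finset.sum_const_nat (s := O₁) (m := u₁) (f := fun v => (Finset.bipartiteBelow
      (fun (f : Dual (ZMod p) V) (v : V) => f v = 0) A v).card) (fun f hf => hu₁ f hf)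
    have a2 := Finset.sum_const_nat (s := O₂) (m := u₂) (f := fun v => (Finset.bipartiteBelow
      (fun (f : Dual (ZMod p) V) (v : V) => f v = 0) A v).card) (fun f hf => hu₂ f hf)
    rw [← a1, ← a2, ← Finset.sum_union hdO, ← h1]
    refine Finset.sum_const_nat ?_
    intro f hf
    have hf0 : f ≠ 0 := by rintro rfl; exact h0A hf
    rw [hO, ← ncard_ker (p := p) hf0]
    have h3 : Finset.bipartiteAbove (fun (f : Dual (ZMod p) V) (v : V) => f v = 0)
        (Finset.univ.erase 0) f = (Finset.univ.filter (fun v : V => f v = 0)).erase 0 := by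
      ext v
      simp only [Finset.bipartiteAbove, _root_.Finset.mem_filter, _root_.Finset.mem_erase, _root_.ne_eq, _root_.Finset.mem_univ, _root_.and_true, _root_.true_and]
    rw [h3, Finset.card_erase_of_mem (by simp only [_root_.Finset.mem_filter, _root_.Finset.mem_univ, _root_.map_zero, _root_.and_self]), Set.ncard_eq_toFinset_card']
    congr 2
    ext f
    simp only [_root_.Finset.mem_filter, _root_.Finset.mem_univ, _root_.true_and, _root_.Set.toFinset_ofPred]
  have hfA : ∀ (f : Dual (ZMod p) V), (p - 1) ∣ (O₁.filter (fun v => f v = 0)).card := by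
    intro f
    refine dvd_cone (p := p) _ (fun h => h0O (Finset.mem_filter.1 h).1) ?_
    intro c hc v hv
    rw [Finset.mem_filter] at hv ⊢
    exact ⟨sO₁ c hc v hv.1, by rw [map_smul, hv.2, smul_zero]⟩
  have hfO : ∀ v : V, (p - 1) ∣ (A.filter (fun f => f v = 0)).card := by
    intro v
    refine dvd_cone (p := p) _ (fun h => h0A (Finset.mem_filter.1 h).1) ?_
    intro c hc f hf
    rw [Finset.mem_filter] at hf ⊢
    exact ⟨sA c hc f hf.1, by rw [LinearMap.smul_apply, hf.2, smul_zero]⟩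
  obtain ⟨fA, hfA1⟩ := hA₁
  obtain ⟨fB, hfB1⟩ := hB₁
  obtain ⟨w₁, hw₁⟩ := hO₁
  obtain ⟨w₂, hw₂⟩ := hO₂
  have cp : (((p - 1 : ℕ) : ℤ)) = (p : ℤ) - 1 := by rw [Nat.cast_sub hp1, Nat.cast_one]
  have d1 := hfA fA
  have d2 := hfA fB
  have d3 := hfO w₁
  have d4 := hfO w₂
  have d5 := dvd_cone (p := p) O₁ h0O sO₁
  rw [hx₁ fA hfA1] at d1
  rw [hx₂ fB hfB1] at d2
  rw [hu₁ w₁ hw₁] at d3
  rw [hu₂ w₂ hw₂] at d4
  have key := ThreeWeight.arith (p := p) (n := n) hp.out hp3 hn (a := O₁.card) (b := O₂.card)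
    (A := A.card) (B := B.card) (x1 := x₁) (x2 := x₂) (u1 := u₁) (u2 := u₂)
    (by exact_mod_cast Finset.card_pos.2 ⟨w₁, hw₁⟩) (by exact_mod_cast Finset.card_pos.2 ⟨w₂, hw₂⟩)
    (by exact_mod_cast Finset.card_pos.2 ⟨fA, hfA1⟩) (by exact_mod_cast Finset.card_pos.2 ⟨fB, hfB1⟩)
    (by
      have h1 : ((O₁.card + O₂.card : ℕ) : ℤ) = ((p ^ n - 1 : ℕ) : ℤ) := by rw [hab]
      rw [Nat.cast_sub hpn] at h1
      push_cast at h1
      exact h1)
    (by
      have h1 : ((A.card + B.card : ℕ) : ℤ) = ((p ^ n - 1 : ℕ) : ℤ) := by rw [hAB]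
      rw [Nat.cast_sub hpn] at h1
      push_cast at h1
      exact h1)
    (by
      have h1 : ((A.card * x₁ + B.card * x₂ : ℕ) : ℤ) = ((O₁.card * (p ^ (n - 1) - 1) : ℕ) : ℤ) := by
        rw [e1]
      rw [Nat.cast_mul, Nat.cast_sub hpn1] at h1
      push_cast at h1
      exact h1)
    e2
    (by exact_mod_cast e3)
    (by
      have h1 : ((O₁.card * u₁ + O₂.card * u₂ : ℕ) : ℤ) = ((A.card * (p ^ (n - 1) - 1) : ℕ) : ℤ) := by
        rw [e4]
      rw [Nat.cast_mul (A.card), Nat.cast_sub hpn1] at h1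
      push_cast at h1
      exact h1)
    (by rw [← cp]; exact_mod_cast d5) (by rw [← cp]; exact_mod_cast d1)
    (by rw [← cp]; exact_mod_cast d2) (by rw [← cp]; exact_mod_cast d3)
    (by rw [← cp]; exact_mod_cast d4)
    (fun h => pO₁ (by exact_mod_cast h)) (fun h => pO₂ (by exact_mod_cast h))
    (fun h => pA (by exact_mod_cast h)) (fun h => pB (by exact_mod_cast h))
  exact key

end double

end Cfsg.Agent.H697.ThreeCount
end

-- part: H697/ThreeDim2
section
/-!
# `p'`-subgroups of `GL₂(p)` of order at least `(p² - 1) / 2`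
-/

set_option autoImplicit false
set_option linter.unreachableTactic false
set_option linter.unusedTactic false
set_option linter.unusedVariables false

universe u

namespace Cfsg.Agent.H697.Three

open Matrix MulAction Module Cfsg.Agent.H275.TwoFix Cfsg.Agent.H275.GLTwoFix
open Cfsg.Agent.H697.TwoDim
open scoped OnePoint

variable {p : ℕ} [hp : Fact p.Prime]

omit hp in
theorem eq_eleven (hp : p.Prime) (h8 : 8 ≤ p) (h12 : p < 12) : p = 11 := by
  interval_cases p
  · exfalso; revert hp; decide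
  · exfalso; revert hp; decide
  · exfalso; revert hp; decide
  · rfl

omit hp in
theorem eq_seventeen (hp : p.Prime) (h8 : 14 ≤ p) (h12 : p < 18) : p = 17 := by
  interval_cases p
  · exfalso; revert hp; decide
  · exfalso; revert hp; decide
  · exfalso; revert hp; decide
  · rfl

theorem two_points' (hp5 : 5 ≤ p) (L : Subgroup (GL (Fin 2) (ZMod p)))
    (hle : p ^ 2 - 1 ≤ 2 * Nat.card L) {a b : OnePoint (KK p)} (hab : a ≠ b)
    (h : ∀ g : (pr L).range, (g • a = a ∧ g • b = b) ∨ (g • a = b ∧ g • b = a)) :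
    p ≤ 2 * Nat.card (ConjClasses L) := by
  classical
  let A : Subgroup L := (stabilizer (pr L).range a).comap (pr L).rangeRestrict
  have hA : ∀ g ∈ A, bc p (g : GL (Fin 2) (ZMod p)) • a = a ∧
      bc p (g : GL (Fin 2) (ZMod p)) • b = b := by
    intro g hg
    have h1 : (pr L).rangeRestrict g • a = a := hg
    rcases h ((pr L).rangeRestrict g) with h2 | h2
    · exact h2
    · exact absurd (h1.symm.trans h2.1) hab
  have hcomm : ∀ g ∈ A, ∀ g' ∈ A, g * g' = g' * g := by
    intro g hg g' hg'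
    obtain ⟨h1, h2⟩ := hA g hg
    obtain ⟨h3, h4⟩ := hA g' hg'
    have h5 := commute_of_two _ _ hab h1 h2 h3 h4
    rw [← map_mul, ← map_mul] at h5
    exact Subtype.ext (bc_injective h5)
  have hidx : A.index ≤ 2 := by
    rw [Subgroup.index_comap_of_surjective _ (pr L).rangeRestrict_surjective,
      MulAction.index_stabilizer]
    have hsub : orbit (pr L).range a ⊆ {a, b} := by
      rintro _ ⟨g, rfl⟩
      rcases h g with h2 | h2
      · left; exact h2.1
      · right; exact h2.1
    refine (Set.ncard_le_ncard hsub (Set.toFinite _)).trans ?_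
    refine (Set.ncard_insert_le a {b}).trans ?_
    rw [Set.ncard_singleton]
  have h1 := ClassCount.card_le_mul_index A hcomm
  have h2 := A.card_mul_index
  have h4 : Nat.card A * A.index ≤ (A.index * Nat.card (ConjClasses L)) * A.index :=
    Nat.mul_le_mul h1 le_rfl
  have h5 : (A.index * Nat.card (ConjClasses L)) * A.index ≤ 4 * Nat.card (ConjClasses L) := by
    have h6 : A.index * A.index ≤ 4 := Nat.mul_le_mul hidx hidx
    calc (A.index * Nat.card (ConjClasses L)) * A.index
        = (A.index * A.index) * Nat.card (ConjClasses L) := by ring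
      _ ≤ 4 * Nat.card (ConjClasses L) := Nat.mul_le_mul h6 le_rfl
  by_contra hcon
  push Not at hcon
  have h6 : p ^ 2 ≤ 8 * Nat.card (ConjClasses L) + 1 := by omega
  have h7 : p ^ 2 = p * p := sq p
  have h8 : 5 * p ≤ p * p := Nat.mul_le_mul hp5 le_rfl
  omega

/-- If no nontrivial element fixes a nonzero vector and the order is even, `-1` is a scalar of the
group. -/
theorem two_le_ker' (hp5 : 5 ≤ p) (L : Subgroup (GL (Fin 2) (ZMod p)))
    (hreg : ∀ v : Fin 2 → ZMod p, v ≠ 0 → ∀ g ∈ L,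
      (g : Matrix (Fin 2) (Fin 2) (ZMod p)) *ᵥ v = v → g = 1)
    (hcard : 2 ∣ Nat.card L) : 2 ≤ Nat.card (pr L).ker := by
  classical
  have : Fact (Nat.Prime 2) := ⟨Nat.prime_two⟩
  obtain ⟨g, hg⟩ := exists_prime_orderOf_dvd_card' (G := L) 2 hcard
  have hg1 : g ≠ 1 := by
    rintro rfl
    rw [orderOf_one] at hg
    omega
  have hg2 : (g : GL (Fin 2) (ZMod p)) * g = 1 := by
    have h1 : g ^ 2 = 1 := by
      have h0 := pow_orderOf_eq_one g
      rwa [hg] at h0
    have h2 := congrArg Subtype.val h1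
    rw [sq] at h2
    exact h2
  have hneg : ∀ v : Fin 2 → ZMod p,
      ((g : GL (Fin 2) (ZMod p)) : Matrix (Fin 2) (Fin 2) (ZMod p)) *ᵥ v = -v := by
    intro v
    by_contra hne
    set w := ((g : GL (Fin 2) (ZMod p)) : Matrix (Fin 2) (Fin 2) (ZMod p)) *ᵥ v + v with hw
    have hw0 : w ≠ 0 := fun h => hne (eq_neg_of_add_eq_zero_left h)
    have h1 : ((g : GL (Fin 2) (ZMod p)) : Matrix (Fin 2) (Fin 2) (ZMod p)) *ᵥ w = w := by
      rw [hw, Matrix.mulVec_add, Matrix.mulVec_mulVec, ← Units.val_mul, hg2, Units.val_one,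
        Matrix.one_mulVec, add_comm]
    exact hg1 (Subtype.ext (hreg w hw0 g g.2 h1))
  have hmat : ((g : GL (Fin 2) (ZMod p)) : Matrix (Fin 2) (Fin 2) (ZMod p)) = -1 := by
    apply Matrix.ext_of_mulVec_single
    intro i
    rw [hneg, Matrix.neg_mulVec, Matrix.one_mulVec]
  have hgk : g ∈ (pr L).ker := by
    rw [mem_ker]
    refine ⟨?_, ?_, ?_⟩ <;> simp [hmat]
  have hnt : Nontrivial (pr L).ker := ⟨⟨g, hgk⟩, 1, fun h => hg1 (congrArg Subtype.val h)⟩
  exact Finite.one_lt_card_iff_nontrivial.2 hnt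

/-- **Dimension two.** -/
theorem dim_two (hp5 : 5 ≤ p) (L : Subgroup (GL (Fin 2) (ZMod p))) (hL : ¬ p ∣ Nat.card L)
    (hle : p ^ 2 - 1 ≤ 2 * Nat.card L)
    (hreg : 2 * Nat.card L = p ^ 2 - 1 → ∀ v : Fin 2 → ZMod p, v ≠ 0 → ∀ g ∈ L,
      (g : Matrix (Fin 2) (Fin 2) (ZMod p)) *ᵥ v = v → g = 1) :
    p ≤ 2 * Nat.card (ConjClasses L) := by
  classical
  have hp2 : p ≠ 2 := by omega
  have htf := _root_.Cfsg.Agent.H697.TwoDim.twoFixed hp2 L hL
  have hmul := card_mul L
  have hz0 : 0 < Nat.card (pr L).ker := Nat.card_pos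
  set z := Nat.card (pr L).ker with hz
  have hone : orderOf (pr L 1) = 1 := by rw [map_one, orderOf_one]
  have c1 : z ≤ Nat.card (Cl L 1) := card_ker_le_of_ne_two hp2 L (by norm_num) 1 hone
  have hpp : p ^ 2 = p * p := sq p
  rcases Tricho.tricho htf ⟨∞, ((0 : KK p) : OnePoint (KK p)), OnePoint.infty_ne_coe _⟩ with
    ⟨a, b, hab, h⟩ | hN | ⟨hN, x, hx⟩ | ⟨hN, x, hx⟩
  · exact two_points' hp5 L hle hab h
  · obtain ⟨g2, hg2⟩ := exists_of_dvd L Nat.prime_two (by rw [hN]; norm_num)
    obtain ⟨g3, hg3⟩ := exists_of_dvd L Nat.prime_three (by rw [hN]; norm_num)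
    have c2 := card_ker_le_two_mul L g2 hg2
    have c3 := card_ker_le_of_ne_two hp2 L (by norm_num) g3 hg3
    rw [hN] at hmul
    rw [hmul] at hle
    have hs := sum_Cl_le L {1, 2, 3}
    rw [Finset.sum_insert (by simp), Finset.sum_insert (by simp), Finset.sum_singleton] at hs
    have h5 : 5 * p ≤ p * p := Nat.mul_le_mul hp5 le_rfl
    omega
  · obtain ⟨g2, hg2⟩ := exists_of_dvd L Nat.prime_two (by rw [hN]; norm_num)
    obtain ⟨g3, hg3⟩ := exists_of_dvd L Nat.prime_three (by rw [hN]; norm_num)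
    obtain ⟨g4, hg4⟩ := exists_orderOf hp2 L hL x
    rw [hx] at hg4
    have c2 := card_ker_le_two_mul L g2 hg2
    have c3 := card_ker_le_of_ne_two hp2 L (by norm_num) g3 hg3
    have c4 := card_ker_le_of_ne_two hp2 L (by norm_num) g4 hg4
    rw [hN] at hmul
    rw [hmul] at hle
    have hs := sum_Cl_le L {1, 2, 3, 4}
    rw [Finset.sum_insert (by simp), Finset.sum_insert (by simp), Finset.sum_insert (by simp),
      Finset.sum_singleton] at hs
    rcases Nat.lt_or_ge p 7 with h7 | h7
    · have : p ≤ 6 := by omega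
      omega
    · have h5 : 7 * p ≤ p * p := Nat.mul_le_mul h7 le_rfl
      omega
  · obtain ⟨g2, hg2⟩ := exists_of_dvd L Nat.prime_two (by rw [hN]; norm_num)
    obtain ⟨g3, hg3⟩ := exists_of_dvd L Nat.prime_three (by rw [hN]; norm_num)
    obtain ⟨g4, hg4⟩ := exists_of_dvd L Nat.prime_five (by rw [hN]; norm_num)
    have c2 := card_ker_le_two_mul L g2 hg2
    have c3 := card_ker_le_of_ne_two hp2 L (by norm_num) g3 hg3
    have c4 := card_ker_le_of_ne_two hp2 L (by norm_num) g4 hg4
    rw [hN] at hmul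
    have hs := sum_Cl_le L {1, 2, 3, 5}
    rw [Finset.sum_insert (by simp), Finset.sum_insert (by simp), Finset.sum_insert (by simp),
      Finset.sum_singleton] at hs
    rcases Nat.lt_or_ge p 18 with h18 | h18
    · by_cases hz1 : z = 1
      · rcases Nat.lt_or_ge p 8 with h8 | h8
        · omega
        · -- `p = 11`
          rw [hz1, mul_one] at hmul
          have h11 : p = 11 := by
            rw [hmul] at hle
            have hp12 : p < 12 := by
              by_contra hc
              push Not at hc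
              have : 12 * 12 ≤ p * p := Nat.mul_le_mul hc hc
              (clear * - hle hpp this; omega)
            exact eq_eleven hp.out h8 hp12
          have h1 := two_le_ker' hp5 L (hreg (by rw [hmul, h11]; norm_num)) (by rw [hmul]; norm_num)
          omega
      · rcases Nat.lt_or_ge p 14 with h14 | h14
        · omega
        · have h17 := eq_seventeen hp.out h14 h18
          rw [hmul] at hle
          have : 17 * 17 ≤ p * p := by rw [h17]
          omega
    · have h5 : 18 * p ≤ p * p := Nat.mul_le_mul h18 le_rfl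
      rw [hmul] at hle
      omega

end Cfsg.Agent.H697.Three
end

-- part: H697/ThreeLin
section
/-!
# Linear `p'`-groups with two orbits: small primes, dimension two, swapped orbits
-/

set_option autoImplicit false
set_option linter.style.haveILetI false

universe u

namespace Cfsg.Agent.H697.Three

open Module
open Cfsg.Agent.H697.TwoDim
open Cfsg.Agent.PermutationGroups.RegularLinear

/-- A group with at most three classes has order at most six. -/
theorem card_le_six {G : Type*} [Group G] [Finite G] (h : Nat.card (ConjClasses G) ≤ 3) :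
    Nat.card G ≤ 6 := by
  classical
  rcases Nat.lt_or_ge (Nat.card (ConjClasses G)) 3 with h2 | h3
  · have := ClassCount.card_le_two (G := G) (by omega)
    omega
  have h3' : Nat.card (ConjClasses G) = 3 := le_antisymm h h3
  have := Fintype.ofFinite G
  have := Fintype.ofFinite (ConjClasses G)
  have hcard : (Finset.univ.erase (1 : ConjClasses G)).card = 2 := by
    rw [Finset.card_erase_of_mem (Finset.mem_univ _), Finset.card_univ, ← Nat.card_eq_fintype_card, h3']
  obtain ⟨a, b, hab, hE⟩ := Finset.card_eq_two.1 hcard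
  have hsum := sum_conjClasses_card_eq_card G
  rw [← Finset.add_sum_erase Finset.univ _ (Finset.mem_univ (1 : ConjClasses G)), hE,
    Finset.sum_pair hab] at hsum
  have h1 : ((1 : ConjClasses G).carrier.toFinset).card = 1 := by
    have h4 : (1 : ConjClasses G).carrier = {1} := by
      ext x
      rw [ConjClasses.mem_carrier_iff_mk_eq, Set.mem_singleton_iff]
      constructor
      · intro hx
        exact isConj_one_left.1 (ConjClasses.mk_eq_mk_iff_isConj.1 hx)
      · rintro rfl
        rfl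
    rw [← Set.ncard_eq_toFinset_card', h4, Set.ncard_singleton]
  rw [h1] at hsum
  have hdvd : ∀ c : ConjClasses G, c.carrier.toFinset.card ∣ Nat.card G := by
    intro c
    obtain ⟨g, rfl⟩ := ConjClasses.mk_surjective c
    rw [← Set.ncard_eq_toFinset_card', ← ClassCount.index_centralizer]
    exact Subgroup.index_dvd_card _
  rw [← Nat.card_eq_fintype_card] at hsum
  obtain ⟨x, hx⟩ := hdvd a
  obtain ⟨y, hy⟩ := hdvd b
  set N := Nat.card G
  set α := a.carrier.toFinset.card
  set β := b.carrier.toFinset.card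
  have hN : 0 < N := Nat.card_pos
  clear_value N α β
  clear hab hE hcard h1 hdvd h3' h h3
  -- arithmetic
  have hα : 0 < α := Nat.pos_of_ne_zero (by rintro rfl; omega)
  have hβ : 0 < β := Nat.pos_of_ne_zero (by rintro rfl; omega)
  have key : ∀ {α β x y : ℕ}, 0 < α → 0 < β → 1 + (α + β) = N → N = α * x → N = β * y → x ≤ 2 →
      N ≤ 6 := by
    intro α β x y hα hβ hs hx hy hx2
    have hx1 : x ≠ 0 := by rintro rfl; omega
    have hx1' : x ≠ 1 := by rintro rfl; omega
    have hx' : x = 2 := by omega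
    subst hx'
    have h1 : α = β + 1 := by (clear * - hs hx; omega)
    have h2 : β * y = 2 * β + 2 := by omega
    have h3 : β ∣ 2 := by
      have h4 : β ∣ 2 * β + 2 := ⟨y, h2.symm⟩
      exact (Nat.dvd_add_right (Dvd.intro_left 2 rfl)).1 h4
    have h4 := Nat.le_of_dvd (by norm_num) h3
    omega
  by_cases hx3 : x ≤ 2
  · exact key hα hβ hsum hx hy hx3
  by_cases hy3 : y ≤ 2
  · exact key hβ hα (by omega) hy hx hy3
  push Not at hx3 hy3
  have e1 : α * 3 ≤ N := by rw [hx]; exact Nat.mul_le_mul le_rfl hx3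
  have e2 : β * 3 ≤ N := by rw [hy]; exact Nat.mul_le_mul le_rfl hy3
  omega

variable {p : ℕ} [hp : Fact p.Prime] {V : Type u} [AddCommGroup V] [Module (ZMod p) V]

/-- The orbit of a vector. -/
def orb (H : Subgroup (V ≃ₗ[ZMod p] V)) (v : V) : Set V := {w | ∃ h ∈ H, h v = w}


theorem mem_orb_self (H : Subgroup (V ≃ₗ[ZMod p] V)) (v : V) : v ∈ orb H v := ⟨1, H.one_mem, rfl⟩


theorem orb_eq_of_mem (H : Subgroup (V ≃ₗ[ZMod p] V)) {v w : V} (h : w ∈ orb H v) :
    orb H w = orb H v := by
  obtain ⟨a, ha, rfl⟩ := h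
  ext x
  constructor
  · rintro ⟨b, hb, rfl⟩
    exact ⟨b * a, H.mul_mem hb ha, rfl⟩
  · rintro ⟨b, hb, rfl⟩
    refine ⟨b * a⁻¹, H.mul_mem hb (H.inv_mem ha), ?_⟩
    show b (a⁻¹ (a v)) = b v
    congr 1
    exact a.symm_apply_apply v


theorem orb_eq_orbit (H : Subgroup (V ≃ₗ[ZMod p] V)) (v : V) : orb H v = MulAction.orbit H v := by
  ext w
  constructor
  · rintro ⟨h, hh, rfl⟩
    exact ⟨⟨h, hh⟩, rfl⟩
  · rintro ⟨⟨h, hh⟩, rfl⟩
    exact ⟨h, hh, rfl⟩


theorem ncard_orb (H : Subgroup (V ≃ₗ[ZMod p] V)) (v : V) :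
    (orb H v).ncard = (MulAction.stabilizer H v).index := by
  rw [orb_eq_orbit, MulAction.index_stabilizer]

variable [Finite V] (H : Subgroup (V ≃ₗ[ZMod p] V))


theorem ncard_orb_dvd (v : V) : (orb H v).ncard ∣ Nat.card H := by
  rw [ncard_orb]
  exact Subgroup.index_dvd_card _



/-- The two orbits. -/
theorem ncard_add {v₁ v₂ : V} (hv₁ : v₁ ≠ 0) (hv₂ : v₂ ≠ 0) (hne : ∀ h ∈ H, h v₁ ≠ v₂)
    (hall : ∀ w : V, w ≠ 0 → (∃ h ∈ H, h v₁ = w) ∨ (∃ h ∈ H, h v₂ = w)) :
    (orb H v₁).ncard + (orb H v₂).ncard = Nat.card V - 1 := by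
  classical
  have hdisj : Disjoint (orb H v₁) (orb H v₂) := by
    rw [Set.disjoint_left]
    intro w h1 h2
    have h3 : v₂ ∈ orb H v₁ := by
      rw [← orb_eq_of_mem H h1, orb_eq_of_mem H h2]
      exact mem_orb_self H v₂
    obtain ⟨h, hh, hhv⟩ := h3
    exact hne h hh hhv
  have hun : orb H v₁ ∪ orb H v₂ = ({0} : Set V)ᶜ := by
    ext w
    rw [Set.mem_compl_iff, Set.mem_singleton_iff, Set.mem_union]
    constructor
    · rintro (⟨h, hh, rfl⟩ | ⟨h, hh, rfl⟩)
      · intro h0
        exact hv₁ (h.injective (h0.trans (map_zero h).symm))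
      · intro h0
        exact hv₂ (h.injective (h0.trans (map_zero h).symm))
    · intro hw
      exact hall w hw
  rw [← Set.ncard_union_eq hdisj (Set.toFinite _) (Set.toFinite _), hun, Set.ncard_compl,
    Set.ncard_singleton]


theorem card_le (hT : TwoOrb H) : Nat.card V - 1 ≤ 2 * Nat.card H := by
  obtain ⟨v₁, v₂, hv₁, hv₂, hne, hall⟩ := hT
  have h1 := ncard_add H hv₁ hv₂ hne hall
  have hfin : Finite H := by
    have : Finite (V ≃ₗ[ZMod p] V) := finite_gl
    infer_instance
  have h2 := Nat.le_of_dvd Nat.card_pos (ncard_orb_dvd H v₁)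
  have h3 := Nat.le_of_dvd Nat.card_pos (ncard_orb_dvd H v₂)
  omega


/-- If `2 |H| = |V| - 1` then `H` is semiregular. -/
theorem semireg (hT : TwoOrb H) (hcard : 2 * Nat.card H = Nat.card V - 1) (w : V) (hw : w ≠ 0)
    (g : V ≃ₗ[ZMod p] V) (hg : g ∈ H) (hgw : g w = w) : g = 1 := by
  obtain ⟨v₁, v₂, hv₁, hv₂, hne, hall⟩ := hT
  have h1 := ncard_add H hv₁ hv₂ hne hall
  have hfin : Finite H := by
    have : Finite (V ≃ₗ[ZMod p] V) := finite_gl
    infer_instance
  have h2 := Nat.le_of_dvd Nat.card_pos (ncard_orb_dvd H v₁)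
  have h3 := Nat.le_of_dvd Nat.card_pos (ncard_orb_dvd H v₂)
  have h4 : (orb H w).ncard = Nat.card H := by
    rcases hall w hw with h | h
    · rw [orb_eq_of_mem H h]; omega
    · rw [orb_eq_of_mem H h]; omega
  rw [ncard_orb, ← Subgroup.card_mul_index (MulAction.stabilizer H w)] at h4
  have h5 : 0 < (MulAction.stabilizer H w).index := Nat.pos_of_ne_zero Subgroup.FiniteIndex.index_ne_zero
  have h6 : Nat.card (MulAction.stabilizer H w) = 1 := by
    have h7 : 1 * (MulAction.stabilizer H w).index =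
        Nat.card (MulAction.stabilizer H w) * (MulAction.stabilizer H w).index := by
      rw [one_mul]; exact h4
    exact (Nat.eq_of_mul_eq_mul_right h5 h7).symm
  have h8 := Subgroup.eq_bot_of_card_eq _ h6
  have h9 : (⟨g, hg⟩ : H) ∈ MulAction.stabilizer H w := hgw
  rw [h8, Subgroup.mem_bot] at h9
  exact congrArg Subtype.val h9

/-- **Dimension two**, `p ≥ 5`. -/
theorem lin_dim_two (hp5 : 5 ≤ p) (hpH : ¬ p ∣ Nat.card H) (hT : TwoOrb H)
    (hn : finrank (ZMod p) V = 2) : p ≤ 2 * Nat.card (ConjClasses H) := by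
  classical
  have hVcard := Hering.card_eq (p := p) (V := V)
  rw [hn] at hVcard
  obtain ⟨b, σ, hσ, hσb⟩ := LinMain.exists_toGL H (n := 2) hn
  let e : H ≃* σ.range := MonoidHom.ofInjective hσ
  have hcardL : Nat.card σ.range = Nat.card H := (Nat.card_congr e.toEquiv).symm
  have hle := card_le H hT
  rw [ClassCount.card_conjClasses_congr e]
  apply dim_two hp5 σ.range (by rw [hcardL]; exact hpH) (by rw [hcardL, ← hVcard]; exact hle)
  rw [hcardL, ← hVcard]
  rintro hc v hv _ ⟨h, rfl⟩ hhv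
  have h1 := hσb h (b.symm v)
  rw [LinearEquiv.apply_symm_apply, hhv] at h1
  have h2 : (h : V ≃ₗ[ZMod p] V) (b.symm v) = b.symm v := by
    apply b.injective
    rw [← h1, LinearEquiv.apply_symm_apply]
  have h3 := semireg H hT hc (b.symm v) (fun h0 => hv (by
    rw [← b.apply_symm_apply v, h0, map_zero])) h h.2 h2
  have h4 : h = 1 := Subtype.ext h3
  rw [h4, map_one]

/-- An abelian subgroup of small index gives many classes. -/
theorem of_index_le (hp5 : 5 ≤ p) (hT : TwoOrb H) (hn : 3 ≤ finrank (ZMod p) V)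
    (B : Subgroup H) (hB : ∀ a ∈ B, ∀ b ∈ B, a * b = b * a) {c : ℕ} (hBc : B.index ≤ c)
    (hc : c ^ 2 < p ^ (finrank (ZMod p) V - 1)) : p ≤ 2 * Nat.card (ConjClasses H) := by
  classical
  have hfin : Finite H := by
    have : Finite (V ≃ₗ[ZMod p] V) := finite_gl
    infer_instance
  have hVcard := Hering.card_eq (p := p) (V := V)
  have hle := card_le H hT
  rw [hVcard] at hle
  set n := finrank (ZMod p) V with hn'
  have h1 := ClassCount.card_le_mul_index B hB
  have h2 := B.card_mul_index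
  set k := Nat.card (ConjClasses H)
  by_contra hcon
  push Not at hcon
  have h3 : Nat.card H ≤ c ^ 2 * k := by
    rw [← h2]
    calc Nat.card B * B.index ≤ (B.index * k) * B.index := Nat.mul_le_mul h1 le_rfl
      _ = (B.index * B.index) * k := by ring
      _ ≤ (c * c) * k := Nat.mul_le_mul (Nat.mul_le_mul hBc hBc) le_rfl
      _ = c ^ 2 * k := by ring
  have h4 : p ^ n = p * p ^ (n - 1) := by
    rw [← pow_succ']
    congr 1; omega
  have h5 : 2 * Nat.card H ≤ (p - 1) * p ^ (n - 1) := by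
    calc 2 * Nat.card H ≤ 2 * (c ^ 2 * k) := Nat.mul_le_mul le_rfl h3
      _ = (2 * k) * c ^ 2 := by ring
      _ ≤ (p - 1) * p ^ (n - 1) := Nat.mul_le_mul (by omega) hc.le
  have h6 : p ^ n = (p - 1) * p ^ (n - 1) + p ^ (n - 1) := by
    rw [h4]
    obtain ⟨q, hq⟩ : ∃ q, p = q + 1 := ⟨p - 1, by omega⟩
    have h7 : p - 1 = q := by omega
    rw [h7]
    nth_rewrite 1 [hq]
    ring
  have h7 : 1 < p ^ (n - 1) := Nat.one_lt_pow (by omega) (by omega)
  omega

/-- **Swapped orbits.** -/
theorem swapped [Nontrivial V] (hp5 : 5 ≤ p) (hpH : ¬ p ∣ Nat.card H) {v₁ v₂ : V} (hv₁ : v₁ ≠ 0)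
    (hv₂ : v₂ ≠ 0) (hne : ∀ h ∈ H, h v₁ ≠ v₂)
    (hall : ∀ w : V, w ≠ 0 → (∃ h ∈ H, h v₁ = w) ∨ (∃ h ∈ H, h v₂ = w))
    (hn : 3 ≤ finrank (ZMod p) V) (hexc : ¬ (p = 5 ∧ finrank (ZMod p) V = 6)) {c : ZMod p}
    (hc : c ≠ 0) (hsw : ∃ h ∈ H, h v₁ = c • v₂) : p ≤ 2 * Nat.card (ConjClasses H) := by
  classical
  have hp' : p.Prime := hp.out
  have hfinG : Finite (V ≃ₗ[ZMod p] V) := finite_gl
  have hfin : Finite H := inferInstance
  -- the scalars
  let S : (ZMod p)ˣ →* (V ≃ₗ[ZMod p] V) :=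
    { toFun := fun a => LinearEquiv.smulOfUnit a
      map_one' := by
        apply LinearEquiv.ext
        intro x
        show ((1 : (ZMod p)ˣ) : ZMod p) • x = x
        rw [Units.val_one, one_smul]
      map_mul' := fun a b => by
        apply LinearEquiv.ext
        intro x
        show ((a * b : (ZMod p)ˣ) : ZMod p) • x = (a : ZMod p) • ((b : ZMod p) • x)
        rw [Units.val_mul, mul_smul] }
  have hS : ∀ (a : (ZMod p)ˣ) (x : V), S a x = (a : ZMod p) • x := fun _ _ => rfl
  have hSc : ∀ (a : (ZMod p)ˣ) (g : V ≃ₗ[ZMod p] V), g * S a = S a * g := by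
    intro a g
    apply LinearEquiv.ext
    intro x
    show g ((a : ZMod p) • x) = (a : ZMod p) • g x
    exact map_smul g _ _
  have hSn : S.range.Normal := by
    refine ⟨?_⟩
    rintro _ ⟨a, rfl⟩ g
    refine ⟨a, ?_⟩
    rw [hSc, mul_inv_cancel_right]
  let Hh : Subgroup (V ≃ₗ[ZMod p] V) := H ⊔ S.range
  have hHle : H ≤ Hh := le_sup_left
  have hSle : S.range ≤ Hh := le_sup_right
  -- transitivity
  have htr1 : ∀ w : V, w ≠ 0 → ∃ h ∈ Hh, h v₂ = w := by
    intro w hw
    rcases hall w hw with ⟨h, hh, hhw⟩ | ⟨h, hh, hhw⟩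
    · obtain ⟨g, hg, hgv⟩ := hsw
      refine ⟨h * (g⁻¹ * S (Units.mk0 c hc)), Hh.mul_mem (hHle hh)
        (Hh.mul_mem (hHle (H.inv_mem hg)) (hSle ⟨_, rfl⟩)), ?_⟩
      show h (g⁻¹ (c • v₂)) = w
      rw [← hgv]
      have : g⁻¹ (g v₁) = v₁ := g.symm_apply_apply v₁
      rw [this, hhw]
    · exact ⟨h, hHle hh, hhw⟩
  have htr : ∀ v w : V, v ≠ 0 → w ≠ 0 → ∃ h ∈ Hh, h v = w := by
    intro v w hv hw
    obtain ⟨a, ha, hav⟩ := htr1 v hv
    obtain ⟨b, hb, hbw⟩ := htr1 w hw
    refine ⟨b * a⁻¹, Hh.mul_mem hb (Hh.inv_mem ha), ?_⟩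
    show b (a⁻¹ v) = w
    rw [← hav]
    have : a⁻¹ (a v₂) = v₂ := a.symm_apply_apply v₂
    rw [this, hbw]
  -- the order
  have hpHh : ¬ p ∣ Nat.card Hh := by
    intro h
    have h1 : Nat.card Hh ∣ Nat.card S.range * Nat.card H := by
      have h2 := Lib.Cores.card_sup_dvd S.range H hSn
      rwa [sup_comm] at h2
    rcases (Nat.Prime.dvd_mul hp').1 (h.trans h1) with h3 | h3
    · have h4 : Nat.card S.range ∣ p - 1 := by
        have h5 := Subgroup.card_range_dvd S
        rwa [Nat.card_eq_fintype_card (α := (ZMod p)ˣ), ZMod.card_units] at h5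
      have h5 := Nat.le_of_dvd (by omega) (h3.trans h4)
      omega
    · exact hpH h3
  obtain ⟨A, hAn, hAc, hAle⟩ := Hering.main (p := p) hp5 hn hexc Hh htr hpHh
  have hAidx : A.index ≤ finrank (ZMod p) V := by
    have h1 := A.card_mul_index
    rw [← h1, mul_comm] at hAle
    exact Nat.le_of_mul_le_mul_right hAle Nat.card_pos
  let ι : H →* Hh := Subgroup.inclusion hHle
  let B : Subgroup H := A.comap ι
  have hBidx : B.index ≤ finrank (ZMod p) V := by
    refine le_trans ?_ hAidx
    apply Nat.le_of_dvd (Nat.pos_of_ne_zero Subgroup.FiniteIndex.index_ne_zero)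
    rw [Subgroup.index_comap]
    exact Subgroup.relIndex_dvd_index_of_normal _ _
  refine of_index_le H hp5 ⟨v₁, v₂, hv₁, hv₂, hne, hall⟩ hn B ?_ hBidx ?_
  · intro a ha b hb
    have h1 : (⟨ι a, ha⟩ : A) * ⟨ι b, hb⟩ = ⟨ι b, hb⟩ * ⟨ι a, ha⟩ :=
      (IsCyclic.commGroup (α := A)).mul_comm _ _
    have h2 : ι a * ι b = ι b * ι a := congrArg Subtype.val h1
    rw [← map_mul, ← map_mul] at h2
    exact Subgroup.inclusion_injective hHle h2
  · exact (LinMain.sq_lt_pow hn).trans_le (Nat.pow_le_pow_left hp5 _)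

end Cfsg.Agent.H697.Three
end

-- part: H697/ThreeDual
section
/-!
# Orbits on the dual space and the two-weight theorem
-/

set_option autoImplicit false
set_option linter.style.haveILetI false

universe u

namespace Cfsg.Agent.H697.ThreeDual

open Module
open Cfsg.Agent.H697.Three

variable {p : ℕ} [hp : Fact p.Prime] {V : Type u} [AddCommGroup V] [Module (ZMod p) V]

/-- The contragredient action. -/
def contra : (V ≃ₗ[ZMod p] V) →* (Dual (ZMod p) V ≃ₗ[ZMod p] Dual (ZMod p) V) where
  toFun g := (g⁻¹ : V ≃ₗ[ZMod p] V).dualMap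
  map_one' := by
    apply LinearEquiv.ext
    intro f
    apply LinearMap.ext
    intro v
    rfl
  map_mul' := by
    intro g h
    apply LinearEquiv.ext
    intro f
    apply LinearMap.ext
    intro v
    rw [mul_inv_rev]
    rfl

theorem contra_apply (g : V ≃ₗ[ZMod p] V) (f : Dual (ZMod p) V) (v : V) :
    contra g f v = f (g⁻¹ v) := rfl

variable [Finite V]

theorem card_fixed (g : V ≃ₗ[ZMod p] V) :
    Nat.card {f : Dual (ZMod p) V // contra g f = f} = Nat.card {v : V // g v = v} := by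
  have : Module.Finite (ZMod p) V := Module.Finite.of_finite
  let φ : V →ₗ[ZMod p] V := ((g⁻¹ : V ≃ₗ[ZMod p] V) : V →ₗ[ZMod p] V) - LinearMap.id
  have h1 : Nat.card {f : Dual (ZMod p) V // contra g f = f} =
      Nat.card (LinearMap.range φ).dualAnnihilator := by
    apply Nat.card_congr
    refine Equiv.subtypeEquivRight ?_
    intro f
    rw [Submodule.mem_dualAnnihilator]
    constructor
    · rintro h _ ⟨v, rfl⟩
      show f (g⁻¹ v - v) = 0
      rw [map_sub, sub_eq_zero, ← contra_apply, h]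
    · intro h
      apply LinearMap.ext
      intro v
      have h2 := h (φ v) ⟨v, rfl⟩
      have h3 : f (g⁻¹ v - v) = 0 := h2
      rw [map_sub, sub_eq_zero] at h3
      exact h3
  have h2 : Nat.card {v : V // g v = v} = Nat.card (LinearMap.ker φ) := by
    apply Nat.card_congr
    refine Equiv.subtypeEquivRight ?_
    intro v
    rw [LinearMap.mem_ker]
    constructor
    · intro h
      show g⁻¹ v - v = 0
      rw [sub_eq_zero]
      nth_rewrite 1 [← h]
      exact g.symm_apply_apply v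
    · intro h
      have h3 : g⁻¹ v - v = 0 := h
      rw [sub_eq_zero] at h3
      nth_rewrite 1 [← h3]
      exact g.apply_symm_apply v
  have h3 := LinearMap.finrank_range_add_finrank_ker φ
  rw [h1, h2, ThreeCount.card_ann, Module.natCard_eq_pow_finrank (K := ZMod p) (V := LinearMap.ker φ),
    Nat.card_zmod]
  congr 1
  omega

omit [Finite V] in
/-- Three orbits. -/
theorem exists_three {Q : Type*} (hQ : Nat.card Q = 3) (q : Q) :
    ∃ a b : Q, a ≠ q ∧ b ≠ q ∧ a ≠ b ∧ ∀ x : Q, x = q ∨ x = a ∨ x = b := by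
  classical
  have hfin : Finite Q := Nat.finite_of_card_ne_zero (by omega)
  have := Fintype.ofFinite Q
  have hcard : (Finset.univ.erase q).card = 2 := by
    rw [Finset.card_erase_of_mem (Finset.mem_univ _), Finset.card_univ, ← Nat.card_eq_fintype_card, hQ]
  obtain ⟨a, b, hab, hE⟩ := Finset.card_eq_two.1 hcard
  have ha : a ∈ Finset.univ.erase q := by rw [hE]; simp
  have hb : b ∈ Finset.univ.erase q := by rw [hE]; simp
  refine ⟨a, b, (Finset.mem_erase.1 ha).1, (Finset.mem_erase.1 hb).1, hab, fun x => ?_⟩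
  by_cases hx : x = q
  · exact Or.inl hx
  · right
    have h1 : x ∈ Finset.univ.erase q := Finset.mem_erase.2 ⟨hx, Finset.mem_univ _⟩
    rw [hE] at h1
    simpa using h1

/-- **Two orbits on the dual space.** -/
theorem dual_orbits (Γ : Subgroup (V ≃ₗ[ZMod p] V)) {v₁ v₂ : V} (hv₁ : v₁ ≠ 0) (hv₂ : v₂ ≠ 0)
    (hne : ∀ h ∈ Γ, h v₁ ≠ v₂)
    (hall : ∀ w : V, w ≠ 0 → (∃ h ∈ Γ, h v₁ = w) ∨ (∃ h ∈ Γ, h v₂ = w)) :
    ∃ f₁ f₂ : Dual (ZMod p) V, f₁ ≠ 0 ∧ f₂ ≠ 0 ∧ (∀ h ∈ Γ, contra h f₁ ≠ f₂) ∧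
      ∀ f : Dual (ZMod p) V, f ≠ 0 → (∃ h ∈ Γ, contra h f₁ = f) ∨ (∃ h ∈ Γ, contra h f₂ = f) := by
  classical
  have hfinG : Finite (V ≃ₗ[ZMod p] V) := Cfsg.Agent.PermutationGroups.RegularLinear.finite_gl
  have : Module.Finite (ZMod p) V := Module.Finite.of_finite
  have hfinD : Finite (Dual (ZMod p) V) := Module.finite_of_finite (ZMod p)
  have := Fintype.ofFinite Γ
  have := Fintype.ofFinite V
  have := Fintype.ofFinite (Dual (ZMod p) V)
  letI act : MulAction Γ (Dual (ZMod p) V) := MulAction.compHom _ (contra.comp Γ.subtype)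
  have hact : ∀ (g : Γ) (f : Dual (ZMod p) V), g • f = contra (g : V ≃ₗ[ZMod p] V) f := fun _ _ => rfl
  have hB1 := MulAction.sum_card_fixedBy_eq_card_orbits_mul_card_group Γ V
  have hB2 := MulAction.sum_card_fixedBy_eq_card_orbits_mul_card_group Γ (Dual (ZMod p) V)
  have hsum : ∑ a : Γ, Fintype.card (MulAction.fixedBy V a) =
      ∑ a : Γ, Fintype.card (MulAction.fixedBy (Dual (ZMod p) V) a) := by
    apply Finset.sum_congr rfl
    intro a _
    rw [← Nat.card_eq_fintype_card, ← Nat.card_eq_fintype_card]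
    exact (card_fixed (a : V ≃ₗ[ZMod p] V)).symm
  rw [hB1, hB2] at hsum
  have hcard := Nat.eq_of_mul_eq_mul_right (Fintype.card_pos (α := Γ)) hsum
  have h3 : Fintype.card (Quotient (MulAction.orbitRel Γ V)) = 3 := by
    have hm : ∀ (v w : V), (Quotient.mk (MulAction.orbitRel Γ V) v = Quotient.mk _ w) ↔
        ∃ g ∈ Γ, g w = v := by
      intro v w
      rw [Quotient.eq]
      constructor
      · rintro ⟨g, hg⟩
        exact ⟨g, g.2, hg⟩
      · rintro ⟨g, hg, h⟩
        exact ⟨⟨g, hg⟩, h⟩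
    have huniv : (Finset.univ : Finset (Quotient (MulAction.orbitRel Γ V))) =
        {Quotient.mk _ 0, Quotient.mk _ v₁, Quotient.mk _ v₂} := by
      symm
      rw [Finset.eq_univ_iff_forall]
      intro x
      induction x using Quotient.inductionOn with
      | _ v =>
        by_cases hv : v = 0
        · rw [hv]; simp
        · rcases hall v hv with ⟨h, hh, hhv⟩ | ⟨h, hh, hhv⟩
          · have : Quotient.mk (MulAction.orbitRel Γ V) v = Quotient.mk _ v₁ :=
              (hm v v₁).2 ⟨h, hh, hhv⟩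
            rw [this]; simp
          · have : Quotient.mk (MulAction.orbitRel Γ V) v = Quotient.mk _ v₂ :=
              (hm v v₂).2 ⟨h, hh, hhv⟩
            rw [this]; simp
    rw [← Finset.card_univ, huniv, Finset.card_eq_three]
    refine ⟨_, _, _, ?_, ?_, ?_, rfl⟩
    · intro h
      obtain ⟨g, -, hg⟩ := (hm _ _).1 h
      exact hv₁ (g.injective (hg.trans (map_zero g).symm))
    · intro h
      obtain ⟨g, -, hg⟩ := (hm _ _).1 h
      exact hv₂ (g.injective (hg.trans (map_zero g).symm))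
    · intro h
      obtain ⟨g, hgΓ, hg⟩ := (hm _ _).1 h.symm
      exact hne g hgΓ hg
  rw [h3] at hcard
  obtain ⟨a, b, ha, hb, hab, hx⟩ := exists_three
    (by rw [Nat.card_eq_fintype_card]; exact hcard.symm)
    (Quotient.mk (MulAction.orbitRel Γ (Dual (ZMod p) V)) 0)
  induction a using Quotient.inductionOn with
  | _ f₁ =>
    induction b using Quotient.inductionOn with
    | _ f₂ =>
      have hm : ∀ (v w : Dual (ZMod p) V),
          (Quotient.mk (MulAction.orbitRel Γ (Dual (ZMod p) V)) v = Quotient.mk _ w) ↔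
          ∃ g ∈ Γ, contra g w = v := by
        intro v w
        rw [Quotient.eq]
        constructor
        · rintro ⟨g, hg⟩
          exact ⟨g, g.2, hg⟩
        · rintro ⟨g, hg, h⟩
          exact ⟨⟨g, hg⟩, h⟩
      refine ⟨f₁, f₂, ?_, ?_, ?_, ?_⟩
      · rintro rfl
        exact ha rfl
      · rintro rfl
        exact hb rfl
      · intro h hh he
        exact hab ((hm f₂ f₁).2 ⟨h, hh, he⟩).symm
      · intro f hf
        rcases hx (Quotient.mk _ f) with h | h | h
        · exfalso
          apply hf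
          obtain ⟨g, -, hg⟩ := (hm f 0).1 h
          rw [map_zero] at hg
          exact hg.symm
        · exact Or.inl ((hm _ _).1 h)
        · exact Or.inr ((hm _ _).1 h)

/-- **The two-weight theorem**, group containing the scalars. -/
theorem two_weight_scalars (hp3 : 3 ≤ p) (hn : 2 ≤ finrank (ZMod p) V)
    (Γ : Subgroup (V ≃ₗ[ZMod p] V)) (hpΓ : ¬ p ∣ Nat.card Γ)
    (hscal : ∀ c : ZMod p, c ≠ 0 → ∃ g ∈ Γ, ∀ v, g v = c • v)
    {v₁ v₂ : V} (hv₁ : v₁ ≠ 0) (hv₂ : v₂ ≠ 0) (hne : ∀ h ∈ Γ, h v₁ ≠ v₂)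
    (hall : ∀ w : V, w ≠ 0 → (∃ h ∈ Γ, h v₁ = w) ∨ (∃ h ∈ Γ, h v₂ = w)) :
    ∃ (m : ℕ) (ε : ℤ), (ε = 1 ∨ ε = -1) ∧ finrank (ZMod p) V = 2 * m ∧
      ((p : ℤ) ^ m - ε) ∣ ((orb Γ v₁).ncard : ℤ) ∧ ((p : ℤ) ^ m - ε) ∣ ((orb Γ v₂).ncard : ℤ) := by
  classical
  have hfinG : Finite (V ≃ₗ[ZMod p] V) := Cfsg.Agent.PermutationGroups.RegularLinear.finite_gl
  have : Module.Finite (ZMod p) V := Module.Finite.of_finite
  have hfinD : Finite (Dual (ZMod p) V) := Module.finite_of_finite (ZMod p)
  have := Fintype.ofFinite V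
  have := Fintype.ofFinite (Dual (ZMod p) V)
  obtain ⟨f₁, f₂, hf₁, hf₂, hfne, hfall⟩ := dual_orbits Γ hv₁ hv₂ hne hall
  let Δ : Subgroup (Dual (ZMod p) V ≃ₗ[ZMod p] Dual (ZMod p) V) := Γ.map contra
  have hΔ : Nat.card Δ ∣ Nat.card Γ := Subgroup.card_map_dvd _ _
  -- membership in the orbits
  have hOm : ∀ (v w : V), w ∈ orb Γ v ↔ ∃ h ∈ Γ, h v = w := fun _ _ => Iff.rfl
  have hDm : ∀ (f g : Dual (ZMod p) V), g ∈ orb Δ f ↔ ∃ h ∈ Γ, contra h f = g := by
    intro f g
    constructor
    · rintro ⟨_, ⟨h, hh, rfl⟩, e⟩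
      exact ⟨h, hh, e⟩
    · rintro ⟨h, hh, e⟩
      exact ⟨_, ⟨h, hh, rfl⟩, e⟩
  have hinv : ∀ (h : V ≃ₗ[ZMod p] V) (v : V), h (h⁻¹ v) = v := fun h v => h.apply_symm_apply v
  have hinv' : ∀ (h : V ≃ₗ[ZMod p] V) (v : V), h⁻¹ (h v) = v := fun h v => h.symm_apply_apply v
  have hOst : ∀ (u v : V) (h : V ≃ₗ[ZMod p] V), h ∈ Γ → v ∈ orb Γ u → h v ∈ orb Γ u := by
    rintro u _ h hh ⟨g, hg, rfl⟩
    exact ⟨h * g, Γ.mul_mem hh hg, rfl⟩
  have hDst : ∀ (u f : Dual (ZMod p) V) (h : V ≃ₗ[ZMod p] V), h ∈ Γ → f ∈ orb Δ u →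
      contra h f ∈ orb Δ u := by
    rintro u _ h hh ⟨g, hg, rfl⟩
    exact ⟨contra h * g, Δ.mul_mem ⟨h, hh, rfl⟩ hg, rfl⟩
  -- the sets
  let O : V → Finset V := fun v => (orb Γ v).toFinset
  let D : Dual (ZMod p) V → Finset (Dual (ZMod p) V) := fun f => (orb Δ f).toFinset
  have hOmem : ∀ v w : V, w ∈ O v ↔ w ∈ orb Γ v := fun v w => Set.mem_toFinset
  have hDmem : ∀ f g, g ∈ D f ↔ g ∈ orb Δ f := fun v w => Set.mem_toFinset
  have hOcard : ∀ v, (O v).card = (orb Γ v).ncard := fun v => (Set.ncard_eq_toFinset_card' _).symm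
  have hDcard : ∀ v, (D v).card = (orb Δ v).ncard := fun v => (Set.ncard_eq_toFinset_card' _).symm
  have hcount1 : ∀ (u : V) (f : Dual (ZMod p) V) (h : V ≃ₗ[ZMod p] V), h ∈ Γ →
      ((O u).filter (fun v => contra h f v = 0)).card = ((O u).filter (fun v => f v = 0)).card := by
    intro u f h hh
    apply Finset.card_nbij' (fun v => h⁻¹ v) (fun v => h v)
    · intro v hv
      simp only [Finset.coe_filter, Set.mem_ofPred_eq, hOmem] at hv ⊢
      exact ⟨hOst u v h⁻¹ (Γ.inv_mem hh) hv.1, hv.2⟩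
    · intro v hv
      simp only [Finset.coe_filter, Set.mem_ofPred_eq, hOmem] at hv ⊢
      refine ⟨hOst u v h hh hv.1, ?_⟩
      rw [contra_apply, hinv']
      exact hv.2
    · intro v _
      exact hinv h v
    · intro v _
      exact hinv' h v
  have hcount2 : ∀ (u : Dual (ZMod p) V) (v : V) (h : V ≃ₗ[ZMod p] V), h ∈ Γ →
      ((D u).filter (fun f => f (h v) = 0)).card = ((D u).filter (fun f => f v = 0)).card := by
    intro u v h hh
    apply Finset.card_nbij' (fun f => contra h⁻¹ f) (fun f => contra h f)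
    · intro f hf
      simp only [Finset.coe_filter, Set.mem_ofPred_eq, hDmem] at hf ⊢
      refine ⟨hDst u f h⁻¹ (Γ.inv_mem hh) hf.1, ?_⟩
      rw [contra_apply, inv_inv]
      exact hf.2
    · intro f hf
      simp only [Finset.coe_filter, Set.mem_ofPred_eq, hDmem] at hf ⊢
      refine ⟨hDst u f h hh hf.1, ?_⟩
      rw [contra_apply, hinv']
      exact hf.2
    · intro f _
      show contra h (contra h⁻¹ f) = f
      apply LinearMap.ext
      intro w
      rw [contra_apply, contra_apply, inv_inv, hinv]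
    · intro f _
      show contra h⁻¹ (contra h f) = f
      apply LinearMap.ext
      intro w
      rw [contra_apply, contra_apply, inv_inv, hinv']
  have hp0 : ∀ k : ℕ, k ∣ Nat.card Γ → ¬ p ∣ k := fun k hk h => hpΓ (h.trans hk)
  have key := ThreeCount.comb (p := p) hp3 hn (O v₁) (O v₂) (D f₁) (D f₂) ?_ ?_ ?_ ?_ ?_ ?_
    ⟨v₁, (hOmem _ _).2 (mem_orb_self _ _)⟩ ⟨v₂, (hOmem _ _).2 (mem_orb_self _ _)⟩
    ⟨f₁, (hDmem _ _).2 (mem_orb_self _ _)⟩ ⟨f₂, (hDmem _ _).2 (mem_orb_self _ _)⟩
    ((O v₁).filter (fun v => f₁ v = 0)).card ((O v₁).filter (fun v => f₂ v = 0)).card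
    ((D f₁).filter (fun f => f v₁ = 0)).card ((D f₁).filter (fun f => f v₂ = 0)).card
    ?_ ?_ ?_ ?_ ?_ ?_ ?_ ?_
  · rw [hOcard, hOcard] at key
    exact key
  · ext w
    rw [Finset.mem_union, hOmem, hOmem, Finset.mem_erase]
    constructor
    · rintro (⟨h, hh, rfl⟩ | ⟨h, hh, rfl⟩)
      · exact ⟨fun h0 => hv₁ (h.injective (h0.trans (map_zero h).symm)), Finset.mem_univ _⟩
      · exact ⟨fun h0 => hv₂ (h.injective (h0.trans (map_zero h).symm)), Finset.mem_univ _⟩
    · rintro ⟨hw, -⟩
      exact hall w hw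
  · rw [Finset.disjoint_left]
    intro w h1 h2
    rw [hOmem] at h1 h2
    have h3 : v₂ ∈ orb Γ v₁ := by
      rw [← orb_eq_of_mem Γ h1, orb_eq_of_mem Γ h2]
      exact mem_orb_self Γ v₂
    obtain ⟨h, hh, hhv⟩ := h3
    exact hne h hh hhv
  · ext w
    rw [Finset.mem_union, hDmem, hDmem, Finset.mem_erase]
    constructor
    · rintro (⟨h, hh, rfl⟩ | ⟨h, hh, rfl⟩)
      · exact ⟨fun h0 => hf₁ (h.injective (h0.trans (map_zero h).symm)), Finset.mem_univ _⟩
      · exact ⟨fun h0 => hf₂ (h.injective (h0.trans (map_zero h).symm)), Finset.mem_univ _⟩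
    · rintro ⟨hw, -⟩
      rcases hfall w hw with h | h
      · exact Or.inl ((hDm _ _).2 h)
      · exact Or.inr ((hDm _ _).2 h)
  · rw [Finset.disjoint_left]
    intro w h1 h2
    rw [hDmem] at h1 h2
    have h3 : f₂ ∈ orb Δ f₁ := by
      rw [← orb_eq_of_mem Δ h1, orb_eq_of_mem Δ h2]
      exact mem_orb_self Δ f₂
    obtain ⟨h, hh, hhv⟩ := (hDm _ _).1 h3
    exact hfne h hh hhv
  · intro c hc v hv
    obtain ⟨g, hg, hgc⟩ := hscal c hc
    rw [hOmem] at hv ⊢
    rw [← hgc]
    exact hOst _ _ _ hg hv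
  · intro c hc f hf
    obtain ⟨g, hg, hgc⟩ := hscal c hc
    rw [hDmem] at hf ⊢
    have h1 : c • f = contra g⁻¹ f := by
      apply LinearMap.ext
      intro v
      rw [contra_apply, inv_inv, hgc, map_smul, LinearMap.smul_apply]
    rw [h1]
    exact hDst _ _ _ (Γ.inv_mem hg) hf
  · intro f hf
    obtain ⟨h, hh, rfl⟩ := (hDm _ _).1 ((hDmem _ _).1 hf)
    exact hcount1 _ _ _ hh
  · intro f hf
    obtain ⟨h, hh, rfl⟩ := (hDm _ _).1 ((hDmem _ _).1 hf)
    exact hcount1 _ _ _ hh
  · intro v hv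
    obtain ⟨h, hh, rfl⟩ := (hOmem _ _).1 hv
    exact hcount2 _ _ _ hh
  · intro v hv
    obtain ⟨h, hh, rfl⟩ := (hOmem _ _).1 hv
    exact hcount2 _ _ _ hh
  · rw [hOcard]
    exact hp0 _ (ncard_orb_dvd Γ v₁)
  · rw [hOcard]
    exact hp0 _ (ncard_orb_dvd Γ v₂)
  · rw [hDcard]
    exact hp0 _ ((ncard_orb_dvd Δ f₁).trans hΔ)
  · rw [hDcard]
    exact hp0 _ ((ncard_orb_dvd Δ f₂).trans hΔ)

/-- The scalars. -/
def scal : (ZMod p)ˣ →* (V ≃ₗ[ZMod p] V) where
  toFun a := LinearEquiv.smulOfUnit a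
  map_one' := by
    apply LinearEquiv.ext
    intro x
    show ((1 : (ZMod p)ˣ) : ZMod p) • x = x
    rw [Units.val_one, one_smul]
  map_mul' := fun a b => by
    apply LinearEquiv.ext
    intro x
    show ((a * b : (ZMod p)ˣ) : ZMod p) • x = (a : ZMod p) • ((b : ZMod p) • x)
    rw [Units.val_mul, mul_smul]

omit [Finite V] in
theorem scal_comm (a : (ZMod p)ˣ) (g : V ≃ₗ[ZMod p] V) : g * scal a = scal a * g := by
  apply LinearEquiv.ext
  intro x
  show g ((a : ZMod p) • x) = (a : ZMod p) • g x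
  exact map_smul g _ _

omit [Finite V] in
theorem scal_normal : (scal (p := p) (V := V)).range.Normal := by
  refine ⟨?_⟩
  rintro _ ⟨a, rfl⟩ g
  refine ⟨a, ?_⟩
  rw [scal_comm, mul_inv_cancel_right]

/-- Adjoining the scalars keeps the order prime to `p`. -/
theorem not_dvd_sup (H : Subgroup (V ≃ₗ[ZMod p] V)) (hpH : ¬ p ∣ Nat.card H) :
    ¬ p ∣ Nat.card (H ⊔ (scal (p := p) (V := V)).range : Subgroup (V ≃ₗ[ZMod p] V)) := by
  classical
  have hp' : p.Prime := hp.out
  have hfinG : Finite (V ≃ₗ[ZMod p] V) := Cfsg.Agent.PermutationGroups.RegularLinear.finite_gl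
  intro h
  have h1 : Nat.card (H ⊔ (scal (p := p) (V := V)).range : Subgroup (V ≃ₗ[ZMod p] V)) ∣
      Nat.card (scal (p := p) (V := V)).range * Nat.card H := by
    have h2 := Lib.Cores.card_sup_dvd (scal (p := p) (V := V)).range H scal_normal
    rwa [sup_comm] at h2
  rcases (Nat.Prime.dvd_mul hp').1 (h.trans h1) with h3 | h3
  · have h4 : Nat.card (scal (p := p) (V := V)).range ∣ p - 1 := by
      have h5 := Subgroup.card_range_dvd (scal (p := p) (V := V))
      rwa [Nat.card_eq_fintype_card (α := (ZMod p)ˣ), ZMod.card_units] at h5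
    have h5 := Nat.le_of_dvd (by have := hp'.two_le; omega) (h3.trans h4)
    have := hp'.two_le
    omega
  · exact hpH h3

/-- **The two-weight theorem**: orbits not swapped by the scalars. -/
theorem two_weight (hp3 : 3 ≤ p) (hn : 2 ≤ finrank (ZMod p) V)
    (H : Subgroup (V ≃ₗ[ZMod p] V)) (hpH : ¬ p ∣ Nat.card H)
    {v₁ v₂ : V} (hv₁ : v₁ ≠ 0) (hv₂ : v₂ ≠ 0) (hne : ∀ h ∈ H, h v₁ ≠ v₂)
    (hall : ∀ w : V, w ≠ 0 → (∃ h ∈ H, h v₁ = w) ∨ (∃ h ∈ H, h v₂ = w))
    (hns : ∀ c : ZMod p, c ≠ 0 → ∀ h ∈ H, h v₁ ≠ c • v₂) :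
    (∀ c : ZMod p, c ≠ 0 → c • v₁ ∈ orb H v₁) ∧ (∀ c : ZMod p, c ≠ 0 → c • v₂ ∈ orb H v₂) ∧
    ∃ (m : ℕ) (ε : ℤ), (ε = 1 ∨ ε = -1) ∧ finrank (ZMod p) V = 2 * m ∧
      ((p : ℤ) ^ m - ε) ∣ ((orb H v₁).ncard : ℤ) ∧ ((p : ℤ) ^ m - ε) ∣ ((orb H v₂).ncard : ℤ) := by
  have hs1 : ∀ c : ZMod p, c ≠ 0 → c • v₁ ∈ orb H v₁ := by
    intro c hc
    rcases hall (c • v₁) (smul_ne_zero hc hv₁) with h | ⟨h, hh, he⟩
    · exact h
    · exfalso
      refine hns c⁻¹ (inv_ne_zero hc) h⁻¹ (H.inv_mem hh) ?_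
      have h1 : v₁ = c⁻¹ • h v₂ := by rw [he, smul_smul, inv_mul_cancel₀ hc, one_smul]
      rw [h1, map_smul]
      congr 1
      exact h.symm_apply_apply v₂
  have hs2 : ∀ c : ZMod p, c ≠ 0 → c • v₂ ∈ orb H v₂ := by
    intro c hc
    rcases hall (c • v₂) (smul_ne_zero hc hv₂) with ⟨h, hh, he⟩ | h
    · exact absurd he (hns c hc h hh)
    · exact h
  refine ⟨hs1, hs2, ?_⟩
  have hsn := scal_normal (p := p) (V := V)
  let Γ : Subgroup (V ≃ₗ[ZMod p] V) := H ⊔ (scal (p := p) (V := V)).range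
  have hΓm : ∀ g ∈ Γ, ∃ h ∈ H, ∃ c : ZMod p, c ≠ 0 ∧ ∀ v, g v = h (c • v) := by
    intro g hg
    obtain ⟨h, hh, z, ⟨a, rfl⟩, rfl⟩ := Subgroup.mem_sup_of_normal_right.1 hg
    exact ⟨h, hh, a, a.ne_zero, fun v => rfl⟩
  have horb : ∀ v : V, (∀ c : ZMod p, c ≠ 0 → c • v ∈ orb H v) → orb Γ v = orb H v := by
    intro v hv
    ext w
    constructor
    · rintro ⟨g, hg, rfl⟩
      obtain ⟨h, hh, c, hc, he⟩ := hΓm g hg
      obtain ⟨k, hk, hkv⟩ := hv c hc
      exact ⟨h * k, H.mul_mem hh hk, by rw [he, ← hkv]; rfl⟩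
    · rintro ⟨h, hh, rfl⟩
      exact ⟨h, (le_sup_left : H ≤ Γ) hh, rfl⟩
  have key := two_weight_scalars hp3 hn Γ (not_dvd_sup H hpH)
    (fun c hc => ⟨scal (Units.mk0 c hc), (le_sup_right : (scal (p := p) (V := V)).range ≤ Γ)
      ⟨_, rfl⟩, fun v => rfl⟩) hv₁ hv₂ ?_ ?_
  · rw [horb v₁ hs1, horb v₂ hs2] at key
    exact key
  · intro g hg he
    have h1 : v₂ ∈ orb Γ v₁ := ⟨g, hg, he⟩
    rw [horb v₁ hs1] at h1
    obtain ⟨h, hh, h2⟩ := h1
    exact hne h hh h2
  · intro w hw
    rcases hall w hw with ⟨h, hh, he⟩ | ⟨h, hh, he⟩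
    · exact Or.inl ⟨h, (le_sup_left : H ≤ Γ) hh, he⟩
    · exact Or.inr ⟨h, (le_sup_left : H ≤ Γ) hh, he⟩

end Cfsg.Agent.H697.ThreeDual
end

-- part: H697/ThreePpd
section
/-!
# `p'`-groups of matrices of order divisible by a large primitive prime divisor
-/

set_option autoImplicit false
set_option linter.style.haveILetI false

universe u

namespace Cfsg.Agent.H697.ThreePpd

open Module
open Cfsg.Agent.PermutationGroups.RegularLinear
open Cfsg.Agent.LieRecognition.FT61
open Cfsg.Agent.H697.Three Cfsg.Agent.H697.ThreeDual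

variable {p : ℕ} [hp : Fact p.Prime] {V : Type u} [AddCommGroup V] [Module (ZMod p) V] [Finite V]

/-- A reducible subgroup of the centraliser of an irreducible element of prime order is small. -/
theorem card_reducible (H : Subgroup (V ≃ₗ[ZMod p] V)) {s : ℕ} (hs : s.Prime)
    (hsn : s ∣ p ^ finrank (ZMod p) V - 1)
    (hsd : ∀ d, 0 < d → d < finrank (ZMod p) V → ¬ s ∣ p ^ d - 1) (x : H) (hx : orderOf x = s)
    (K : Subgroup H) (hKx : ∀ g ∈ K, g * x = x * g) (W : Submodule (ZMod p) V) (hW0 : W ≠ ⊥)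
    (hW1 : W ≠ ⊤) (hW : ∀ a ∈ K, ∀ v ∈ W, ((a : H) : V ≃ₗ[ZMod p] V) v ∈ W) :
    (Nat.card K + 1) ^ 2 ≤ p ^ finrank (ZMod p) V := by
  classical
  have hfinG : Finite (V ≃ₗ[ZMod p] V) := finite_gl
  have : Module.Finite (ZMod p) V := Module.Finite.of_finite
  let E : H → End (ZMod p) V := fun a => ((a : V ≃ₗ[ZMod p] V) : End (ZMod p) V)
  have hEmul : ∀ a b : H, E (a * b) = E a * E b := fun _ _ => rfl
  have hE1 : E 1 = 1 := rfl
  have hEpow : ∀ (a : H) (k : ℕ), E (a ^ k) = E a ^ k := by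
    intro a k
    induction k with
    | zero => rw [pow_zero, pow_zero, hE1]
    | succ k ih => rw [pow_succ, pow_succ, hEmul, ih]
  have hEinj : Function.Injective E := by
    intro a b hab
    apply Subtype.ext
    apply LinearEquiv.ext
    intro v
    exact DFunLike.congr_fun hab v
  have hg : E x ^ s = 1 := by rw [← hEpow, ← hx, pow_orderOf_eq_one, hE1]
  have hg1 : E x ≠ 1 := by
    intro h
    have h1 : x = 1 := hEinj (h.trans hE1.symm)
    rw [h1, orderOf_one] at hx
    exact hs.one_lt.ne hx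
  have hcardF : Nat.card (ZMod p) = p := Nat.card_zmod p
  have hinj : ∀ u ∈ K, ∀ v ∈ K, u ≠ v → Function.Injective (E u - E v) := by
    intro u hu v hv huv
    refine LieExceptional.SingerCentralizer.injective_of_commute hs hg hg1
      (by rw [hcardF]; exact hsn) (by rw [hcardF]; exact hsd) (a := E u - E v) ?_ ?_
    · have h1 : Commute (E u) (E x) := by
        show E u * E x = E x * E u
        rw [← hEmul, ← hEmul, hKx u hu]
      have h2 : Commute (E v) (E x) := by
        show E v * E x = E x * E v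
        rw [← hEmul, ← hEmul, hKx v hv]
      exact h1.sub_left h2
    · intro h
      exact huv (hEinj (sub_eq_zero.1 h))
  have hsubW : ∀ u ∈ K, ∀ v ∈ K, ∀ w ∈ W, (E u - E v) w ∈ W := by
    intro u hu v hv w hw
    rw [LinearMap.sub_apply]
    exact W.sub_mem (hW u hu w hw) (hW v hv w hw)
  -- the subspace
  have h1 : Nat.card K + 1 ≤ Nat.card W := by
    obtain ⟨w, hwW, hw0⟩ := W.exists_mem_ne_zero_of_ne_bot hW0
    let f : Option K → W := fun o => match o with
      | none => 0
      | some u => ⟨((u : H) : V ≃ₗ[ZMod p] V) w, hW u u.2 w hwW⟩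
    have hf : Function.Injective f := by
      intro a b hab
      match a, b with
      | none, none => rfl
      | none, some u =>
        exfalso
        apply hw0
        have h2 : (0 : V) = ((u : H) : V ≃ₗ[ZMod p] V) w := congrArg Subtype.val hab
        exact ((u : H) : V ≃ₗ[ZMod p] V).injective (h2.symm.trans (map_zero _).symm)
      | some u, none =>
        exfalso
        apply hw0
        have h2 : ((u : H) : V ≃ₗ[ZMod p] V) w = 0 := congrArg Subtype.val hab
        exact ((u : H) : V ≃ₗ[ZMod p] V).injective (h2.trans (map_zero _).symm)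
      | some u, some v =>
        by_contra hne
        have huv : (u : H) ≠ v := fun h => hne (congrArg some (Subtype.ext h))
        have h2 : ((u : H) : V ≃ₗ[ZMod p] V) w = ((v : H) : V ≃ₗ[ZMod p] V) w :=
          congrArg Subtype.val hab
        apply hw0
        apply hinj u u.2 v v.2 huv
        rw [map_zero, LinearMap.sub_apply, sub_eq_zero]
        exact h2
    have h2 := Nat.card_le_card_of_injective f hf
    rwa [Finite.card_option] at h2
  have h2 : Nat.card K + 1 ≤ Nat.card (V ⧸ W) := by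
    obtain ⟨w, hw⟩ : ∃ w, w ∉ W := by
      by_contra h
      push Not at h
      exact hW1 (Submodule.eq_top_iff'.2 h)
    have hinvW : ∀ u ∈ K, ((u : H) : V ≃ₗ[ZMod p] V) w ∉ W := by
      intro u hu h
      apply hw
      have h3 := hW u⁻¹ (K.inv_mem hu) _ h
      have h4 : ((u⁻¹ : H) : V ≃ₗ[ZMod p] V) (((u : H) : V ≃ₗ[ZMod p] V) w) = w :=
        ((u : H) : V ≃ₗ[ZMod p] V).symm_apply_apply w
      rwa [h4] at h3
    let f : Option K → V ⧸ W := fun o => match o with
      | none => 0
      | some u => W.mkQ (((u : H) : V ≃ₗ[ZMod p] V) w)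
    have hf : Function.Injective f := by
      intro a b hab
      match a, b with
      | none, none => rfl
      | none, some u =>
        exfalso
        have h3 : (0 : V ⧸ W) = W.mkQ (((u : H) : V ≃ₗ[ZMod p] V) w) := hab
        exact hinvW u u.2 ((Submodule.Quotient.mk_eq_zero W).1 h3.symm)
      | some u, none =>
        exfalso
        have h3 : W.mkQ (((u : H) : V ≃ₗ[ZMod p] V) w) = 0 := hab
        exact hinvW u u.2 ((Submodule.Quotient.mk_eq_zero W).1 h3)
      | some u, some v =>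
        by_contra hne
        have huv : (u : H) ≠ v := fun h => hne (congrArg some (Subtype.ext h))
        have h3 : W.mkQ (((u : H) : V ≃ₗ[ZMod p] V) w) = W.mkQ (((v : H) : V ≃ₗ[ZMod p] V) w) := hab
        rw [Submodule.mkQ_apply, Submodule.mkQ_apply, Submodule.Quotient.eq] at h3
        have h4 : (E u - E v) w ∈ W := h3
        -- surjectivity on `W`
        let g : W → W := fun y => ⟨(E u - E v) y, hsubW u u.2 v v.2 y y.2⟩
        have hgi : Function.Injective g := by
          intro a b hab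
          exact Subtype.ext (hinj u u.2 v v.2 huv (congrArg Subtype.val hab))
        obtain ⟨y, hy⟩ := Finite.surjective_of_injective hgi ⟨_, h4⟩
        have h5 : (E u - E v) y = (E u - E v) w := congrArg Subtype.val hy
        have h6 := hinj u u.2 v v.2 huv h5
        rw [← h6] at hw
        exact hw y.2
    have hfq : Finite (V ⧸ W) := Finite.of_surjective W.mkQ W.mkQ_surjective
    have h3 := Nat.card_le_card_of_injective f hf
    rwa [Finite.card_option] at h3
  have h3 : Nat.card W * Nat.card (V ⧸ W) = p ^ finrank (ZMod p) V := by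
    rw [← Hering.card_eq (p := p) (V := V)]
    exact (Submodule.card_eq_card_quotient_mul_card W).symm
  rw [← h3, sq]
  exact Nat.mul_le_mul h1 h2

/-- **Groups with a large primitive prime divisor.** -/
theorem ppd_main [Nontrivial V] (H : Subgroup (V ≃ₗ[ZMod p] V)) (hpH : ¬ p ∣ Nat.card H)
    (hn : 3 ≤ finrank (ZMod p) V) {s : ℕ} (hs : s.Prime) (hsn : s ∣ p ^ finrank (ZMod p) V - 1)
    (hsd : ∀ d, 0 < d → d < finrank (ZMod p) V → ¬ s ∣ p ^ d - 1)
    (hslarge : finrank (ZMod p) V + 1 < s ∨ s ^ 2 ∣ Nat.card H) (hsD : s ∣ Nat.card H) :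
    (∃ A : Subgroup H, A.Normal ∧ IsCyclic A ∧ Nat.card H ≤ finrank (ZMod p) V * Nat.card A) ∨
    (s = 2 * finrank (ZMod p) V + 1 ∧ ∃ K : Subgroup H, (Nat.card K + 1) ^ 2 ≤ p ^ finrank (ZMod p) V ∧
      Nat.card H = Nat.card K * (s * finrank (ZMod p) V) * (s + 1)) := by
  classical
  have hp' : p.Prime := Fact.out
  have hfinG : Finite (V ≃ₗ[ZMod p] V) := finite_gl
  have hsf : Fact s.Prime := ⟨hs⟩
  obtain ⟨σ, hσ⟩ : ∃ σ : H →* GL (Fin (finrank (ZMod p) V)) (ZMod p), Function.Injective σ :=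
    Hering.exists_toGL H
  have hcop : (Nat.card H).Coprime p := by
    rw [Nat.coprime_comm]
    exact (Nat.Prime.coprime_iff_not_dvd hp').2 hpH
  have hns := HeringMat.dvd_sub_one hs hp'.pos (by omega) hsn hsd
  obtain ⟨P⟩ : Nonempty (Sylow s H) := inferInstance
  have hsize : (2 * finrank (ZMod p) V < s ∧ 7 ≤ s) ∨ s ^ 2 ∣ Nat.card H := by
    rcases hslarge with h1 | h1
    · left
      obtain ⟨c, hc⟩ := hns
      have h2 : 2 ≤ c := by
        by_contra h3
        have h4 : c = 0 ∨ c = 1 := by omega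
        rcases h4 with rfl | rfl
        · omega
        · omega
      have h3 : finrank (ZMod p) V * 2 ≤ finrank (ZMod p) V * c := Nat.mul_le_mul le_rfl h2
      omega
    · exact Or.inr h1
  have hPne : (P : Subgroup H) ≠ ⊥ := by
    intro h
    have h1 := P.dvd_card_of_dvd_card hsD
    rw [h, Subgroup.card_bot] at h1
    exact hs.one_lt.ne' (Nat.dvd_one.1 h1)
  have hcyc : ∀ z : H, orderOf z = s → IsCyclic (Subgroup.centralizer ({z} : Set H)) := fun z hz =>
    HeringMat.isCyclic_centralizer σ hσ hs hsn hsd hz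
  have fin : (P : Subgroup H).Normal → ∃ A : Subgroup H, A.Normal ∧ IsCyclic A ∧
      Nat.card H ≤ finrank (ZMod p) V * Nat.card A := by
    intro hPn
    obtain ⟨x, hxP, hxs, hxc⟩ := Grp.exists_central_orderOf P hPne
    have hPcyc := Grp.isCyclic_sylow hcyc P hPne
    have hnorm : ∀ g : H, g ∈ Subgroup.normalizer ((Subgroup.zpowers x : Subgroup H) : Set H) := by
      have h1 : ∀ g : H, g * x * g⁻¹ ∈ Subgroup.zpowers x := by
        intro g
        have h2 : g * x * g⁻¹ ∈ (P : Subgroup H) := hPn.conj_mem x hxP g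
        have h3 : orderOf (g * x * g⁻¹) = orderOf x := by
          have h4 : g * x * g⁻¹ = MulAut.conj g x := rfl
          rw [h4]
          exact MulEquiv.orderOf_eq (MulAut.conj g) x
        rw [← Grp.zpowers_eq_of_orderOf hPcyc h2 hxP h3]
        exact Subgroup.mem_zpowers _
      have h2 : ∀ g : H, ∀ y ∈ Subgroup.zpowers x, g * y * g⁻¹ ∈ Subgroup.zpowers x := by
        rintro g _ ⟨m, rfl⟩
        show g * x ^ m * g⁻¹ ∈ Subgroup.zpowers x
        rw [← conj_zpow]
        exact Subgroup.zpow_mem _ (h1 g) m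
      intro g
      rw [Subgroup.mem_normalizer_iff]
      intro y
      refine ⟨h2 g y, fun hy => ?_⟩
      have := h2 g⁻¹ _ hy
      simpa only [mul_assoc, _root_.inv_mul_cancel_left, _root_.inv_inv, _root_.inv_mul_cancel, _root_.mul_one] using this
    have hnorm2 : Subgroup.normalizer
        ((Subgroup.centralizer ({x} : Set H) : Subgroup H) : Set H) = ⊤ := by
      rw [eq_top_iff]
      intro g _
      exact HeringMat.normalizer_zpowers_le x (hnorm g)
    refine ⟨Subgroup.centralizer ({x} : Set H), Subgroup.normalizer_eq_top_iff.1 hnorm2,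
      hcyc x hxs, ?_⟩
    have h1 := HeringMat.card_normalizer_le σ hσ hs hsn hsd hxs
    rw [hnorm2, Subgroup.card_top] at h1
    exact h1
  rcases HeringMat.sylow_normal_or σ hσ hcop (by omega) hsn hsd hsize hsD P with h1 |
    ⟨hs2n, K, x, hK, hPx, hxs, hxK, hKx, hcard⟩
  · exact Or.inl (fin h1)
  · by_cases hirr : ∀ W : Submodule (ZMod p) V,
        (∀ a ∈ K, ∀ v ∈ W, ((a : H) : V ≃ₗ[ZMod p] V) v ∈ W) → W = ⊥ ∨ W = ⊤
    · left
      apply fin
      have h1 := centralizer_comm_of_irreducible H K hirr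
      apply Grp.normal_of_le_comm P (Subgroup.centralizer (K : Set H)) inferInstance
      · intro a ha b hb
        exact congrArg Subtype.val (h1.is_comm.comm ⟨a, ha⟩ ⟨b, hb⟩)
      · rw [hPx, Subgroup.zpowers_le, Subgroup.mem_centralizer_iff]
        intro g hg
        exact hKx g hg
    · right
      push Not at hirr
      obtain ⟨W, hW, hW0, hW1⟩ := hirr
      exact ⟨hs2n, K, card_reducible H hs hsn hsd x hxs K hKx W hW0 hW1 hW, hcard⟩

end Cfsg.Agent.H697.ThreePpd
end

-- part: H697/ThreeRes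
section
/-!
# Reduction of the linear statement to two-weight groups of plus type
-/

set_option autoImplicit false
set_option linter.style.haveILetI false

universe u

namespace Cfsg.Agent.H697.Three

open Module
open Cfsg.Agent.PermutationGroups.RegularLinear
open Cfsg.Agent.H697.ThreeDual Cfsg.Agent.H697.ThreePpd

/-- The remaining case: `dim V = 2 m`, orbit lengths divisible by `p ^ m - 1`. -/
def ResStmt (p : ℕ) [Fact p.Prime] : Prop :=
  ∀ (V : Type u) [AddCommGroup V] [Module (ZMod p) V] [Finite V] [Nontrivial V]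
    (H : Subgroup (V ≃ₗ[ZMod p] V)), ¬ p ∣ Nat.card H → 11 ≤ p → Irr H →
    ∀ m : ℕ, 2 ≤ m → finrank (ZMod p) V = 2 * m →
    ∀ v₁ v₂ : V, v₁ ≠ 0 → v₂ ≠ 0 → (∀ h ∈ H, h v₁ ≠ v₂) →
    (∀ w : V, w ≠ 0 → (∃ h ∈ H, h v₁ = w) ∨ (∃ h ∈ H, h v₂ = w)) →
    (∀ c : ZMod p, c ≠ 0 → c • v₁ ∈ orb H v₁) → (∀ c : ZMod p, c ≠ 0 → c • v₂ ∈ orb H v₂) →
    (p ^ m - 1) ∣ (orb H v₁).ncard → (p ^ m - 1) ∣ (orb H v₂).ncard →
    p ≤ 2 * Nat.card (ConjClasses H)

/-- The arithmetic of the exceptional case. -/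
theorem exc_arith {p m : ℕ} (hp : p.Prime) (hp11 : 11 ≤ p) (hm : 2 ≤ m)
    (hs : (2 * (2 * m) + 1).Prime) (hsn : (2 * (2 * m) + 1) ∣ p ^ (2 * m) - 1)
    (h : p ^ m + 1 ≤ 2 * ((2 * (2 * m) + 1) * (2 * m) * (2 * (2 * m) + 1 + 1))) : False := by
  have hgrow : ∀ k : ℕ, 2 * ((2 * (2 * (k + 4)) + 1) * (2 * (k + 4)) * (2 * (2 * (k + 4)) + 1 + 1))
      < 11 ^ (k + 4) := by
    intro k
    induction k with
    | zero => norm_num
    | succ k ih =>
      have h1 : 2 * ((2 * (2 * (k + 1 + 4)) + 1) * (2 * (k + 1 + 4)) * (2 * (2 * (k + 1 + 4)) + 1 + 1)) ≤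
          11 * (2 * ((2 * (2 * (k + 4)) + 1) * (2 * (k + 4)) * (2 * (2 * (k + 4)) + 1 + 1))) := by
        ring_nf
        linarith only [Nat.zero_le (k ^ 3), _root_.sq_nonneg (↑k : ℤ), _root_.Nat.cast_nonneg (α := ℤ) (k)]
      calc _ ≤ 11 * (2 * ((2 * (2 * (k + 4)) + 1) * (2 * (k + 4)) * (2 * (2 * (k + 4)) + 1 + 1))) := h1
        _ < 11 * 11 ^ (k + 4) := by omega
        _ = 11 ^ (k + 1 + 4) := by ring
  rcases Nat.lt_or_ge m 4 with hm4 | hm4
  · interval_cases m
    · revert hs; norm_num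
    · have h1 : p ^ 3 + 1 ≤ 2184 := by
        refine h.trans ?_
        norm_num
      have h2 : p < 13 := by
        by_contra h3
        push Not at h3
        have := Nat.pow_le_pow_left h3 3
        omega
      have h3 : p = 11 ∨ p = 12 := by omega
      rcases h3 with rfl | rfl
      · revert hsn
        norm_num
      · revert hp
        norm_num
  · obtain ⟨k, rfl⟩ : ∃ k, m = k + 4 := ⟨m - 4, by omega⟩
    have h1 := hgrow k
    have h2 : 11 ^ (k + 4) ≤ p ^ (k + 4) := Nat.pow_le_pow_left hp11 _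
    omega

variable {p : ℕ} [hp : Fact p.Prime] {V : Type u} [AddCommGroup V] [Module (ZMod p) V] [Finite V]

/-- The minus type. -/
theorem eps_neg [Nontrivial V] (hp11 : 11 ≤ p) (H : Subgroup (V ≃ₗ[ZMod p] V))
    (hpH : ¬ p ∣ Nat.card H) (hT : TwoOrb H) {m : ℕ} (hm : 2 ≤ m) (hn : finrank (ZMod p) V = 2 * m)
    (hdvd : (p ^ m + 1) ∣ Nat.card H) : p ≤ 2 * Nat.card (ConjClasses H) := by
  classical
  have hp' : p.Prime := hp.out
  have hfinG : Finite (V ≃ₗ[ZMod p] V) := finite_gl
  obtain ⟨s, hs, hsn, hsd', hslarge⟩ := Cfsg.Agent.H365.Zsig.large_zsigmondy p (2 * m) hp'.two_le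
    (by omega) (fun h => by omega) (fun h => by omega) (fun h => by omega) (fun h => by omega)
  have hsd : ∀ d, 0 < d → d < 2 * m → ¬ s ∣ p ^ d - 1 := fun d h1 h2 => hsd' d h1 h2
  have hfac : p ^ (2 * m) - 1 = (p ^ m - 1) * (p ^ m + 1) := by
    have h1 : 1 ≤ p ^ m := Nat.one_le_pow _ _ hp'.pos
    obtain ⟨q, hq⟩ : ∃ q, p ^ m = q + 1 := ⟨p ^ m - 1, by omega⟩
    rw [mul_comm 2 m, pow_mul, hq]
    have h2 : (q + 1) ^ 2 = q * (q + 1 + 1) + 1 := by ring
    rw [h2, Nat.add_sub_cancel, Nat.add_sub_cancel]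
  have hcop : s.Coprime (p ^ m - 1) := (Nat.Prime.coprime_iff_not_dvd hs).2 (hsd m (by omega) (by omega))
  have hsD : s ∣ Nat.card H := by
    rw [hfac] at hsn
    exact (hcop.dvd_of_dvd_mul_left hsn).trans hdvd
  have hsl : 2 * m + 1 < s ∨ s ^ 2 ∣ Nat.card H := by
    rcases hslarge with h | h
    · exact Or.inl h
    · right
      rw [hfac] at h
      exact ((Nat.Coprime.pow_left 2 hcop).dvd_of_dvd_mul_left h).trans hdvd
  rw [← hn] at hsn hsd hsl
  rcases ppd_main H hpH (by omega) hs hsn hsd hsl hsD with ⟨A, hAn, hAc, hAle⟩ | ⟨hs2, K, hK, hcard⟩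
  · have hAidx : A.index ≤ finrank (ZMod p) V := by
      have h1 := A.card_mul_index
      rw [← h1, mul_comm] at hAle
      exact Nat.le_of_mul_le_mul_right hAle Nat.card_pos
    refine of_index_le H (by omega) hT (by omega) A ?_ hAidx ?_
    · intro a ha b hb
      exact congrArg Subtype.val ((IsCyclic.commGroup (α := A)).mul_comm ⟨a, ha⟩ ⟨b, hb⟩)
    · exact (LinMain.sq_lt_pow (by omega)).trans_le (Nat.pow_le_pow_left (by omega) _)
  · exfalso
    have hle := card_le H hT
    rw [Hering.card_eq (p := p) (V := V), hn] at hle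
    rw [hn] at hK hcard hs2 hsn
    subst hs2
    have h1 : Nat.card K + 1 ≤ p ^ m := by
      by_contra h2
      push Not at h2
      have h3 : (p ^ m) ^ 2 < (Nat.card K + 1) ^ 2 := Nat.pow_lt_pow_left h2 (by norm_num)
      rw [← pow_mul, mul_comm m 2] at h3
      omega
    have h2 : (p ^ m - 1) * (p ^ m + 1) ≤ (p ^ m - 1) *
        (2 * ((2 * (2 * m) + 1) * (2 * m) * (2 * (2 * m) + 1 + 1))) := by
      rw [← hfac]
      refine hle.trans ?_
      rw [hcard]
      calc 2 * (Nat.card K * ((2 * (2 * m) + 1) * (2 * m)) * (2 * (2 * m) + 1 + 1)) =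
          Nat.card K * (2 * ((2 * (2 * m) + 1) * (2 * m) * (2 * (2 * m) + 1 + 1))) := by ring
        _ ≤ _ := Nat.mul_le_mul (by omega) le_rfl
    have h3 : 0 < p ^ m - 1 := by
      have := Nat.one_lt_pow (n := m) (by omega) hp'.one_lt
      omega
    exact exc_arith hp' hp11 hm hs hsn (Nat.le_of_mul_le_mul_left h2 h3)

/-- Small primes. -/
theorem small (hp7 : p ≤ 7) (H : Subgroup (V ≃ₗ[ZMod p] V)) (hT : TwoOrb H)
    (hn : 2 ≤ finrank (ZMod p) V) : p ≤ 2 * Nat.card (ConjClasses H) := by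
  have hfinG : Finite (V ≃ₗ[ZMod p] V) := finite_gl
  have hp2 := hp.out.two_le
  have hle := card_le H hT
  rw [Hering.card_eq (p := p) (V := V)] at hle
  have h1 : p ^ 2 ≤ p ^ finrank (ZMod p) V := Nat.pow_le_pow_right (by omega) hn
  by_contra hcon
  push Not at hcon
  have h2 : Nat.card (ConjClasses H) ≤ 3 := by omega
  have h3 := card_le_six h2
  have h4 : p ^ 2 ≤ 13 := by omega
  have h5 : p ≤ 3 := by
    by_contra h6
    push Not at h6
    have : 4 ^ 2 ≤ p ^ 2 := Nat.pow_le_pow_left h6 2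
    omega
  have h6 : Nat.card (ConjClasses H) ≤ 2 := by omega
  have h7 := ClassCount.card_le_two h6
  have h8 : p ^ 2 ≤ 5 := by omega
  have h9 : p = 2 := by
    by_contra h10
    have : 3 ^ 2 ≤ p ^ 2 := Nat.pow_le_pow_left (by omega) 2
    omega
  have h10 : 0 < Nat.card (ConjClasses H) := Nat.card_pos
  omega

/-- **Reduction to the plus type.** -/
theorem lin_of_res (h : ResStmt.{u} p) : LinStmt.{u} p := by
  intro V _ _ _ _ H hpH hT hirr hn2
  have hp' : p.Prime := hp.out
  by_cases hp7 : p ≤ 7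
  · exact small hp7 H hT hn2
  have hp11 : 11 ≤ p := by
    by_contra h1
    have h2 : p = 8 ∨ p = 9 ∨ p = 10 := by omega
    rcases h2 with rfl | rfl | rfl
    · revert hp'; norm_num
    · revert hp'; norm_num
    · revert hp'; norm_num
  rcases Nat.lt_or_ge (finrank (ZMod p) V) 3 with h3 | h3
  · exact lin_dim_two H (by omega) hpH hT (by omega)
  obtain ⟨v₁, v₂, hv₁, hv₂, hne, hall⟩ := hT
  by_cases hsw : ∃ c : ZMod p, c ≠ 0 ∧ ∃ h ∈ H, h v₁ = c • v₂
  · obtain ⟨c, hc, hsw⟩ := hsw
    exact swapped H (by omega) hpH hv₁ hv₂ hne hall h3 (fun h => by omega) hc hsw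
  have hns : ∀ c : ZMod p, c ≠ 0 → ∀ h ∈ H, h v₁ ≠ c • v₂ := by
    intro c hc h hh he
    exact hsw ⟨c, hc, h, hh, he⟩
  obtain ⟨hs1, hs2, m, ε, hε, hnm, hd1, hd2⟩ := two_weight (by omega) hn2 H hpH hv₁ hv₂ hne hall hns
  have hpm : 1 ≤ p ^ m := Nat.one_le_pow _ _ hp'.pos
  rcases hε with rfl | rfl
  · refine h V H hpH hp11 hirr m (by omega) hnm v₁ v₂ hv₁ hv₂ hne hall hs1 hs2 ?_ ?_
    · have h4 : ((p ^ m - 1 : ℕ) : ℤ) ∣ ((orb H v₁).ncard : ℤ) := by
        rw [Nat.cast_sub hpm]
        push_cast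
        exact hd1
      exact_mod_cast h4
    · have h4 : ((p ^ m - 1 : ℕ) : ℤ) ∣ ((orb H v₂).ncard : ℤ) := by
        rw [Nat.cast_sub hpm]
        push_cast
        exact hd2
      exact_mod_cast h4
  · refine eps_neg hp11 H hpH ⟨v₁, v₂, hv₁, hv₂, hne, hall⟩ (m := m) (by omega) hnm ?_
    have h4 : ((p ^ m + 1 : ℕ) : ℤ) ∣ ((orb H v₁).ncard : ℤ) := by
      push_cast
      rw [sub_neg_eq_add] at hd1
      exact hd1
    have h5 : (p ^ m + 1) ∣ (orb H v₁).ncard := by exact_mod_cast h4
    exact h5.trans (ncard_orb_dvd H v₁)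

end Cfsg.Agent.H697.Three
end

-- part: H698/MainRes
section
/-!
# The linear statement from the condition on simple groups
-/

set_option autoImplicit false

namespace Cfsg.Agent.H698.MainRes

open Cfsg Module

universe u

theorem sympType : CaseE.SympType.{u} := by
  intro C _ _ A N hAN hA hAc hN r hr hpow hcomm hcent
  have : Fact r.Prime := ⟨hr⟩
  exact H697.SympType.main hAN hA hAc hN hpow (fun x hx y hy => hcomm x hx y hy) hcent

/-- **The remaining linear statement.** -/
theorem res (hF : ∀ (T : Type u) [Group T] [Finite T] [IsSimpleGroup T], ¬ IsMulCommutative T → Fine.{u, u} T)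
    (p : ℕ) [hpf : Fact p.Prime] : H697.Three.ResStmt.{u} p := by
  intro V _ _ _ _ H hpH hp11 hirr m hm hfr v₁ v₂ hv₁ hv₂ hne hall hs₁ hs₂ hd₁ hd₂
  have hp : p.Prime := hpf.out
  have hfinG : Finite (V ≃ₗ[ZMod p] V) := Finite.of_injective (fun g : V ≃ₗ[ZMod p] V => (g : V → V)) DFunLike.coe_injective
  have hfin : Finite H := inferInstance
  have h2 : Orb.TwoOrb H V := by
    refine ⟨v₁, v₂, fun w hw => ?_⟩
    rcases hall w hw with ⟨h, hh, h1⟩ | ⟨h, hh, h1⟩
    · exact Or.inl ⟨⟨h, hh⟩, h1⟩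
    · exact Or.inr ⟨⟨h, hh⟩, h1⟩
  have hpE : ∀ e : V, p • e = 0 := fun e => by
    rw [← Nat.cast_smul_eq_nsmul (ZMod p), CharP.cast_eq_zero, zero_smul]
  have hE : Nat.card V = p ^ (2 * m) := by
    rw [Module.natCard_eq_pow_finrank (K := ZMod p), Nat.card_zmod, hfr]
  have hfs : FaithfulSMul H V := ⟨fun {x y} h => Subtype.ext (LinearEquiv.ext fun v => h v)⟩
  by_cases hI : Idem.Imprim H V
  · exact H697.ThreeImp.main hpE hpH (by rw [hE]; exact Nat.pow_le_pow_right hp.pos (by omega)) h2 hI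
  · by_cases hK : ∃ K : Subgroup H, IsComponent K
    · obtain ⟨K, hK⟩ := hK
      exact CaseS.main hF h2 hp hp11 hpE hpH (by omega) hE hI hK
    · push Not at hK
      exact CaseE.main sympType h2 hp hp11 hpE hpH (by omega) ⟨m, rfl⟩ hE hI hK

/-- **S4881 from the condition on simple groups.** -/
theorem final (hF : ∀ (T : Type u) [Group T] [Finite T] [IsSimpleGroup T], ¬ IsMulCommutative T → Fine.{u, u} T)
    {G : Type u} [Group G] [Finite G] (p : ℕ) [Fact p.Prime]
    (hsolv : Cfsg.IsPSolvable p G)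
    (h3 : Nat.card {c : ConjClasses G // ∃ g : G, ConjClasses.mk g = c ∧ ∃ k : ℕ, orderOf g = p ^ k} = 3) :
    p - 1 ≤ 2 * Nat.card {c : ConjClasses G // ∃ g : G, ConjClasses.mk g = c ∧ ¬ p ∣ orderOf g} ∧
      (2 * Nat.card {c : ConjClasses G // ∃ g : G, ConjClasses.mk g = c ∧ ¬ p ∣ orderOf g} = p - 1 ↔
        (p ≠ 2 ∧ 2 * Nat.card G = p * (p - 1) ∧
          ∃ f : G →* ↥(Cfsg.affineGroup (ZMod p)), Function.Injective f)) :=
  H697.Three.final (H697.Three.lin_of_res (res hF p)) hsolv h3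

end Cfsg.Agent.H698.MainRes
end
end
end
end
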