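import Cfsg.Agent.S0215
import Cfsg.Agent.S1180
import Cfsg.Agent.Lib.Cores
import Cfsg.Prelude.Def_CaseTheorems
set_option linter.all false

/-!
# Glauberman's Z*-theorem in the form `G = C(z) O(G)` (helper315)

* `sup_eq_top_of_isolated`: an isolated involution `z` satisfies `C(z) O(G) = G`.
* `exists_comm_conj`: an involution `z` with `C(z) O(G) ≠ G` commutes with one of its conjugates `≠ z`.
-/

set_option autoImplicit false

namespace Cfsg.Agent.H315.ZStarTop

open Subgroup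

variable {G : Type*} [Group G]

/-- two involutions in the same coset of a normal subgroup of odd order are conjugate under it -/
theorem conj_of_comm_mem [Finite G] {N : Subgroup G} (hodd : Odd (Nat.card N)) {z g : G}
    (hz : z * z = 1) (h : z * g * z⁻¹ * g⁻¹ ∈ N) : ∃ d ∈ N, d⁻¹ * g ∈ centralizer ({z} : Set G) := by
  have hzi : z⁻¹ = z := inv_eq_of_mul_eq_one_left hz
  obtain ⟨w, hw⟩ : ∃ w, w = z * g * z⁻¹ * g⁻¹ := ⟨_, rfl⟩
  rw [← hw] at h
  have hwo : Odd (orderOf w) := by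
    have h1 : orderOf (⟨w, h⟩ : N) = orderOf w := Subgroup.orderOf_mk w h
    rw [← h1]
    exact hodd.of_dvd_nat (orderOf_dvd_natCard _)
  -- `z w z = w⁻¹`
  have hzw : z * w * z = w⁻¹ := by
    rw [hw, mul_inv_rev, mul_inv_rev, mul_inv_rev, inv_inv, inv_inv, hzi]
    calc z * (z * g * z * g⁻¹) * z = (z * z) * (g * z * g⁻¹ * z) := by group
      _ = g * (z * (g⁻¹ * z)) := by rw [hz]; group
  obtain ⟨k, hk⟩ := hwo
  have hw1 : w ^ (2 * k + 1) = 1 := by rw [← hk, pow_orderOf_eq_one]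
  -- `y = w ^ (k + 1)` has `y * y = w`, `z y z = y⁻¹`
  have hyy : w ^ (k + 1) * w ^ (k + 1) = w := by
    rw [← pow_add, show k + 1 + (k + 1) = 2 * k + 1 + 1 by ring, pow_succ, hw1, one_mul]
  have hzy : z * w ^ (k + 1) * z = (w ^ (k + 1))⁻¹ := by
    have h1 : ∀ n : ℕ, z * w ^ n * z = (w ^ n)⁻¹ := by
      intro n
      induction n with
      | zero => rw [pow_zero, mul_one, hz, inv_one]
      | succ n ih =>
        calc z * w ^ (n + 1) * z = z * w ^ n * (z * z) * w * z := by rw [hz, pow_succ]; group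
          _ = (z * w ^ n * z) * (z * w * z) := by group
          _ = (w ^ n)⁻¹ * w⁻¹ := by rw [ih, hzw]
          _ = (w ^ (n + 1))⁻¹ := by rw [← mul_inv_rev, ← pow_succ']
    exact h1 _
  -- `g z g⁻¹ = z w = y⁻¹ z y`
  have hgz : g * z * g⁻¹ = z * w := by
    rw [hw, hzi]
    calc g * z * g⁻¹ = (z * z) * g * z * g⁻¹ := by rw [hz, one_mul]
      _ = z * (z * g * z * g⁻¹) := by group
  refine ⟨(w ^ (k + 1))⁻¹, N.inv_mem (N.pow_mem h _), ?_⟩
  rw [inv_inv, mem_centralizer_singleton_iff]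
  have h2 : z * w = (w ^ (k + 1))⁻¹ * z * w ^ (k + 1) := by
    calc z * w = z * (w ^ (k + 1) * w ^ (k + 1)) := by rw [hyy]
      _ = z * w ^ (k + 1) * (z * z) * w ^ (k + 1) := by rw [hz]; group
      _ = (z * w ^ (k + 1) * z) * z * w ^ (k + 1) := by group
      _ = (w ^ (k + 1))⁻¹ * z * w ^ (k + 1) := by rw [hzy]
  calc w ^ (k + 1) * g * z = w ^ (k + 1) * (g * z * g⁻¹) * g := by group
    _ = w ^ (k + 1) * ((w ^ (k + 1))⁻¹ * z * w ^ (k + 1)) * g := by rw [hgz, h2]
    _ = z * (w ^ (k + 1) * g) := by group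

/-- **Z\***: an isolated involution `z` satisfies `G = C(z) O(G)`. -/
theorem sup_eq_top_of_isolated [Finite G] {z : G} (h : Cfsg.IsIsolatedInvolution z) :
    centralizer ({z} : Set G) ⊔ Cfsg.oddCore G = ⊤ := by
  have hf : Fact (Nat.Prime 2) := ⟨Nat.prime_two⟩
  have hzz : z * z = 1 := by rw [← pow_two, ← h.1, pow_orderOf_eq_one]
  have hzp : IsPGroup 2 (zpowers z) := by
    apply IsPGroup.of_card (n := 1)
    rw [Nat.card_zpowers, h.1, pow_one]
  obtain ⟨P, hP⟩ := hzp.exists_le_sylow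
  have hzP : z ∈ P := hP (mem_zpowers z)
  obtain ⟨N, hN, hodd, hNz⟩ := Cfsg.Agent.S0215.result P z h.1 hzP
    (fun g hg => Cfsg.Agent.S1180.eq_of_conj_mem_isPGroup z h P P.isPGroup' hzP g hg)
  have hle : N ≤ Cfsg.oddCore G := Cfsg.Agent.Lib.Cores.le_pPrimeCore hN (Nat.coprime_two_right.2 hodd)
  rw [eq_top_iff]
  intro g _
  obtain ⟨d, hd, hc⟩ := conj_of_comm_mem hodd hzz (hNz g)
  have h1 : g = d * (d⁻¹ * g) := by group
  rw [h1]
  exact mul_mem (mem_sup_right (hle hd)) (mem_sup_left hc)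

/-- an involution `z` with `C(z) O(G) ≠ G` commutes with a conjugate `≠ z` -/
theorem exists_comm_conj [Finite G] {z : G} (hz : orderOf z = 2)
    (h : centralizer ({z} : Set G) ⊔ Cfsg.oddCore G ≠ ⊤) :
    ∃ g, (g * z * g⁻¹) * z = z * (g * z * g⁻¹) ∧ g * z * g⁻¹ ≠ z := by
  by_contra hcon
  push Not at hcon
  exact h (sup_eq_top_of_isolated ⟨hz, fun g hg => hcon g hg.symm⟩)

end Cfsg.Agent.H315.ZStarTop
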