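import Cfsg.Agent.H981.Inv.ThData
import Mathlib
import Cfsg.Agent.H376.SpEmb
import Cfsg.Agent.H514.DP.Cyc_m3
import Cfsg.Agent.H166.Og.XCore
import Cfsg.Agent.LieClassical.OrthForms
import Cfsg.Agent.LieClassical.OrthSimple
import Cfsg.Prelude.Def_LieTypeChar
import Cfsg.Agent.S0292
import Cfsg.Agent.H16.Og.Seven
import Cfsg.Agent.H990.TC.OrthCent
import Cfsg.Agent.H122.OrthMinus
import Cfsg.Agent.H955.QMinus
import Cfsg.Agent.H749.BlockOrth_m3
import Cfsg.Agent.S0287
import Cfsg.Agent.MonsterX.CertTab_m3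
import Cfsg.Agent.MonsterX.ProgEqBase_m3
import Cfsg.Agent.H773.Pw.Extra
import Cfsg.Agent.H839.SeventeenMain_m3
import Cfsg.Agent.H836.Main
import Cfsg.Agent.S1697
import Cfsg.Agent.Lib.PermNetFast
import Cfsg.Agent.H604.Cop.Conway
import Cfsg.Agent.H444.CoThirteen
import Cfsg.Agent.H847.Irr
import Cfsg.Agent.H122.OrthIso
import Cfsg.Agent.S0293
import Cfsg.Agent.S0294
import Cfsg.Agent.H105.Og.Defs
import Cfsg.Agent.H105.Og.Arith
import Cfsg.Agent.H514.DP.SLRes
import Cfsg.Agent.Lib.RingK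
import Cfsg.Agent.FastGrp
import Cfsg.Agent.Prune
set_option linter.all false

section
prune_inst 0x7fffa9f9bbad71dfffff7e3da698edfc33831fffa4dff94bbfe0299f0bdf038009c173ad09e000fc0ef6c21410a87843f9ffdeffe06bf87ffffd1ff45ffbee5ff5f7bd08119488340f3c2ff683f0678e7f3fffffffffffffffffffffffffffbeffbfffffffff

-- part: H315/PwThData
section
set_option linter.all false

/-!
# Products of two elements of order 7, resp. 13, of the Thompson group of order 19: kernel checks (helper315, for S2454)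
-/

set_option autoImplicit false

namespace Cfsg.Agent.H315.PwThData

open Cfsg.Agent.Th Cfsg.Agent.Th.MatEngine Cfsg.Agent.Th.Words248 Cfsg.Agent.Th.Gen248
  Cfsg.Agent.ThType.SevenBase Cfsg.Agent.H478.RadThMat Cfsg.Agent.H478.RadThA Cfsg.Agent.H478.RadThB
  Cfsg.Agent.H981.InvThData

set_option maxRecDepth 100000
set_option maxHeartbeats 400000

/-- a conjugate of `b` -/
def wt : Wd := .mul (.mul (.inv (.mul (.g .u) (.g .b))) (.g .b)) (.mul (.g .u) (.g .b))
/-- a conjugate of `b` -/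
def wv : Wd := .mul (.mul (.mul (.g .s) (.g .u)) (.g .b)) (.inv (.mul (.g .s) (.g .u)))

theorem c7t : Nat.beq (powB (evN false (.mul wq wt)) [false, false, true, true]) idm = true := by decide +kernel
theorem e7t : (evG (.mul wq wt)) ^ 19 = 1 := pow_eq_one (rep_word _) 19 [false, false, true, true] rfl c7t

theorem c13t : Nat.beq (powB (evN false (.mul (.mul wq (.g .d)) wv)) [false, false, true, true]) idm = true := by
  decide +kernel
theorem e13t : (evG (.mul (.mul wq (.g .d)) wv)) ^ 19 = 1 :=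
  pow_eq_one (rep_word _) 19 [false, false, true, true] rfl c13t

end Cfsg.Agent.H315.PwThData
end

-- part: H16/DP/Win
section
prune_inst 0x40644520800000001c008441003cc3ca000180004b000000040a000781ac0048400e21b6b0210010c6104448380040001000a0004000000e000000011800800000140420400008000010000000000000000000000000000000000000000000000000000
set_option linter.all false
open scoped Cfsg.Agent.FastGrp

-- part: H16/DP/Field
section
/-!
# Generators of finite fields and their centralizers (helper16, for S2454)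

* `adjoin_eq_top` : an element of `K` whose order divides no `q ^ j - 1`, `0 < j < [K : F]`, generates `K` over `F`;
* `exists_of_comm` : a matrix commuting with the multiplication by a generator is a multiplication.
-/

set_option autoImplicit false

namespace Cfsg.Agent.H16.DP

open Matrix Module

section Field

variable {F K : Type*} [Field F] [Field K] [Algebra F K]

/-- an element whose order divides no `q ^ j - 1`, `0 < j < [K : F]`, generates the field. -/
theorem adjoin_eq_top [Finite F] [Finite K] {ζ : K} (h0 : ζ ≠ 0)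
    (h : ∀ j, 0 < j → j < finrank F K → ¬ orderOf ζ ∣ Nat.card F ^ j - 1) : Algebra.adjoin F {ζ} = ⊤ := by
  classical
  set A := Algebra.adjoin F {ζ} with hA
  have hζ : ζ ∈ A := Algebra.subset_adjoin rfl
  have hfA : Finite A := inferInstance
  have : FiniteDimensional F K := Module.Finite.of_finite
  let _ : Fintype A := Fintype.ofFinite A
  let iF : Field A := Fintype.fieldOfDomain A
  have hcard : Nat.card A = Nat.card F ^ finrank F A := by
    exact Module.natCard_eq_pow_finrank (K := F) (V := A)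
  let z : A := ⟨ζ, hζ⟩
  have hz0 : z ≠ 0 := fun h1 => h0 (congrArg Subtype.val h1)
  have h1 : z ^ (Nat.card A - 1) = 1 := by
    rw [Nat.card_eq_fintype_card]
    exact FiniteField.pow_card_sub_one_eq_one z hz0
  have h2 : orderOf ζ ∣ Nat.card F ^ finrank F A - 1 := by
    apply orderOf_dvd_of_pow_eq_one
    rw [← hcard]
    exact congrArg Subtype.val h1
  have hpos : 0 < finrank F A := finrank_pos
  have hle : finrank F A ≤ finrank F K := Submodule.finrank_le (Subalgebra.toSubmodule A)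
  rcases hle.lt_or_eq with h3 | h3
  · exact absurd h2 (h _ hpos h3)
  · have h4 : Subalgebra.toSubmodule A = ⊤ := Submodule.eq_top_of_finrank_eq h3
    exact Algebra.toSubmodule_eq_top.1 h4

/-- a matrix commuting with the multiplication by a generator is a multiplication. -/
theorem exists_of_comm {κ : Type*} [Fintype κ] [DecidableEq κ] (β : Basis κ F K) {ζ : K}
    (h : Algebra.adjoin F {ζ} = ⊤) {M : Matrix κ κ F}
    (hM : M * Algebra.leftMulMatrix β ζ = Algebra.leftMulMatrix β ζ * M) : ∃ x : K, M = Algebra.leftMulMatrix β x := by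
  let T : K →ₗ[F] K := Matrix.toLin β β M
  have h1 : ∀ v, T (ζ * v) = ζ * T v := by
    intro v
    have h2 := congrArg (fun N => Matrix.toLin β β N v) hM
    simp only [Matrix.toLin_mul β β β, LinearMap.comp_apply] at h2
    have h3 : ∀ w, Matrix.toLin β β (Algebra.leftMulMatrix β ζ) w = ζ * w := by
      intro w
      rw [Algebra.leftMulMatrix_apply, Matrix.toLin_toMatrix]
      rfl
    rw [h3, h3] at h2
    exact h2
  have h2 : ∀ x : K, ∀ v, T (x * v) = x * T v := by
    intro x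
    have hx : x ∈ Algebra.adjoin F {ζ} := by rw [h]; trivial
    induction hx using Algebra.adjoin_induction with
    | mem x hx =>
      rw [Set.mem_singleton_iff] at hx
      subst hx
      exact h1
    | algebraMap r =>
      intro v
      rw [← Algebra.smul_def, map_smul, Algebra.smul_def]
    | add x y _ _ hx hy => intro v; rw [add_mul, map_add, hx, hy, add_mul]
    | mul x y _ _ hx hy => intro v; rw [mul_assoc, hx, hy, mul_assoc]
  refine ⟨T 1, ?_⟩
  have h3 : T = LinearMap.mulLeft F (T 1) := by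
    ext v
    have := h2 v 1
    rw [mul_one] at this
    rw [this, LinearMap.mulLeft_apply, mul_comm]
  have h4 : Matrix.toLin β β M = Matrix.toLin β β (Algebra.leftMulMatrix β (T 1)) := by
    rw [Algebra.leftMulMatrix_apply, Matrix.toLin_toMatrix]
    exact h3
  exact (Matrix.toLin β β).injective h4

/-- the power of the Frobenius automorphism -/
theorem exists_frob [Fintype F] [Fintype K] (n : ℕ) : ∃ σ : K →ₐ[F] K, ∀ x, σ x = x ^ (Fintype.card F ^ n) := by
  refine ⟨FiniteField.frobeniusAlgHom F K ^ n, fun x => ?_⟩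
  induction n generalizing x with
  | zero => simp
  | succ n ih =>
    rw [pow_succ', AlgHom.mul_apply, ih, FiniteField.coe_frobeniusAlgHom]
    show (x ^ Fintype.card F ^ n) ^ Fintype.card F = _
    rw [← pow_mul, ← pow_succ]

/-- the number of roots of unity -/
theorem card_pow_eq_one [Finite K] (m : ℕ) (hm : 0 < m) : Nat.card {x : K // x ^ m = 1} ≤ m := by
  classical
  have := Fintype.ofFinite K
  rw [Nat.card_eq_fintype_card, Fintype.card_subtype]
  have h1 : (Finset.univ.filter fun x : K => x ^ m = 1) ⊆ (Polynomial.nthRoots m (1 : K)).toFinset := by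
    intro x hx
    rw [Finset.mem_filter] at hx
    rw [Multiset.mem_toFinset, Polynomial.mem_nthRoots hm]
    exact hx.2
  exact (Finset.card_le_card h1).trans ((Multiset.toFinset_card_le _).trans (Polynomial.card_nthRoots m 1))

end Field

end Cfsg.Agent.H16.DP
end

-- part: H16/DP/SpCent
section
/-!
# Centralizers of generators in symplectic groups (helper16, for S2454)
-/

set_option autoImplicit false

namespace Cfsg.Agent.H16.DP

open Matrix Module Cfsg.Agent.H376

section Gen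

variable {F K : Type*} [Field F] [Field K] [Algebra F K] {ι : Type*} [Fintype ι] [DecidableEq ι]

/-- the adjoint for the standard symplectic form -/
def adj (N : Matrix (ι ⊕ ι) (ι ⊕ ι) F) : Matrix (ι ⊕ ι) (ι ⊕ ι) F := -J ι F * Nᵀ * J ι F

theorem J_mul_J : J ι F * J ι F = -1 := J_squared ι F

theorem adj_mul (M N : Matrix (ι ⊕ ι) (ι ⊕ ι) F) : adj (M * N) = adj N * adj M := by
  unfold adj
  rw [Matrix.transpose_mul]
  have h : J ι F * -J ι F = 1 := by rw [mul_neg, J_mul_J, neg_neg]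
  calc -J ι F * (Nᵀ * Mᵀ) * J ι F = -J ι F * Nᵀ * (J ι F * -J ι F) * Mᵀ * J ι F := by
        rw [h]; simp only [mul_assoc, one_mul]
    _ = _ := by simp only [mul_assoc]

theorem adj_add (M N : Matrix (ι ⊕ ι) (ι ⊕ ι) F) : adj (M + N) = adj M + adj N := by
  unfold adj
  rw [Matrix.transpose_add, mul_add, add_mul]

theorem adj_smul (r : F) (M : Matrix (ι ⊕ ι) (ι ⊕ ι) F) : adj (r • M) = r • adj M := by
  unfold adj
  rw [Matrix.transpose_smul, mul_smul_comm, smul_mul_assoc]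

theorem adj_one : adj (1 : Matrix (ι ⊕ ι) (ι ⊕ ι) F) = 1 := by
  unfold adj
  rw [Matrix.transpose_one, mul_one, neg_mul, J_mul_J, neg_neg]

theorem inv_eq_adj (M : symplecticGroup ι F) : (M⁻¹).1 = adj M.1 := SymplecticGroup.coe_inv M

theorem mul_adj (M : symplecticGroup ι F) : M.1 * adj M.1 = 1 := by
  rw [← inv_eq_adj]
  exact congrArg Subtype.val (mul_inv_cancel M)

/-- elements of `Sp` given by the multiplication by a generator of norm one. -/
theorem card_cent_gen [Finite F] [Finite K] (β : Basis (ι ⊕ ι) F K)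
    {U V : Matrix (ι ⊕ ι) (ι ⊕ ι) F} (hUV : U * V = 1)
    {ζ : K} (h : Algebra.adjoin F {ζ} = ⊤) {Q : ℕ} (σ : K →ₐ[F] K) (hσ : ∀ x, σ x = x ^ Q) (hζ : ζ ^ (Q + 1) = 1)
    (M : symplecticGroup ι F) (hM : M.1 = U * Algebra.leftMulMatrix β ζ * V) :
    Nat.card (Subgroup.centralizer ({M} : Set (symplecticGroup ι F))) ≤ Q + 1 := by
  have hVU : V * U = 1 := mul_eq_one_comm.1 hUV
  let Ψ : K → Matrix (ι ⊕ ι) (ι ⊕ ι) F := fun x => U * Algebra.leftMulMatrix β x * V
  have hmul : ∀ x y, Ψ (x * y) = Ψ x * Ψ y := by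
    intro x y
    show U * Algebra.leftMulMatrix β (x * y) * V = U * Algebra.leftMulMatrix β x * V * (U * Algebra.leftMulMatrix β y * V)
    calc U * Algebra.leftMulMatrix β (x * y) * V =
        U * Algebra.leftMulMatrix β x * (1 * Algebra.leftMulMatrix β y) * V := by
          rw [map_mul, one_mul]; simp only [mul_assoc]
      _ = _ := by rw [← hVU]; simp only [mul_assoc]
  have hone : Ψ 1 = 1 := by
    show U * Algebra.leftMulMatrix β 1 * V = 1
    rw [map_one, mul_one, hUV]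
  have hadd : ∀ x y, Ψ (x + y) = Ψ x + Ψ y := by
    intro x y
    show U * Algebra.leftMulMatrix β (x + y) * V = _
    rw [map_add, mul_add, add_mul]
  have hsc : ∀ (r : F), Ψ (algebraMap F K r) = r • 1 := by
    intro r
    show U * Algebra.leftMulMatrix β (algebraMap F K r) * V = _
    rw [AlgHom.commutes, Algebra.algebraMap_eq_smul_one, mul_smul_comm, mul_one, smul_mul_assoc, hUV]
  have hinj : ∀ x y, Ψ x = Ψ y → x = y := by
    intro x y hxy
    apply Algebra.leftMulMatrix_injective β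
    have h1 : V * Ψ x * U = V * Ψ y * U := by rw [hxy]
    have h2 : ∀ z, V * Ψ z * U = Algebra.leftMulMatrix β z := by
      intro z
      show V * (U * Algebra.leftMulMatrix β z * V) * U = _
      calc V * (U * Algebra.leftMulMatrix β z * V) * U = (V * U) * Algebra.leftMulMatrix β z * (V * U) := by
            simp only [mul_assoc]
        _ = _ := by rw [hVU, one_mul, mul_one]
    rw [h2, h2] at h1
    exact h1
  have hadj : ∀ x, adj (Ψ x) = Ψ (x ^ Q) := by
    intro x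
    have hx : x ∈ Algebra.adjoin F {ζ} := by rw [h]; trivial
    induction hx using Algebra.adjoin_induction with
    | mem x hx =>
      rw [Set.mem_singleton_iff] at hx
      subst hx
      have h1 : M.1 = Ψ x := hM
      have h2 : Ψ x * Ψ (x ^ Q) = 1 := by
        rw [← hmul, ← pow_succ', hζ, hone]
      have h3 : adj M.1 * M.1 = 1 := by
        rw [← inv_eq_adj]
        exact congrArg Subtype.val (inv_mul_cancel M)
      rw [← h1] at h2 ⊢
      calc adj M.1 = adj M.1 * (M.1 * Ψ (x ^ Q)) := by rw [h2, mul_one]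
        _ = _ := by rw [← mul_assoc, h3, one_mul]
    | algebraMap r =>
      rw [← hσ, AlgHom.commutes, hsc, adj_smul, adj_one]
    | add x y _ _ hx hy =>
      rw [hadd, adj_add, hx, hy, ← hadd, ← hσ, ← hσ, ← hσ, map_add]
    | mul x y _ _ hx hy =>
      rw [hmul, adj_mul, hx, hy, ← hmul, mul_pow, mul_comm]
  have hex : ∀ g : Subgroup.centralizer ({M} : Set (symplecticGroup ι F)), ∃ x : K, g.1.1 = Ψ x ∧ x ^ (Q + 1) = 1 := by
    rintro ⟨g, hg⟩
    rw [Subgroup.mem_centralizer_singleton_iff] at hg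
    have h1 : g.1 * M.1 = M.1 * g.1 := congrArg Subtype.val hg
    have h2 : (V * g.1 * U) * Algebra.leftMulMatrix β ζ = Algebra.leftMulMatrix β ζ * (V * g.1 * U) := by
      have h3 : V * (g.1 * M.1) * U = V * (M.1 * g.1) * U := by rw [h1]
      rw [hM] at h3
      calc (V * g.1 * U) * Algebra.leftMulMatrix β ζ = (V * g.1 * U) * Algebra.leftMulMatrix β ζ * (V * U) := by
            rw [hVU, mul_one]
        _ = V * (g.1 * (U * Algebra.leftMulMatrix β ζ * V)) * U := by simp only [mul_assoc]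
        _ = V * (U * Algebra.leftMulMatrix β ζ * V * g.1) * U := h3
        _ = (V * U) * Algebra.leftMulMatrix β ζ * (V * g.1 * U) := by simp only [mul_assoc]
        _ = _ := by rw [hVU, one_mul]
    obtain ⟨x, hx⟩ := exists_of_comm β h h2
    have h3 : g.1 = Ψ x := by
      show g.1 = U * Algebra.leftMulMatrix β x * V
      rw [← hx]
      calc g.1 = (U * V) * g.1 * (U * V) := by rw [hUV, one_mul, mul_one]
        _ = _ := by simp only [mul_assoc]
    refine ⟨x, h3, ?_⟩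
    apply hinj
    rw [hone, pow_succ', hmul, ← hadj]
    show Ψ x * adj (Ψ x) = 1
    rw [← h3]
    exact mul_adj g
  choose f hf1 hf2 using hex
  refine (Nat.card_le_card_of_injective (fun g => (⟨f g, hf2 g⟩ : {x : K // x ^ (Q + 1) = 1})) ?_).trans
    (card_pow_eq_one (Q + 1) (Nat.succ_pos Q))
  intro g g' hgg
  have h1 : f g = f g' := congrArg Subtype.val hgg
  apply Subtype.ext
  apply Subtype.ext
  rw [hf1, hf1, h1]

end Gen

section Tower

variable {F E K : Type*} [Field F] [Field E] [Field K] [Algebra F E] [Algebra F K] [Algebra E K] [IsScalarTower F E K]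
  {ι : Type*} [Fintype ι] [DecidableEq ι]

/-- the index equivalence -/
def eqv (ι : Type*) : ι × Fin 2 ≃ ι ⊕ ι where
  toFun x := if x.2 = 0 then Sum.inl x.1 else Sum.inr x.1
  invFun y := Sum.elim (fun i => (i, 0)) (fun i => (i, 1)) y
  left_inv := by
    rintro ⟨i, j⟩
    fin_cases j <;> rfl
  right_inv := by
    rintro (i | i) <;> rfl

/-- the tower basis -/
noncomputable def tb (b : Basis ι F E) (c : Basis (Fin 2) E K) : Basis (ι ⊕ ι) F K := (b.smulTower c).reindex (eqv ι)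

theorem leftMulMatrix_tb (b : Basis ι F E) (c : Basis (Fin 2) E K) (x : K) :
    Algebra.leftMulMatrix (tb b c) x =
      fromBlocks (Algebra.leftMulMatrix b (Algebra.leftMulMatrix c x 0 0)) (Algebra.leftMulMatrix b (Algebra.leftMulMatrix c x 0 1))
        (Algebra.leftMulMatrix b (Algebra.leftMulMatrix c x 1 0)) (Algebra.leftMulMatrix b (Algebra.leftMulMatrix c x 1 1)) := by
  have h1 : ∀ i j, Algebra.leftMulMatrix (tb b c) x i j =
      Algebra.leftMulMatrix (b.smulTower c) x ((eqv ι).symm i) ((eqv ι).symm j) := by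
    intro i j
    rw [Algebra.leftMulMatrix_eq_repr_mul, Algebra.leftMulMatrix_eq_repr_mul]
    unfold tb
    rw [Basis.reindex_apply, Basis.repr_reindex_apply]
  ext i j
  rw [h1, Algebra.smulTower_leftMulMatrix]
  rcases i with i | i <;> rcases j with j | j <;> rfl

variable [Algebra.IsSeparable F E] [FiniteDimensional F E]

theorem card_cent_ofSLTwo [Finite F] [Finite K] (b : Basis ι F E) (c : Basis (Fin 2) E K) (A : _root_.Matrix.SpecialLinearGroup (Fin 2) E)
    {ζ : K} (hA : A.1 = Algebra.leftMulMatrix c ζ) (h : Algebra.adjoin F {ζ} = ⊤) {Q : ℕ} (σ : K →ₐ[F] K)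
    (hσ : ∀ x, σ x = x ^ Q) (hζ : ζ ^ (Q + 1) = 1) :
    Nat.card (Subgroup.centralizer ({SpEmb.ofSLTwo (F := F) b A} : Set (symplecticGroup ι F))) ≤ Q + 1 := by
  set T := Algebra.traceMatrix F b with hT
  have hu := SpEmb.isUnit_trace (F := F) b
  have hUV : (fromBlocks 1 0 0 T : Matrix (ι ⊕ ι) (ι ⊕ ι) F) * fromBlocks 1 0 0 T⁻¹ = 1 := by
    rw [fromBlocks_multiply]
    simp [Matrix.mul_nonsing_inv _ hu, hT]
  refine card_cent_gen (tb b c) hUV h σ hσ hζ _ ?_
  rw [leftMulMatrix_tb, fromBlocks_multiply, fromBlocks_multiply]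
  simp only [one_mul, zero_mul, mul_zero, add_zero, zero_add, mul_one]
  have h2 : T * Algebra.leftMulMatrix b (Algebra.leftMulMatrix c ζ 1 1) * T⁻¹ =
      (Algebra.leftMulMatrix b (Algebra.leftMulMatrix c ζ 1 1))ᵀ := by
    rw [hT, SpEmb.trace_mul, mul_assoc, Matrix.mul_nonsing_inv _ hu, mul_one]
  rw [h2, ← hA]
  rfl

/-- `M - 1` is invertible. -/
theorem exists_inv_sub_one (b : Basis ι F E) (c : Basis (Fin 2) E K) (A : _root_.Matrix.SpecialLinearGroup (Fin 2) E)
    {ζ : K} (hA : A.1 = Algebra.leftMulMatrix c ζ) (h1 : ζ ≠ 1) :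
    ∃ N : Matrix (ι ⊕ ι) (ι ⊕ ι) F, N * ((SpEmb.ofSLTwo (F := F) b A).1 - 1) = 1 ∧ ((SpEmb.ofSLTwo (F := F) b A).1 - 1) * N = 1 := by
  set T := Algebra.traceMatrix F b with hT
  have hu := SpEmb.isUnit_trace (F := F) b
  obtain ⟨U, V, hUV, hM⟩ : ∃ U V : Matrix (ι ⊕ ι) (ι ⊕ ι) F, U * V = 1 ∧
      (SpEmb.ofSLTwo (F := F) b A).1 = U * Algebra.leftMulMatrix (tb b c) ζ * V := by
    have hUV : (fromBlocks 1 0 0 T : Matrix (ι ⊕ ι) (ι ⊕ ι) F) * fromBlocks 1 0 0 T⁻¹ = 1 := by
      rw [fromBlocks_multiply]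
      simp [Matrix.mul_nonsing_inv _ hu, hT]
    refine ⟨_, _, hUV, ?_⟩
    rw [leftMulMatrix_tb, fromBlocks_multiply, fromBlocks_multiply]
    simp only [one_mul, zero_mul, mul_zero, add_zero, zero_add, mul_one]
    have h2 : T * Algebra.leftMulMatrix b (Algebra.leftMulMatrix c ζ 1 1) * T⁻¹ =
        (Algebra.leftMulMatrix b (Algebra.leftMulMatrix c ζ 1 1))ᵀ := by
      rw [hT, SpEmb.trace_mul, mul_assoc, Matrix.mul_nonsing_inv _ hu, mul_one]
    rw [h2, ← hA]
    rfl
  have hVU : V * U = 1 := mul_eq_one_comm.1 hUV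
  have h2 : (SpEmb.ofSLTwo (F := F) b A).1 - 1 = U * Algebra.leftMulMatrix (tb b c) (ζ - 1) * V := by
    rw [hM, map_sub, map_one, mul_sub, sub_mul, mul_one, hUV]
  have h3 : ζ - 1 ≠ 0 := sub_ne_zero.2 h1
  refine ⟨U * Algebra.leftMulMatrix (tb b c) (ζ - 1)⁻¹ * V, ?_, ?_⟩
  · rw [h2]
    calc U * Algebra.leftMulMatrix (tb b c) (ζ - 1)⁻¹ * V * (U * Algebra.leftMulMatrix (tb b c) (ζ - 1) * V)
        = U * Algebra.leftMulMatrix (tb b c) (ζ - 1)⁻¹ * (V * U) * Algebra.leftMulMatrix (tb b c) (ζ - 1) * V := by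
          simp only [mul_assoc]
      _ = U * (Algebra.leftMulMatrix (tb b c) (ζ - 1)⁻¹ * Algebra.leftMulMatrix (tb b c) (ζ - 1)) * V := by
          rw [hVU, mul_one]; simp only [mul_assoc]
      _ = 1 := by rw [← map_mul, inv_mul_cancel₀ h3, map_one, mul_one, hUV]
  · rw [h2]
    calc U * Algebra.leftMulMatrix (tb b c) (ζ - 1) * V * (U * Algebra.leftMulMatrix (tb b c) (ζ - 1)⁻¹ * V)
        = U * Algebra.leftMulMatrix (tb b c) (ζ - 1) * (V * U) * Algebra.leftMulMatrix (tb b c) (ζ - 1)⁻¹ * V := by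
          simp only [mul_assoc]
      _ = U * (Algebra.leftMulMatrix (tb b c) (ζ - 1) * Algebra.leftMulMatrix (tb b c) (ζ - 1)⁻¹) * V := by
          rw [hVU, mul_one]; simp only [mul_assoc]
      _ = 1 := by rw [← map_mul, mul_inv_cancel₀ h3, map_one, mul_one, hUV]

end Tower

section Levi

variable {F E : Type*} [Field F] [Field E] [Algebra F E] {ι : Type*} [Fintype ι] [DecidableEq ι]

/-- the element of `GL` given by a non-zero element of the field -/
noncomputable def mulGL (b : Basis ι F E) {l : E} (hl : l ≠ 0) : GL ι F :=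
  ⟨Algebra.leftMulMatrix b l, Algebra.leftMulMatrix b l⁻¹, by rw [← map_mul, mul_inv_cancel₀ hl, map_one],
    by rw [← map_mul, inv_mul_cancel₀ hl, map_one]⟩

/-- polynomials and intertwiners -/
theorem intertwine {X Y B : Matrix ι ι F} (h : B * Y = X * B) (f : Polynomial F) :
    B * Polynomial.aeval Y f = Polynomial.aeval X f * B := by
  have hp : ∀ n : ℕ, B * Y ^ n = X ^ n * B := by
    intro n
    induction n with
    | zero => simp
    | succ n ih => rw [pow_succ, ← mul_assoc, ih, mul_assoc, h, ← mul_assoc, ← pow_succ]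
  induction f using Polynomial.induction_on' with
  | add p q hp hq => rw [map_add, map_add, mul_add, add_mul, hp, hq]
  | monomial n a =>
    rw [Polynomial.aeval_monomial, Polynomial.aeval_monomial, Algebra.algebraMap_eq_smul_one,
      smul_mul_assoc, smul_mul_assoc, one_mul, one_mul, mul_smul_comm, smul_mul_assoc, hp]

/-- the Siegel Levi subgroup -/
theorem card_cent_levi [Finite F] [Finite E] (b : Basis ι F E) {l : E} (hl : l ≠ 0) (h : Algebra.adjoin F {l} = ⊤)
    (hinv : Polynomial.aeval l⁻¹ (minpoly F l) ≠ 0) :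
    Nat.card (Subgroup.centralizer ({SpEmb.levi ι (mulGL b hl)} : Set (symplecticGroup ι F))) ≤ Nat.card E - 1 := by
  classical
  have hinj := Algebra.leftMulMatrix_injective b
  -- the polynomial kills `λ(l)`
  have hf1 : Polynomial.aeval (Algebra.leftMulMatrix b l) (minpoly F l) = 0 := by
    rw [Polynomial.aeval_algHom_apply, minpoly.aeval, map_zero]
  have hf2 : Polynomial.aeval ((Algebra.leftMulMatrix b l⁻¹)ᵀ) (minpoly F l) =
      (Algebra.leftMulMatrix b (Polynomial.aeval l⁻¹ (minpoly F l)))ᵀ := by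
    have h1 : ∀ f : Polynomial F, Polynomial.aeval ((Algebra.leftMulMatrix b l⁻¹)ᵀ) f =
        (Polynomial.aeval (Algebra.leftMulMatrix b l⁻¹) f)ᵀ := by
      intro f
      induction f using Polynomial.induction_on' with
      | add p q hp hq => 
        rw [map_add, map_add, Matrix.transpose_add, hp, hq]
      | monomial n a =>
        rw [Polynomial.aeval_monomial, Polynomial.aeval_monomial, Algebra.algebraMap_eq_smul_one,
          smul_mul_assoc, smul_mul_assoc, one_mul, one_mul, Matrix.transpose_smul, Matrix.transpose_pow]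
    rw [h1, Polynomial.aeval_algHom_apply]
  have hex : ∀ g : Subgroup.centralizer ({SpEmb.levi ι (mulGL b hl)} : Set (symplecticGroup ι F)),
      ∃ x : E, x ≠ 0 ∧ g.1.1 = fromBlocks (Algebra.leftMulMatrix b x) 0 0 (Algebra.leftMulMatrix b x⁻¹)ᵀ := by
    rintro ⟨g, hg⟩
    rw [Subgroup.mem_centralizer_singleton_iff] at hg
    have h1 : g.1 * (SpEmb.levi ι (mulGL b hl)).1 = (SpEmb.levi ι (mulGL b hl)).1 * g.1 := congrArg Subtype.val hg
    have h2 : (SpEmb.levi ι (mulGL b hl)).1 = fromBlocks (Algebra.leftMulMatrix b l) 0 0 (Algebra.leftMulMatrix b l⁻¹)ᵀ := rfl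
    obtain ⟨A, B, C, D, hgb⟩ : ∃ A B C D, g.1 = fromBlocks A B C D := ⟨_, _, _, _, (fromBlocks_toBlocks g.1).symm⟩
    rw [h2, hgb, fromBlocks_multiply, fromBlocks_multiply] at h1
    simp only [mul_zero, zero_mul, add_zero, zero_add] at h1
    obtain ⟨hA, hB, hC, hD⟩ := fromBlocks_inj.1 h1
    obtain ⟨x, hx⟩ := exists_of_comm b h hA
    -- B = 0
    have hB0 : B = 0 := by
      have h3 := intertwine hB (minpoly F l)
      rw [hf1, zero_mul, hf2] at h3
      have h4 : (Algebra.leftMulMatrix b (Polynomial.aeval l⁻¹ (minpoly F l)))ᵀ *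
          (Algebra.leftMulMatrix b (Polynomial.aeval l⁻¹ (minpoly F l))⁻¹)ᵀ = 1 := by
        rw [← Matrix.transpose_mul, ← map_mul, inv_mul_cancel₀ hinv, map_one, Matrix.transpose_one]
      have h5 := congrArg (· * (Algebra.leftMulMatrix b (Polynomial.aeval l⁻¹ (minpoly F l))⁻¹)ᵀ) h3
      simpa only [mul_assoc, h4, mul_one, zero_mul] using h5
    have hC0 : C = 0 := by
      have h3 := intertwine hC (minpoly F l)
      rw [hf1, mul_zero, hf2] at h3
      have h4 : (Algebra.leftMulMatrix b (Polynomial.aeval l⁻¹ (minpoly F l))⁻¹)ᵀ *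
          (Algebra.leftMulMatrix b (Polynomial.aeval l⁻¹ (minpoly F l)))ᵀ = 1 := by
        rw [← Matrix.transpose_mul, ← map_mul, mul_inv_cancel₀ hinv, map_one, Matrix.transpose_one]
      have h5 := congrArg ((Algebra.leftMulMatrix b (Polynomial.aeval l⁻¹ (minpoly F l))⁻¹)ᵀ * ·) h3
      simpa only [← mul_assoc, h4, one_mul, mul_zero] using h5.symm
    have hmem := g.2
    rw [hgb, SymplecticGroup.fromBlocks_mem_iff] at hmem
    have hAD := hmem.2.2
    rw [hB0, hC0, Matrix.transpose_zero, zero_mul, sub_zero, hx, ← Matrix.transpose_one, ← Matrix.transpose_injective.eq_iff] at hAD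
    rw [Matrix.transpose_mul, Matrix.transpose_transpose, Matrix.transpose_one, Matrix.transpose_one] at hAD
    have hx0 : x ≠ 0 := by
      rintro rfl
      rw [map_zero, mul_zero] at hAD
      have : Nonempty ι := by
        by_contra hne
        rw [not_nonempty_iff] at hne
        have h9 : Algebra.leftMulMatrix b l = Algebra.leftMulMatrix b 0 := Subsingleton.elim _ _
        exact hl (hinj h9)
      exact zero_ne_one hAD
    refine ⟨x, hx0, ?_⟩
    have hD' : Dᵀ = Algebra.leftMulMatrix b x⁻¹ := by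
      calc Dᵀ = Dᵀ * (Algebra.leftMulMatrix b x * Algebra.leftMulMatrix b x⁻¹) := by
            rw [← map_mul, mul_inv_cancel₀ hx0, map_one, mul_one]
        _ = _ := by rw [← mul_assoc, hAD, one_mul]
    rw [hgb, hB0, hC0, hx, ← hD', Matrix.transpose_transpose]
  choose f hf0 hf using hex
  have h1 : Nat.card (Subgroup.centralizer ({SpEmb.levi ι (mulGL b hl)} : Set (symplecticGroup ι F))) ≤ Nat.card Eˣ := by
    refine Nat.card_le_card_of_injective (fun g => Units.mk0 (f g) (hf0 g)) ?_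
    intro g g' hgg
    have h2 : f g = f g' := congrArg Units.val hgg
    apply Subtype.ext
    apply Subtype.ext
    rw [hf, hf, h2]
  rw [Nat.card_units] at h1
  exact h1

end Levi

end Cfsg.Agent.H16.DP
end

-- part: H16/DP/Gen
section
/-!
# Test elements of symplectic groups (helper16, for S2454)
-/

set_option autoImplicit false

namespace Cfsg.Agent.H16.DP

open Matrix Module Cfsg.Agent.H376

/-- a tower of finite fields of degrees `n`, `2`. -/
theorem exists_tower (F : Type*) [Field F] [Finite F] (n : ℕ) (hn : 0 < n) :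
    ∃ (E K : Type) (_ : Field E) (_ : Field K) (_ : Finite E) (_ : Finite K) (_ : Algebra F E) (_ : Algebra F K)
      (_ : Algebra E K) (_ : IsScalarTower F E K), finrank F E = n ∧ finrank E K = 2 ∧ finrank F K = 2 * n ∧
        Nat.card E = Nat.card F ^ n ∧ Nat.card K = Nat.card F ^ (2 * n) := by
  obtain ⟨r, hr⟩ := CharP.exists F
  have hr' : Fact r.Prime := ⟨CharP.char_is_prime F r⟩
  have : NeZero n := ⟨hn.ne'⟩
  let E := FiniteField.Extension F r n
  have : CharP E r := charP_of_injective_algebraMap (algebraMap F E).injective r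
  let K := FiniteField.Extension E r 2
  let _ : Algebra F K := ((algebraMap E K).comp (algebraMap F E)).toAlgebra
  have htow : IsScalarTower F E K := IsScalarTower.of_algebraMap_eq fun _ => rfl
  have h1 : finrank F E = n := FiniteField.finrank_extension F r n
  have h2 : finrank E K = 2 := FiniteField.finrank_extension E r 2
  have h3 : Nat.card E = Nat.card F ^ n := FiniteField.natCard_extension F r n
  have h4 : Nat.card K = Nat.card E ^ 2 := FiniteField.natCard_extension E r 2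
  have h5 : finrank F K = 2 * n := by
    rw [← Module.finrank_mul_finrank F E K, h1, h2, mul_comm]
  exact ⟨E, K, inferInstance, inferInstance, inferInstance, inferInstance, inferInstance, inferInstance, inferInstance,
    htow, h1, h2, h5, h3, by rw [h4, h3, ← pow_mul, mul_comm]⟩

/-- elements of given order -/
theorem exists_order {K : Type*} [Field K] [Finite K] {m : ℕ} (hm : m ∣ Nat.card K - 1) : ∃ ζ : K, ζ ≠ 0 ∧ orderOf ζ = m := by
  obtain ⟨u, hu⟩ := IsCyclic.exists_ofOrder_eq_natCard (α := Kˣ)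
  rw [Nat.card_units] at hu
  obtain ⟨k, hk⟩ := hm
  have hpos : 0 < Nat.card K - 1 := Nat.sub_pos_of_lt Finite.one_lt_card
  have hk0 : 0 < k := by
    rcases Nat.eq_zero_or_pos k with rfl | h
    · rw [mul_zero] at hk; omega
    · exact h
  refine ⟨((u ^ k : Kˣ) : K), Units.ne_zero _, ?_⟩
  rw [orderOf_units, orderOf_pow' u hk0.ne', hu, hk, Nat.gcd_mul_left_left, Nat.mul_div_cancel _ hk0]

section Num

theorem not_dvd_add_one {q n j : ℕ} (hq : 2 ≤ q) (h0 : 0 < j) (hj : j < 2 * n) : ¬ q ^ n + 1 ∣ q ^ j - 1 := by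
  intro h
  have hj1 : 2 ≤ q ^ j := hq.trans (Nat.le_self_pow h0.ne' q)
  rcases Nat.lt_or_ge n j with h1 | h1
  · obtain ⟨i, rfl⟩ := Nat.exists_eq_add_of_lt h1
    have h2 : q ^ (n + i + 1) - 1 + (q ^ (i + 1) + 1) = q ^ (i + 1) * (q ^ n + 1) := by
      have : q ^ (n + i + 1) = q ^ (i + 1) * q ^ n := by rw [← pow_add]; congr 1; ring
      rw [mul_add, ← this, mul_one]
      have := Nat.one_le_two_pow (n := 0)
      omega
    have h3 : q ^ n + 1 ∣ q ^ (i + 1) + 1 := by
      rw [← Nat.dvd_add_right h, h2]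
      exact Dvd.intro_left _ rfl
    have h4 : q ^ (i + 1) < q ^ n := Nat.pow_lt_pow_right (by omega) (by omega)
    have := Nat.le_of_dvd (by omega) h3
    omega
  · have h2 := Nat.le_of_dvd (by omega) h
    have h3 : q ^ j ≤ q ^ n := Nat.pow_le_pow_right (by omega) h1
    omega

/-- `(q ^ n - 1) / (q - 1)` -/
theorem geom_mul {q : ℕ} (hq : 2 ≤ q) (n : ℕ) : (∑ i ∈ Finset.range n, q ^ i) * (q - 1) = q ^ n - 1 := by
  obtain ⟨k, rfl⟩ := Nat.exists_eq_add_of_le' hq
  have := Nat.geomSum_eq hq n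
  have h2 := geom_sum_mul_add (k + 1 : ℕ) n
  have h3 : k + 2 - 1 = k + 1 := rfl
  rw [h3]
  have h4 : k + 1 + 1 = k + 2 := rfl
  rw [h4] at h2
  omega

theorem geom_gt {q n : ℕ} (hq : 2 ≤ q) (hn : 3 ≤ n) {j : ℕ} (hj : j < n) : q ^ j + 1 < ∑ i ∈ Finset.range n, q ^ i := by
  obtain ⟨k, rfl⟩ := Nat.exists_eq_add_of_le' hn
  rw [Finset.sum_range_succ, Finset.sum_range_succ', Finset.sum_range_succ']
  have h1 : q ^ j ≤ q ^ (k + 2) := Nat.pow_le_pow_right (by omega) (by omega)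
  simp only [zero_add, pow_one, pow_zero]
  omega

end Num

/-- **The elements of `SL_2(q ^ n)`**. -/
theorem exists_sl {F : Type*} [Field F] [Finite F] {n : ℕ} (hn : 0 < n) {m : ℕ} (hm : m ∣ Nat.card F ^ n + 1)
    (hgen : ∀ j, 0 < j → j < 2 * n → ¬ m ∣ Nat.card F ^ j - 1) :
    ∃ (E : Type) (_ : Field E) (_ : Finite E) (_ : Algebra F E) (φ : _root_.Matrix.SpecialLinearGroup (Fin 2) E →* symplecticGroup (Fin n) F)
      (A : _root_.Matrix.SpecialLinearGroup (Fin 2) E), Nat.card E = Nat.card F ^ n ∧ orderOf A = m ∧ A.1 0 1 ≠ 0 ∧ A.1 1 0 ≠ 0 ∧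
        Nat.card (Subgroup.centralizer ({φ A} : Set (symplecticGroup (Fin n) F))) ≤ Nat.card F ^ n + 1 ∧
        ∃ N : Matrix (Fin n ⊕ Fin n) (Fin n ⊕ Fin n) F, N * ((φ A).1 - 1) = 1 ∧ ((φ A).1 - 1) * N = 1 := by
  obtain ⟨E, K, _, _, _, _, _, _, _, _, h1, h2, h3, h4, h5⟩ := exists_tower F n hn
  have := Fintype.ofFinite F
  have := Fintype.ofFinite E
  have := Fintype.ofFinite K
  set q := Nat.card F with hq
  have hq2 : 2 ≤ q := Finite.one_lt_card
  have : FiniteDimensional F E := Module.Finite.of_finite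
  have : FiniteDimensional E K := Module.Finite.of_finite
  have : FiniteDimensional F K := Module.Finite.of_finite
  let b : Basis (Fin n) F E := Module.finBasisOfFinrankEq F E h1
  let c : Basis (Fin 2) E K := Module.finBasisOfFinrankEq E K h2
  have hfac : q ^ (2 * n) - 1 = (q ^ n + 1) * (q ^ n - 1) := by
    have := Nat.sq_sub_sq (q ^ n) 1
    rw [← pow_mul, mul_comm n 2] at this
    simpa only [_root_.one_pow] using this
  obtain ⟨ζ, hζ0, hζ⟩ := exists_order (K := K) (m := m) (by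
    rw [h5, hfac]
    exact hm.mul_right _)
  have hadj : Algebra.adjoin F {ζ} = ⊤ := adjoin_eq_top hζ0 (by
    intro j hj0 hj
    rw [h3] at hj
    rw [hζ]
    exact hgen j hj0 hj)
  have hz1 : ζ ^ (q ^ n + 1) = 1 := by
    rw [← orderOf_dvd_iff_pow_eq_one, hζ]
    exact hm
  have hdet : (Algebra.leftMulMatrix c ζ).det = 1 := by
    rw [← Algebra.norm_eq_matrix_det]
    apply (algebraMap E K).injective
    rw [FiniteField.algebraMap_norm_eq_pow, map_one, h5, h4, hfac, Nat.mul_div_cancel, hz1]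
    have : q ^ n ≥ 2 := hq2.trans (Nat.le_self_pow hn.ne' q)
    omega
  obtain ⟨σ, hσ⟩ := exists_frob (F := F) (K := K) n
  let A : _root_.Matrix.SpecialLinearGroup (Fin 2) E := ⟨Algebra.leftMulMatrix c ζ, hdet⟩
  -- `ζ` is not in `E`
  have hnot : ∀ x : E, algebraMap E K x ≠ ζ := by
    rintro x rfl
    have hx0 : x ≠ 0 := fun h => hζ0 (by rw [h, map_zero])
    have hx : x ^ (q ^ n - 1) = 1 := by
      rw [← h4, Nat.card_eq_fintype_card]
      exact FiniteField.pow_card_sub_one_eq_one x hx0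
    refine hgen n hn (by omega) ?_
    rw [← hζ, orderOf_dvd_iff_pow_eq_one, ← map_pow, hx, map_one]
  have hcol : ∀ j i : Fin 2, i ≠ j → A.1 i j ≠ 0 := by
    intro j i hij h0
    have h6 : ζ * c j = ∑ k, Algebra.leftMulMatrix c ζ k j • c k := by
      rw [← c.sum_repr (ζ * c j)]
      refine Finset.sum_congr rfl fun k _ => ?_
      rw [Algebra.leftMulMatrix_eq_repr_mul]
    have h7 : ζ * c j = Algebra.leftMulMatrix c ζ j j • c j := by
      rw [h6, Finset.sum_eq_single j]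
      · intro k _ hk
        have hki : k = i := by (clear * - hij hk; omega)
        rw [hki]
        have h0' : Algebra.leftMulMatrix c ζ i j = 0 := h0
        rw [h0', zero_smul]
      · simp only [_root_.Finset.mem_univ, _root_.not_true_eq_false, _root_.smul_eq_zero, _root_.IsEmpty.forall_iff]
    rw [Algebra.smul_def] at h7
    exact hnot _ (mul_right_cancel₀ (c.ne_zero j) h7).symm
  refine ⟨E, inferInstance, inferInstance, inferInstance, SpEmb.ofSLTwo (F := F) b, A, h4, ?_, hcol 1 0 (by decide), hcol 0 1 (by decide), ?_,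
    exists_inv_sub_one b c A rfl ?_⟩
  · have hA : Function.Injective (fun z : K => Algebra.leftMulMatrix c z) := Algebra.leftMulMatrix_injective c
    have h8 : orderOf (A.1) = orderOf ζ := orderOf_injective (Algebra.leftMulMatrix c : K →* Matrix (Fin 2) (Fin 2) E) hA ζ
    have h9 : orderOf A = orderOf A.1 := by
      rw [← orderOf_injective (SpecialLinearGroup.toGL (n := Fin 2) (R := E)) SpecialLinearGroup.toGL_injective A,
        ← orderOf_units]
      rfl
    rw [h9, h8, hζ]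
  · refine card_cent_ofSLTwo b c A rfl hadj σ ?_ hz1
    intro x
    rw [hσ, hq, Nat.card_eq_fintype_card]
  · rintro rfl
    exact hnot 1 (map_one _)

/-- the inverse of a generator of large order is not conjugate to it. -/
theorem aeval_inv_ne {F E : Type*} [Field F] [Finite F] [Field E] [Finite E] [Algebra F E] {l : E}
    (hl : l ≠ 0) (h : ∀ j, j < finrank F E → l ^ (Nat.card F ^ j + 1) ≠ 1) : Polynomial.aeval l⁻¹ (minpoly F l) ≠ 0 := by
  intro h0
  have := Fintype.ofFinite F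
  have := Fintype.ofFinite E
  have : FiniteDimensional F E := Module.Finite.of_finite
  rw [← isConjRoot_iff_aeval_eq_zero (Algebra.IsIntegral.isIntegral l), isConjRoot_iff_exists_algEquiv] at h0
  obtain ⟨σ, hσ⟩ := h0
  obtain ⟨⟨i, hi⟩, hi2⟩ := (FiniteField.bijective_frobeniusAlgEquivOfAlgebraic_pow F E).2 σ⁻¹
  have h1 : ∀ (k : ℕ) (x : E), (FiniteField.frobeniusAlgEquivOfAlgebraic F E ^ k) x = x ^ (Nat.card F ^ k) := by
    intro k
    induction k with
    | zero => intro x; simp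
    | succ k ih =>
      intro x
      rw [pow_succ', AlgEquiv.mul_apply, ih, FiniteField.coe_frobeniusAlgEquivOfAlgebraic]
      show (x ^ _) ^ _ = _
      rw [← pow_mul, ← Nat.card_eq_fintype_card, ← pow_succ]
  have h2 : l ^ (Nat.card F ^ i) = l⁻¹ := by
    rw [← h1]
    have h3 : (FiniteField.frobeniusAlgEquivOfAlgebraic F E ^ i) l = σ⁻¹ l := by rw [← hi2]
    rw [h3]
    have h4 : σ⁻¹ (σ l⁻¹) = l⁻¹ := σ.symm_apply_apply _
    exact (congrArg (fun z => σ⁻¹ z) hσ.symm).trans h4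
  refine h i hi ?_
  rw [pow_succ, h2, inv_mul_cancel₀ hl]

end Cfsg.Agent.H16.DP
end

-- part: H16/DP/Win
section
/-!
# Windows in the Siegel Levi subgroup lie in symplectic blocks (helper16, for S2454)
-/

set_option autoImplicit false

namespace Cfsg.Agent.H16.DP

open Matrix Module Cfsg.Agent.H376 Cfsg.Agent.H514.DP

variable {F : Type*} [Field F] {ι κ μ : Type*} [Fintype ι] [DecidableEq ι] [Fintype κ] [DecidableEq κ]

/-- the Levi embedding of `SL` -/
noncomputable def levSL (ι : Type*) [Fintype ι] [DecidableEq ι] : _root_.Matrix.SpecialLinearGroup ι F →* symplecticGroup ι F :=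
  (SpEmb.levi ι).comp SpecialLinearGroup.toGL

open scoped Classical in
/-- the block embedding of symplectic groups -/
noncomputable def spEmb (f : κ ↪ ι) : symplecticGroup κ F →* symplecticGroup ι F :=
  (SpEmb.reidx (sumEquiv f)).comp ((SpEmb.blk κ {x : ι // x ∉ Set.range f}).comp (MonoidHom.inl _ _))

theorem levi_emb (f : κ ↪ ι) (M : GL κ F) (N : GL ι F) (hN : N.1 = embM f M.1) :
    SpEmb.levi ι N = spEmb f (SpEmb.levi κ M) := by
  classical
  have hN' : (N⁻¹).1 = embM f (M⁻¹).1 := by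
    have h1 : embM f (M⁻¹).1 * N.1 = 1 := by
      rw [hN, ← embM_mul, ← Units.val_mul, inv_mul_cancel, Units.val_one, embM_one]
    have h2 : N.1 * (N⁻¹).1 = 1 := by rw [← Units.val_mul, mul_inv_cancel, Units.val_one]
    calc (N⁻¹).1 = embM f (M⁻¹).1 * N.1 * (N⁻¹).1 := by rw [h1, one_mul]
      _ = _ := by rw [mul_assoc, h2, mul_one]
  apply Subtype.ext
  show fromBlocks N.1 0 0 (N⁻¹).1ᵀ = (SpEmb.blkM (fromBlocks M.1 0 0 (M⁻¹).1ᵀ) (1 : Matrix _ _ F)).submatrix
    (Equiv.sumCongr (sumEquiv f) (sumEquiv f)).symm (Equiv.sumCongr (sumEquiv f) (sumEquiv f)).symm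
  rw [hN, hN', ← fromBlocks_one]
  unfold SpEmb.blkM
  simp only [toBlocks_fromBlocks₁₁, toBlocks_fromBlocks₁₂, toBlocks_fromBlocks₂₁, toBlocks_fromBlocks₂₂]
  ext i j
  rcases i with i | i <;> rcases j with j | j
  · rfl
  · show (0 : F) = (fromBlocks 0 0 0 0 : Matrix (κ ⊕ _) (κ ⊕ _) F) _ _
    rw [fromBlocks_zero]
    rfl
  · show (0 : F) = (fromBlocks 0 0 0 0 : Matrix (κ ⊕ _) (κ ⊕ _) F) _ _
    rw [fromBlocks_zero]
    rfl
  · show (embM f (M⁻¹).1)ᵀ i j = (fromBlocks _ 0 0 1 : Matrix (κ ⊕ _) (κ ⊕ _) F) _ _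
    rw [transpose_apply]
    show (fromBlocks (M⁻¹).1 0 0 1 : Matrix (κ ⊕ _) (κ ⊕ _) F) _ _ = _
    generalize (sumEquiv f).symm i = i'
    generalize (sumEquiv f).symm j = j'
    rcases i' with i' | i' <;> rcases j' with j' | j'
    · rfl
    · rfl
    · rfl
    · show (1 : Matrix _ _ F) j' i' = (1 : Matrix _ _ F) i' j'
      rw [one_apply, one_apply]
      simp only [eq_comm]

theorem levSL_emb (f : κ ↪ ι) (M : _root_.Matrix.SpecialLinearGroup κ F) : levSL ι (emb f M) = spEmb f (levSL κ M) :=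
  levi_emb f _ _ rfl

/-- two windows inside symplectic blocks of the same size -/
theorem pe_windows {p m i n : ℕ} (hi : i ≤ n) (hn : n + 1 ≤ 2 * i) (hW : PW p m (symplecticGroup (Fin i) F)) (c : ℕ → F)
    (h : (_root_.Cfsg.Agent.H514.DP.comp n c).det = 1) : PE p (m + m) (levSL (Fin n) (compSL n c h)) := by
  obtain ⟨a, rfl⟩ : ∃ a, i = a + 1 := ⟨i - 1, by omega⟩
  obtain ⟨b, rfl⟩ : ∃ b, n = a + b + 1 := ⟨n - a - 1, by omega⟩
  obtain ⟨c', c'', h', h'', he⟩ := exists_comp_mul a b c h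
  rw [he, map_mul]
  refine PE.mul ?_ ?_
  · rw [levSL_emb]
    exact hW.pe _ _
  · have e3 : sh (w := b + 1) (n := a + b + 1) a (by omega) =
        (sh (w := b + 1) (n := a + 1) (a - b) (by omega)).trans (sh (w := a + 1) (n := a + b + 1) b (by omega)) := by
      ext i
      show a + (i : ℕ) = b + (a - b + i)
      omega
    rw [e3, ← emb_trans, levSL_emb]
    exact hW.pe _ _

/-- the companion matrix of a generator -/
theorem comp_lev [Finite F] {E : Type*} [Field E] [Finite E] [Algebra F E] {l : E} (hl : l ≠ 0) (hadj : Algebra.adjoin F {l} = ⊤)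
    {n : ℕ} (hn : finrank F E = n) : ∃ b : Basis (Fin n) F E,
      Algebra.leftMulMatrix b l = _root_.Cfsg.Agent.H514.DP.comp n (fun i => -(minpoly F l).coeff i) ∧
      ∀ h : (_root_.Cfsg.Agent.H514.DP.comp n (fun i => -(minpoly F l).coeff i)).det = 1, levSL (Fin n) (compSL n _ h) = SpEmb.levi (Fin n) (mulGL b hl) := by
  have : FiniteDimensional F E := Module.Finite.of_finite
  let pb : PowerBasis F E := PowerBasis.ofAdjoinEqTop' (Algebra.IsIntegral.isIntegral l) hadj
  have hgen : pb.gen = l := PowerBasis.ofAdjoinEqTop'_gen _ _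
  have hdim : pb.dim = n := by rw [← pb.finrank, hn]
  have hmin : pb.minpolyGen = minpoly F l := by rw [pb.minpolyGen_eq, hgen]
  have key : ∃ b : Basis (Fin n) F E, Algebra.leftMulMatrix b l = _root_.Cfsg.Agent.H514.DP.comp n (fun i => -(minpoly F l).coeff i) := by
    subst hdim
    refine ⟨pb.basis, ?_⟩
    have h1 := PowerBasis.leftMulMatrix pb
    rw [hgen, hmin] at h1
    exact h1
  obtain ⟨b, hb⟩ := key
  refine ⟨b, hb, fun h => ?_⟩
  show SpEmb.levi (Fin n) (SpecialLinearGroup.toGL _) = _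
  congr 1
  apply Units.ext
  exact hb.symm

/-- **Companion matrices with small centralizers in `Sp`.** -/
theorem exists_comp (F : Type*) [Field F] [Finite F] {n : ℕ} (hn : 3 ≤ n) :
    ∃ (c : ℕ → F) (h : (_root_.Cfsg.Agent.H514.DP.comp n c).det = 1),
      Nat.card (Subgroup.centralizer ({levSL (Fin n) (compSL n c h)} : Set (symplecticGroup (Fin n) F))) ≤ Nat.card F ^ n - 1 := by
  obtain ⟨E, K, _, _, _, _, _, _, _, _, h1, h2, h3, h4, h5⟩ := exists_tower F n (by omega)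
  have := Fintype.ofFinite F
  have := Fintype.ofFinite E
  set q := Nat.card F with hq
  have hq2 : 2 ≤ q := Finite.one_lt_card
  have : FiniteDimensional F E := Module.Finite.of_finite
  have hN := geom_mul hq2 n
  set N := ∑ i ∈ Finset.range n, q ^ i with hNdef
  obtain ⟨l, hl, hlN⟩ := exists_order (K := E) (m := N) (by rw [h4, ← hN]; exact dvd_mul_right _ _)
  have hadj : Algebra.adjoin F {l} = ⊤ := adjoin_eq_top hl (by
    intro j hj0 hj hd
    rw [h1] at hj
    rw [hlN, ← hq] at hd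
    have h6 := geom_gt hq2 hn hj
    have h7 : 2 ≤ q ^ j := hq2.trans (Nat.le_self_pow hj0.ne' q)
    have h8 := Nat.le_of_dvd (by omega) hd
    omega)
  obtain ⟨b, hb, hb2⟩ := comp_lev hl hadj h1
  have hdet : (_root_.Cfsg.Agent.H514.DP.comp n (fun i => -(minpoly F l).coeff i)).det = 1 := by
    rw [← hb, ← Algebra.norm_eq_matrix_det]
    apply (algebraMap F E).injective
    rw [FiniteField.algebraMap_norm_eq_pow, map_one, h4, ← hN, Nat.mul_div_cancel _ (by omega), ← hlN, pow_orderOf_eq_one]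
  refine ⟨_, hdet, ?_⟩
  rw [hb2 hdet, ← h4]
  refine card_cent_levi b hl hadj (aeval_inv_ne hl ?_)
  intro j hj h0
  rw [h1] at hj
  rw [← orderOf_dvd_iff_pow_eq_one, hlN, ← hq] at h0
  have := Nat.le_of_dvd (by omega) h0
  have := geom_gt hq2 hn hj
  omega

end Cfsg.Agent.H16.DP
end

private theorem dce_657cae79c878 : _root_.True := by
  try have : _root_.True := by simp only [_root_.Cfsg.Agent.H16.DP.tb.congr_simp]
  try have : _root_.True := by simp only [_root_.Cfsg.Agent.H376.SpEmb.ofSLTwo.congr_simp]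
  exact _root_.True.intro
end

-- part: H105/Og/TransOdd_mg
section
prune_inst 0x420600528e2000000042092612000804800042000400400246209020901e062c88028400f00201002028081100100200200002000000000000000000000002080000604b168010c040097000104000000000000000000000000000000000000000000000
set_option linter.all false
open scoped Cfsg.Agent.FastGrp

-- part: H105/Og/TransOdd
section
/-!
# Transfer to `PΩ_{2m+1}(q)` (helper105)
-/

set_option autoImplicit false

namespace Cfsg.Agent.H105.Og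

open QuadraticMap Cfsg Matrix Module Subgroup Cfsg.Agent.LieClassical.OrthCore
  Cfsg.Agent.LieClassical.OrthForms Cfsg.Agent.LieClassical.OrthFinite Cfsg.Agent.LieClassical.OrthTrans
  Cfsg.Agent.LieClassical.OrthSimple Cfsg.Agent.H122.OrthIso

theorem quot_of_iso {ι : Type} [Fintype ι] [DecidableEq ι] {F : Type} [Field F] [Finite F]
    {Q : QuadraticForm F (ι → F)} (hQ : Nondeg Q) (hd : 5 ≤ Fintype.card ι) {qf : (ι → F) → F} (hqf : ⇑Q = qf)
    {S : Type*} [Group S] (φ : S ≃* POmega F qf) {V' : Type} [AddCommGroup V'] [Module F V']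
    {Q' : QuadraticForm F V'} (hiso : IsoQ Q Q') : Nonempty ((E Q' ⧸ center (E Q')) ≃* S) := by
  subst hqf
  have hG : Good Q := good_of_finite hQ (by rwa [Module.finrank_fintype_fun_eq_card])
  obtain ⟨e⟩ := hiso.equiv
  exact ⟨((φ.trans (quotientCenterCongr
    ((omegaEquiv Q).trans (MulEquiv.subgroupCongr hG.commutator_eq_E)))).trans (quotientCenterCongr e)).symm⟩

/-- the isometry `quadFormOdd m F ≅ HU (Fin m) (z²)` -/
def oddE (m : ℕ) (F : Type*) [Field F] :
    (Unit ⊕ (Fin m ⊕ Fin m) → F) ≃ₗ[F] (((Fin m → F) × (Fin m → F)) × F) where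
  toFun v := ((fun i => v (.inr (.inl i)), fun i => v (.inr (.inr i))), v (.inl ()))
  map_add' _ _ := rfl
  map_smul' _ _ := rfl
  invFun v := Sum.elim (fun _ => v.2) (Sum.elim v.1.1 v.1.2)
  left_inv v := by
    funext i
    rcases i with i | i | i <;> rfl
  right_inv _ := rfl

theorem isoQ_odd (m : ℕ) (F : Type*) [Field F] :
    IsoQ (oddForm m F) ((HU (Fin m) (QuadraticMap.sq (R := F)) :)) := by
  refine ⟨oddE m F, fun v => ?_⟩
  rw [HU_apply, coe_oddForm, quadFormOdd, pow_two, add_comm]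
  rfl

theorem nondeg_sq {F : Type*} [Field F] (h2 : (2 : F) ≠ 0) : Nondeg (QuadraticMap.sq (R := F)) := by
  intro x hx
  have h := hx 1
  rw [polar] at h
  have h3 : (x + 1) * (x + 1) - x * x - 1 * 1 = 0 := h
  have h4 : 2 * x = 0 := by linear_combination h3
  exact (mul_eq_zero.1 h4).resolve_left h2

theorem transOdd {S : Type*} [Group S] [IsSimpleGroup S] {l : ℕ} (h : IsPOmegaOddChar l S) :
    ∃ (F : Type) (_ : Field F) (_ : Finite F) (U : Type) (_ : AddCommGroup U) (_ : Module F U)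
      (_ : FiniteDimensional F U) (n : ℕ) (R : QuadraticForm F U), 3 ≤ n ∧ finrank F U = 1 ∧ Nondeg R ∧
      (2 : F) ≠ 0 ∧
      Nat.card S ∣ Nat.card F ^ (n ^ 2) * ∏ i ∈ Finset.range n, (Nat.card F ^ (2 * (i + 1)) - 1) ∧
      Nonempty ((E (HU (Fin n) R) ⧸ center (E (HU (Fin n) R))) ≃* S) := by
  obtain ⟨F, _, _, _, m, hm, ho, ⟨φ⟩⟩ := h
  have h2 : (2 : F) ≠ 0 := by
    intro h0
    have h1 : ((Fintype.card F : ℕ) : F) = 0 := FiniteField.cast_card_eq_zero F
    obtain ⟨k, hk⟩ := ho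
    rw [hk] at h1
    push_cast at h1
    rw [h0, zero_mul, zero_add] at h1
    exact one_ne_zero h1
  refine ⟨F, inferInstance, inferInstance, F, inferInstance, inferInstance, inferInstance, m,
    QuadraticMap.sq (R := F), hm, Module.finrank_self F, nondeg_sq h2, h2, ?_,
    quot_of_iso (nondeg_oddForm m F h2) (by simp only [_root_.Fintype.card_sum, _root_.Fintype.card_unique, _root_.Fintype.card_fin]; omega) (coe_oddForm m F) φ (isoQ_odd m F)⟩
  have h3 := S0292.result (F := F) rfl ho m hm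
  rw [Nat.card_eq_fintype_card (α := F), ← h3, Nat.card_congr φ.toEquiv]
  exact Dvd.intro_left _ rfl

end Cfsg.Agent.H105.Og
end

-- part: H127/Og/EightA
section
/-!
# S2454: the minimal degree of `Ω⁻_8(q)` and the centralizers of elements with one nontrivial constituent
-/

set_option autoImplicit false
set_option linter.unusedVariables false
set_option linter.unusedSectionVars false

namespace Cfsg.Agent.H127.Og

open QuadraticMap Matrix Module Subgroup Polynomial Cfsg.Agent.LieClassical.OrthCore Cfsg.Agent.H514.DP Cfsg.Agent.H105.Og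
open Cfsg.Agent.H122.OrthWt (HQ HQ_apply)
open Cfsg.Agent.H122.OrthIso (IsoQ)

section Iso

variable {F : Type*} [Field F] {U : Type*} [AddCommGroup U] [Module F U]

theorem iso_zero (R : QuadraticForm F U) : IsoQ R ((HU (Fin 0) R :)) := by
  refine ⟨LinearEquiv.ofLinearMap
    { toFun := fun u => ((0, 0), u)
      map_add' := fun x y => by simp
      map_smul' := fun c x => by simp }
    (LinearMap.snd F _ _) ?_ ?_, fun v => ?_⟩
  · apply LinearMap.ext
    rintro ⟨⟨x, y⟩, u⟩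
    exact Prod.ext (Prod.ext (Subsingleton.elim _ _) (Subsingleton.elim _ _)) rfl
  · apply LinearMap.ext
    intro v
    rfl
  · rw [HU_apply]
    show (0 : Fin 0 → F) ⬝ᵥ 0 + R v = R v
    rw [dotProduct_zero, zero_add]

theorem iso_succ (n : ℕ) (R : QuadraticForm F U) : IsoQ (HU (Fin (n + 1)) R) (HQ (HU (Fin n) R)) := by
  refine ⟨LinearEquiv.ofLinearMap
    { toFun := fun v => (((fun i => v.1.1 (Fin.succ i), fun i => v.1.2 (Fin.succ i)), v.2), v.1.1 0, v.1.2 0)
      map_add' := fun _ _ => rfl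
      map_smul' := fun _ _ => rfl }
    { toFun := fun x => ((Fin.cons x.2.1 x.1.1.1, Fin.cons x.2.2 x.1.1.2), x.1.2)
      map_add' := fun x y => by
        refine Prod.ext (Prod.ext ?_ ?_) rfl <;> funext i <;> refine Fin.cases ?_ (fun j => ?_) i <;> simp only [_root_.Prod.snd_add, _root_.Prod.fst_add, _root_.Fin.cons_zero, _root_.Prod.mk_add_mk, _root_.Pi.add_apply, _root_.Fin.cons_succ]
      map_smul' := fun c x => by
        refine Prod.ext (Prod.ext ?_ ?_) rfl <;> funext i <;> refine Fin.cases ?_ (fun j => ?_) i <;> simp only [_root_.Prod.smul_snd, _root_.Prod.smul_fst, _root_.smul_eq_mul, _root_.Fin.cons_zero, _root_.RingHom.id_apply, _root_.Prod.smul_mk, _root_.Pi.smul_apply, _root_.Fin.cons_succ] } ?_ ?_,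
    fun v => ?_⟩
  · apply LinearMap.ext
    rintro ⟨⟨⟨x, y⟩, u⟩, a, b⟩
    rfl
  · apply LinearMap.ext
    rintro ⟨⟨x, y⟩, u⟩
    refine Prod.ext (Prod.ext ?_ ?_) rfl <;> funext i <;> refine Fin.cases rfl (fun j => rfl) i
  · refine (HQ_apply _ _).trans ?_
    show HU (Fin n) R ((fun i => v.1.1 (Fin.succ i), fun i => v.1.2 (Fin.succ i)), v.2) + v.1.1 0 * v.1.2 0 =
      HU (Fin (n + 1)) R v
    rw [HU_apply, HU_apply]
    simp only [dotProduct, Fin.sum_univ_succ]
    ring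

theorem iso_three (R : QuadraticForm F U) : IsoQ (HQ (HQ (HQ R))) ((HU (Fin 3) R :)) := by
  have h0 := iso_zero R
  have h1 : IsoQ (HQ R) ((HU (Fin 1) R :)) := h0.hq.trans (iso_succ 0 R).symm
  have h2 : IsoQ (HQ (HQ R)) ((HU (Fin 2) R :)) := h1.hq.trans (iso_succ 1 R).symm
  exact h2.hq.trans (iso_succ 2 R).symm

end Iso

variable {F : Type} [Field F] [Finite F] {U : Type} [AddCommGroup U] [Module F U] [FiniteDimensional F U]

theorem minDeg_eight {R : QuadraticForm F U} (hR : Nondeg R) (hU : finrank F U = 2) (han : ∀ u, R u = 0 → u = 0) :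
    MinDeg (E (HU (Fin 3) R)) (Nat.card F ^ 5 + Nat.card F) := by
  classical
  have : Fintype F := Fintype.ofFinite F
  obtain ⟨a, b, hab⟩ := Cfsg.Agent.H955.exists_aniso_coeff F
  have hm : IsoQ R (Cfsg.Agent.LieClassical.OrthForms.minusForm 0 F a b) := by
    refine Cfsg.Agent.H955.aniso_plane_equiv R _ hR (Cfsg.Agent.LieClassical.OrthForms.nondeg_minusForm 0 F a b hab)
      hU (Cfsg.Agent.H955.finrank_minus 0) han (fun v hv => ?_)
    rw [Cfsg.Agent.LieClassical.OrthForms.coe_minusForm, Cfsg.Agent.LieClassical.OrthForms.quadFormMinus_apply,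
      Finset.univ_eq_empty, Finset.sum_empty, zero_add] at hv
    have h1 := hab _ _ hv
    funext i
    rcases i with (i | i) | i
    · exact Fin.elim0 i
    · exact Fin.elim0 i
    · fin_cases i
      · exact h1.1
      · exact h1.2
  have h1 : IsoQ (Cfsg.Agent.LieClassical.OrthForms.minusForm (0 + 3) F a b)
      (HQ (HQ (HQ (Cfsg.Agent.LieClassical.OrthForms.minusForm 0 F a b)))) :=
    (Cfsg.Agent.H122.OrthIso.isoQ_minus 2 a b).trans ((Cfsg.Agent.H122.OrthIso.isoQ_minus 1 a b).hq.trans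
      (Cfsg.Agent.H122.OrthIso.isoQ_minus 0 a b).hq.hq)
  have h2 : IsoQ (Cfsg.Agent.LieClassical.OrthForms.minusForm (0 + 3) F a b) (HU (Fin 3) R) :=
    (h1.trans hm.symm.hq.hq.hq).trans (iso_three R)
  have h3 := h2.minDeg (Cfsg.Agent.H122.OrthMinus.minDeg_minus a b hab 0)
  have h4 : (Cfsg.Agent.H122.OrthArith.Bm (-1) (Fintype.card F) (0 + 1)).toNat = Nat.card F ^ 5 + Nat.card F := by
    have e : Cfsg.Agent.H122.OrthArith.Bm (-1) (Fintype.card F) (0 + 1) =
        ((Nat.card F ^ 5 + Nat.card F : ℕ) : ℤ) := by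
      rw [Nat.card_eq_fintype_card, Cfsg.Agent.H122.OrthArith.Bm_succ]
      simp only [Cfsg.Agent.H122.OrthArith.Bm]
      push_cast
      ring
    rw [e, Int.toNat_natCast]
  rw [h4] at h3
  exact fun k ρ hρ hk => h3.irr k ρ hρ hk

end Cfsg.Agent.H127.Og
end

-- part: H127/Og/EightB
section
/-!
# Centralizers of isometries with one nontrivial irreducible constituent: the range of `x - 1` is small
-/

set_option autoImplicit false
set_option linter.unusedVariables false
set_option linter.unusedSectionVars false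

namespace Cfsg.Agent.H127.Og

open Module Polynomial Cfsg.Agent.H990.TC.Cent

variable {F : Type*} [Field F] {V : Type*} [AddCommGroup V] [Module F V] [FiniteDimensional F V]

/-- `H990.TC.Cent.dec` with the bound for the dimension of the range of `x - 1` only -/
theorem dec' [Finite F] (Q : QuadraticForm F V) (hnd : ∀ u, (∀ v, QuadraticMap.polar Q v u = 0) → u = 0) {r : ℕ}
    (hr : r.Prime) (hrF : (r : F) ≠ 0) (x : Module.End F V) (hx1 : x ≠ 1) (hx : x ^ r = 1)
    (hxQ : ∀ v, Q (x v) = Q v) {k : ℕ} (hk : orderOf ((Nat.card F : ℕ) : ZMod r) = 2 * k)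
    (hd : finrank F (LinearMap.range (x - 1)) < 4 * k) (hrk : r ∣ Nat.card F ^ k + 1) (c : ℕ)
    (hc : ∀ U : Submodule F V, finrank F U = finrank F V - 2 * k →
      (∀ u : U, (∀ v : U, QuadraticMap.polar (Q.comp U.subtype) v u = 0) → u = 0) →
      Nat.card {y : Module.End F U // ∀ u, (Q.comp U.subtype) (y u) = (Q.comp U.subtype) u} ≤ c) :
    Nat.card {y : Module.End F V // Commute x y ∧ ∀ v, Q (y v) = Q v} ≤ (Nat.card F ^ k + 1) * c := by
  classical
  haveI : Finite V := Module.finite_of_finite F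
  set W : Submodule F V := LinearMap.range (x - 1) with hW
  set U : Submodule F V := LinearMap.ker (x - 1) with hU
  have hWm : ∀ w, w ∈ W ↔ ∃ a, x a - a = w := fun w => by
    rw [hW, LinearMap.mem_range]
    rfl
  have hUm : ∀ u, u ∈ U ↔ x u = u := fun u => by
    rw [hU, LinearMap.mem_ker, LinearMap.sub_apply, Module.End.one_apply, sub_eq_zero]
  have hdisj : ∀ v, v ∈ W → v ∈ U → v = 0 := by
    intro v hvW hvU
    obtain ⟨a, ha⟩ := (hWm v).1 hvW
    have hxv := (hUm v).1 hvU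
    have hxa : x a = a + v := by rw [← ha]; abel
    have h1 : ∀ j : ℕ, (x ^ j) a = a + (j : F) • v := by
      intro j
      induction j with
      | zero => simp only [_root_.pow_zero, _root_.Module.End.one_apply, _root_.Nat.cast_zero, _root_.zero_smul, _root_.add_zero]
      | succ j ih =>
        rw [pow_succ', Module.End.mul_apply, ih, map_add, map_smul, hxa, hxv, Nat.cast_succ, add_smul, one_smul]
        abel
    have h2 := h1 r
    rw [hx, Module.End.one_apply] at h2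
    have h3 : (r : F) • v = 0 := by
      have h4 : a + (r : F) • v = a + 0 := by rw [← h2, add_zero]
      exact add_left_cancel h4
    exact (smul_eq_zero.1 h3).resolve_left hrF
  have hsup : W ⊔ U = ⊤ := by
    apply Submodule.eq_top_of_disjoint
    · rw [hW, hU, LinearMap.finrank_range_add_finrank_ker]
    · rw [Submodule.disjoint_def]
      exact hdisj
  have hdecomp : ∀ v : V, ∃ w ∈ W, ∃ u ∈ U, w + u = v := fun v =>
    Submodule.mem_sup.1 (by rw [hsup]; exact Submodule.mem_top)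
  have horth : ∀ w ∈ W, ∀ u ∈ U, QuadraticMap.polar Q w u = 0 := by
    intro w hw u hu
    obtain ⟨a, rfl⟩ := (hWm w).1 hw
    have h1 := polar_isom Q x hxQ a u
    rw [(hUm u).1 hu] at h1
    rw [QuadraticMap.polar_sub_left, h1, sub_self]
  have hxW : ∀ w ∈ W, x w ∈ W := by
    intro w hw
    obtain ⟨a, rfl⟩ := (hWm w).1 hw
    exact (hWm _).2 ⟨x a, by rw [map_sub]⟩
  have hxWf : ∀ w ∈ W, x w = w → w = 0 := fun w hw h => hdisj w hw ((hUm w).2 h)
  have hdv := Cfsg.Agent.H150.dvd_finrank_of_fpf_submodule hr x hx W hxW hxWf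
  rw [hk] at hdv
  have hW0 : W ≠ ⊥ := by
    intro h0
    apply hx1
    apply LinearMap.ext
    intro v
    have h1 : x v - v ∈ W := (hWm _).2 ⟨v, rfl⟩
    rw [h0, Submodule.mem_bot, sub_eq_zero] at h1
    exact h1
  have hWpos : 0 < finrank F W := by
    rw [Nat.pos_iff_ne_zero]
    intro h0
    exact hW0 (Submodule.finrank_eq_zero.1 h0)
  have hWle : finrank F W ≤ finrank F V := Submodule.finrank_le W
  have hd' : finrank F W < 4 * k := hd
  have hWdim : finrank F W = 2 * k := by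
    obtain ⟨m, hm⟩ := hdv
    have hm1 : m = 1 := by
      have : m < 2 := by
        by_contra hcon
        have : 2 * k * 2 ≤ 2 * k * m := Nat.mul_le_mul_left _ (by omega)
        omega
      have : m ≠ 0 := by rintro rfl; omega
      omega
    rw [hm, hm1, mul_one]
  have hsum : finrank F W + finrank F U = finrank F V := by
    rw [hW, hU, LinearMap.finrank_range_add_finrank_ker]
  have hUdim : finrank F U = finrank F V - 2 * k := by omega
  have hndW : ∀ u : W, (∀ v : W, QuadraticMap.polar (Q.comp W.subtype) v u = 0) → u = 0 := by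
    intro u hu
    apply Subtype.ext
    apply hnd
    intro v
    obtain ⟨w, hw, u', hu', rfl⟩ := hdecomp v
    rw [QuadraticMap.polar_add_left]
    have h1 : QuadraticMap.polar Q w u = 0 := hu ⟨w, hw⟩
    have h2 : QuadraticMap.polar Q u' u = 0 := by
      rw [QuadraticMap.polar_comm]; exact horth _ u.2 _ hu'
    rw [h1, h2, add_zero]
  have hndU : ∀ u : U, (∀ v : U, QuadraticMap.polar (Q.comp U.subtype) v u = 0) → u = 0 := by
    intro u hu
    apply Subtype.ext
    apply hnd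
    intro v
    obtain ⟨w, hw, u', hu', rfl⟩ := hdecomp v
    rw [QuadraticMap.polar_add_left]
    have h1 : QuadraticMap.polar Q u' u = 0 := hu ⟨u', hu'⟩
    have h2 : QuadraticMap.polar Q w u = 0 := horth _ hw _ u.2
    rw [h1, h2, add_zero]
  -- the part on `W`
  haveI : Nontrivial W := Module.nontrivial_of_finrank_pos (R := F) hWpos
  set xW : Module.End F W := x.restrict hxW with hxWdef
  have hxWr : xW ^ r = 1 := by
    rw [hxWdef, Module.End.pow_restrict]
    apply LinearMap.ext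
    intro w
    apply Subtype.ext
    exact LinearMap.congr_fun hx (w : V)
  have hirr : ∀ W₁ : Submodule F W, (∀ w ∈ W₁, xW w ∈ W₁) → W₁ = ⊥ ∨ W₁ = ⊤ := fun W₁ h₁ =>
    Cfsg.Agent.H150.irr_of_dvd hr xW hxWr (fun v hv => Subtype.ext (hxWf v v.2 (congrArg Subtype.val hv)))
      (by rw [hk, hWdim]) W₁ h₁
  have h1 := card_irr (Q.comp W.subtype) hndW hr.pos xW hirr hxWr (fun v => hxQ v) hrk
  have h2 := hc U hUdim hndU
  -- the injection
  have hyW : ∀ y : Module.End F V, Commute x y → ∀ w ∈ W, y w ∈ W := by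
    intro y hy w hw
    obtain ⟨a, rfl⟩ := (hWm w).1 hw
    refine (hWm _).2 ⟨y a, ?_⟩
    rw [map_sub]
    have := LinearMap.congr_fun hy.eq a
    rw [Module.End.mul_apply, Module.End.mul_apply] at this
    rw [this]
  have hyU : ∀ y : Module.End F V, Commute x y → ∀ u ∈ U, y u ∈ U := by
    intro y hy u hu
    rw [hUm]
    have := LinearMap.congr_fun hy.eq u
    rw [Module.End.mul_apply, Module.End.mul_apply, (hUm u).1 hu] at this
    exact this
  let g : {y : Module.End F V // Commute x y ∧ ∀ v, Q (y v) = Q v} →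
      {y : Module.End F W // Commute xW y ∧ ∀ v, (Q.comp W.subtype) (y v) = (Q.comp W.subtype) v} ×
      {y : Module.End F U // ∀ v, (Q.comp U.subtype) (y v) = (Q.comp U.subtype) v} := fun y =>
    (⟨y.1.restrict (hyW y.1 y.2.1), by
      constructor
      · apply LinearMap.ext
        intro w
        apply Subtype.ext
        exact LinearMap.congr_fun y.2.1.eq (w : V)
      · intro v
        exact y.2.2 v⟩,
     ⟨y.1.restrict (hyU y.1 y.2.1), fun v => y.2.2 v⟩)
  have hg : Function.Injective g := by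
    intro y z hyz
    have h3 : y.1.restrict (hyW y.1 y.2.1) = z.1.restrict (hyW z.1 z.2.1) := congrArg (fun t => t.1.1) hyz
    have h4 : y.1.restrict (hyU y.1 y.2.1) = z.1.restrict (hyU z.1 z.2.1) := congrArg (fun t => t.2.1) hyz
    apply Subtype.ext
    apply LinearMap.ext
    intro v
    obtain ⟨w, hw, u, hu, rfl⟩ := hdecomp v
    have h5 : y.1 w = z.1 w := congrArg Subtype.val (LinearMap.congr_fun h3 ⟨w, hw⟩)
    have h6 : y.1 u = z.1 u := congrArg Subtype.val (LinearMap.congr_fun h4 ⟨u, hu⟩)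
    rw [map_add, map_add, h5, h6]
  have h3 := Nat.card_le_card_of_injective g hg
  rw [Nat.card_prod] at h3
  exact h3.trans (Nat.mul_le_mul h1 h2)

end Cfsg.Agent.H127.Og
end

-- part: H127/Og/Eight
section
/-!
# S2454: `Ω⁻_8(q)`, `q ≥ 3`: products of elements of prime order `p` with `ord_p(q) = 4`
-/

set_option autoImplicit false
set_option linter.unusedVariables false
set_option linter.unusedSectionVars false

namespace Cfsg.Agent.H127.Og

open QuadraticMap Matrix Module Subgroup Polynomial Cfsg.Agent.LieClassical.OrthCore Cfsg.Agent.H514.DP Cfsg.Agent.H105.Og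

section Num

theorem num_eight {q : ℕ} (hq : 3 ≤ q) :
    ((q ^ 2 + 1) * ((q ^ 3 + q ^ 2 - q - 1) * q ^ 2 * (4 * q)) - 1) ^ 50 < (q ^ 5 + q) ^ (2 * 50 - 4) := by
  rcases Nat.eq_or_lt_of_le hq with rfl | hq4
  · norm_num
  have h4 : 4 ≤ q := hq4
  have h1 : q ^ 3 + q ^ 2 - q - 1 ≤ q ^ 3 + q ^ 2 := by omega
  have h2 : (q ^ 2 + 1) * ((q ^ 3 + q ^ 2 - q - 1) * q ^ 2 * (4 * q)) - 1 ≤ 6 * q ^ 8 := by
    refine (Nat.sub_le _ _).trans ?_
    have e1 : 4 * (q + 1) ≤ 5 * q := by omega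
    have e2 : 16 * (q ^ 2 + 1) ≤ 17 * q ^ 2 := by nlinarith only [hq4]
    have e3 := Nat.mul_le_mul e1 e2
    have e4 : (q ^ 2 + 1) * ((q ^ 3 + q ^ 2 - q - 1) * q ^ 2 * (4 * q)) ≤
        (q ^ 2 + 1) * ((q ^ 3 + q ^ 2) * q ^ 2 * (4 * q)) := by gcongr
    refine e4.trans ?_
    have e5 := Nat.mul_le_mul_left (q ^ 5) e3
    have e6 : q ^ 5 * (4 * (q + 1) * (16 * (q ^ 2 + 1))) =
      16 * ((q ^ 2 + 1) * ((q ^ 3 + q ^ 2) * q ^ 2 * (4 * q))) := by ring
    have e7 : q ^ 5 * (5 * q * (17 * q ^ 2)) = 85 * q ^ 8 := by ring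
    rw [e6, e7] at e5
    omega
  have h3 : (6 * q ^ 8) ^ 2 < q ^ 19 := by
    have e1 : (6 * q ^ 8) ^ 2 = 36 * q ^ 16 := by ring
    have e2 : q ^ 19 = q ^ 3 * q ^ 16 := by ring
    have e3 : 4 ^ 3 ≤ q ^ 3 := Nat.pow_le_pow_left h4 3
    have e4 : 0 < q ^ 16 := by positivity
    rw [e1, e2]
    exact Nat.mul_lt_mul_of_pos_right (by omega) e4
  calc ((q ^ 2 + 1) * ((q ^ 3 + q ^ 2 - q - 1) * q ^ 2 * (4 * q)) - 1) ^ 50 ≤ (6 * q ^ 8) ^ 50 :=
        Nat.pow_le_pow_left h2 50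
    _ = ((6 * q ^ 8) ^ 2) ^ 25 := by rw [← pow_mul]
    _ < (q ^ 19) ^ 25 := Nat.pow_lt_pow_left h3 (by norm_num)
    _ = q ^ 475 := by rw [← pow_mul]
    _ ≤ q ^ 480 := Nat.pow_le_pow_right (by omega) (by norm_num)
    _ = (q ^ 5) ^ 96 := by rw [← pow_mul]
    _ ≤ (q ^ 5 + q) ^ (2 * 50 - 4) := Nat.pow_le_pow_left (by omega) 96

theorem dvd_sq {p q : ℕ} (hp : p.Prime) (ho : orderOf ((q : ℕ) : ZMod p) = 4) : p ∣ q ^ 2 + 1 := by
  have : Fact p.Prime := ⟨hp⟩
  have h1 : ((q : ℕ) : ZMod p) ^ 4 = 1 := by rw [← ho]; exact pow_orderOf_eq_one _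
  have h2 : ((q : ℕ) : ZMod p) ^ 2 ≠ 1 := pow_ne_one_of_lt_orderOf (by norm_num) (by rw [ho]; norm_num)
  have h3 : (((q : ℕ) : ZMod p) ^ 2 - 1) * (((q : ℕ) : ZMod p) ^ 2 + 1) = 0 := by
    linear_combination h1
  rcases mul_eq_zero.1 h3 with h | h
  · exact absurd (sub_eq_zero.1 h) h2
  · rw [← ZMod.natCast_eq_zero_iff]
    push_cast
    exact h

theorem ne_two {p q : ℕ} (hp : p.Prime) (ho : orderOf ((q : ℕ) : ZMod p) = 4) : p ≠ 2 := by
  rintro rfl
  have h2 : ((q : ℕ) : ZMod 2) ^ 2 ≠ 1 := pow_ne_one_of_lt_orderOf (by norm_num) (by rw [ho]; norm_num)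
  have h1 : ((q : ℕ) : ZMod 2) ^ 4 = 1 := by rw [← ho]; exact pow_orderOf_eq_one _
  generalize ((q : ℕ) : ZMod 2) = x at h1 h2
  revert x
  decide

end Num

variable {F : Type} [Field F] [Finite F] {U : Type} [AddCommGroup U] [Module F U] [FiniteDimensional F U]

/-- the coordinates -/
noncomputable def eq6 (F : Type) [Field F] : ((Fin 3 → F) × (Fin 3 → F)) ≃ₗ[F] (Fin 3 ⊕ Fin 3 → F) :=
  (LinearEquiv.sumArrowLequivProdArrow (Fin 3) (Fin 3) F F).symm

/-- extension by the identity -/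
noncomputable def ext6 (U : Type) [AddCommGroup U] [Module F U] :
    ((Fin 3 ⊕ Fin 3 → F) ≃ₗ[F] (Fin 3 ⊕ Fin 3 → F)) →*
      ((((Fin 3 → F) × (Fin 3 → F)) × U) ≃ₗ[F] (((Fin 3 → F) × (Fin 3 → F)) × U)) where
  toFun f := LinearEquiv.prodCongr ((eq6 F).trans (f.trans (eq6 F).symm)) (LinearEquiv.refl F U)
  map_one' := by
    apply LinearEquiv.ext
    rintro ⟨v, u⟩
    refine Prod.ext ?_ rfl
    show (eq6 F).symm (eq6 F v) = v
    rw [LinearEquiv.symm_apply_apply]
  map_mul' f g := by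
    apply LinearEquiv.ext
    rintro ⟨v, u⟩
    refine Prod.ext ?_ rfl
    show (eq6 F).symm (f (g (eq6 F v))) = (eq6 F).symm (f (eq6 F ((eq6 F).symm (g (eq6 F v)))))
    rw [LinearEquiv.apply_symm_apply]

theorem ext6_apply (f : (Fin 3 ⊕ Fin 3 → F) ≃ₗ[F] (Fin 3 ⊕ Fin 3 → F)) (v : ((Fin 3 → F) × (Fin 3 → F)) × U) :
    ext6 U f v = ((eq6 F).symm (f (eq6 F v.1)), v.2) := rfl

theorem ext6_injective : Function.Injective (ext6 (F := F) U) := by
  intro f g h
  apply LinearEquiv.ext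
  intro v
  have h1 := congrArg (fun t => (eq6 F) (t ((eq6 F).symm v, (0 : U))).1) h
  simpa [ext6_apply] using h1

theorem dotF_eq6 (v : (Fin 3 → F) × (Fin 3 → F)) :
    Cfsg.Agent.LieClassical.OrthForms.plusForm 3 F (eq6 F v) = dotF (Fin 3) F v := by
  rw [Cfsg.Agent.LieClassical.OrthForms.coe_plusForm, Cfsg.Agent.LieClassical.OrthForms.quadFormPlus_apply,
    dotF_apply]
  rfl

theorem ext6_mem {R : QuadraticForm F U} {f : (Fin 3 ⊕ Fin 3 → F) ≃ₗ[F] (Fin 3 ⊕ Fin 3 → F)}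
    (hf : f ∈ O (Cfsg.Agent.LieClassical.OrthForms.plusForm 3 F)) : ext6 U f ∈ O (HU (Fin 3) R) := by
  rw [mem_O]
  intro v
  rw [ext6_apply]
  show QuadraticMap.prod (dotF (Fin 3) F) R _ = QuadraticMap.prod (dotF (Fin 3) F) R _
  rw [QuadraticMap.prod_apply, QuadraticMap.prod_apply, ← dotF_eq6, ← dotF_eq6, LinearEquiv.apply_symm_apply,
    mem_O.1 hf]

theorem finrank_range_ext6 (f : (Fin 3 ⊕ Fin 3 → F) ≃ₗ[F] (Fin 3 ⊕ Fin 3 → F)) :
    finrank F (LinearMap.range (((ext6 U f : (((Fin 3 → F) × (Fin 3 → F)) × U) ≃ₗ[F] _) :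
      (((Fin 3 → F) × (Fin 3 → F)) × U) →ₗ[F] (((Fin 3 → F) × (Fin 3 → F)) × U)) - 1)) < 4 * 2 := by
  have h1 : LinearMap.range (((ext6 U f : (((Fin 3 → F) × (Fin 3 → F)) × U) ≃ₗ[F] _) :
      (((Fin 3 → F) × (Fin 3 → F)) × U) →ₗ[F] (((Fin 3 → F) × (Fin 3 → F)) × U)) - 1) ≤
      LinearMap.range (LinearMap.inl F ((Fin 3 → F) × (Fin 3 → F)) U) := by
    rintro _ ⟨v, rfl⟩
    refine ⟨(eq6 F).symm (f (eq6 F v.1)) - v.1, ?_⟩
    refine Prod.ext rfl ?_
    show (0 : U) = v.2 - v.2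
    rw [sub_self]
  have h2 := Submodule.finrank_mono h1
  have h3 := LinearMap.finrank_range_le (LinearMap.inl F ((Fin 3 → F) × (Fin 3 → F)) U)
  have h4 : finrank F ((Fin 3 → F) × (Fin 3 → F)) = 6 := by
    rw [Module.finrank_prod, Module.finrank_fin_fun]
  omega

/-- an isometry of order `p` of the hyperbolic space of dimension six -/
theorem exists_six {p : ℕ} (hp : p.Prime) (ho : orderOf ((Nat.card F : ℕ) : ZMod p) = 4) :
    ∃ f ∈ O (Cfsg.Agent.LieClassical.OrthForms.plusForm 3 F), orderOf f = p := by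
  classical
  have : Fintype F := Fintype.ofFinite F
  have : Fact p.Prime := ⟨hp⟩
  have h1 := Cfsg.Agent.S0287.result (F := F) (Nat.card_eq_fintype_card (α := F)).symm 3 (by norm_num)
  have h2 : p ∣ Nat.card (Cfsg.isometryGroup F (Cfsg.quadFormPlus 3 F)) := by
    rw [h1]
    refine Dvd.dvd.mul_left ?_ _
    rw [Finset.prod_range_succ]
    refine Dvd.dvd.mul_left ?_ _
    have h3 : Nat.card F ^ (2 * (1 + 1)) - 1 = (Nat.card F ^ 2 - 1) * (Nat.card F ^ 2 + 1) := by
      have h4 : 1 ≤ Nat.card F ^ 2 := Nat.one_le_pow _ _ Nat.card_pos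
      obtain ⟨t, ht⟩ : ∃ t, Nat.card F ^ 2 = t + 1 := ⟨Nat.card F ^ 2 - 1, by omega⟩
      have h5 : Nat.card F ^ (2 * (1 + 1)) = (Nat.card F ^ 2) ^ 2 := by rw [← pow_mul]
      rw [h5, ht]
      have h6 : (t + 1) ^ 2 = t * (t + 1 + 1) + 1 := by ring
      rw [h6, Nat.add_sub_cancel, Nat.add_sub_cancel]
    rw [h3]
    exact (dvd_sq hp ho).mul_left _
  rw [← Cfsg.Agent.LieClassical.OrthForms.coe_plusForm] at h2
  have hfin : Finite (Cfsg.isometryGroup F ⇑(Cfsg.Agent.LieClassical.OrthForms.plusForm 3 F)) := inferInstance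
  obtain ⟨g, hg⟩ := exists_prime_orderOf_dvd_card' (G := Cfsg.isometryGroup F
    ⇑(Cfsg.Agent.LieClassical.OrthForms.plusForm 3 F)) p h2
  refine ⟨_, (Cfsg.Agent.LieClassical.OrthFinite.isometryEquiv
    (Cfsg.Agent.LieClassical.OrthForms.plusForm 3 F) g).2, ?_⟩
  rw [Subgroup.orderOf_coe, MulEquiv.orderOf_eq]
  exact hg

theorem lemmaX_eight (h3 : 3 ≤ Nat.card F) {p : ℕ} (hp : p.Prime) (ho : orderOf ((Nat.card F : ℕ) : ZMod p) = 4)
    {R : QuadraticForm F U} (hR : Nondeg R) (hU : finrank F U = 2) (han : ∀ u, R u = 0 → u = 0) :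
    PW p 70 (E (HU (Fin 3) R)) := by
  classical
  have : Fact p.Prime := ⟨hp⟩
  have hfin : Finite (E (HU (Fin 3) R)) := finite_E _
  have hG := good_HU hR (n := 3) (by omega)
  have hperf : _root_.commutator (E (HU (Fin 3) R)) = ⊤ := perfect_of_good hG
  obtain ⟨f, hf, hfp⟩ := exists_six (F := F) hp ho
  have hxO : ext6 U f ∈ O (HU (Fin 3) R) := ext6_mem hf
  have hxp : orderOf (ext6 U f) = p := by rw [orderOf_injective _ ext6_injective, hfp]
  have hxp1 : ext6 U f ^ p = 1 := by rw [← hxp]; exact pow_orderOf_eq_one _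
  have hx1 : ext6 U f ≠ 1 := by
    intro h
    rw [h, orderOf_one] at hxp
    exact hp.one_lt.ne hxp
  have hxE : ext6 U f ∈ E (HU (Fin 3) R) :=
    Cfsg.Agent.H749.mem_E_of_pEl hG (ne_two hp ho) hxO ⟨1, by rw [pow_one]; exact hxp1⟩
  set x : E (HU (Fin 3) R) := ⟨ext6 U f, hxE⟩ with hx
  have hpF : (p : F) ≠ 0 := by
    intro h0
    obtain ⟨c, hc⟩ := dvd_sq hp ho
    have hq0 : ((Nat.card F : ℕ) : F) = 0 := by
      have : Fintype F := Fintype.ofFinite F
      rw [Nat.card_eq_fintype_card]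
      exact FiniteField.cast_card_eq_zero F
    have h1 : ((Nat.card F ^ 2 + 1 : ℕ) : F) = ((p * c : ℕ) : F) := by rw [hc]
    push_cast at h1
    rw [hq0, h0] at h1
    simp only [_root_.ne_eq, _root_.OfNat.ofNat_ne_zero, _root_.not_false_eq_true, _root_.zero_pow, _root_.zero_add, _root_.MulZeroClass.zero_mul, _root_.one_ne_zero] at h1
  have hdim : finrank F (((Fin 3 → F) × (Fin 3 → F)) × U) = 8 := by
    rw [Module.finrank_prod, Module.finrank_prod, Module.finrank_fin_fun, hU]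
  have hC : Nat.card (centralizer ({x} : Set (E (HU (Fin 3) R)))) ≤
      (Nat.card F ^ 2 + 1) * ((Nat.card F ^ 3 + Nat.card F ^ 2 - Nat.card F - 1) * Nat.card F ^ 2 *
        (4 * Nat.card F)) := by
    refine (card_centralizer_le x).trans ?_
    refine dec' (HU (Fin 3) R) (fun u hu => nondeg_HU hR u fun v => by rw [polar_comm]; exact hu v) hp hpF
      ((x : (((Fin 3 → F) × (Fin 3 → F)) × U) ≃ₗ[F] (((Fin 3 → F) × (Fin 3 → F)) × U)) :
        (((Fin 3 → F) × (Fin 3 → F)) × U) →ₗ[F] (((Fin 3 → F) × (Fin 3 → F)) × U))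
      ?_ ?_ (fun v => mem_O.1 hxO v) (k := 2) ho (finrank_range_ext6 f) (dvd_sq hp ho) _ ?_
    · intro h
      apply hx1
      apply LinearEquiv.ext
      intro v
      exact LinearMap.congr_fun h v
    · have h1 : ∀ (n : ℕ), (((ext6 U f ^ n : (((Fin 3 → F) × (Fin 3 → F)) × U) ≃ₗ[F] _) :
        (((Fin 3 → F) × (Fin 3 → F)) × U) →ₗ[F] (((Fin 3 → F) × (Fin 3 → F)) × U))) =
        ((ext6 U f : (((Fin 3 → F) × (Fin 3 → F)) × U) ≃ₗ[F] _) :
          (((Fin 3 → F) × (Fin 3 → F)) × U) →ₗ[F] (((Fin 3 → F) × (Fin 3 → F)) × U)) ^ n := by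
        intro n
        induction n with
        | zero => rfl
        | succ n ih =>
          rw [pow_succ, pow_succ, ← ih]
          rfl
      have h2 := h1 p
      rw [hxp1] at h2
      exact h2.symm
    · intro W hW hnd
      refine Cfsg.Agent.H36.Og.lemmaC4 ((HU (Fin 3) R).comp W.subtype) (fun u hu => hnd u fun v => ?_) ?_
      · rw [polar_comm]; exact hu v
      · rw [hW, hdim]
  have hy : PE p 1 x := by
    refine ⟨x, 1, ⟨1, ?_⟩, rfl, mul_one _⟩
    rw [pow_one]
    exact Subtype.ext hxp1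
  have h50 : PW p (1 * 50) (E (HU (Fin 3) R)) :=
    PW.of_pe (m := 1) (k := 50) hperf hy (minDeg_eight hR hU han) (by norm_num)
      (lt_of_le_of_lt (Nat.pow_le_pow_left (Nat.sub_le_sub_right hC 1) 50) (num_eight h3))
  exact h50.mono (by norm_num)

end Cfsg.Agent.H127.Og
end
end

-- part: H909/Mon/Def
section
set_option linter.all false

/-!
# Words and checks for the Monster row of S2454 (helper909)

* `vw j u` : the word of `wj⁻¹ * W u * wj`, `wj = W (bj j)`;
* `cert j u c` : kernel check which gives: `t₀` fixes `W (vw j u) a₀` and `F a₀ (W (vw j u) a₀) = c / 256`.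
-/

set_option autoImplicit false

namespace Cfsg.Agent.H909.Mon

open Cfsg.Agent.Monster.VecEngine Cfsg.Agent.Monster.VecSpace Cfsg.Agent.MonsterX.Space
open Cfsg.Agent.MonsterX.ProgTable Cfsg.Agent.MonsterX.GensT Cfsg.Agent.MonsterX.ProgBase
open Cfsg.Agent.MonsterX.Conc Cfsg.Agent.MonsterX.Model Cfsg.Agent.MonsterX.InstData
open Cfsg.Agent.MonsterX.OrdChk Cfsg.Agent.MonsterX.InstEval

/-- the word of `W c * t₀ * (W c)⁻¹` -/
noncomputable def tc (c : List ℕ) : List ℕ := cyA c []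

/-- the word of `wj⁻¹ * W u * wj` -/
noncomputable def vw (j : ℕ) (u : List ℕ) : List ℕ := cat (bj j) (cat u (ivA (bj j) []))

/-- the check -/
noncomputable def cert (j : ℕ) (u : List ℕ) (c c' : ℤ) : Bool :=
  and (fixC (vw j u)) (formIs 8 (vw j u) a0B c c')

end Cfsg.Agent.H909.Mon
end

-- part: H829/Pw/FiSmall
section
set_option linter.all false
open scoped Cfsg.Agent.FastGrp

-- part: H980/PwFi23
section
/-!
# S2454: the row `Fi23` (helper980, task 3455)
-/

set_option autoImplicit false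
set_option maxRecDepth 100000

namespace Cfsg.Agent.H980.PwFi23

open Subgroup Cfsg Cfsg.Agent.H514.DP Cfsg.Agent.H773.Pw
open Cfsg.Agent.LThreeFi23 Cfsg.Agent.H839.Fi23 Cfsg.Agent.H838.Fi23
open Cfsg.Agent.H836.Main (centralizer_zpowers)
open Cfsg.Spor (Fi23)

instance simple : IsSimpleGroup Fi23 := Cfsg.Agent.S1697.result.1

theorem card_fi23 : Nat.card Fi23 = 4089470473293004800 := Cfsg.Agent.S1697.result.2

instance finite : Finite Fi23 := Nat.finite_of_card_ne_zero (by rw [card_fi23]; norm_num)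

theorem na : ¬ ∀ a b : Fi23, a * b = b * a := by
  refine Cfsg.Agent.H253.TC.not_comm_of_card (n := 4089470473293004800) card_fi23 (by norm_num) (p := 23) (by norm_num)
    (by norm_num) (by norm_num)

/-- the index of the centralizer in the normalizer -/
theorem relIndex_eq {G : Type*} [Group G] [Finite G] {X : Subgroup G} {c e : ℕ} (hc0 : 0 < c)
    (hc : Nat.card (centralizer (X : Set G)) = c) (hn : Nat.card (normalizer (X : Set G)) = c * e) :
    (centralizer (X : Set G)).relIndex (normalizer (X : Set G)) = e := by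
  have h := Cfsg.Agent.H839.Count.relIndex_mul_card' (centralizer_le_normalizer (X : Set G))
  rw [hc, hn, mul_comm] at h
  exact Nat.eq_of_mul_eq_mul_left hc0 h

section

variable {y : Fi23}

theorem cent17 (hy : orderOf y = 17) : Nat.card (centralizer ((zpowers y : Subgroup Fi23) : Set Fi23)) = 17 ∧
    Nat.card (normalizer ((zpowers y : Subgroup Fi23) : Set Fi23)) = 17 * 16 := by
  have h := seventeen_main (zpowers y) (by rw [Nat.card_zpowers, hy])
  exact ⟨by rw [h.2, Nat.card_zpowers, hy], h.1⟩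

theorem cent23 (hy : orderOf y = 23) : Nat.card (centralizer ((zpowers y : Subgroup Fi23) : Set Fi23)) = 23 ∧
    Nat.card (normalizer ((zpowers y : Subgroup Fi23) : Set Fi23)) = 23 * 11 := by
  have h := twentythree_main (zpowers y) (by rw [Nat.card_zpowers, hy])
  exact ⟨by rw [h.2, Nat.card_zpowers, hy], h.1⟩

theorem cent13 (hy : orderOf y = 13) : Nat.card (centralizer ({y} : Set Fi23)) = 78 := by
  have hSy : ∀ x ∈ SL L3, x * elw y13 = elw y13 * x := fun x hx => (S3_comm_y13 hx).symm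
  have hcard := Cfsg.Agent.H839.FrobGen.card_cent (by norm_num : Nat.Prime 13) pow13 y13_ne hSy
    (fun w hw => Cfsg.Agent.H839.Fi23.cent13 hw) y13_pow_S3
  rw [card_S3] at hcard
  obtain ⟨g, hg⟩ := conj_all13 (zpowers (elw y13)) (zpowers y) card_y13 (by rw [Nat.card_zpowers, hy])
  rw [← centralizer_zpowers, ← hg]
  have h1 := Cfsg.Agent.H838.Transport.map_centralizer (MulAut.conj g) ((zpowers (elw y13) : Subgroup Fi23) : Set Fi23)
  have h2 : (((zpowers (elw y13)).map (MulAut.conj g).toMonoidHom : Subgroup Fi23) : Set Fi23) =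
      (MulAut.conj g) '' ((zpowers (elw y13) : Subgroup Fi23) : Set Fi23) := rfl
  rw [h2, ← h1]
  rw [Subgroup.card_map_of_injective (MulAut.conj g).injective, hcard]

end

theorem minDeg : MinDeg Fi23 16 := by
  obtain ⟨y, hy⟩ := exists_order (K := Fi23) (l := 17) (by norm_num) (by rw [card_fi23]; norm_num)
  obtain ⟨h1, h2⟩ := cent17 hy
  exact minDeg_of_norm na (l := 17) (by norm_num) hy (by rw [h1, h2])

/-! ### words -/

/-- repetition -/
def rp : ℕ → List Lt → List Lt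
  | 0, _ => []
  | n + 1, l => l ++ rp n l

theorem elw_rp (n : ℕ) (l : List Lt) : elw (rp n l) = elw l ^ n := by
  induction n with
  | zero => rw [pow_zero]; exact elw_nil
  | succ n ih =>
    show elw (l ++ rp n l) = _
    rw [elw_append, ih, pow_succ']

theorem pow_of {l : List Lt} {n : ℕ}
    (h : agree (rp n l) [] [11589, 8004, 8003, 8000, 8002, 8005, 7999, 8007, 8006, 0] = true) : elw l ^ n = 1 := by
  rw [← elw_rp, elw_eq_of_agree h, elw_nil]

/-- `b` and its conjugate by `g`, with product of order 13 -/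
def wd (b g : List Lt) : List Lt := b ++ (g ++ (b ++ g.reverse))

theorem elw_wd (b g : List Lt) : elw (wd b g) = elw b * (elw g * elw b * (elw g)⁻¹) := by
  unfold wd
  rw [elw_append, elw_append, elw_append, elw_reverse]
  group

def b3 : List Lt := [.a, .b, .e, .f, .h, .i]
def g3 : List Lt := [.c, .d, .b, .c]
def b5 : List Lt := [.a, .b, .c, .d]
def g5 : List Lt := [.b, .h, .i, .e, .f, .d, .h, .e, .j, .b, .j]
def b7 : List Lt := [.a, .b, .c, .d, .h, .i]
def g7 : List Lt := [.e, .d, .f, .h, .e, .i]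

theorem p3 : elw b3 ^ 3 = 1 := pow_of (by decide +kernel)
theorem p5 : elw b5 ^ 5 = 1 := pow_of (by decide +kernel)
theorem p7 : elw b7 ^ 7 = 1 := pow_of (by (rewrite [show @Cfsg.Agent.LThreeFi23.agree = delta% @Cfsg.Agent.LThreeFi23.agree from by delta Cfsg.Agent.LThreeFi23.agree; rfl, show @Cfsg.Agent.LThreeFi23.ptw = delta% @Cfsg.Agent.LThreeFi23.ptw from by delta Cfsg.Agent.LThreeFi23.ptw; rfl, Cfsg.Agent.Lib.PermNetFast.ptWord_fast]; decide +kernel))
theorem o3 : elw (wd b3 g3) ^ 13 = 1 := pow_of (by (rewrite [show @Cfsg.Agent.LThreeFi23.agree = delta% @Cfsg.Agent.LThreeFi23.agree from by delta Cfsg.Agent.LThreeFi23.agree; rfl, show @Cfsg.Agent.LThreeFi23.ptw = delta% @Cfsg.Agent.LThreeFi23.ptw from by delta Cfsg.Agent.LThreeFi23.ptw; rfl, Cfsg.Agent.Lib.PermNetFast.ptWord_fast]; decide +kernel))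
theorem o5 : elw (wd b5 g5) ^ 13 = 1 := pow_of (by (rewrite [show @Cfsg.Agent.LThreeFi23.agree = delta% @Cfsg.Agent.LThreeFi23.agree from by delta Cfsg.Agent.LThreeFi23.agree; rfl, show @Cfsg.Agent.LThreeFi23.ptw = delta% @Cfsg.Agent.LThreeFi23.ptw from by delta Cfsg.Agent.LThreeFi23.ptw; rfl, Cfsg.Agent.Lib.PermNetFast.ptWord_fast]; decide +kernel))
theorem o7 : elw (wd b7 g7) ^ 13 = 1 := pow_of (by (rewrite [show @Cfsg.Agent.LThreeFi23.agree = delta% @Cfsg.Agent.LThreeFi23.agree from by delta Cfsg.Agent.LThreeFi23.agree; rfl, show @Cfsg.Agent.LThreeFi23.ptw = delta% @Cfsg.Agent.LThreeFi23.ptw from by delta Cfsg.Agent.LThreeFi23.ptw; rfl, Cfsg.Agent.Lib.PermNetFast.ptWord_fast]; decide +kernel))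
theorem n3 : elw (wd b3 g3) ≠ 1 := ne_one_of_pt (p := 8003) (by decide +kernel)
theorem n5 : elw (wd b5 g5) ≠ 1 := ne_one_of_pt (p := 8003) (by decide +kernel)
theorem n7 : elw (wd b7 g7) ≠ 1 := ne_one_of_pt (p := 8003) (by decide +kernel)

/-- the case of a product of two `p`-elements of order 13 -/
theorem pw_wd {p : ℕ} {b g : List Lt} (hb : elw b ^ p = 1) (ho : elw (wd b g) ^ 13 = 1) (hn : elw (wd b g) ≠ 1) :
    PW p 70 Fi23 := by
  have hf : Fact (Nat.Prime 13) := ⟨by norm_num⟩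
  have hy : orderOf (elw (wd b g)) = 13 := orderOf_eq_prime ho hn
  have hpe : IsPE p (elw b) := ⟨1, by rw [pow_one, hb]⟩
  have h2 : PE p 2 (elw (wd b g)) := by
    rw [elw_wd]
    exact hpe.pe.mul (hpe.conj (elw g)).pe
  exact pw_of_pe na h2 minDeg (cent13 hy).le (k := 10) (by norm_num) (by norm_num) (by norm_num)

theorem pw_model {p : ℕ} (hp : p.Prime) (hd : p ∣ Nat.card Fi23) : PW p 70 Fi23 := by
  have h : p ∣ 2 ^ 18 * 3 ^ 13 * 5 ^ 2 * 7 * 11 * 13 * 17 * 23 := by
    rw [card_fi23] at hd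
    exact hd.trans (by norm_num)
  simp only [hp.dvd_mul] at h
  rcases h with ((((((h | h) | h) | h) | h) | h) | h) | h
  · obtain rfl := (Nat.prime_dvd_prime_iff_eq hp Nat.prime_two).1 (hp.dvd_of_dvd_pow h)
    obtain ⟨y, hy⟩ := exists_order (K := Fi23) (l := 17) (by norm_num) (by rw [card_fi23]; norm_num)
    obtain ⟨h1, h2⟩ := cent17 hy
    exact pw_of_norm na hp (l := 17) (by norm_num) hy (by rw [relIndex_eq (by norm_num) h1 h2]; norm_num) minDeg
      (c := 17) (by rw [← centralizer_zpowers, h1]) (k := 5) (by norm_num) (by norm_num) (by norm_num)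
  · obtain rfl := (Nat.prime_dvd_prime_iff_eq hp Nat.prime_three).1 (hp.dvd_of_dvd_pow h)
    exact pw_wd p3 o3 n3
  · obtain rfl := (Nat.prime_dvd_prime_iff_eq hp Nat.prime_five).1 (hp.dvd_of_dvd_pow h)
    exact pw_wd p5 o5 n5
  · obtain rfl := (Nat.prime_dvd_prime_iff_eq hp (by norm_num)).1 h
    exact pw_wd p7 o7 n7
  · obtain rfl := (Nat.prime_dvd_prime_iff_eq hp (by norm_num)).1 h
    obtain ⟨y, hy⟩ := exists_order (K := Fi23) (l := 23) (by norm_num) (by rw [card_fi23]; norm_num)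
    obtain ⟨h1, h2⟩ := cent23 hy
    exact pw_of_norm na hp (l := 23) (by norm_num) hy (by rw [relIndex_eq (by norm_num) h1 h2]) minDeg
      (c := 23) (by rw [← centralizer_zpowers, h1]) (k := 5) (by norm_num) (by norm_num) (by norm_num)
  · obtain rfl := (Nat.prime_dvd_prime_iff_eq hp (by norm_num)).1 h
    exact pw_of_order na hp hd minDeg (c := 78) (fun y hy => (cent13 hy).le) (k := 10) (by norm_num) (by norm_num)
      (by norm_num)
  · obtain rfl := (Nat.prime_dvd_prime_iff_eq hp (by norm_num)).1 h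
    exact pw_of_order na hp hd minDeg (c := 17) (fun y hy => by rw [← centralizer_zpowers, (cent17 hy).1]) (k := 5)
      (by norm_num) (by norm_num) (by norm_num)
  · obtain rfl := (Nat.prime_dvd_prime_iff_eq hp (by norm_num)).1 h
    exact pw_of_order na hp hd minDeg (c := 23) (fun y hy => by rw [← centralizer_zpowers, (cent23 hy).1]) (k := 5)
      (by norm_num) (by norm_num) (by norm_num)

/-- **`Fi23`** -/
theorem pw_fi23 {S : Type*} [Group S] (h : Spor.IsoFi23 S) {p : ℕ} (hp : p.Prime) (hd : p ∣ Nat.card S) :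
    PW p 70 S := by
  obtain ⟨e⟩ := h
  exact (pw_model hp (by rwa [← Nat.card_congr e.toEquiv])).congr e.symm

end Cfsg.Agent.H980.PwFi23
end

-- part: H829/Pw/FiSmall
section
/-!
# `Fi23`: every element is a product of five `p`-elements, `p = 17, 23` (S2454, helper829)
-/

set_option autoImplicit false

namespace Cfsg.Agent.H829.Pw

open Subgroup Cfsg Cfsg.Agent.H514.DP Cfsg.Agent.H773.Pw Cfsg.Agent.H980.PwFi23
open Cfsg.Agent.H836.Main (centralizer_zpowers)

theorem fi23_17 : PW 17 5 Spor.Fi23 := by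
  obtain ⟨y, hy⟩ := exists_order (K := Spor.Fi23) (l := 17) (by norm_num) (by rw [card_fi23]; norm_num)
  exact pw_of_pe na (IsPE.of_prime hy).pe minDeg (c := 17) (by rw [← centralizer_zpowers, (cent17 hy).1]) (k := 5)
    (by norm_num) (by norm_num) (by norm_num)

theorem fi23_23 : PW 23 5 Spor.Fi23 := by
  obtain ⟨y, hy⟩ := exists_order (K := Spor.Fi23) (l := 23) (by norm_num) (by rw [card_fi23]; norm_num)
  exact pw_of_pe na (IsPE.of_prime hy).pe minDeg (c := 23) (by rw [← centralizer_zpowers, (cent23 hy).1]) (k := 5)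
    (by norm_num) (by norm_num) (by norm_num)

end Cfsg.Agent.H829.Pw
end
end

-- part: H24/Pw/Co1_mg
section
prune_inst 0x40004000862000000002010000000000000002000000400442203020b0000400080000009000000000000800001002002000000400000000a000000000000208000400082080104040087000100000000000000000000000000000000000000000000000
set_option linter.all false
open scoped Cfsg.Agent.FastGrp

-- part: H24/Pw/Co1
section
/-!
# S2454, row `Co1` (helper24)

The element of order 23 of `M24` is a product of two elements of `p`-power order for `p = 2, 3, 5, 7, 11`; the degrees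
of the nontrivial representations of `Co1` are at least 276 (helper847).
-/

set_option autoImplicit false

namespace Cfsg.Agent.H24.Pw.Co1

open Cfsg Cfsg.Spor Cfsg.Agent.H514.DP Cfsg.Agent.H773.Pw
open Cfsg.Agent.SporadicA.GolayBase Cfsg.Agent.SporadicStructure.TabPerm
open Cfsg.Agent.CpAutBig.Tab
open Cfsg.Agent.SporadicA.Co0Mono (permCo0)
open Cfsg.Agent.H604.Cop.Conway (pi23 pi23_mem F23 idx_pi23 r23 s23)

universe u

/-- the 23-cycle -/
def y24 : M24 := ⟨pi23, pi23_mem⟩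

theorem tab_isPE {p k : ℕ} {A A' : List ℕ} (hA : chk A A' = true) (hAM : chkM A = true)
    (h1 : ∀ i < 24, (fun j => A.getD j 0)^[p ^ k] i = i) :
    IsPE p (⟨tabPerm A A' hA, tabPerm_mem_M24 _ _ _ hAM⟩ : M24) := by
  refine ⟨k, Subtype.ext ?_⟩
  show (tabPerm A A' hA) ^ p ^ k = 1
  ext1 x
  apply idx_injective
  rw [show idx ((tabPerm A A' hA ^ p ^ k : Equiv.Perm GolayPt) x) = (fun j => A.getD j 0)^[p ^ k] (idx x) from
    idx_iter hA (p ^ k) x, h1 _ (idx_lt x)]
  rfl

theorem pe_two {p k : ℕ} {A A' B B' : List ℕ} (hA : chk A A' = true) (hB : chk B B' = true) (hAM : chkM A = true)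
    (hBM : chkM B = true) (h1 : ∀ i < 24, (fun j => A.getD j 0)^[p ^ k] i = i)
    (h2 : ∀ i < 24, (fun j => B.getD j 0)^[p ^ k] i = i) (h3 : ∀ i < 24, A.getD (B.getD i 0) 0 = F23.getD i 0) :
    PE p 2 y24 := by
  have h4 : (⟨tabPerm A A' hA, tabPerm_mem_M24 _ _ _ hAM⟩ : M24) * ⟨tabPerm B B' hB, tabPerm_mem_M24 _ _ _ hBM⟩ =
      y24 := by
    apply Subtype.ext
    show tabPerm A A' hA * tabPerm B B' hB = pi23
    ext1 x
    apply idx_injective
    show idx (tabPerm A A' hA (tabPerm B B' hB x)) = idx (pi23 x)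
    rw [idx_tab hA, idx_tab hB, idx_pi23, h3 _ (idx_lt x)]
  have h5 := (tab_isPE hA hAM h1).pe.mul (tab_isPE hB hBM h2).pe
  rwa [h4] at h5

theorem pe_2 : PE 2 2 y24 :=
  pe_two (p := 2) (k := 2) (A := [9, 15, 5, 4, 3, 23, 12, 8, 11, 0, 16, 21, 18, 14, 13, 1, 20, 2, 19, 6, 22, 7, 10, 17])
    (A' := [9, 15, 17, 4, 3, 2, 19, 21, 7, 0, 22, 8, 6, 14, 13, 1, 10, 23, 12, 18, 16, 11, 20, 5])
    (B := [15, 17, 4, 3, 2, 19, 21, 7, 0, 22, 8, 6, 14, 13, 1, 10, 23, 12, 18, 16, 11, 20, 9, 5])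
    (B' := [8, 14, 4, 3, 2, 23, 11, 7, 10, 22, 15, 20, 17, 13, 12, 0, 19, 1, 18, 5, 21, 6, 9, 16])
    (by decide +kernel) (by decide +kernel) (by decide +kernel) (by decide +kernel) (by decide +kernel)
    (by decide +kernel) (by decide +kernel)

theorem pe_3 : PE 3 2 y24 :=
  pe_two (p := 3) (k := 1) (A := [23, 14, 15, 19, 5, 6, 4, 17, 11, 2, 16, 12, 8, 10, 21, 9, 13, 18, 7, 20, 3, 1, 0, 22])
    (A' := [22, 21, 9, 20, 6, 4, 5, 18, 12, 15, 13, 8, 11, 16, 1, 2, 10, 7, 17, 3, 19, 14, 23, 0])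
    (B := [21, 9, 20, 6, 4, 5, 18, 12, 15, 13, 8, 11, 16, 1, 2, 10, 7, 17, 3, 19, 14, 23, 22, 0])
    (B' := [23, 13, 14, 18, 4, 5, 3, 16, 10, 1, 15, 11, 7, 9, 20, 8, 12, 17, 6, 19, 2, 0, 22, 21])
    (by decide +kernel) (by decide +kernel) (by decide +kernel) (by decide +kernel) (by decide +kernel)
    (by decide +kernel) (by decide +kernel)

theorem pe_5 : PE 5 2 y24 :=
  pe_two (p := 5) (k := 1) (A := [1, 8, 17, 9, 2, 4, 15, 7, 18, 23, 0, 11, 13, 6, 5, 16, 12, 14, 10, 19, 20, 22, 3, 21])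
    (A' := [10, 0, 4, 22, 5, 14, 13, 7, 1, 3, 18, 11, 16, 12, 17, 6, 15, 2, 8, 19, 20, 23, 21, 9])
    (B := [0, 4, 22, 5, 14, 13, 7, 1, 3, 18, 11, 16, 12, 17, 6, 15, 2, 8, 19, 20, 23, 21, 10, 9])
    (B' := [0, 7, 16, 8, 1, 3, 14, 6, 17, 23, 22, 10, 12, 5, 4, 15, 11, 13, 9, 18, 19, 21, 2, 20])
    (by decide +kernel) (by decide +kernel) (by decide +kernel) (by decide +kernel) (by decide +kernel)
    (by decide +kernel) (by decide +kernel)

theorem pe_7 : PE 7 2 y24 :=
  pe_two (p := 7) (k := 1) (A := [1, 12, 3, 23, 0, 4, 6, 15, 18, 7, 21, 5, 22, 13, 14, 20, 17, 8, 2, 10, 19, 9, 11, 16])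
    (A' := [4, 0, 18, 2, 5, 11, 6, 9, 17, 21, 19, 22, 1, 13, 14, 7, 23, 16, 8, 20, 15, 10, 12, 3])
    (B := [0, 18, 2, 5, 11, 6, 9, 17, 21, 19, 22, 1, 13, 14, 7, 23, 16, 8, 20, 15, 10, 12, 4, 3])
    (B' := [0, 11, 2, 23, 22, 3, 5, 14, 17, 6, 20, 4, 21, 12, 13, 19, 16, 7, 1, 9, 18, 8, 10, 15])
    (by decide +kernel) (by decide +kernel) (by decide +kernel) (by decide +kernel) (by decide +kernel)
    (by decide +kernel) (by decide +kernel)

theorem pe_11 : PE 11 2 y24 :=
  pe_two (p := 11) (k := 1) (A := [6, 2, 10, 14, 18, 22, 17, 7, 16, 5, 4, 13, 19, 21, 1, 11, 20, 12, 15, 9, 0, 3, 8, 23])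
    (A' := [20, 14, 1, 21, 10, 9, 0, 7, 22, 19, 2, 15, 17, 11, 3, 18, 8, 6, 4, 12, 16, 13, 5, 23])
    (B := [14, 1, 21, 10, 9, 0, 7, 22, 19, 2, 15, 17, 11, 3, 18, 8, 6, 4, 12, 16, 13, 5, 20, 23])
    (B' := [5, 1, 9, 13, 17, 21, 16, 6, 15, 4, 3, 12, 18, 20, 0, 10, 19, 11, 14, 8, 22, 2, 7, 23])
    (by decide +kernel) (by decide +kernel) (by decide +kernel) (by decide +kernel) (by decide +kernel)
    (by decide +kernel) (by decide +kernel)

theorem s23_eq : s23 = ((QuotientGroup.mk' (Subgroup.center Co0)).comp permCo0) y24 := rfl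

theorem pe_s23 {p : ℕ} (h : PE p 2 y24) : PE p 2 s23 := by
  rw [s23_eq]
  exact h.map _

theorem minDeg : MinDeg Spor.Co1 276 := by
  intro k ρ hρ hk
  by_contra hlt
  obtain ⟨g, hg⟩ := Cfsg.Agent.H121.Chr.exists_ne_one ρ hρ hk
  exact hg (Cfsg.Agent.H847.Co1Small.trivial_of_lt ρ (by rw [Module.finrank_fin_fun]; omega) g)

theorem prime_cases {p : ℕ} (hp : p.Prime) (hd : p ∣ 4157776806543360000) :
    p = 2 ∨ p = 3 ∨ p = 5 ∨ p = 7 ∨ p = 11 ∨ p = 13 ∨ p = 23 := by
  have h : (4157776806543360000 : ℕ) = 2 ^ 21 * 3 ^ 9 * 5 ^ 4 * 7 ^ 2 * 11 * 13 * 23 := by norm_num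
  rw [h] at hd
  have h2 := Nat.prime_two
  have h3 := Nat.prime_three
  have h5 := Nat.prime_five
  have h7 : Nat.Prime 7 := by norm_num
  have h11 : Nat.Prime 11 := by norm_num
  have h13 : Nat.Prime 13 := by norm_num
  have h23 : Nat.Prime 23 := by norm_num
  rw [hp.dvd_mul, hp.dvd_mul, hp.dvd_mul, hp.dvd_mul, hp.dvd_mul, hp.dvd_mul] at hd
  rcases hd with (((((hd | hd) | hd) | hd) | hd) | hd) | hd
  · exact Or.inl ((Nat.prime_dvd_prime_iff_eq hp h2).1 (hp.dvd_of_dvd_pow hd))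
  · exact Or.inr (Or.inl ((Nat.prime_dvd_prime_iff_eq hp h3).1 (hp.dvd_of_dvd_pow hd)))
  · exact Or.inr (Or.inr (Or.inl ((Nat.prime_dvd_prime_iff_eq hp h5).1 (hp.dvd_of_dvd_pow hd))))
  · exact Or.inr (Or.inr (Or.inr (Or.inl ((Nat.prime_dvd_prime_iff_eq hp h7).1 (hp.dvd_of_dvd_pow hd)))))
  · exact Or.inr (Or.inr (Or.inr (Or.inr (Or.inl ((Nat.prime_dvd_prime_iff_eq hp h11).1 hd)))))
  · exact Or.inr (Or.inr (Or.inr (Or.inr (Or.inr (Or.inl ((Nat.prime_dvd_prime_iff_eq hp h13).1 hd))))))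
  · exact Or.inr (Or.inr (Or.inr (Or.inr (Or.inr (Or.inr ((Nat.prime_dvd_prime_iff_eq hp h23).1 hd))))))

theorem pw_model {p : ℕ} (hp : p.Prime) (hd : p ∣ Nat.card Spor.Co1) : PW p 70 Spor.Co1 := by
  have hfin : Finite Spor.Co1 := BpSpor.MBigCo.finite_co1
  have hs : IsSimpleGroup Spor.Co1 := Cfsg.Agent.S0399.result.1
  have hcard : Nat.card Spor.Co1 = 4157776806543360000 := BpSpor.MBigCo.card_co1
  have hna : ¬ ∀ a b : Spor.Co1, a * b = b * a :=
    H253.TC.not_comm_of_card (p := 23) hcard (by norm_num) (by norm_num) (by norm_num) (by norm_num)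
  have key : PE p 2 y24 → PW p 70 Spor.Co1 := fun h =>
    pw_of_pe hna (k := 3) (pe_s23 h) minDeg Cfsg.Agent.H604.Cop.Conway.card_cent_s23 (by norm_num) (by norm_num)
      (by norm_num)
  rw [hcard] at hd
  rcases prime_cases hp hd with rfl | rfl | rfl | rfl | rfl | rfl | rfl
  · exact key pe_2
  · exact key pe_3
  · exact key pe_5
  · exact key pe_7
  · exact key pe_11
  · refine pw_of_order hna (l := 13) (k := 7) (c := 1872) (by norm_num) (by rw [hcard]; norm_num) minDeg ?_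
      (by norm_num) (by norm_num) (by norm_num)
    intro y hy
    have h1 := Nat.le_of_dvd (by norm_num) (Cfsg.Agent.H444.CoThirteen.dvd_cent hy)
    exact h1.trans (by norm_num)
  · exact pw_of_pe hna (m := 1) (k := 3) (y := s23)
      (IsPE.of_prime Cfsg.Agent.H604.Cop.Conway.orderOf_s23).pe minDeg
      Cfsg.Agent.H604.Cop.Conway.card_cent_s23 (by norm_num) (by norm_num) (by norm_num)

/-- **Row `Co1` of S2454.** -/
theorem pw_co1 {S : Type*} [Group S] [Finite S] [IsSimpleGroup S] (h : Spor.IsoCo1 S) {p : ℕ} (hp : p.Prime)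
    (hd : p ∣ Nat.card S) : PW p 70 S := by
  obtain ⟨e⟩ := h
  rw [Nat.card_congr e.toEquiv] at hd
  exact (pw_model hp hd).congr e.symm

end Cfsg.Agent.H24.Pw.Co1
end

-- part: H105/Og/Deg
section
/-!
# The degree bound for `E (HU (Fin n) R)` (helper105)
-/

set_option autoImplicit false

namespace Cfsg.Agent.H105.Og

open QuadraticMap Matrix Module Cfsg.Agent.LieClassical.OrthCore Cfsg.Agent.LieClassical.OrthTrans
  Cfsg.Agent.LieClassical.OrthFinite Cfsg.Agent.H122.OrthIso Cfsg.Agent.H122.OrthWt Cfsg.Agent.H122.OrthRep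
  Cfsg.Agent.H122.OrthStep Cfsg.Agent.H122.OrthSum

section core

variable {F : Type} [Field F] [Fintype F] {W : Type} [AddCommGroup W] [Module F W] [Fintype W]

theorem minDeg_core (Q : QuadraticForm F W) (hG : Good (HQ (HQ (HQ Q)))) (hQ : Nondeg (HQ (HQ Q)))
    (hT : TransN (HQ (HQ Q))) :
    Cfsg.Agent.H122.MinDeg (E (HQ (HQ (HQ Q))))
      ((Fintype.card F - 1) * (Fintype.card W * Fintype.card F ^ 2 + Fintype.card W * Fintype.card F) - 1) := by
  classical
  intro M _ _ _ ρ hρ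
  obtain ⟨ψ, hψ⟩ : ∃ ψ : AddChar F ℂ, ψ ≠ 1 := by
    obtain ⟨ψ, hψ⟩ : ∃ ψ : AddChar F ℂ, ψ 1 ≠ 1 := AddChar.exists_apply_ne_zero.mpr one_ne_zero
    exact ⟨ψ, fun h => hψ (by rw [h]; rfl)⟩
  have h1 := exists_fm (HQ Q) ρ hG hQ hT hψ hρ
  have h2 := finrank_eq (HQ Q) ρ hQ hT hψ
  set f : F → ℕ := fm (HQ Q) ρ ψ with hf
  rw [sum_HQ, sum_HQ] at h2
  have hP : Ph (fun c => (f c : ℂ)) = ((∑ c, f c : ℕ) : ℂ) := by
    rw [Ph]; push_cast; rfl
  have hS : Sm Q (fun c => (f c : ℂ)) = ((∑ w, f (Q w) : ℕ) : ℂ) := by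
    rw [Sm]; push_cast; rfl
  have hW : (Fintype.card (W × F × F) : ℂ) = Fintype.card W * (Fintype.card F * Fintype.card F) := by
    rw [Fintype.card_prod, Fintype.card_prod]; push_cast; rfl
  rw [hP, hS, hW] at h2
  set P := ∑ c, f c with hPdef
  set S := ∑ w, f (Q w)
  have h0 : f 0 ≤ P := Finset.single_le_sum (f := f) (fun _ _ => Nat.zero_le _) (Finset.mem_univ 0)
  obtain ⟨q, hq⟩ : ∃ q, Fintype.card F = q + 1 := ⟨Fintype.card F - 1, (Nat.sub_add_cancel Fintype.card_pos).symm⟩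
  rw [hq] at h2 ⊢
  set w := Fintype.card W
  have h3 : finrank ℂ M + f 0 = mu (HQ (HQ Q)) ρ ψ 0 + ((q + 1) * ((q + 1) * S + q * w * P) +
      q * (w * ((q + 1) * (q + 1))) * P) := by
    have : (finrank ℂ M : ℂ) + f 0 = mu (HQ (HQ Q)) ρ ψ 0 + ((q + 1) * ((q + 1) * S + q * w * P) +
      q * (w * ((q + 1) * (q + 1))) * P) := by
      rw [h2]
      push_cast
      ring
    exact_mod_cast this
  rw [Nat.add_sub_cancel]
  set B := q * (w * (q + 1) ^ 2 + w * (q + 1)) with hB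
  have h4 : (q + 1) * ((q + 1) * S + q * w * P) + q * (w * ((q + 1) * (q + 1))) * P =
      (q + 1) * ((q + 1) * S) + B * P := by
    rw [hB]; ring
  rw [h4] at h3
  have h5 : B * P ≤ finrank ℂ M + P := by omega
  rcases Nat.eq_zero_or_pos B with hB0 | hB0
  · omega
  · obtain ⟨b, hb⟩ : ∃ b, B = b + 1 := ⟨B - 1, by omega⟩
    rw [hb, Nat.add_mul, one_mul] at h5
    rw [hb, Nat.add_sub_cancel]
    have h6 : b * 1 ≤ b * P := Nat.mul_le_mul_left _ h1
    omega

end core

section iso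

variable {F : Type*} [Field F] {U : Type*} [AddCommGroup U] [Module F U]

/-- splitting off a hyperbolic plane -/
def splitE (n : ℕ) (F U : Type*) [Field F] [AddCommGroup U] [Module F U] :
    (((Fin (n + 1) → F) × (Fin (n + 1) → F)) × U) ≃ₗ[F] ((((Fin n → F) × (Fin n → F)) × U) × F × F) where
  toFun v := (((Fin.tail v.1.1, Fin.tail v.1.2), v.2), v.1.1 0, v.1.2 0)
  map_add' _ _ := rfl
  map_smul' _ _ := rfl
  invFun v := ((Fin.cons v.2.1 v.1.1.1, Fin.cons v.2.2 v.1.1.2), v.1.2)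
  left_inv v := by
    refine Prod.ext (Prod.ext ?_ ?_) rfl
    · exact Fin.cons_self_tail _
    · exact Fin.cons_self_tail _
  right_inv v := rfl

theorem isoQ_HU (n : ℕ) (R : QuadraticForm F U) : IsoQ (HU (Fin (n + 1)) R) (HQ (HU (Fin n) R)) := by
  refine ⟨splitE n F U, fun v => ?_⟩
  rw [HQ_apply, HU_apply, HU_apply, dotProduct, dotProduct, Fin.sum_univ_succ]
  show ∑ i, Fin.tail v.1.1 i * Fin.tail v.1.2 i + R v.2 + v.1.1 0 * v.1.2 0 = _
  simp only [Fin.tail]
  ring

end iso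

section main

variable {F : Type} [Field F] [Finite F] {U : Type} [AddCommGroup U] [Module F U] [FiniteDimensional F U]

/-- **Lemma A** -/
theorem lemmaA {n : ℕ} (hn : 3 ≤ n) {R : QuadraticForm F U} (hR : Nondeg R) (hd : 7 ≤ 2 * n + finrank F U) :
    Cfsg.Agent.H514.DP.MinDeg (E (HU (Fin n) R))
      ((Nat.card F - 1) * (Nat.card F ^ (2 * n + finrank F U - 4) + Nat.card F ^ (2 * n + finrank F U - 5)) - 1) := by
  classical
  obtain ⟨k, rfl⟩ : ∃ k, n = k + 3 := ⟨n - 3, by omega⟩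
  have := Fintype.ofFinite F
  have hfin : Finite (((Fin k → F) × (Fin k → F)) × U) := Module.finite_of_finite F
  have := Fintype.ofFinite (((Fin k → F) × (Fin k → F)) × U)
  set Q := HU (Fin k) R with hQdef
  have h1 : IsoQ (HU (Fin (k + 1)) R) (HQ Q) := isoQ_HU k R
  have h2 : IsoQ (HU (Fin (k + 2)) R) (HQ (HQ Q)) := (isoQ_HU (k + 1) R).trans h1.hq
  have h3 : IsoQ (HU (Fin (k + 3)) R) (HQ (HQ (HQ Q))) := (isoQ_HU (k + 2) R).trans h2.hq
  have hnd : ∀ {V V' : Type} [AddCommGroup V] [Module F V] [AddCommGroup V'] [Module F V']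
      {Q1 : QuadraticForm F V} {Q2 : QuadraticForm F V'}, IsoQ Q1 Q2 → Nondeg Q1 → Nondeg Q2 := by
    intro V V' _ _ _ _ Q1 Q2 h hN x hx
    obtain ⟨e, he⟩ := h
    obtain ⟨x, rfl⟩ := e.surjective x
    rw [hN x (fun y => by rw [← polar_iso he]; exact hx _), map_zero]
  have hN2 : Nondeg (HQ (HQ Q)) := hnd h2 (nondeg_HU hR)
  have hN3 : Nondeg (HQ (HQ (HQ Q))) := hnd h3 (nondeg_HU hR)
  have hfr : finrank F (((Fin k → F) × (Fin k → F)) × U) = 2 * k + finrank F U := finrank_HU k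
  have hG2 : Good (HQ (HQ Q)) := good_of_finite hN2 (by
    rw [finrank_HQ', finrank_HQ', hfr]; omega)
  have hG3 : Good (HQ (HQ (HQ Q))) := good_of_finite hN3 (by
    rw [finrank_HQ', finrank_HQ', finrank_HQ', hfr]; omega)
  have h4 := minDeg_core Q hG3 hN2 (transN_of_good _ hG2)
  have h5 := h3.symm.minDeg h4
  have hW : Fintype.card (((Fin k → F) × (Fin k → F)) × U) = Fintype.card F ^ (2 * k + finrank F U) := by
    rw [Module.card_eq_pow_finrank (K := F), hfr]
  rw [hW, ← pow_add, ← pow_succ] at h5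
  intro j ρ hρ hj
  have h6 := h5.irr j ρ hρ hj
  rw [Nat.card_eq_fintype_card]
  have e1 : 2 * (k + 3) + finrank F U - 4 = 2 * k + finrank F U + 2 := by omega
  have e2 : 2 * (k + 3) + finrank F U - 5 = 2 * k + finrank F U + 1 := by omega
  rw [e1, e2]
  exact h6

end main

end Cfsg.Agent.H105.Og
end

-- part: H166/Og/XNum
section
/-!
# Arithmetic for the elements of order `p` in the orthogonal groups (S2454, helper166)
-/

set_option autoImplicit false

namespace Cfsg.Agent.H166.Og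

theorem lt_of_scaled {a b A B s t : ℕ} (ha : s * a ≤ A) (hb : B ≤ t * b) (_hs : 0 < s)
    (h : A ^ 5 * t ^ 6 < B ^ 6 * s ^ 5) : a ^ 5 < b ^ 6 := by
  by_contra hcon
  rw [not_lt] at hcon
  have h1 : (s * a) ^ 5 ≤ A ^ 5 := Nat.pow_le_pow_left ha 5
  have h2 : B ^ 6 ≤ (t * b) ^ 6 := Nat.pow_le_pow_left hb 6
  have h3 : A ^ 5 * t ^ 6 < A ^ 5 * t ^ 6 := by
    calc A ^ 5 * t ^ 6 < B ^ 6 * s ^ 5 := h
      _ ≤ (t * b) ^ 6 * s ^ 5 := Nat.mul_le_mul_right _ h2
      _ = t ^ 6 * s ^ 5 * b ^ 6 := by ring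
      _ ≤ t ^ 6 * s ^ 5 * a ^ 5 := Nat.mul_le_mul_left _ hcon
      _ = t ^ 6 * (s * a) ^ 5 := by ring
      _ ≤ t ^ 6 * A ^ 5 := Nat.mul_le_mul_left _ h1
      _ = A ^ 5 * t ^ 6 := by ring
  exact lt_irrefl _ h3

theorem d_eq {q a b : ℕ} (hq : 1 ≤ q) (hb : b = a + 1) : (q - 1) * (q ^ b + q ^ a) = (q ^ 2 - 1) * q ^ a := by
  subst hb
  obtain ⟨k, rfl⟩ := Nat.exists_eq_add_of_le hq
  have h1 : (1 + k) ^ 2 - 1 = k * (k + 2) := by
    have : (1 + k) ^ 2 = k * (k + 2) + 1 := by ring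
    omega
  rw [h1, Nat.add_sub_cancel_left]
  ring

/-- complement of dimension two -/
theorem num_two {q i : ℕ} (hq : 2 ≤ q) (hi : 3 ≤ i) (h : ¬ (q = 2 ∧ i = 3)) :
    ((q ^ i + 1) * (4 * q) - 1) ^ 5 < ((q - 1) * (q ^ (2 * i - 2) + q ^ (2 * i - 3)) - 1) ^ 6 := by
  obtain ⟨j, rfl⟩ := Nat.exists_eq_add_of_le hi
  rw [d_eq (a := 2 * (3 + j) - 3) (by omega) (by omega)]
  set Y := q ^ j with hY
  have hY1 : 1 ≤ Y := Nat.one_le_pow _ _ (by omega)
  have hYq : q = 2 → 2 ≤ Y := by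
    rintro rfl
    have : 1 ≤ j := by
      by_contra hj
      exact h ⟨rfl, by omega⟩
    calc 2 = 2 ^ 1 := by norm_num
      _ ≤ Y := Nat.pow_le_pow_right (by norm_num) this
  have e1 : q ^ (3 + j) = q ^ 3 * Y := by rw [pow_add]
  have e2 : q ^ (2 * (3 + j) - 3) = q ^ 3 * Y ^ 2 := by
    have : 2 * (3 + j) - 3 = 3 + j * 2 := by omega
    rw [this, pow_add, pow_mul]
  rw [e1, e2]
  obtain ⟨k, rfl⟩ := Nat.exists_eq_add_of_le hq
  have hsq : (2 + k) ^ 2 - 1 = k ^ 2 + 4 * k + 3 := by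
    have : (2 + k) ^ 2 = k ^ 2 + 4 * k + 3 + 1 := by ring
    omega
  rw [hsq]
  have h16 : 16 ≤ (2 + k) ^ 3 * Y := by
    rcases Nat.eq_zero_or_pos k with rfl | hk
    · have := hYq rfl
      norm_num
      omega
    · have : 27 ≤ (2 + k) ^ 3 := by
        calc 27 = 3 ^ 3 := by norm_num
          _ ≤ (2 + k) ^ 3 := Nat.pow_le_pow_left (by omega) 3
      calc 16 ≤ 27 * 1 := by norm_num
        _ ≤ (2 + k) ^ 3 * Y := Nat.mul_le_mul this hY1
  refine lt_of_scaled (s := 4) (t := 64) (A := 17 * ((2 + k) ^ 4 * Y)) (B := 47 * ((2 + k) ^ 5 * Y ^ 2)) ?_ ?_ (by norm_num) ?_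
  · calc 4 * (((2 + k) ^ 3 * Y + 1) * (4 * (2 + k)) - 1) ≤ 4 * (((2 + k) ^ 3 * Y + 1) * (4 * (2 + k))) :=
          Nat.mul_le_mul_left _ (Nat.sub_le _ _)
      _ = (16 * ((2 + k) ^ 3 * Y) + 16) * (2 + k) := by ring
      _ ≤ (17 * ((2 + k) ^ 3 * Y)) * (2 + k) := Nat.mul_le_mul_right _ (by omega)
      _ = 17 * ((2 + k) ^ 4 * Y) := by ring
  · have hd1 : 1 ≤ (k ^ 2 + 4 * k + 3) * ((2 + k) ^ 3 * Y ^ 2) := by
      have : 0 < (2 + k) ^ 3 * Y ^ 2 := by positivity
      nlinarith only [this]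
    have key : 47 * ((2 + k) ^ 5 * Y ^ 2) + 64 ≤ 64 * ((k ^ 2 + 4 * k + 3) * ((2 + k) ^ 3 * Y ^ 2)) := by
      have h1 : 64 ≤ ((2 + k) ^ 3 * Y ^ 2) * (17 * (k ^ 2 + 4 * k) + 4) := by
        rcases Nat.eq_zero_or_pos k with rfl | hk
        · have h2 := hYq rfl
          have : 4 ≤ Y ^ 2 := by nlinarith only [h16]
          norm_num
          omega
        · have h2 : 1 ≤ (2 + k) ^ 3 * Y ^ 2 := Nat.one_le_iff_ne_zero.2 (by positivity)
          have h3 : 64 ≤ 17 * (k ^ 2 + 4 * k) + 4 := by linarith only [hk, _root_.sq_nonneg (↑k : ℤ)]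
          calc 64 = 1 * 64 := by norm_num
            _ ≤ _ := Nat.mul_le_mul h2 h3
      calc 47 * ((2 + k) ^ 5 * Y ^ 2) + 64 ≤ 47 * ((2 + k) ^ 5 * Y ^ 2)
            + ((2 + k) ^ 3 * Y ^ 2) * (17 * (k ^ 2 + 4 * k) + 4) := Nat.add_le_add_left h1 _
        _ = 64 * ((k ^ 2 + 4 * k + 3) * ((2 + k) ^ 3 * Y ^ 2)) := by ring
    omega
  · have h1 : 8840 ≤ (2 + k) ^ 10 * Y ^ 7 := by
      rcases Nat.eq_zero_or_pos k with rfl | hk
      · have h2 := hYq rfl
        have : 2 ^ 7 ≤ Y ^ 7 := Nat.pow_le_pow_left h2 7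
        norm_num at this ⊢
        omega
      · have h2 : 3 ^ 10 ≤ (2 + k) ^ 10 := Nat.pow_le_pow_left (by omega) 10
        have h3 : 1 ≤ Y ^ 7 := Nat.one_le_pow _ _ hY1
        calc 8840 ≤ 3 ^ 10 * 1 := by norm_num
          _ ≤ _ := Nat.mul_le_mul h2 h3
    have h0 : 0 < (2 + k) ^ 20 * Y ^ 5 := by positivity
    calc (17 * ((2 + k) ^ 4 * Y)) ^ 5 * 64 ^ 6 = (17 ^ 5 * 64 ^ 6) * ((2 + k) ^ 20 * Y ^ 5) := by (set_option synthInstance.maxSize 99999 in exact Cfsg.Agent.Lib.RingK.eqN (by decide +kernel))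
      _ < (47 ^ 6 * 4 ^ 5 * 8840) * ((2 + k) ^ 20 * Y ^ 5) := Nat.mul_lt_mul_of_pos_right (by norm_num) h0
      _ ≤ (47 ^ 6 * 4 ^ 5 * ((2 + k) ^ 10 * Y ^ 7)) * ((2 + k) ^ 20 * Y ^ 5) :=
          Nat.mul_le_mul_right _ (Nat.mul_le_mul_left _ h1)
      _ = (47 * ((2 + k) ^ 5 * Y ^ 2)) ^ 6 * 4 ^ 5 := by (set_option synthInstance.maxSize 99999 in exact Cfsg.Agent.Lib.RingK.eqN (by decide +kernel))

/-- complement of dimension one -/
theorem num_one {q i : ℕ} (hq : 3 ≤ q) (hi : 3 ≤ i) :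
    ((q ^ i + 1) * 2 - 1) ^ 5 < ((q - 1) * (q ^ (2 * i - 3) + q ^ (2 * i - 4)) - 1) ^ 6 := by
  obtain ⟨j, rfl⟩ := Nat.exists_eq_add_of_le hi
  rw [d_eq (a := 2 * (3 + j) - 4) (by omega) (by omega)]
  set Y := q ^ j with hY
  have hY1 : 1 ≤ Y := Nat.one_le_pow _ _ (by omega)
  have e1 : q ^ (3 + j) = q ^ 3 * Y := by rw [pow_add]
  have e2 : q ^ (2 * (3 + j) - 4) = q ^ 2 * Y ^ 2 := by
    have : 2 * (3 + j) - 4 = 2 + j * 2 := by omega
    rw [this, pow_add, pow_mul]
  rw [e1, e2]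
  obtain ⟨k, rfl⟩ := Nat.exists_eq_add_of_le hq
  have hsq : (3 + k) ^ 2 - 1 = k ^ 2 + 6 * k + 8 := by
    have : (3 + k) ^ 2 = k ^ 2 + 6 * k + 8 + 1 := by ring
    omega
  rw [hsq]
  have h16 : 16 ≤ (3 + k) ^ 3 * Y := by
    have : 27 ≤ (3 + k) ^ 3 := by
      calc 27 = 3 ^ 3 := by norm_num
        _ ≤ (3 + k) ^ 3 := Nat.pow_le_pow_left (by omega) 3
    calc 16 ≤ 27 * 1 := by norm_num
      _ ≤ (3 + k) ^ 3 * Y := Nat.mul_le_mul this hY1
  refine lt_of_scaled (s := 8) (t := 64) (A := 17 * ((3 + k) ^ 3 * Y)) (B := 47 * ((3 + k) ^ 4 * Y ^ 2)) ?_ ?_ (by norm_num) ?_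
  · calc 8 * (((3 + k) ^ 3 * Y + 1) * 2 - 1) ≤ 8 * (((3 + k) ^ 3 * Y + 1) * 2) :=
          Nat.mul_le_mul_left _ (Nat.sub_le _ _)
      _ = 16 * ((3 + k) ^ 3 * Y) + 16 := by ring
      _ ≤ 17 * ((3 + k) ^ 3 * Y) := by omega
  · have key : 47 * ((3 + k) ^ 4 * Y ^ 2) + 64 ≤ 64 * ((k ^ 2 + 6 * k + 8) * ((3 + k) ^ 2 * Y ^ 2)) := by
      have h1 : 64 ≤ ((3 + k) ^ 2 * Y ^ 2) * (17 * (k ^ 2 + 6 * k) + 89) := by
        have h2 : 1 ≤ (3 + k) ^ 2 * Y ^ 2 := Nat.one_le_iff_ne_zero.2 (by positivity)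
        have h3 : 64 ≤ 17 * (k ^ 2 + 6 * k) + 89 := by linarith only [_root_.sq_nonneg (↑k : ℤ), _root_.Nat.cast_nonneg (α := ℤ) (k)]
        calc 64 = 1 * 64 := by norm_num
          _ ≤ _ := Nat.mul_le_mul h2 h3
      calc 47 * ((3 + k) ^ 4 * Y ^ 2) + 64 ≤ 47 * ((3 + k) ^ 4 * Y ^ 2)
            + ((3 + k) ^ 2 * Y ^ 2) * (17 * (k ^ 2 + 6 * k) + 89) := Nat.add_le_add_left h1 _
        _ = 64 * ((k ^ 2 + 6 * k + 8) * ((3 + k) ^ 2 * Y ^ 2)) := by ring
    omega
  · have h1 : 277 ≤ (3 + k) ^ 9 * Y ^ 7 := by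
      have h2 : 3 ^ 9 ≤ (3 + k) ^ 9 := Nat.pow_le_pow_left (by omega) 9
      have h3 : 1 ≤ Y ^ 7 := Nat.one_le_pow _ _ hY1
      calc 277 ≤ 3 ^ 9 * 1 := by norm_num
        _ ≤ _ := Nat.mul_le_mul h2 h3
    have h0 : 0 < (3 + k) ^ 15 * Y ^ 5 := by positivity
    calc (17 * ((3 + k) ^ 3 * Y)) ^ 5 * 64 ^ 6 = (17 ^ 5 * 64 ^ 6) * ((3 + k) ^ 15 * Y ^ 5) := by (set_option synthInstance.maxSize 99999 in exact Cfsg.Agent.Lib.RingK.eqN (by decide +kernel))
      _ < (47 ^ 6 * 8 ^ 5 * 277) * ((3 + k) ^ 15 * Y ^ 5) := Nat.mul_lt_mul_of_pos_right (by norm_num) h0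
      _ ≤ (47 ^ 6 * 8 ^ 5 * ((3 + k) ^ 9 * Y ^ 7)) * ((3 + k) ^ 15 * Y ^ 5) :=
          Nat.mul_le_mul_right _ (Nat.mul_le_mul_left _ h1)
      _ = (47 * ((3 + k) ^ 4 * Y ^ 2)) ^ 6 * 8 ^ 5 := by (set_option synthInstance.maxSize 99999 in exact Cfsg.Agent.Lib.RingK.eqN (by decide +kernel))

/-- complement of dimension zero -/
theorem num_zero {q m : ℕ} (hq : 2 ≤ q) (hm : 3 ≤ m) :
    (q ^ (m + 1) + 1 - 1) ^ 5 < ((q - 1) * (q ^ (2 * m - 2) + q ^ (2 * m - 3)) - 1) ^ 6 := by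
  obtain ⟨j, rfl⟩ := Nat.exists_eq_add_of_le hm
  rw [d_eq (a := 2 * (3 + j) - 3) (by omega) (by omega), Nat.add_sub_cancel]
  set Y := q ^ j with hY
  have hY1 : 1 ≤ Y := Nat.one_le_pow _ _ (by omega)
  have e1 : q ^ (3 + j + 1) = q ^ 4 * Y := by
    have : 3 + j + 1 = 4 + j := by omega
    rw [this, pow_add]
  have e2 : q ^ (2 * (3 + j) - 3) = q ^ 3 * Y ^ 2 := by
    have : 2 * (3 + j) - 3 = 3 + j * 2 := by omega
    rw [this, pow_add, pow_mul]
  rw [e1, e2]
  obtain ⟨k, rfl⟩ := Nat.exists_eq_add_of_le hq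
  have hsq : (2 + k) ^ 2 - 1 = k ^ 2 + 4 * k + 3 := by
    have : (2 + k) ^ 2 = k ^ 2 + 4 * k + 3 + 1 := by ring
    omega
  rw [hsq]
  have h1 : (2 + k) ^ 4 * Y ^ 2 + 1 ≤ (k ^ 2 + 4 * k + 3) * ((2 + k) ^ 3 * Y ^ 2) := by
    have h2 : 1 ≤ (2 + k) ^ 3 * Y ^ 2 := Nat.one_le_iff_ne_zero.2 (by positivity)
    calc (2 + k) ^ 4 * Y ^ 2 + 1 ≤ (2 + k) ^ 4 * Y ^ 2 + (2 + k) ^ 3 * Y ^ 2 := Nat.add_le_add_left h2 _
      _ = (k + 3) * ((2 + k) ^ 3 * Y ^ 2) := by ring
      _ ≤ _ := Nat.mul_le_mul_right _ (by linarith only [_root_.sq_nonneg (↑k : ℤ), _root_.Nat.cast_nonneg (α := ℤ) (k)])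
  have h2 : (2 + k) ^ 4 * Y ^ 2 ≤ (k ^ 2 + 4 * k + 3) * ((2 + k) ^ 3 * Y ^ 2) - 1 := by omega
  refine lt_of_lt_of_le ?_ (Nat.pow_le_pow_left h2 6)
  have h0 : 0 < (2 + k) ^ 20 * Y ^ 5 := by positivity
  have h3 : 1 < (2 + k) ^ 4 * Y ^ 7 := by
    have h4 : 1 < (2 + k) ^ 4 := Nat.one_lt_pow (by norm_num) (by omega)
    have h5 : 1 ≤ Y ^ 7 := Nat.one_le_pow _ _ hY1
    calc 1 < (2 + k) ^ 4 * 1 := by omega
      _ ≤ _ := Nat.mul_le_mul_left _ h5
  calc ((2 + k) ^ 4 * Y) ^ 5 = 1 * ((2 + k) ^ 20 * Y ^ 5) := by (set_option synthInstance.maxSize 99999 in exact Cfsg.Agent.Lib.RingK.eqN (by decide +kernel))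
    _ < ((2 + k) ^ 4 * Y ^ 7) * ((2 + k) ^ 20 * Y ^ 5) := Nat.mul_lt_mul_of_pos_right h3 h0
    _ = ((2 + k) ^ 4 * Y ^ 2) ^ 6 := by (set_option synthInstance.maxSize 99999 in exact Cfsg.Agent.Lib.RingK.eqN (by decide +kernel))

end Cfsg.Agent.H166.Og
end

-- part: H166/Og/XLem
section
/-!
# S2454, orthogonal rows: `lemmaX_plus`, `lemmaX_odd`, `lemmaX_minus` (helper166), relative to the degree bound `lemmaA`
-/

set_option autoImplicit false
set_option linter.unusedSectionVars false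

namespace Cfsg.Agent.H166.Og

open QuadraticMap Matrix Module Subgroup Cfsg.Agent.LieClassical.OrthCore Cfsg.Agent.LieClassical.OrthTrans
  Cfsg.Agent.H514.DP Cfsg.Agent.H105.Og

variable {F : Type} [Field F] [Finite F] {U : Type} [AddCommGroup U] [Module F U] [FiniteDimensional F U]

/-- the degree bound `lemmaA` of helper699 as a hypothesis -/
def DegA (F : Type) [Field F] [Finite F] (U : Type) [AddCommGroup U] [Module F U] [FiniteDimensional F U] (n : ℕ)
    (R : QuadraticForm F U) : Prop :=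
  MinDeg (E (HU (Fin n) R))
      ((Nat.card F - 1) * (Nat.card F ^ (2 * n + finrank F U - 4) + Nat.card F ^ (2 * n + finrank F U - 5)) - 1)

theorem two_le_card (F : Type) [Field F] [Finite F] : 2 ≤ Nat.card F := Finite.one_lt_card

theorem no_six {p : ℕ} (hp : p.Prime) (h : orderOf ((2 : ℕ) : ZMod p) = 2 * 3) : False := by
  have h1 := dvd_pow_add_one hp (by norm_num) h
  norm_num at h1
  have h2 : p ∣ 3 := by
    have : p ∣ 3 * 3 := h1
    rcases (Nat.Prime.dvd_mul hp).1 this with h | h <;> exact h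
  have h3 : p = 3 := (Nat.prime_dvd_prime_iff_eq hp Nat.prime_three).1 h2
  subst h3
  have h4 : orderOf ((2 : ℕ) : ZMod 3) ∣ 2 := orderOf_dvd_of_pow_eq_one (by decide)
  rw [h] at h4
  norm_num at h4

theorem lemmaX_plus {i : ℕ} (hi : 3 ≤ i) {p : ℕ} (hp : p.Prime) (ho : orderOf ((Nat.card F : ℕ) : ZMod p) = 2 * i)
    {R : QuadraticForm F U} (hR : Nondeg R) (hU : finrank F U = 0) (hA : DegA F U (i + 1) R) :
    PW p 5 (E (HU (Fin (i + 1)) R)) := by
  have hG : Good (HU (Fin (i + 1)) R) := good_HU hR (by omega)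
  have hq := two_le_card F
  have hfr : finrank F (((Fin (i + 1) → F) × (Fin (i + 1) → F)) × U) = 2 * i + 2 := by
    rw [finrank_HU, hU]
    ring
  have hcount : Nat.card {v // HU (Fin (i + 1)) R v = 0} - 1 =
      (Nat.card F ^ (i + 1) - 1) * (Nat.card F ^ i + 1) := by
    have : Subsingleton U := finrank_zero_iff.1 hU
    have h1 : Nat.card {u : U // R u = 0} = 1 := by
      rw [Nat.card_eq_one_iff_unique]
      exact ⟨⟨fun a b => Subtype.ext (Subsingleton.elim _ _)⟩, ⟨0, QuadraticMap.map_zero R⟩⟩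
    rw [card_sing, h1, hU, pow_zero, mul_one, mul_one, Nat.add_sub_cancel]
    have h2 : 1 ≤ Nat.card F ^ (i + 1) := Nat.one_le_pow _ _ (by omega)
    obtain ⟨k, hk⟩ := Nat.exists_eq_add_of_le h2
    rw [hk, Nat.add_sub_cancel_left]
    rw [mul_add, mul_one, ← add_assoc]
    omega
  have hdvd : p ∣ Nat.card (E (HU (Fin (i + 1)) R)) := by
    refine dvd_trans ?_ (dvd_card_E hG)
    rw [hcount]
    exact Dvd.dvd.mul_left (dvd_pow_add_one hp (by omega) ho) _
  refine core hG hp (by omega) ho (by omega) (c := 4 * Nat.card F)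
    (fun U' hU' h => H990.TC.Cent.card_iso_two _ h (by omega)) hA ?_ hdvd
  have e1 : 2 * (i + 1) + finrank F U - 4 = 2 * i - 2 := by omega
  have e2 : 2 * (i + 1) + finrank F U - 5 = 2 * i - 3 := by omega
  rw [e1, e2]
  refine num_two hq hi ?_
  rintro ⟨h1, rfl⟩
  rw [h1] at ho
  exact no_six hp ho

theorem lemmaX_odd {n : ℕ} (hn : 3 ≤ n) {p : ℕ} (hp : p.Prime) (ho : orderOf ((Nat.card F : ℕ) : ZMod p) = 2 * n)
    (h2 : (2 : F) ≠ 0) {R : QuadraticForm F U} (hR : Nondeg R) (hU : finrank F U = 1) (hA : DegA F U n R) :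
    PW p 70 (E (HU (Fin n) R)) := by
  have hG : Good (HU (Fin n) R) := good_HU hR (by omega)
  have hq : 3 ≤ Nat.card F := by
    have hq := two_le_card F
    by_contra hcon
    have h3 : Nat.card F = 2 := by omega
    apply h2
    have := Fintype.ofFinite F
    have h4 : ((Fintype.card F : ℕ) : F) = 0 := Nat.cast_card_eq_zero F
    rw [← Nat.card_eq_fintype_card, h3] at h4
    exact_mod_cast h4
  have hfr : finrank F (((Fin n → F) × (Fin n → F)) × U) = 2 * n + 1 := by
    rw [finrank_HU, hU]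
  have hcount : Nat.card {v // HU (Fin n) R v = 0} - 1 = Nat.card F ^ (2 * n) - 1 := by
    have h1 : Nat.card {u : U // R u = 0} = 1 := by
      obtain ⟨v, hv, hs⟩ := finrank_eq_one_iff'.1 hU
      have hQv : R v ≠ 0 := by
        intro h0
        apply hv
        apply hR
        intro y
        obtain ⟨a, rfl⟩ := hs y
        rw [QuadraticMap.polar_smul_right, polar_self', h0, mul_zero, smul_zero]
      rw [Nat.card_eq_one_iff_unique]
      refine ⟨⟨fun a b => ?_⟩, ⟨0, QuadraticMap.map_zero R⟩⟩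
      have h3 : ∀ u : {u : U // R u = 0}, u.1 = 0 := by
        intro u
        obtain ⟨a, ha⟩ := hs u.1
        have h4 := u.2
        rw [← ha, QuadraticMap.map_smul, smul_eq_mul] at h4
        rcases mul_eq_zero.1 h4 with h5 | h5
        · have h6 : a = 0 := by simpa using h5
          rw [← ha, h6, zero_smul]
        · exact absurd h5 hQv
      exact Subtype.ext ((h3 a).trans (h3 b).symm)
    rw [card_sing, h1, hU, pow_one, mul_one]
    obtain ⟨k, rfl⟩ := Nat.exists_eq_add_of_le hn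
    have e1 : 3 + k - 1 = k + 2 := by omega
    rw [e1, ← pow_succ]
    have e2 : k + 2 + 1 = 3 + k := by omega
    rw [e2]
    have h3 : 1 ≤ Nat.card F ^ (3 + k) := Nat.one_le_pow _ _ (by omega)
    obtain ⟨a, ha⟩ := Nat.exists_eq_add_of_le h3
    have e3 : Nat.card F ^ (2 * (3 + k)) = Nat.card F ^ (3 + k) * Nat.card F ^ (3 + k) := by rw [two_mul, pow_add]
    rw [e3, ha, Nat.add_sub_cancel_left]
    congr 1
    ring
  have hdvd : p ∣ Nat.card (E (HU (Fin n) R)) := by
    refine dvd_trans ?_ (dvd_card_E hG)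
    rw [hcount]
    have h3 := dvd_pow_add_one hp (by omega) ho
    refine h3.trans ⟨Nat.card F ^ n - 1, ?_⟩
    have h4 : 1 ≤ Nat.card F ^ n := Nat.one_le_pow _ _ (by omega)
    obtain ⟨a, ha⟩ := Nat.exists_eq_add_of_le h4
    have e3 : Nat.card F ^ (2 * n) = Nat.card F ^ n * Nat.card F ^ n := by rw [two_mul, pow_add]
    rw [e3, ha, Nat.add_sub_cancel_left]
    have : (1 + a) * (1 + a) = (1 + a + 1) * a + 1 := by ring
    omega
  have h5 := core hG hp (by omega) ho (by omega) (c := 2)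
    (fun U' hU' h => H990.TC.Cent.card_iso_one _ h (by omega)) hA (by
      have e1 : 2 * n + finrank F U - 4 = 2 * n - 3 := by omega
      have e2 : 2 * n + finrank F U - 5 = 2 * n - 4 := by omega
      rw [e1, e2]
      exact num_one hq hn) hdvd
  exact h5.mono (by norm_num)

/-- the number of singular vectors in the minus case -/
theorem count_minus {m : ℕ} {R : QuadraticForm F U} (hm : 1 ≤ m) (hU : finrank F U = 2) (han : ∀ u, R u = 0 → u = 0) :
    Nat.card {v // HU (Fin m) R v = 0} - 1 = (Nat.card F ^ (m + 1) + 1) * (Nat.card F ^ m - 1) := by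
  have hq := two_le_card F
  have h1 : Nat.card {u : U // R u = 0} = 1 := by
    rw [Nat.card_eq_one_iff_unique]
    exact ⟨⟨fun a b => Subtype.ext ((han _ a.2).trans (han _ b.2).symm)⟩, ⟨0, QuadraticMap.map_zero R⟩⟩
  rw [card_sing, h1, hU, mul_one]
  have e1 : Nat.card F ^ (m - 1) * Nat.card F ^ 2 = Nat.card F ^ (m + 1) := by
    rw [← pow_add]
    congr 1
    omega
  rw [e1]
  have h3 : 1 ≤ Nat.card F ^ m := Nat.one_le_pow _ _ (by omega)
  obtain ⟨a, ha⟩ := Nat.exists_eq_add_of_le h3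
  rw [ha, Nat.add_sub_cancel_left]
  have : a * Nat.card F ^ (m + 1) + (1 + a) = (Nat.card F ^ (m + 1) + 1) * a + 1 := by ring
  omega

section Step

variable {F : Type} [Field F] {U : Type} [AddCommGroup U] [Module F U]

theorem snoc_dot {k : ℕ} (x : Fin k → F) (y : Fin (k + 1) → F) :
    (Fin.snoc (α := fun _ => F) x 0 : Fin (k + 1) → F) ⬝ᵥ y = x ⬝ᵥ (y ∘ Fin.castSucc) := by
  rw [dotProduct, Fin.sum_univ_castSucc]
  simp only [dotProduct, _root_.Fin.snoc_castSucc, _root_.Fin.snoc_last, _root_.MulZeroClass.zero_mul, _root_.add_zero, _root_.Function.comp_apply]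

theorem snoc_add {k : ℕ} (x y : Fin k → F) :
    (Fin.snoc (α := fun _ => F) (x + y) 0 : Fin (k + 1) → F) =
      Fin.snoc (α := fun _ => F) x 0 + Fin.snoc (α := fun _ => F) y 0 := by
  funext j
  refine Fin.lastCases ?_ (fun j => ?_) j <;> simp

theorem snoc_smul {k : ℕ} (c : F) (x : Fin k → F) :
    (Fin.snoc (α := fun _ => F) (c • x) 0 : Fin (k + 1) → F) = c • Fin.snoc (α := fun _ => F) x 0 := by
  funext j
  refine Fin.lastCases ?_ (fun j => ?_) j <;> simp

/-- the inclusion of the space with one hyperbolic plane less -/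
def incS (k : ℕ) (F U : Type) [Field F] [AddCommGroup U] [Module F U] :
    (((Fin k → F) × (Fin k → F)) × U) →ₗ[F] (((Fin (k + 1) → F) × (Fin (k + 1) → F)) × U) where
  toFun v := ((Fin.snoc (α := fun _ => F) v.1.1 0, Fin.snoc (α := fun _ => F) v.1.2 0), v.2)
  map_add' v w := Prod.ext (Prod.ext (snoc_add _ _) (snoc_add _ _)) rfl
  map_smul' c v := Prod.ext (Prod.ext (snoc_smul _ _) (snoc_smul _ _)) rfl

/-- the retraction -/
def resS (k : ℕ) (F U : Type) [Field F] [AddCommGroup U] [Module F U] :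
    (((Fin (k + 1) → F) × (Fin (k + 1) → F)) × U) →ₗ[F] (((Fin k → F) × (Fin k → F)) × U) where
  toFun v := ((v.1.1 ∘ Fin.castSucc, v.1.2 ∘ Fin.castSucc), v.2)
  map_add' v w := rfl
  map_smul' c v := rfl

theorem resS_incS (k : ℕ) (v : ((Fin k → F) × (Fin k → F)) × U) : resS k F U (incS k F U v) = v := by
  refine Prod.ext (Prod.ext ?_ ?_) rfl
  · funext j
    exact Fin.snoc_castSucc (α := fun _ => F) (p := v.1.1) (x := 0) j
  · funext j
    exact Fin.snoc_castSucc (α := fun _ => F) (p := v.1.2) (x := 0) j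

theorem card_step [Finite F] [FiniteDimensional F U] (k : ℕ) (R : QuadraticForm F U) :
    Nat.card (E (HU (Fin k) R)) ∣ Nat.card (E (HU (Fin (k + 1)) R)) := by
  have hQ : ∀ v, HU (Fin (k + 1)) R (incS k F U v) = HU (Fin k) R v := by
    intro v
    rw [HU_apply, HU_apply]
    show (Fin.snoc (α := fun _ => F) v.1.1 0 : Fin (k + 1) → F) ⬝ᵥ
      (Fin.snoc (α := fun _ => F) v.1.2 0 : Fin (k + 1) → F) + R v.2 = _
    rw [snoc_dot]
    congr 2
    funext j
    exact Fin.snoc_castSucc (α := fun _ => F) (p := v.1.2) (x := 0) j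
  have hp : ∀ x v, polar (HU (Fin (k + 1)) R) (incS k F U x) v = polar (HU (Fin k) R) x (resS k F U v) := by
    intro x v
    rw [polar_HU, polar_HU]
    show (Fin.snoc (α := fun _ => F) x.1.1 0 : Fin (k + 1) → F) ⬝ᵥ v.1.2 +
      v.1.1 ⬝ᵥ (Fin.snoc (α := fun _ => F) x.1.2 0 : Fin (k + 1) → F) + polar R x.2 v.2 =
      x.1.1 ⬝ᵥ (v.1.2 ∘ Fin.castSucc) + (v.1.1 ∘ Fin.castSucc) ⬝ᵥ x.1.2 + polar R x.2 v.2
    rw [snoc_dot, dotProduct_comm v.1.1, snoc_dot, dotProduct_comm x.1.2]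
  have : Finite (E (HU (Fin (k + 1)) R)) := finite_E _
  refine Subgroup.card_dvd_of_injective (extE (incS k F U) (resS k F U) (resS_incS k) hQ hp) ?_
  rw [injective_iff_map_eq_one]
  intro g hg
  apply Subtype.ext
  apply LinearEquiv.ext
  intro x
  have h1 := congrArg (fun z : E (HU (Fin (k + 1)) R) =>
    resS k F U ((z : (((Fin (k + 1) → F) × (Fin (k + 1) → F)) × U) ≃ₗ[F] _) (incS k F U x))) hg
  have h2 : resS k F U ((extE (incS k F U) (resS k F U) (resS_incS k) hQ hp g :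
      (((Fin (k + 1) → F) × (Fin (k + 1) → F)) × U) ≃ₗ[F] _) (incS k F U x)) = (g : _ ≃ₗ[F] _) x := by
    rw [extE_coe, extH_apply, map_add, resS_incS, resS_incS]
    abel
  have h3 : resS k F U (((1 : E (HU (Fin (k + 1)) R)) : (((Fin (k + 1) → F) × (Fin (k + 1) → F)) × U) ≃ₗ[F] _)
      (incS k F U x)) = x := resS_incS k x
  exact h2.symm.trans (h1.trans h3)

end Step

theorem lemmaX_minus {m i : ℕ} (hm : 3 ≤ m) (hi : i = m ∨ i = m + 1) {p : ℕ} (hp : p.Prime)
    (ho : orderOf ((Nat.card F : ℕ) : ZMod p) = 2 * i)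
    {R : QuadraticForm F U} (hR : Nondeg R) (hU : finrank F U = 2) (han : ∀ u, R u = 0 → u = 0)
    (hA : DegA F U m R) :
    PW p 70 (E (HU (Fin m) R)) := by
  have hG : Good (HU (Fin m) R) := good_HU hR (by omega)
  have hq := two_le_card F
  have hfr : finrank F (((Fin m → F) × (Fin m → F)) × U) = 2 * m + 2 := by
    rw [finrank_HU, hU]
  have e1 : 2 * m + finrank F U - 4 = 2 * m - 2 := by omega
  have e2 : 2 * m + finrank F U - 5 = 2 * m - 3 := by omega
  rcases hi with rfl | rfl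
  · -- `i = m`: the element lies in the subgroup of dimension `2 * m`
    obtain ⟨k, rfl⟩ : ∃ k, i = k + 1 := ⟨i - 1, by omega⟩
    have hG0 : Good (HU (Fin k) R) := good_HU hR (by omega)
    have h1 : p ∣ Nat.card (E (HU (Fin k) R)) := by
      refine dvd_trans ?_ (dvd_card_E hG0)
      rw [count_minus (by omega) hU han]
      exact Dvd.dvd.mul_right (dvd_pow_add_one hp (by omega) ho) _
    have h2 : Nat.card (E (HU (Fin k) R)) ∣ Nat.card (E (HU (Fin (k + 1)) R)) := card_step k R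
    refine (core hG hp (by omega) ho (by omega) (c := 4 * Nat.card F)
      (fun U' hU' h => H990.TC.Cent.card_iso_two _ h (by omega)) hA ?_ (h1.trans h2)).mono (by norm_num)
    rw [e1, e2]
    refine num_two hq hm ?_
    rintro ⟨h3, h4⟩
    rw [h3, h4] at ho
    exact no_six hp ho
  · have hdvd : p ∣ Nat.card (E (HU (Fin m) R)) := by
      refine dvd_trans ?_ (dvd_card_E hG)
      rw [count_minus (by omega) hU han]
      exact Dvd.dvd.mul_right (dvd_pow_add_one hp (by omega) ho) _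
    refine (core hG hp (by omega) ho (by omega) (c := 1)
      (fun U' hU' _ => H990.TC.Cent.card_iso_zero _ (by omega)) hA ?_ hdvd).mono (by norm_num)
    rw [e1, e2, mul_one]
    exact num_zero hq hm

end Cfsg.Agent.H166.Og
end

-- part: H36/Og/TransPlus
section
/-!
# Transfer to `PΩ⁺_{2m}(q)` (S2454, for helper105)
-/

set_option autoImplicit false

namespace Cfsg.Agent.H36.Og

open QuadraticMap Cfsg Matrix Module Subgroup Cfsg.Agent.LieClassical.OrthCore
  Cfsg.Agent.LieClassical.OrthForms Cfsg.Agent.LieClassical.OrthFinite Cfsg.Agent.LieClassical.OrthTrans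
  Cfsg.Agent.LieClassical.OrthSimple Cfsg.Agent.H122.OrthIso Cfsg.Agent.H105.Og

/-- the isometry `quadFormPlus m F ≅ HU (Fin m) 0` -/
def plusE (m : ℕ) (F : Type*) [Field F] :
    (Fin m ⊕ Fin m → F) ≃ₗ[F] (((Fin m → F) × (Fin m → F)) × (Fin 0 → F)) where
  toFun v := ((fun i => v (.inl i), fun i => v (.inr i)), fun i => i.elim0)
  map_add' _ _ := by
    refine Prod.ext rfl ?_
    funext i; exact i.elim0
  map_smul' _ _ := by
    refine Prod.ext rfl ?_
    funext i; exact i.elim0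
  invFun v := Sum.elim v.1.1 v.1.2
  left_inv v := by
    funext i
    rcases i with i | i <;> rfl
  right_inv v := by
    refine Prod.ext rfl ?_
    funext i; exact i.elim0

theorem isoQ_plus (m : ℕ) (F : Type*) [Field F] :
    IsoQ (plusForm m F) (HU (Fin m) (0 : QuadraticForm F (Fin 0 → F))) := by
  refine ⟨plusE m F, fun v => ?_⟩
  rw [HU_apply, coe_plusForm, quadFormPlus]
  show (∑ i, v (.inl i) * v (.inr i)) + 0 = _
  rw [add_zero]

theorem transPlus {S : Type*} [Group S] [IsSimpleGroup S] {l : ℕ} (h : IsPOmegaPlusChar l S) :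
    ∃ (F : Type) (_ : Field F) (_ : Finite F) (U : Type) (_ : AddCommGroup U) (_ : Module F U)
      (_ : FiniteDimensional F U) (n : ℕ) (R : QuadraticForm F U), 4 ≤ n ∧ finrank F U = 0 ∧ Nondeg R ∧
      Nat.card S ∣ Nat.card F ^ (n * (n - 1)) * (Nat.card F ^ n - 1) *
        ∏ i ∈ Finset.range (n - 1), (Nat.card F ^ (2 * (i + 1)) - 1) ∧
      Nonempty ((E (HU (Fin n) R) ⧸ center (E (HU (Fin n) R))) ≃* S) := by
  obtain ⟨F, _, _, _, m, hm, ⟨φ⟩⟩ := h
  refine ⟨F, inferInstance, inferInstance, Fin 0 → F, inferInstance, inferInstance, inferInstance, m,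
    (0 : QuadraticForm F (Fin 0 → F)), hm, by simp, ?_, ?_,
    quot_of_iso (nondeg_plusForm m F) (by simp only [_root_.Fintype.card_sum, _root_.Fintype.card_fin]; omega) (coe_plusForm m F) φ (isoQ_plus m F)⟩
  · intro x _
    exact Subsingleton.elim _ _
  have h3 := S0293.result (F := F) rfl m hm
  rw [Nat.card_eq_fintype_card (α := F), ← h3, Nat.card_congr φ.toEquiv]
  exact Dvd.intro_left _ rfl

end Cfsg.Agent.H36.Og
end

-- part: H926/TransMinus
section
/-!
# Transfer to `PΩ⁻_{2m}(q)` (helper926, for helper105, S2454)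
-/

set_option autoImplicit false

namespace Cfsg.Agent.H926.TransMinus

open QuadraticMap Cfsg Matrix Module Subgroup Cfsg.Agent.LieClassical.OrthCore
  Cfsg.Agent.LieClassical.OrthForms Cfsg.Agent.LieClassical.OrthFinite Cfsg.Agent.LieClassical.OrthTrans
  Cfsg.Agent.LieClassical.OrthSimple Cfsg.Agent.H122.OrthIso Cfsg.Agent.H105.Og

/-- the binary form -/
def binF (F : Type*) [Field F] (a b : F) : QuadraticForm F (F × F) :=
  QuadraticMap.linMulLin (LinearMap.fst F F F) (LinearMap.fst F F F) +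
    a • QuadraticMap.linMulLin (LinearMap.fst F F F) (LinearMap.snd F F F) +
    b • QuadraticMap.linMulLin (LinearMap.snd F F F) (LinearMap.snd F F F)

theorem binF_apply {F : Type*} [Field F] (a b : F) (z : F × F) :
    binF F a b z = z.1 ^ 2 + a * z.1 * z.2 + b * z.2 ^ 2 := by
  simp only [binF, _root_.QuadraticMap.add_apply, _root_.QuadraticMap.smul_apply, QuadraticMap.linMulLin_apply,
    LinearMap.fst_apply, LinearMap.snd_apply, smul_eq_mul]
  ring

theorem nondeg_binF {F : Type*} [Field F] [Finite F] (a b : F)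
    (hab : ∀ z₁ z₂ : F, z₁ ^ 2 + a * z₁ * z₂ + b * z₂ ^ 2 = 0 → z₁ = 0 ∧ z₂ = 0) : Nondeg (binF F a b) := by
  intro x hx
  have h1 := hx (1, 0)
  have h2 := hx (0, 1)
  rw [polar, binF_apply, binF_apply, binF_apply] at h1 h2
  simp only [Prod.fst_add, Prod.snd_add] at h1 h2
  have h := binary_nondeg F a b hab (z := x.1) (w := x.2) (by linear_combination h1) (by linear_combination h2)
  exact Prod.ext h.1 h.2

/-- the isometry -/
def minusE (m : ℕ) (F : Type*) [Field F] :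
    ((Fin m ⊕ Fin m) ⊕ Fin 2 → F) ≃ₗ[F] (((Fin m → F) × (Fin m → F)) × (F × F)) where
  toFun v := ((fun i => v (.inl (.inl i)), fun i => v (.inl (.inr i))), (v (.inr 0), v (.inr 1)))
  map_add' _ _ := rfl
  map_smul' _ _ := rfl
  invFun v := Sum.elim (Sum.elim v.1.1 v.1.2) ![v.2.1, v.2.2]
  left_inv v := by
    funext i
    rcases i with (i | i) | i
    · rfl
    · rfl
    · fin_cases i <;> rfl
  right_inv _ := rfl

theorem isoQ_minus (m : ℕ) (F : Type*) [Field F] (a b : F) :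
    IsoQ (minusForm m F a b) (HU (Fin m) (binF F a b)) := by
  refine ⟨minusE m F, fun v => ?_⟩
  rw [HU_apply, coe_minusForm, quadFormMinus, binF_apply]
  rfl

theorem transMinus {S : Type*} [Group S] [IsSimpleGroup S] {l : ℕ} (h : IsPOmegaMinusChar l S) :
    ∃ (F : Type) (_ : Field F) (_ : Finite F) (U : Type) (_ : AddCommGroup U) (_ : Module F U)
      (_ : FiniteDimensional F U) (n : ℕ) (R : QuadraticForm F U), 3 ≤ n ∧ finrank F U = 2 ∧ Nondeg R ∧
      (∀ u, R u = 0 → u = 0) ∧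
      Nat.card S ∣ Nat.card F ^ ((n + 1) * n) * (Nat.card F ^ (n + 1) + 1) *
        ∏ i ∈ Finset.range n, (Nat.card F ^ (2 * (i + 1)) - 1) ∧
      Nonempty ((E (HU (Fin n) R) ⧸ center (E (HU (Fin n) R))) ≃* S) := by
  obtain ⟨F, _, _, _, m, a, b, hm, hab, ⟨φ⟩⟩ := h
  obtain ⟨n, rfl⟩ : ∃ n, m = n + 1 := ⟨m - 1, by omega⟩
  have φ : S ≃* POmega F (quadFormMinus n F a b) := φ
  have h3 : Nat.gcd 4 (Fintype.card F ^ (n + 1) + 1) * Nat.card (POmega F (quadFormMinus n F a b)) =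
      Fintype.card F ^ ((n + 1) * n) * (Fintype.card F ^ (n + 1) + 1) *
        ∏ i ∈ Finset.range n, (Fintype.card F ^ (2 * (i + 1)) - 1) := S0294.result (F := F) rfl (n + 1) hm a b hab
  refine ⟨F, inferInstance, inferInstance, F × F, inferInstance, inferInstance, inferInstance, n,
    binF F a b, by omega, by rw [Module.finrank_prod, Module.finrank_self], nondeg_binF a b hab, ?_, ?_,
    quot_of_iso (nondeg_minusForm n F a b hab) (by simp only [_root_.Fintype.card_sum, _root_.Fintype.card_fin, _root_.Nat.reduceLeDiff]; omega) (coe_minusForm n F a b) φ (isoQ_minus n F a b)⟩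
  · intro u hu
    rw [binF_apply] at hu
    have h4 := hab _ _ hu
    exact Prod.ext h4.1 h4.2
  · rw [Nat.card_eq_fintype_card (α := F), ← h3, Nat.card_congr φ.toEquiv]
    exact Dvd.intro_left _ rfl

end Cfsg.Agent.H926.TransMinus
end

-- part: H926/OgCent
section
/-!
# The centralizer of the Singer element in the isometries (S2454, orthogonal rows, Lemma B)
-/

set_option autoImplicit false

namespace Cfsg.Agent.H926.OgCent

open QuadraticMap Matrix Module Subgroup Polynomial Cfsg.Agent.H105.Og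

variable {F : Type} [Field F] {U : Type} [AddCommGroup U] [Module F U]

/-- the space -/
abbrev Sp (n : ℕ) (F U : Type) : Type := ((Fin n → F) × (Fin n → F)) × U

/-- the map of `A` as an endomorphism -/
abbrev T {n : ℕ} (U : Type) [AddCommGroup U] [Module F U] (A : _root_.Matrix.SpecialLinearGroup (Fin n) F) : Module.End F (Sp n F U) :=
  (slL (Fin n) F U A : Sp n F U →ₗ[F] Sp n F U)

theorem T_apply {n : ℕ} (A : _root_.Matrix.SpecialLinearGroup (Fin n) F) (v : Sp n F U) :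
    T U A v = ((A.1 *ᵥ v.1.1, ((A⁻¹).1)ᵀ *ᵥ v.1.2), v.2) := rfl

theorem T_pow {n : ℕ} (A : _root_.Matrix.SpecialLinearGroup (Fin n) F) (k : ℕ) (v : Sp n F U) :
    (T U A ^ k) v = (((A.1 ^ k) *ᵥ v.1.1, ((((A⁻¹).1)ᵀ) ^ k) *ᵥ v.1.2), v.2) := by
  induction k with
  | zero => simp only [_root_.pow_zero, _root_.Module.End.one_apply, _root_.Matrix.one_mulVec, _root_.Matrix.SpecialLinearGroup.coe_inv, _root_.Prod.mk.eta]
  | succ k ih =>
    rw [pow_succ', Module.End.mul_apply, ih, T_apply]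
    refine Prod.ext (Prod.ext ?_ ?_) rfl
    · show A.1 *ᵥ ((A.1 ^ k) *ᵥ v.1.1) = _
      rw [Matrix.mulVec_mulVec, ← pow_succ']
    · show ((A⁻¹).1)ᵀ *ᵥ (((((A⁻¹).1)ᵀ) ^ k) *ᵥ v.1.2) = _
      rw [Matrix.mulVec_mulVec, ← pow_succ']

theorem T_aeval {n : ℕ} (A : _root_.Matrix.SpecialLinearGroup (Fin n) F) (P : F[X]) (v : Sp n F U) :
    (aeval (T U A) P) v =
      (((aeval A.1 P) *ᵥ v.1.1, (aeval (((A⁻¹).1)ᵀ) P) *ᵥ v.1.2), P.eval 1 • v.2) := by
  induction P using Polynomial.induction_on' with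
  | add p q hp hq =>
    rw [map_add, LinearMap.add_apply, hp, hq, map_add, map_add, eval_add]
    refine Prod.ext (Prod.ext ?_ ?_) ?_
    · exact (Matrix.add_mulVec (aeval A.1 p) (aeval A.1 q) v.1.1).symm
    · exact (Matrix.add_mulVec (aeval (((A⁻¹).1)ᵀ) p) (aeval (((A⁻¹).1)ᵀ) q) v.1.2).symm
    · exact (add_smul _ _ _).symm
  | monomial k a =>
    rw [aeval_monomial, aeval_monomial, aeval_monomial, Module.End.mul_apply, T_pow, eval_monomial, one_pow, mul_one,
      Module.algebraMap_end_apply]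
    refine Prod.ext (Prod.ext ?_ ?_) rfl
    · show a • ((A.1 ^ k) *ᵥ v.1.1) = (algebraMap F _ a * A.1 ^ k) *ᵥ v.1.1
      rw [← Matrix.mulVec_mulVec, Algebra.algebraMap_eq_smul_one, Matrix.smul_mulVec, Matrix.one_mulVec]
    · show a • (((((A⁻¹).1)ᵀ) ^ k) *ᵥ v.1.2) = (algebraMap F _ a * (((A⁻¹).1)ᵀ) ^ k) *ᵥ v.1.2
      rw [← Matrix.mulVec_mulVec, Algebra.algebraMap_eq_smul_one, Matrix.smul_mulVec, Matrix.one_mulVec]

theorem aeval_tr {n : ℕ} (M : Matrix (Fin n) (Fin n) F) (P : F[X]) : aeval (Mᵀ) P = (aeval M P)ᵀ := by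
  induction P using Polynomial.induction_on' with
  | add p q hp hq => rw [map_add, hp, hq, map_add, Matrix.transpose_add]
  | monomial k a =>
    rw [aeval_monomial, aeval_monomial, Algebra.algebraMap_eq_smul_one, Matrix.smul_mul, Matrix.smul_mul, one_mul,
      one_mul, Matrix.transpose_smul, Matrix.transpose_pow]

theorem inj_tr {n : ℕ} {M : Matrix (Fin n) (Fin n) F} (h : ∀ x, M *ᵥ x = 0 → x = 0) : ∀ x, Mᵀ *ᵥ x = 0 → x = 0 := by
  intro x hx
  by_contra hx0
  have h1 : (Mᵀ).det = 0 := Matrix.exists_mulVec_eq_zero_iff.1 ⟨x, hx0, hx⟩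
  rw [Matrix.det_transpose] at h1
  obtain ⟨y, hy, hy'⟩ := Matrix.exists_mulVec_eq_zero_iff.2 h1
  exact hy (h y hy')

theorem comm_inv {n : ℕ} (A : _root_.Matrix.SpecialLinearGroup (Fin n) F) {y : Module.End F (Sp n F U)} (h : Commute (T U A) y) :
    Commute (T U A⁻¹) y := by
  have h1 : T U A⁻¹ * T U A = 1 := by
    apply LinearMap.ext
    intro v
    have : slL (Fin n) F U A⁻¹ * slL (Fin n) F U A = 1 := by rw [← map_mul, inv_mul_cancel, map_one]
    exact LinearEquiv.congr_fun this v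
  have h2 : T U A * T U A⁻¹ = 1 := by
    apply LinearMap.ext
    intro v
    have : slL (Fin n) F U A * slL (Fin n) F U A⁻¹ = 1 := by rw [← map_mul, mul_inv_cancel, map_one]
    exact LinearEquiv.congr_fun this v
  show T U A⁻¹ * y = y * T U A⁻¹
  calc T U A⁻¹ * y = T U A⁻¹ * (y * (T U A * T U A⁻¹)) := by rw [h2, mul_one]
    _ = T U A⁻¹ * ((y * T U A) * T U A⁻¹) := by rw [mul_assoc y]
    _ = T U A⁻¹ * ((T U A * y) * T U A⁻¹) := by rw [h.eq]
    _ = (T U A⁻¹ * T U A) * y * T U A⁻¹ := by simp only [mul_assoc]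
    _ = y * T U A⁻¹ := by rw [h1, one_mul]

section main

variable {n : ℕ} {R : QuadraticForm F U} {A : _root_.Matrix.SpecialLinearGroup (Fin n) F} {P : F[X]}

/-- the hypotheses -/
structure Hyp (R : QuadraticForm F U) (A : _root_.Matrix.SpecialLinearGroup (Fin n) F) (P : F[X]) (y : Module.End F (Sp n F U)) : Prop where
  hP : aeval A.1 P = 0
  hP' : ∀ x : Fin n → F, (aeval (A⁻¹).1 P) *ᵥ x = 0 → x = 0
  hP1 : P.eval 1 ≠ 0
  hc : Commute (T U A) y
  hq : ∀ v, HU (Fin n) R (y v) = HU (Fin n) R v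

variable {y : Module.End F (Sp n F U)}

theorem Hyp.fst (h : Hyp R A P y) (x : Fin n → F) : (y ((x, 0), 0)).1.2 = 0 ∧ (y ((x, 0), 0)).2 = 0 := by
  have h1 : Commute (aeval (T U A) P) y := by
    refine Polynomial.induction_on' P ?_ ?_
    · intro p q hp hq
      rw [map_add]
      exact hp.add_left hq
    · intro k a
      rw [aeval_monomial]
      exact Commute.mul_left (Algebra.commutes a y) (h.hc.pow_left k)
  have h2 : (aeval (T U A) P) (y ((x, 0), 0)) = 0 := by
    have h3 : (aeval (T U A) P) (y ((x, 0), 0)) = y ((aeval (T U A) P) ((x, 0), 0)) := LinearMap.congr_fun h1.eq _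
    rw [h3, T_aeval, h.hP]
    have h4 : (((((0 : Matrix (Fin n) (Fin n) F) *ᵥ x, (aeval (((A⁻¹).1)ᵀ) P) *ᵥ (0 : Fin n → F)), P.eval 1 • (0 : U))) :
        Sp n F U) = 0 := by
      rw [Matrix.zero_mulVec, Matrix.mulVec_zero, smul_zero]
      rfl
    exact (congrArg y h4).trans (map_zero y)
  rw [T_aeval] at h2
  have h4 := congrArg (fun v : Sp n F U => v.1.2) h2
  have h5 := congrArg (fun v : Sp n F U => v.2) h2
  dsimp only at h4 h5
  refine ⟨?_, ?_⟩
  · apply inj_tr h.hP'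
    rw [← aeval_tr]
    exact h4
  · exact (smul_eq_zero.1 h5).resolve_left h.hP1

theorem Hyp.snd (h : Hyp R A P y) (x : Fin n → F) : (y ((0, x), 0)).1.1 = 0 ∧ (y ((0, x), 0)).2 = 0 := by
  have h1 : Commute (aeval (T U A⁻¹) P) y := by
    refine Polynomial.induction_on' P ?_ ?_
    · intro p q hp hq
      rw [map_add]
      exact hp.add_left hq
    · intro k a
      rw [aeval_monomial]
      exact Commute.mul_left (Algebra.commutes a y) ((comm_inv A h.hc).pow_left k)
  have h2 : (aeval (T U A⁻¹) P) (y ((0, x), 0)) = 0 := by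
    have h3 : (aeval (T U A⁻¹) P) (y ((0, x), 0)) = y ((aeval (T U A⁻¹) P) ((0, x), 0)) := LinearMap.congr_fun h1.eq _
    rw [h3, T_aeval, inv_inv, aeval_tr, h.hP]
    have h4 : (((((aeval (A⁻¹).1 P) *ᵥ (0 : Fin n → F), (0 : Matrix (Fin n) (Fin n) F)ᵀ *ᵥ x), P.eval 1 • (0 : U))) :
        Sp n F U) = 0 := by
      rw [Matrix.transpose_zero, Matrix.zero_mulVec, Matrix.mulVec_zero, smul_zero]
      rfl
    exact (congrArg y h4).trans (map_zero y)
  rw [T_aeval] at h2
  have h4 := congrArg (fun v : Sp n F U => v.1.1) h2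
  have h5 := congrArg (fun v : Sp n F U => v.2) h2
  dsimp only at h4 h5
  refine ⟨?_, ?_⟩
  · exact h.hP' _ h4
  · exact (smul_eq_zero.1 h5).resolve_left h.hP1

theorem Hyp.third (h : Hyp R A P y) (u : U) : (y ((0, 0), u)).1 = 0 := by
  have h2 : T U A (y ((0, 0), u)) = y ((0, 0), u) := by
    have h3 : T U A (y ((0, 0), u)) = y (T U A ((0, 0), u)) := LinearMap.congr_fun h.hc.eq _
    rw [h3, T_apply]
    simp
  rw [T_apply] at h2
  have h4 := congrArg (fun v : Sp n F U => v.1.1) h2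
  have h5 := congrArg (fun v : Sp n F U => v.1.2) h2
  dsimp only at h4 h5
  -- a fixed vector of a matrix killed by `P` with `P(1) ≠ 0` is zero
  have key : ∀ (M : Matrix (Fin n) (Fin n) F) (w : Fin n → F), aeval M P = 0 → M *ᵥ w = w → w = 0 := by
    intro M w hM hw
    have h6 : ∀ Q : F[X], (aeval M Q) *ᵥ w = Q.eval 1 • w := by
      intro Q
      induction Q using Polynomial.induction_on' with
      | add p q hp hq => rw [map_add, Matrix.add_mulVec, hp, hq, eval_add, add_smul]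
      | monomial k a =>
        have h7 : (M ^ k) *ᵥ w = w := by
          induction k with
          | zero => simp
          | succ k ih => rw [pow_succ, ← Matrix.mulVec_mulVec, hw, ih]
        rw [aeval_monomial, ← Matrix.mulVec_mulVec, h7, Algebra.algebraMap_eq_smul_one, Matrix.smul_mulVec,
          Matrix.one_mulVec, eval_monomial, one_pow, mul_one]
    have h8 := h6 P
    rw [hM, Matrix.zero_mulVec] at h8
    exact (smul_eq_zero.1 h8.symm).resolve_left h.hP1
  refine Prod.ext ?_ ?_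
  · exact key _ _ h.hP h4
  · apply key (A.1)ᵀ
    · rw [aeval_tr, h.hP, Matrix.transpose_zero]
    · have h9 : (A.1)ᵀ *ᵥ (((A⁻¹).1)ᵀ *ᵥ (y ((0, 0), u)).1.2) = (A.1)ᵀ *ᵥ (y ((0, 0), u)).1.2 :=
        congrArg (fun w => (A.1)ᵀ *ᵥ w) h5
      rw [Matrix.mulVec_mulVec, ← Matrix.transpose_mul, val_inv_mul, Matrix.transpose_one, Matrix.one_mulVec] at h9
      exact h9.symm

/-- the three blocks -/
def b1 (y : Module.End F (Sp n F U)) : (Fin n → F) →ₗ[F] (Fin n → F) where
  toFun x := (y ((x, 0), 0)).1.1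
  map_add' x x' := by
    have : (((x + x', 0), 0) : Sp n F U) = ((x, 0), 0) + ((x', 0), 0) := by simp
    rw [this, map_add]
    rfl
  map_smul' c x := by
    have : (((c • x, 0), 0) : Sp n F U) = c • ((x, 0), 0) := by simp
    rw [this, map_smul]
    rfl

def b2 (y : Module.End F (Sp n F U)) : (Fin n → F) →ₗ[F] (Fin n → F) where
  toFun x := (y ((0, x), 0)).1.2
  map_add' x x' := by
    have : (((0, x + x'), 0) : Sp n F U) = ((0, x), 0) + ((0, x'), 0) := by simp
    rw [this, map_add]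
    rfl
  map_smul' c x := by
    have : (((0, c • x), 0) : Sp n F U) = c • ((0, x), 0) := by simp
    rw [this, map_smul]
    rfl

def b3 (y : Module.End F (Sp n F U)) : Module.End F U where
  toFun u := (y ((0, 0), u)).2
  map_add' x x' := by
    have : (((0, 0), x + x') : Sp n F U) = ((0, 0), x) + ((0, 0), x') := by simp
    rw [this, map_add]
    rfl
  map_smul' c x := by
    have : (((0, 0), c • x) : Sp n F U) = c • ((0, 0), x) := by simp
    rw [this, map_smul]
    rfl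

theorem Hyp.blocks (h : Hyp R A P y) (v : Sp n F U) : y v = ((b1 y v.1.1, b2 y v.1.2), b3 y v.2) := by
  have h1 : v = ((v.1.1, 0), 0) + ((0, v.1.2), 0) + ((0, 0), v.2) := by
    refine Prod.ext (Prod.ext ?_ ?_) ?_ <;> simp
  have h2 : y v = y ((v.1.1, 0), 0) + y ((0, v.1.2), 0) + y ((0, 0), v.2) := by
    conv_lhs => rw [h1]
    rw [map_add, map_add]
  rw [h2]
  have ha := h.fst v.1.1
  have hb := h.snd v.1.2
  have hc := h.third v.2
  have hc1 : (y ((0, 0), v.2)).1.1 = 0 := by rw [hc]; rfl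
  have hc2 : (y ((0, 0), v.2)).1.2 = 0 := by rw [hc]; rfl
  refine Prod.ext (Prod.ext ?_ ?_) ?_
  · show (y ((v.1.1, 0), 0)).1.1 + (y ((0, v.1.2), 0)).1.1 + (y ((0, 0), v.2)).1.1 = _
    rw [hb.1, hc1, add_zero, add_zero]
    rfl
  · show (y ((v.1.1, 0), 0)).1.2 + (y ((0, v.1.2), 0)).1.2 + (y ((0, 0), v.2)).1.2 = _
    rw [ha.1, hc2, zero_add, add_zero]
    rfl
  · show (y ((v.1.1, 0), 0)).2 + (y ((0, v.1.2), 0)).2 + (y ((0, 0), v.2)).2 = _
    rw [ha.2, hb.2, zero_add, zero_add]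
    rfl

theorem Hyp.iso3 (h : Hyp R A P y) (u : U) : R (b3 y u) = R u := by
  have := h.hq ((0, 0), u)
  rw [h.blocks, HU_apply, HU_apply] at this
  simpa only [_root_.map_zero, _root_.dotProduct_zero, _root_.zero_add] using this

theorem Hyp.pair (h : Hyp R A P y) (x z : Fin n → F) : (b1 y x) ⬝ᵥ (b2 y z) = x ⬝ᵥ z := by
  have := h.hq ((x, z), 0)
  rw [h.blocks, HU_apply, HU_apply] at this
  simpa only [_root_.map_zero, _root_.add_zero] using this

theorem Hyp.inj1 (h : Hyp R A P y) {x : Fin n → F} (hx : b1 y x = 0) : x = 0 := by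
  apply dotProduct_eq_zero
  intro z
  rw [← h.pair x z, hx, zero_dotProduct]

theorem Hyp.comm1 (h : Hyp R A P y) (x : Fin n → F) : b1 y (A.1 *ᵥ x) = A.1 *ᵥ (b1 y x) := by
  have h3 : T U A (y ((x, 0), 0)) = y (T U A ((x, 0), 0)) := LinearMap.congr_fun h.hc.eq _
  have h5 : T U A ((x, 0), 0) = ((A.1 *ᵥ x, 0), 0) := by
    rw [T_apply]
    exact Prod.ext (Prod.ext rfl (Matrix.mulVec_zero (((A⁻¹).1)ᵀ))) rfl
  rw [h5] at h3
  exact (congrArg (fun v : Sp n F U => v.1.1) h3).symm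

end main

/-- **Lemma B** : centralizer of the Singer element. -/
theorem lemmaB [Finite F] [FiniteDimensional F U] {n : ℕ} (R : QuadraticForm F U) (A : _root_.Matrix.SpecialLinearGroup (Fin n) F)
    (P : F[X])
    (hP : aeval A.1 P = 0) (hP' : ∀ x : Fin n → F, (aeval (A⁻¹).1 P) *ᵥ x = 0 → x = 0) (hP1 : P.eval 1 ≠ 0)
    (v0 : Fin n → F) (hv0 : v0 ≠ 0) (hcyc : Submodule.span F (Set.range fun i : ℕ => (A.1 ^ i) *ᵥ v0) = ⊤)
    {c : ℕ} (hc : Nat.card {y : Module.End F U // ∀ u, R (y u) = R u} ≤ c) :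
    Nat.card {y : Module.End F (((Fin n → F) × (Fin n → F)) × U) //
      Commute (slL (Fin n) F U A : (((Fin n → F) × (Fin n → F)) × U) →ₗ[F] (((Fin n → F) × (Fin n → F)) × U)) y ∧
        ∀ v, HU (Fin n) R (y v) = HU (Fin n) R v} ≤ (Nat.card F ^ n - 1) * c := by
  classical
  haveI : Finite U := Module.finite_of_finite F
  haveI : Finite (Module.End F U) := Module.finite_of_finite F
  have hyp : ∀ y : {y : Module.End F (((Fin n → F) × (Fin n → F)) × U) //
      Commute (slL (Fin n) F U A : (((Fin n → F) × (Fin n → F)) × U) →ₗ[F] (((Fin n → F) × (Fin n → F)) × U)) y ∧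
        ∀ v, HU (Fin n) R (y v) = HU (Fin n) R v}, Hyp R A P y.1 := fun y => ⟨hP, hP', hP1, y.2.1, y.2.2⟩
  let f : {y : Module.End F (((Fin n → F) × (Fin n → F)) × U) //
      Commute (slL (Fin n) F U A : (((Fin n → F) × (Fin n → F)) × U) →ₗ[F] (((Fin n → F) × (Fin n → F)) × U)) y ∧
        ∀ v, HU (Fin n) R (y v) = HU (Fin n) R v} →
      {v : Fin n → F // v ≠ 0} × {y : Module.End F U // ∀ u, R (y u) = R u} :=
    fun y => (⟨b1 y.1 v0, fun h0 => hv0 ((hyp y).inj1 h0)⟩, ⟨b3 y.1, (hyp y).iso3⟩)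
  have hf : Function.Injective f := by
    intro y z hyz
    have e1 : b1 y.1 v0 = b1 z.1 v0 := congrArg (fun t => t.1.1) hyz
    have e3 : b3 y.1 = b3 z.1 := congrArg (fun t => t.2.1) hyz
    have e1' : b1 y.1 = b1 z.1 := by
      apply LinearMap.ext_on_range (v := fun i : ℕ => (A.1 ^ i) *ᵥ v0) hcyc
      intro i
      induction i with
      | zero => simpa using e1
      | succ i ih =>
        have h1 : (A.1 ^ (i + 1)) *ᵥ v0 = A.1 *ᵥ ((A.1 ^ i) *ᵥ v0) := by rw [Matrix.mulVec_mulVec, ← pow_succ']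
        rw [h1, (hyp y).comm1, (hyp z).comm1, ih]
    have hsurj : Function.Surjective (b1 y.1) := by
      apply LinearMap.surjective_of_injective
      rw [injective_iff_map_eq_zero]
      exact fun x hx => (hyp y).inj1 hx
    have e2' : ∀ x, b2 y.1 x = b2 z.1 x := by
      intro x
      rw [← sub_eq_zero]
      apply dotProduct_eq_zero
      intro w
      obtain ⟨w, rfl⟩ := hsurj w
      rw [dotProduct_comm, dotProduct_sub, (hyp y).pair, e1', (hyp z).pair, sub_self]
    apply Subtype.ext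
    apply LinearMap.ext
    intro v
    rw [(hyp y).blocks, (hyp z).blocks, e1', e2', e3]
  have hcard : Nat.card {v : Fin n → F // v ≠ 0} = Nat.card F ^ n - 1 := by
    haveI := Fintype.ofFinite F
    rw [Nat.card_eq_fintype_card, Fintype.card_subtype_compl, Fintype.card_subtype_eq, Nat.card_eq_fintype_card,
      Fintype.card_fun, Fintype.card_fin]
  calc Nat.card _ ≤ Nat.card ({v : Fin n → F // v ≠ 0} × {y : Module.End F U // ∀ u, R (y u) = R u}) :=
        Nat.card_le_card_of_injective f hf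
    _ = (Nat.card F ^ n - 1) * Nat.card {y : Module.End F U // ∀ u, R (y u) = R u} := by rw [Nat.card_prod, hcard]
    _ ≤ _ := Nat.mul_le_mul_left _ hc

end Cfsg.Agent.H926.OgCent
end

-- part: H889/Og/Num
section
/-!
# The inequality `num` of the orthogonal rows of S2454 (helper889)
-/

set_option autoImplicit false

namespace Cfsg.Agent.H889.Og

/-- lower bound of the second base -/
theorem base_ge {q a : ℕ} (hq : 2 ≤ q) : q ^ (a + 1) ≤ (q - 1) * (q ^ (a + 1) + q ^ a) - 1 := by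
  obtain ⟨m, rfl⟩ : ∃ m, q = m + 2 := ⟨q - 2, by omega⟩
  have h0 : m + 2 - 1 = m + 1 := rfl
  rw [h0]
  have h1 : 0 < (m + 2) ^ a := by positivity
  have h2 : (m + 2) ^ (a + 1) + 1 ≤ (m + 1) * ((m + 2) ^ (a + 1) + (m + 2) ^ a) := by
    rw [pow_succ]
    generalize (m + 2) ^ a = X at h1
    have e1 : (m + 1) * (X * (m + 2) + X) = X * (m + 2) + X + (m * m * X + 3 * (m * X)) := by ring
    rw [e1]
    omega
  omega

theorem pow_lt_aux {x y A B : ℕ} (hx : x < A) (hy : B ≤ y) {k l : ℕ} (hk : k ≠ 0) (h : A ^ k ≤ B ^ l) :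
    x ^ k < y ^ l :=
  calc x ^ k < A ^ k := Nat.pow_lt_pow_left hx hk
    _ ≤ B ^ l := h
    _ ≤ y ^ l := Nat.pow_le_pow_left hy l

/-- **NUM** (S2454, orthogonal groups) -/
theorem num {n q r c : ℕ} (hn : 3 ≤ n) (hq : 2 ≤ q)
    (h : (r = 0 ∧ 4 ≤ n ∧ c = 1) ∨ (r = 1 ∧ 3 ≤ q ∧ c = 2) ∨ (r = 2 ∧ c = 4 * q)) :
    ((q ^ n - 1) * c - 1) ^ 7 < ((q - 1) * (q ^ (2 * n + r - 4) + q ^ (2 * n + r - 5)) - 1) ^ 10 := by
  have hq0 : 0 < q := by omega
  obtain ⟨a, ha⟩ : ∃ a, 2 * n + r - 5 = a := ⟨_, rfl⟩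
  have ha1 : 2 * n + r - 4 = a + 1 := by omega
  rw [ha, ha1]
  have hb := base_ge (a := a) hq
  rcases h with ⟨hr, hn4, hc⟩ | ⟨hr, hq3, hc⟩ | ⟨hr, hc⟩
  · subst hr hc
    refine pow_lt_aux (A := q ^ n) (B := q ^ (a + 1)) ?_ hb (by norm_num) ?_
    · have : 0 < q ^ n := by positivity
      omega
    · rw [← pow_mul, ← pow_mul]
      exact Nat.pow_le_pow_right hq0 (by omega)
  · subst hr hc
    refine pow_lt_aux (A := q ^ (n + 1)) (B := q ^ (a + 1)) ?_ hb (by norm_num) ?_
    · have h1 : 0 < q ^ n := by positivity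
      have h2 : q ^ n * 3 ≤ q ^ (n + 1) := by rw [pow_succ]; exact Nat.mul_le_mul_left _ hq3
      omega
    · rw [← pow_mul, ← pow_mul]
      exact Nat.pow_le_pow_right hq0 (by omega)
  · subst hr hc
    rcases hn.eq_or_lt with h3 | h4
    · subst h3
      have ha3 : a = 3 := by omega
      subst ha3
      -- `A = 4 q ^ 4`, `16 y ≥ 23 q ^ 4`
      have hx : (q ^ 3 - 1) * (4 * q) - 1 < 4 * q ^ 4 := by
        have h1 : (q ^ 3 - 1) * (4 * q) ≤ q ^ 3 * (4 * q) := Nat.mul_le_mul_right _ (Nat.sub_le _ _)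
        have h2 : q ^ 3 * (4 * q) = 4 * q ^ 4 := by ring
        have h3 : 0 < q ^ 4 := by positivity
        omega
      have hy : 23 * q ^ 4 ≤ 16 * ((q - 1) * (q ^ (3 + 1) + q ^ 3) - 1) := by
        obtain ⟨m, rfl⟩ : ∃ m, q = m + 2 := ⟨q - 2, by omega⟩
        have h0 : m + 2 - 1 = m + 1 := rfl
        rw [h0]
        have h2 : 23 * (m + 2) ^ 4 + 16 ≤ 16 * ((m + 1) * ((m + 2) ^ (3 + 1) + (m + 2) ^ 3)) := by
          ring_nf
          linarith only [Nat.zero_le (m ^ 5), Nat.zero_le (m ^ 4), Nat.zero_le (m ^ 3), _root_.sq_nonneg (↑m : ℤ), _root_.Nat.cast_nonneg (α := ℤ) (m)]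
        omega
      set x := (q ^ 3 - 1) * (4 * q) - 1 with hxd
      set y := (q - 1) * (q ^ (3 + 1) + q ^ 3) - 1 with hyd
      have h1 : x ^ 7 < (4 * q ^ 4) ^ 7 := Nat.pow_lt_pow_left hx (by norm_num)
      have h2 : (23 * q ^ 4) ^ 10 ≤ (16 * y) ^ 10 := Nat.pow_le_pow_left hy 10
      have h3 : 16 ^ 10 * (4 * q ^ 4) ^ 7 ≤ (23 * q ^ 4) ^ 10 := by
        have e1 : 16 ^ 10 * (4 * q ^ 4) ^ 7 = (16 ^ 10 * 4 ^ 7) * q ^ 28 := by ring
        have e2 : (23 * q ^ 4) ^ 10 = (23 ^ 10 * q ^ 12) * q ^ 28 := by ring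
        rw [e1, e2]
        apply Nat.mul_le_mul_right
        have h4 : 2 ^ 12 ≤ q ^ 12 := Nat.pow_le_pow_left hq 12
        calc 16 ^ 10 * 4 ^ 7 ≤ 23 ^ 10 * 2 ^ 12 := by norm_num
          _ ≤ 23 ^ 10 * q ^ 12 := Nat.mul_le_mul_left _ h4
      have h5 : 16 ^ 10 * x ^ 7 < 16 ^ 10 * y ^ 10 := by
        calc 16 ^ 10 * x ^ 7 < 16 ^ 10 * (4 * q ^ 4) ^ 7 := Nat.mul_lt_mul_of_pos_left h1 (by norm_num)
          _ ≤ (23 * q ^ 4) ^ 10 := h3
          _ ≤ (16 * y) ^ 10 := h2
          _ = 16 ^ 10 * y ^ 10 := by ring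
      exact Nat.lt_of_mul_lt_mul_left h5
    · refine pow_lt_aux (A := q ^ (n + 3)) (B := q ^ (a + 1)) ?_ hb (by norm_num) ?_
      · have h1 : (q ^ n - 1) * (4 * q) ≤ q ^ n * (4 * q) := Nat.mul_le_mul_right _ (Nat.sub_le _ _)
        have h2 : q ^ n * (4 * q) ≤ q ^ (n + 3) := by
          have e1 : q ^ (n + 3) = q ^ n * (q ^ 2 * q) := by ring
          rw [e1]
          apply Nat.mul_le_mul_left
          apply Nat.mul_le_mul_right
          nlinarith only [hq]
        have h3 : 0 < q ^ (n + 3) := by positivity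
        omega
      · rw [← pow_mul, ← pow_mul]
        exact Nat.pow_le_pow_right hq0 (by omega)

end Cfsg.Agent.H889.Og
end

-- part: H124/Og/Rep
section
/-!
# Matrices over `ZMod 2` acting on the six-dimensional hyperbolic part (helper124, S2454)

Two explicit elements of order five of `Ω₆⁺(2)` whose product is an element of order seven of `SL₃(2)`.
-/

set_option autoImplicit false
set_option linter.unusedSectionVars false
set_option linter.unusedSimpArgs false

namespace Cfsg.Agent.H124.Og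

open QuadraticMap Matrix Module Subgroup Cfsg.Agent.LieClassical.OrthCore Cfsg.Agent.H105.Og

variable {F : Type} [Field F] {U : Type} [AddCommGroup U] [Module F U]

abbrev Sp (F U : Type) : Type := ((Fin 3 → F) × (Fin 3 → F)) × U

/-- the six coordinates -/
def cc (v : Sp F U) : Fin 6 → F := ![v.1.1 0, v.1.1 1, v.1.1 2, v.1.2 0, v.1.2 1, v.1.2 2]

/-- the action of a `6 × 6` matrix -/
def psi (N : Matrix (Fin 6) (Fin 6) F) (v : Sp F U) : Sp F U :=
  ((![(N *ᵥ cc v) 0, (N *ᵥ cc v) 1, (N *ᵥ cc v) 2], ![(N *ᵥ cc v) 3, (N *ᵥ cc v) 4, (N *ᵥ cc v) 5]), v.2)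

theorem cc_psi (N : Matrix (Fin 6) (Fin 6) F) (v : Sp F U) : cc (psi N v) = N *ᵥ cc v := by
  funext i
  fin_cases i <;> rfl

theorem psi_psi (N N' : Matrix (Fin 6) (Fin 6) F) (v : Sp F U) : psi N (psi N' v) = psi (N * N') v := by
  have h : N *ᵥ cc (psi N' v) = (N * N') *ᵥ cc v := by
    rw [cc_psi, Matrix.mulVec_mulVec]
  show ((_, _), _) = ((_, _), _)
  rw [h]
  rfl

theorem psi_one (v : Sp F U) : psi (1 : Matrix (Fin 6) (Fin 6) F) v = v := by
  have h : (1 : Matrix (Fin 6) (Fin 6) F) *ᵥ cc v = cc v := Matrix.one_mulVec _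
  obtain ⟨⟨a, b⟩, u⟩ := v
  show ((_, _), _) = _
  rw [h]
  refine Prod.ext (Prod.ext ?_ ?_) rfl
  · funext i
    fin_cases i <;> rfl
  · funext i
    fin_cases i <;> rfl

/-- `g` acts as the matrix `N` (entries in `ZMod 2`) on the hyperbolic part and trivially on `U` -/
def Rep (φ : ZMod 2 →+* F) (g : Sp F U ≃ₗ[F] Sp F U) (N : Matrix (Fin 6) (Fin 6) (ZMod 2)) : Prop :=
  ∀ v, g v = psi (N.map φ) v

variable {φ : ZMod 2 →+* F}

theorem Rep.mul {g h : Sp F U ≃ₗ[F] Sp F U} {N N' : Matrix (Fin 6) (Fin 6) (ZMod 2)} (hg : Rep φ g N)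
    (hh : Rep φ h N') : Rep φ (g * h) (N * N') := by
  intro v
  rw [Matrix.map_mul, ← psi_psi, ← hh v, ← hg (h v)]
  rfl

theorem Rep.one : Rep φ (1 : Sp F U ≃ₗ[F] Sp F U) 1 := by
  intro v
  rw [Matrix.map_one _ (map_zero _) (map_one _), psi_one]
  rfl

theorem Rep.eq {g h : Sp F U ≃ₗ[F] Sp F U} {N : Matrix (Fin 6) (Fin 6) (ZMod 2)} (hg : Rep φ g N)
    (hh : Rep φ h N) : g = h := LinearEquiv.ext fun v => (hg v).trans (hh v).symm

theorem two_eq_zero (φ : ZMod 2 →+* F) : (2 : F) = 0 := by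
  have h : (2 : ZMod 2) = 0 := by decide
  calc (2 : F) = φ 2 := (map_ofNat φ 2).symm
    _ = 0 := by rw [h, map_zero]

/-- the basis vectors -/
def ve (i : Fin 3) : Sp F U := ((Pi.single i 1, 0), 0)

def vf (i : Fin 3) : Sp F U := ((0, Pi.single i 1), 0)

variable {R : QuadraticForm F U}

def B1 : Matrix (Fin 6) (Fin 6) (ZMod 2) :=
  !![1, 0, 0, 0, 1, 0; 0, 1, 0, 1, 0, 0; 0, 0, 1, 0, 0, 0; 0, 0, 0, 1, 0, 0; 0, 0, 0, 0, 1, 0; 0, 0, 0, 0, 0, 1]

def B2 : Matrix (Fin 6) (Fin 6) (ZMod 2) :=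
  !![1, 0, 0, 0, 0, 1; 0, 1, 0, 0, 0, 0; 0, 0, 1, 1, 0, 0; 0, 0, 0, 1, 0, 0; 0, 0, 0, 0, 1, 0; 0, 0, 0, 0, 0, 1]

def B3 : Matrix (Fin 6) (Fin 6) (ZMod 2) :=
  !![1, 0, 0, 0, 0, 0; 1, 1, 0, 0, 0, 0; 0, 0, 1, 0, 0, 0; 0, 0, 0, 1, 1, 0; 0, 0, 0, 0, 1, 0; 0, 0, 0, 0, 0, 1]

def B4 : Matrix (Fin 6) (Fin 6) (ZMod 2) :=
  !![1, 0, 0, 0, 0, 0; 0, 1, 0, 0, 0, 0; 0, 0, 1, 0, 0, 0; 0, 1, 0, 1, 0, 0; 1, 0, 0, 0, 1, 0; 0, 0, 0, 0, 0, 1]

def B5 : Matrix (Fin 6) (Fin 6) (ZMod 2) :=
  !![1, 0, 1, 0, 0, 0; 0, 1, 0, 0, 0, 0; 0, 0, 1, 0, 0, 0; 0, 0, 0, 1, 0, 0; 0, 0, 0, 0, 1, 0; 0, 0, 0, 1, 0, 1]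

theorem eq_neg_of_two (h2 : (2 : F) = 0) (a : F) : -a = a := by
  linear_combination (-a) * h2

theorem rep1 (φ : ZMod 2 →+* F) (R : QuadraticForm F U) : ∃ g ∈ E (HU (Fin 3) R), Rep φ g B1 := by
  have h2 := two_eq_zero φ
  have hu : HU (Fin 3) R (ve 0) = 0 := by simp [HU_apply, ve, vf]
  have hw : polar (HU (Fin 3) R) (ve 0) (ve 1) = 0 := by simp [polar_HU, ve, vf]
  refine ⟨siegel _ (ve 0) (ve 1) hu hw, siegel_mem_E hu hw, ?_⟩
  intro v
  obtain ⟨⟨a, b⟩, u⟩ := v
  have h0 : HU (Fin 3) R (ve 1) = 0 := by simp [HU_apply, ve, vf]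
  rw [siegel_apply, h0]
  refine Prod.ext (Prod.ext ?_ ?_) ?_
  · funext i
    (revert i; simp only [polar_HU, ve, vf, psi, cc, B1, Matrix.mulVec, dotProduct, Fin.sum_univ_succ, eq_neg_of_two h2, sub_eq_add_neg, _root_.Fin.forall_fin_succ, Fin.isValue, _root_.Pi.single_eq_same, _root_.one_mul, _root_.ne_eq, _root_.Fin.succ_ne_zero, _root_.not_false_eq_true, _root_.Pi.single_eq_of_ne, _root_.MulZeroClass.zero_mul, _root_.Finset.sum_const_zero, _root_.add_zero, _root_.Pi.zero_apply, _root_.MulZeroClass.mul_zero, _root_.QuadraticMap.polar_zero_left, _root_.Prod.smul_mk, _root_.smul_zero, _root_.Prod.mk_add_mk, _root_.zero_ne_one, _root_.Fin.succ_zero_eq_one, _root_.Finset.univ_unique, _root_.Fin.default_eq_zero, _root_.Finset.sum_singleton, _root_.Fin.succ_one_eq_two, Fin.reduceEq, _root_.zero_add, _root_.Prod.neg_mk, _root_.neg_zero, _root_.zero_smul, _root_.Pi.add_apply, _root_.Pi.smul_apply, _root_.smul_eq_mul, _root_.Pi.neg_apply, _root_.Matrix.map_apply,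 _root_.Matrix.of_apply, _root_.Matrix.cons_val', _root_.Matrix.cons_val_fin_one, _root_.Matrix.cons_val_zero, _root_.map_one, _root_.Matrix.cons_val_succ, _root_.map_zero, _root_.Matrix.cons_val_one, _root_.Matrix.cons_val, _root_.Finset.sum_const, _root_.Finset.card_singleton, _root_.one_smul, _root_.mul_one, _root_.IsEmpty.forall_iff, _root_.and_self]) <;> (repeat' with_reducible apply And.intro) <;> ring
  · funext i
    (revert i; simp only [polar_HU, ve, vf, psi, cc, B1, Matrix.mulVec, dotProduct, Fin.sum_univ_succ, eq_neg_of_two h2, sub_eq_add_neg, _root_.Fin.forall_fin_succ, Fin.isValue, _root_.Pi.single_eq_same, _root_.one_mul, _root_.ne_eq, _root_.Fin.succ_ne_zero, _root_.not_false_eq_true, _root_.Pi.single_eq_of_ne, _root_.MulZeroClass.zero_mul, _root_.Finset.sum_const_zero, _root_.add_zero, _root_.Pi.zero_apply, _root_.MulZeroClass.mul_zero, _root_.QuadraticMap.polar_zero_left, _root_.Prod.smul_mk, _root_.smul_zero, _root_.Prod.mk_add_mk,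 _root_.zero_ne_one, _root_.Fin.succ_zero_eq_one, _root_.Finset.univ_unique, _root_.Fin.default_eq_zero, _root_.Finset.sum_singleton, _root_.Fin.succ_one_eq_two, Fin.reduceEq, _root_.zero_add, _root_.Prod.neg_mk, _root_.neg_zero, _root_.zero_smul, _root_.Matrix.map_apply, _root_.Matrix.of_apply, _root_.Matrix.cons_val', _root_.Matrix.cons_val_fin_one, _root_.Matrix.cons_val_zero, _root_.map_one, _root_.Matrix.cons_val_succ, _root_.map_zero, _root_.Matrix.cons_val_one, _root_.Matrix.cons_val, _root_.Finset.sum_const, _root_.Finset.card_singleton, _root_.one_smul, _root_.IsEmpty.forall_iff, _root_.and_self]) <;> (repeat' with_reducible apply And.intro) <;> ring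
  · simp only [ve, vf, psi, _root_.Fin.isValue, _root_.Prod.smul_mk, _root_.smul_zero, _root_.Prod.mk_add_mk, _root_.add_zero, _root_.Prod.mk_sub_mk, _root_.sub_zero, _root_.MulZeroClass.zero_mul, _root_.zero_smul]

theorem rep2 (φ : ZMod 2 →+* F) (R : QuadraticForm F U) : ∃ g ∈ E (HU (Fin 3) R), Rep φ g B2 := by
  have h2 := two_eq_zero φ
  have hu : HU (Fin 3) R (ve 0) = 0 := by simp [HU_apply, ve, vf]
  have hw : polar (HU (Fin 3) R) (ve 0) (ve 2) = 0 := by simp [polar_HU, ve, vf]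
  refine ⟨siegel _ (ve 0) (ve 2) hu hw, siegel_mem_E hu hw, ?_⟩
  intro v
  obtain ⟨⟨a, b⟩, u⟩ := v
  have h0 : HU (Fin 3) R (ve 2) = 0 := by simp [HU_apply, ve, vf]
  rw [siegel_apply, h0]
  refine Prod.ext (Prod.ext ?_ ?_) ?_
  · funext i
    (revert i; simp only [polar_HU, ve, vf, psi, cc, B2, Matrix.mulVec, dotProduct, Fin.sum_univ_succ, eq_neg_of_two h2, sub_eq_add_neg, _root_.Fin.forall_fin_succ, Fin.isValue, _root_.Pi.single_eq_same, _root_.one_mul, _root_.ne_eq, _root_.Fin.succ_ne_zero, _root_.not_false_eq_true, _root_.Pi.single_eq_of_ne, _root_.MulZeroClass.zero_mul, _root_.Finset.sum_const_zero, _root_.add_zero, _root_.Pi.zero_apply, _root_.MulZeroClass.mul_zero, _root_.QuadraticMap.polar_zero_left, _root_.Prod.smul_mk, _root_.smul_zero, _root_.Prod.mk_add_mk, Fin.reduceEq, _root_.Fin.succ_zero_eq_one, _root_.Finset.univ_unique, _root_.Fin.default_eq_zero, _root_.Finset.sum_singleton, _root_.Fin.succ_one_eq_two, _root_.zero_add, _root_.Prod.neg_mk,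 _root_.neg_zero, _root_.zero_smul, _root_.Pi.add_apply, _root_.Pi.smul_apply, _root_.smul_eq_mul, _root_.Pi.neg_apply, _root_.Matrix.map_apply, _root_.Matrix.of_apply, _root_.Matrix.cons_val', _root_.Matrix.cons_val_fin_one, _root_.Matrix.cons_val_zero, _root_.map_one, _root_.Matrix.cons_val_succ, _root_.map_zero, _root_.Finset.sum_const, _root_.Finset.card_singleton, _root_.one_smul, _root_.Matrix.cons_val_one, _root_.Matrix.cons_val, _root_.mul_one, _root_.IsEmpty.forall_iff, _root_.and_self]) <;> (repeat' with_reducible apply And.intro) <;> ring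
  · funext i
    (revert i; simp only [polar_HU, ve, vf, psi, cc, B2, Matrix.mulVec, dotProduct, Fin.sum_univ_succ, eq_neg_of_two h2, sub_eq_add_neg, _root_.Fin.forall_fin_succ, Fin.isValue, _root_.Pi.single_eq_same, _root_.one_mul, _root_.ne_eq, _root_.Fin.succ_ne_zero, _root_.not_false_eq_true, _root_.Pi.single_eq_of_ne, _root_.MulZeroClass.zero_mul, _root_.Finset.sum_const_zero, _root_.add_zero, _root_.Pi.zero_apply, _root_.MulZeroClass.mul_zero, _root_.QuadraticMap.polar_zero_left, _root_.Prod.smul_mk, _root_.smul_zero, _root_.Prod.mk_add_mk, Fin.reduceEq, _root_.Fin.succ_zero_eq_one, _root_.Finset.univ_unique, _root_.Fin.default_eq_zero, _root_.Finset.sum_singleton, _root_.Fin.succ_one_eq_two, _root_.zero_add, _root_.Prod.neg_mk, _root_.neg_zero, _root_.zero_smul, _root_.Matrix.map_apply, _root_.Matrix.of_apply, _root_.Matrix.cons_val', _root_.Matrix.cons_val_fin_one, _root_.Matrix.cons_val_zero, _root_.map_one, _root_.Matrix.cons_val_succ,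 _root_.map_zero, _root_.Finset.sum_const, _root_.Finset.card_singleton, _root_.one_smul, _root_.Matrix.cons_val_one, _root_.Matrix.cons_val, _root_.IsEmpty.forall_iff, _root_.and_self]) <;> (repeat' with_reducible apply And.intro) <;> ring
  · simp only [ve, vf, psi, _root_.Fin.isValue, _root_.Prod.smul_mk, _root_.smul_zero, _root_.Prod.mk_add_mk, _root_.add_zero, _root_.Prod.mk_sub_mk, _root_.sub_zero, _root_.MulZeroClass.zero_mul, _root_.zero_smul]

theorem rep3 (φ : ZMod 2 →+* F) (R : QuadraticForm F U) : ∃ g ∈ E (HU (Fin 3) R), Rep φ g B3 := by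
  have h2 := two_eq_zero φ
  have hu : HU (Fin 3) R (ve 1) = 0 := by simp [HU_apply, ve, vf]
  have hw : polar (HU (Fin 3) R) (ve 1) (vf 0) = 0 := by simp [polar_HU, ve, vf]
  refine ⟨siegel _ (ve 1) (vf 0) hu hw, siegel_mem_E hu hw, ?_⟩
  intro v
  obtain ⟨⟨a, b⟩, u⟩ := v
  have h0 : HU (Fin 3) R (vf 0) = 0 := by simp [HU_apply, ve, vf]
  rw [siegel_apply, h0]
  refine Prod.ext (Prod.ext ?_ ?_) ?_
  · funext i
    (revert i; simp only [polar_HU, ve, vf, psi, cc, B3, Matrix.mulVec, dotProduct, Fin.sum_univ_succ, eq_neg_of_two h2, sub_eq_add_neg, _root_.Fin.forall_fin_succ, Fin.isValue, _root_.ne_eq, _root_.zero_ne_one, _root_.not_false_eq_true, _root_.Pi.single_eq_of_ne, _root_.MulZeroClass.zero_mul, _root_.Fin.succ_zero_eq_one, _root_.Pi.single_eq_same, _root_.one_mul, _root_.Finset.univ_unique, _root_.Fin.default_eq_zero, _root_.Finset.sum_singleton, _root_.Fin.succ_one_eq_two, Fin.reduceEq, _root_.add_zero, _root_.zero_add, _root_.Pi.zero_apply,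 _root_.MulZeroClass.mul_zero, _root_.Finset.sum_const_zero, _root_.QuadraticMap.polar_zero_left, _root_.Prod.smul_mk, _root_.smul_zero, _root_.Prod.mk_add_mk, _root_.mul_one, _root_.Fin.succ_ne_zero, _root_.Prod.neg_mk, _root_.neg_zero, _root_.zero_smul, _root_.Pi.add_apply, _root_.Pi.neg_apply, _root_.Pi.smul_apply, _root_.smul_eq_mul, _root_.Matrix.map_apply, _root_.Matrix.of_apply, _root_.Matrix.cons_val', _root_.Matrix.cons_val_fin_one, _root_.Matrix.cons_val_zero, _root_.map_one, _root_.Matrix.cons_val_succ, _root_.map_zero, _root_.Matrix.cons_val_one, _root_.Matrix.cons_val, _root_.Finset.sum_const, _root_.Finset.card_singleton, _root_.one_smul, _root_.IsEmpty.forall_iff, _root_.and_self, _root_.and_true, _root_.true_and]) <;> (repeat' with_reducible apply And.intro) <;> ring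
  · funext i
    (revert i; simp only [polar_HU, ve, vf, psi, cc, B3, Matrix.mulVec, dotProduct, Fin.sum_univ_succ, eq_neg_of_two h2, sub_eq_add_neg, _root_.Fin.forall_fin_succ, Fin.isValue, _root_.ne_eq, _root_.zero_ne_one, _root_.not_false_eq_true, _root_.Pi.single_eq_of_ne, _root_.MulZeroClass.zero_mul, _root_.Fin.succ_zero_eq_one, _root_.Pi.single_eq_same, _root_.one_mul, _root_.Finset.univ_unique, _root_.Fin.default_eq_zero, _root_.Finset.sum_singleton, _root_.Fin.succ_one_eq_two, Fin.reduceEq, _root_.add_zero, _root_.zero_add, _root_.Pi.zero_apply, _root_.MulZeroClass.mul_zero, _root_.Finset.sum_const_zero, _root_.QuadraticMap.polar_zero_left, _root_.Prod.smul_mk, _root_.smul_zero, _root_.Prod.mk_add_mk, _root_.mul_one, _root_.Fin.succ_ne_zero, _root_.Prod.neg_mk, _root_.neg_zero, _root_.zero_smul, _root_.Pi.add_apply, _root_.Pi.smul_apply, _root_.smul_eq_mul, _root_.Matrix.map_apply, _root_.Matrix.of_apply, _root_.Matrix.cons_val', _root_.Matrix.cons_val_fin_one,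 _root_.Matrix.cons_val_zero, _root_.map_one, _root_.Matrix.cons_val_succ, _root_.map_zero, _root_.Matrix.cons_val_one, _root_.Matrix.cons_val, _root_.Finset.sum_const, _root_.Finset.card_singleton, _root_.one_smul, _root_.IsEmpty.forall_iff, _root_.and_self]) <;> (repeat' with_reducible apply And.intro) <;> ring
  · simp [ve, vf, psi]

theorem rep4 (φ : ZMod 2 →+* F) (R : QuadraticForm F U) : ∃ g ∈ E (HU (Fin 3) R), Rep φ g B4 := by
  have h2 := two_eq_zero φ
  have hu : HU (Fin 3) R (vf 0) = 0 := by simp [HU_apply, ve, vf]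
  have hw : polar (HU (Fin 3) R) (vf 0) (vf 1) = 0 := by simp [polar_HU, ve, vf]
  refine ⟨siegel _ (vf 0) (vf 1) hu hw, siegel_mem_E hu hw, ?_⟩
  intro v
  obtain ⟨⟨a, b⟩, u⟩ := v
  have h0 : HU (Fin 3) R (vf 1) = 0 := by simp [HU_apply, ve, vf]
  rw [siegel_apply, h0]
  refine Prod.ext (Prod.ext ?_ ?_) ?_
  · funext i
    (revert i; simp only [polar_HU, ve, vf, psi, cc, B4, Matrix.mulVec, dotProduct, Fin.sum_univ_succ, eq_neg_of_two h2, sub_eq_add_neg, _root_.Fin.forall_fin_succ, Fin.isValue, _root_.Pi.zero_apply, _root_.MulZeroClass.zero_mul, _root_.Finset.sum_const_zero, _root_.Pi.single_eq_same, _root_.mul_one, _root_.ne_eq, _root_.Fin.succ_ne_zero, _root_.not_false_eq_true, _root_.Pi.single_eq_of_ne, _root_.MulZeroClass.mul_zero, _root_.add_zero, _root_.zero_add, _root_.QuadraticMap.polar_zero_left, _root_.Prod.smul_mk, _root_.smul_zero, _root_.Prod.mk_add_mk, _root_.zero_ne_one, _root_.Fin.succ_zero_eq_one, _root_.Finset.univ_unique,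 _root_.Fin.default_eq_zero, _root_.Finset.sum_singleton, _root_.Fin.succ_one_eq_two, Fin.reduceEq, _root_.Prod.neg_mk, _root_.neg_zero, _root_.zero_smul, _root_.Matrix.map_apply, _root_.Matrix.of_apply, _root_.Matrix.cons_val', _root_.Matrix.cons_val_fin_one, _root_.Matrix.cons_val_zero, _root_.map_one, _root_.one_mul, _root_.Matrix.cons_val_succ, _root_.map_zero, _root_.Matrix.cons_val_one, _root_.Matrix.cons_val, _root_.Finset.sum_const, _root_.Finset.card_singleton, _root_.one_smul, _root_.IsEmpty.forall_iff, _root_.and_self]) <;> (repeat' with_reducible apply And.intro) <;> ring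
  · funext i
    (revert i; simp only [polar_HU, ve, vf, psi, cc, B4, Matrix.mulVec, dotProduct, Fin.sum_univ_succ, eq_neg_of_two h2, sub_eq_add_neg, _root_.Fin.forall_fin_succ, Fin.isValue, _root_.Pi.zero_apply, _root_.MulZeroClass.zero_mul, _root_.Finset.sum_const_zero, _root_.Pi.single_eq_same, _root_.mul_one, _root_.ne_eq, _root_.Fin.succ_ne_zero, _root_.not_false_eq_true, _root_.Pi.single_eq_of_ne, _root_.MulZeroClass.mul_zero, _root_.add_zero, _root_.zero_add, _root_.QuadraticMap.polar_zero_left, _root_.Prod.smul_mk, _root_.smul_zero, _root_.Prod.mk_add_mk, _root_.zero_ne_one, _root_.Fin.succ_zero_eq_one, _root_.Finset.univ_unique, _root_.Fin.default_eq_zero, _root_.Finset.sum_singleton, _root_.Fin.succ_one_eq_two, Fin.reduceEq, _root_.Prod.neg_mk, _root_.neg_zero, _root_.zero_smul, _root_.Pi.add_apply, _root_.Pi.smul_apply, _root_.smul_eq_mul, _root_.Pi.neg_apply, _root_.Matrix.map_apply, _root_.Matrix.of_apply, _root_.Matrix.cons_val',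 _root_.Matrix.cons_val_fin_one, _root_.Matrix.cons_val_zero, _root_.map_one, _root_.one_mul, _root_.Matrix.cons_val_succ, _root_.map_zero, _root_.Matrix.cons_val_one, _root_.Matrix.cons_val, _root_.Finset.sum_const, _root_.Finset.card_singleton, _root_.one_smul, _root_.IsEmpty.forall_iff, _root_.and_self, _root_.and_true]) <;> (repeat' with_reducible apply And.intro) <;> ring
  · simp only [ve, vf, psi, _root_.Fin.isValue, _root_.Prod.smul_mk, _root_.smul_zero, _root_.Prod.mk_add_mk, _root_.add_zero, _root_.Prod.mk_sub_mk, _root_.sub_zero, _root_.MulZeroClass.zero_mul, _root_.zero_smul]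

theorem rep5 (φ : ZMod 2 →+* F) (R : QuadraticForm F U) : ∃ g ∈ E (HU (Fin 3) R), Rep φ g B5 := by
  have h2 := two_eq_zero φ
  have hu : HU (Fin 3) R (ve 0) = 0 := by simp [HU_apply, ve, vf]
  have hw : polar (HU (Fin 3) R) (ve 0) (vf 2) = 0 := by simp [polar_HU, ve, vf]
  refine ⟨siegel _ (ve 0) (vf 2) hu hw, siegel_mem_E hu hw, ?_⟩
  intro v
  obtain ⟨⟨a, b⟩, u⟩ := v
  have h0 : HU (Fin 3) R (vf 2) = 0 := by simp [HU_apply, ve, vf]
  rw [siegel_apply, h0]
  refine Prod.ext (Prod.ext ?_ ?_) ?_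
  · funext i
    (revert i; simp only [polar_HU, ve, vf, psi, cc, B5, Matrix.mulVec, dotProduct, Fin.sum_univ_succ, eq_neg_of_two h2, sub_eq_add_neg, _root_.Fin.forall_fin_succ, Fin.isValue, _root_.Pi.single_eq_same, _root_.one_mul, _root_.ne_eq, _root_.Fin.succ_ne_zero, _root_.not_false_eq_true, _root_.Pi.single_eq_of_ne, _root_.MulZeroClass.zero_mul, _root_.Finset.sum_const_zero, _root_.add_zero, _root_.Pi.zero_apply, _root_.MulZeroClass.mul_zero, _root_.QuadraticMap.polar_zero_left, _root_.Prod.smul_mk, _root_.smul_zero, _root_.Prod.mk_add_mk, Fin.reduceEq, _root_.Fin.succ_zero_eq_one, _root_.Finset.univ_unique, _root_.Fin.default_eq_zero, _root_.Finset.sum_singleton, _root_.Fin.succ_one_eq_two, _root_.mul_one, _root_.zero_add, _root_.Prod.neg_mk, _root_.neg_zero, _root_.zero_smul, _root_.Pi.add_apply, _root_.Pi.neg_apply, _root_.Pi.smul_apply, _root_.smul_eq_mul, _root_.Matrix.map_apply, _root_.Matrix.of_apply, _root_.Matrix.cons_val',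 _root_.Matrix.cons_val_fin_one, _root_.Matrix.cons_val_zero, _root_.map_one, _root_.Matrix.cons_val_succ, _root_.map_zero, _root_.Matrix.cons_val_one, _root_.Matrix.cons_val, _root_.Finset.sum_const, _root_.Finset.card_singleton, _root_.one_smul, _root_.IsEmpty.forall_iff, _root_.and_self]) <;> (repeat' with_reducible apply And.intro) <;> ring
  · funext i
    (revert i; simp only [polar_HU, ve, vf, psi, cc, B5, Matrix.mulVec, dotProduct, Fin.sum_univ_succ, eq_neg_of_two h2, sub_eq_add_neg, _root_.Fin.forall_fin_succ, Fin.isValue, _root_.Pi.single_eq_same, _root_.one_mul, _root_.ne_eq, _root_.Fin.succ_ne_zero, _root_.not_false_eq_true, _root_.Pi.single_eq_of_ne, _root_.MulZeroClass.zero_mul, _root_.Finset.sum_const_zero, _root_.add_zero, _root_.Pi.zero_apply, _root_.MulZeroClass.mul_zero, _root_.QuadraticMap.polar_zero_left, _root_.Prod.smul_mk, _root_.smul_zero, _root_.Prod.mk_add_mk, Fin.reduceEq, _root_.Fin.succ_zero_eq_one, _root_.Finset.univ_unique,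 _root_.Fin.default_eq_zero, _root_.Finset.sum_singleton, _root_.Fin.succ_one_eq_two, _root_.mul_one, _root_.zero_add, _root_.Prod.neg_mk, _root_.neg_zero, _root_.zero_smul, _root_.Pi.add_apply, _root_.Pi.smul_apply, _root_.smul_eq_mul, _root_.Matrix.map_apply, _root_.Matrix.of_apply, _root_.Matrix.cons_val', _root_.Matrix.cons_val_fin_one, _root_.Matrix.cons_val_zero, _root_.map_one, _root_.Matrix.cons_val_succ, _root_.map_zero, _root_.Matrix.cons_val_one, _root_.Matrix.cons_val, _root_.Finset.sum_const, _root_.Finset.card_singleton, _root_.one_smul, _root_.IsEmpty.forall_iff, _root_.and_true, _root_.true_and]) <;> (repeat' with_reducible apply And.intro) <;> ring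
  · simp [ve, vf, psi]

end Cfsg.Agent.H124.Og
end

-- part: H124/Og/Eight
section
/-!
# `Ω₈⁻(2)`, `p = 5` (helper124, S2454, lemma X5 for `q = 2`)
-/

set_option autoImplicit false
set_option linter.unusedSectionVars false

namespace Cfsg.Agent.H124.Og

open QuadraticMap Matrix Module Subgroup Polynomial Cfsg.Agent.LieClassical.OrthCore Cfsg.Agent.H105.Og
  Cfsg.Agent.H514.DP

/-! ### matrices -/

def P2 : Matrix (Fin 6) (Fin 6) (ZMod 2) :=
  !![1, 0, 0, 0, 1, 1; 0, 1, 0, 1, 0, 0; 0, 0, 1, 1, 0, 0; 0, 0, 0, 1, 0, 0; 0, 0, 0, 0, 1, 0; 0, 0, 0, 0, 0, 1]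

def P3 : Matrix (Fin 6) (Fin 6) (ZMod 2) :=
  !![1, 0, 0, 0, 1, 1; 1, 1, 0, 1, 1, 0; 0, 0, 1, 1, 1, 0; 0, 0, 0, 1, 1, 0; 0, 0, 0, 0, 1, 0; 0, 0, 0, 0, 0, 1]

def P4 : Matrix (Fin 6) (Fin 6) (ZMod 2) :=
  !![0, 0, 0, 0, 1, 1; 0, 0, 0, 1, 1, 0; 1, 1, 1, 1, 1, 0; 1, 1, 0, 1, 1, 0; 1, 0, 0, 0, 1, 0; 0, 0, 0, 0, 0, 1]

/-- of order five -/
def X1 : Matrix (Fin 6) (Fin 6) (ZMod 2) :=
  !![0, 0, 0, 1, 1, 1; 0, 0, 0, 1, 1, 0; 1, 1, 0, 1, 1, 0; 1, 1, 1, 1, 1, 0; 1, 0, 1, 0, 1, 0; 0, 0, 0, 1, 0, 1]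

def X2 : Matrix (Fin 6) (Fin 6) (ZMod 2) :=
  !![0, 1, 0, 0, 0, 1; 0, 1, 0, 1, 0, 0; 0, 1, 0, 1, 0, 1; 1, 0, 0, 0, 1, 1; 0, 1, 1, 0, 1, 1; 1, 1, 1, 0, 1, 1]

def X4 : Matrix (Fin 6) (Fin 6) (ZMod 2) :=
  !![1, 0, 1, 1, 1, 1; 1, 1, 0, 1, 1, 1; 0, 0, 1, 1, 0, 0; 1, 1, 0, 0, 0, 1; 1, 0, 0, 0, 0, 1; 1, 1, 0, 0, 0, 0]

/-- of order seven -/
def Y1 : Matrix (Fin 6) (Fin 6) (ZMod 2) :=
  !![0, 0, 1, 0, 0, 0; 1, 0, 1, 0, 0, 0; 0, 1, 0, 0, 0, 0; 0, 0, 0, 1, 0, 1; 0, 0, 0, 1, 0, 0; 0, 0, 0, 0, 1, 0]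

/-- `X⁻¹ Y`, of order five -/
def Z1 : Matrix (Fin 6) (Fin 6) (ZMod 2) :=
  !![0, 1, 1, 0, 1, 1; 1, 0, 0, 0, 1, 1; 0, 1, 0, 1, 0, 1; 1, 0, 0, 0, 1, 0; 0, 0, 1, 0, 1, 0; 1, 0, 0, 0, 0, 0]

def Z2 : Matrix (Fin 6) (Fin 6) (ZMod 2) :=
  !![0, 1, 1, 1, 0, 0; 1, 1, 0, 0, 0, 1; 1, 0, 0, 0, 0, 1; 0, 1, 0, 0, 0, 1; 0, 1, 1, 1, 1, 1; 0, 1, 1, 0, 1, 1]

def Z4 : Matrix (Fin 6) (Fin 6) (ZMod 2) :=
  !![0, 0, 0, 0, 0, 1; 1, 1, 0, 1, 1, 0; 0, 0, 0, 1, 1, 1; 1, 0, 1, 0, 1, 0; 0, 0, 0, 1, 0, 1; 0, 1, 0, 1, 0, 0]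

theorem m2 : B1 * B2 = P2 := by decide +kernel
theorem m3 : P2 * B3 = P3 := by decide +kernel
theorem m4 : P3 * B4 = P4 := by decide +kernel
theorem m5 : P4 * B5 = X1 := by decide +kernel
theorem x2 : X1 * X1 = X2 := by decide +kernel
theorem x4 : X2 * X2 = X4 := by decide +kernel
theorem x5 : X4 * X1 = 1 := by decide +kernel
theorem z1 : X4 * Y1 = Z1 := by decide +kernel
theorem z2 : Z1 * Z1 = Z2 := by decide +kernel
theorem z4 : Z2 * Z2 = Z4 := by decide +kernel
theorem z5 : Z4 * Z1 = 1 := by decide +kernel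

def A0 : _root_.Matrix.SpecialLinearGroup (Fin 3) (ZMod 2) := ⟨!![0, 0, 1; 1, 0, 1; 0, 1, 0], by decide +kernel⟩

def A0i : _root_.Matrix.SpecialLinearGroup (Fin 3) (ZMod 2) := ⟨!![1, 1, 0; 0, 0, 1; 1, 0, 0], by decide +kernel⟩

theorem A0_inv : A0⁻¹ = A0i := by
  rw [inv_eq_iff_mul_eq_one]
  apply Subtype.ext
  show A0.1 * A0i.1 = 1
  decide +kernel

variable {F : Type} [Field F] {U : Type} [AddCommGroup U] [Module F U]

/-- the element of order seven -/
def AA (φ : ZMod 2 →+* F) : _root_.Matrix.SpecialLinearGroup (Fin 3) F := SpecialLinearGroup.map φ A0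

theorem AA_val (φ : ZMod 2 →+* F) : (AA φ).1 = (A0.1).map φ := rfl

theorem AA_inv (φ : ZMod 2 →+* F) : ((AA φ)⁻¹).1 = (A0i.1).map φ := by
  rw [AA, ← map_inv, A0_inv]
  rfl

theorem rep_y (φ : ZMod 2 →+* F) : Rep (U := U) φ (slL (Fin 3) F U (AA φ)) Y1 := by
  intro v
  obtain ⟨⟨a, b⟩, u⟩ := v
  rw [slL_apply, AA_inv, AA_val]
  refine Prod.ext (Prod.ext ?_ ?_) rfl
  · funext i
    (revert i; simp only [psi, cc, Y1, A0, Matrix.mulVec, dotProduct, Fin.sum_univ_succ, _root_.Fin.forall_fin_succ, _root_.Matrix.map_apply, _root_.Matrix.of_apply, _root_.Matrix.cons_val', _root_.Matrix.cons_val_fin_one, Fin.isValue, _root_.Matrix.cons_val_zero, _root_.Matrix.cons_val_succ, _root_.Fin.succ_zero_eq_one, _root_.Finset.univ_unique, _root_.Fin.default_eq_zero, _root_.Finset.sum_singleton, _root_.Fin.succ_one_eq_two, _root_.map_zero, _root_.MulZeroClass.zero_mul, _root_.map_one, _root_.one_mul, _root_.Finset.sum_const_zero, _root_.add_zero, _root_.zero_add,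 _root_.Matrix.cons_val_one, _root_.Matrix.cons_val, _root_.Finset.sum_const, _root_.Finset.card_singleton, _root_.one_smul, _root_.implies_true, _root_.and_self])
  · funext i
    (revert i; simp only [psi, cc, Y1, A0i, Matrix.mulVec, dotProduct, Fin.sum_univ_succ, _root_.Fin.forall_fin_succ, _root_.Matrix.transpose_apply, _root_.Matrix.map_apply, _root_.Matrix.of_apply, _root_.Matrix.cons_val', _root_.Matrix.cons_val_fin_one, Fin.isValue, _root_.Matrix.cons_val_zero, _root_.Matrix.cons_val_succ, _root_.Fin.succ_zero_eq_one, _root_.Finset.univ_unique, _root_.Fin.default_eq_zero, _root_.Finset.sum_singleton, _root_.Fin.succ_one_eq_two, _root_.map_zero, _root_.MulZeroClass.zero_mul, _root_.map_one, _root_.one_mul, _root_.Finset.sum_const_zero, _root_.add_zero, _root_.zero_add, _root_.Matrix.cons_val_one, _root_.Matrix.cons_val, _root_.Finset.sum_const, _root_.Finset.card_singleton, _root_.one_smul, _root_.implies_true, _root_.and_self])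

theorem exists_x (φ : ZMod 2 →+* F) (R : QuadraticForm F U) : ∃ x ∈ E (HU (Fin 3) R), Rep φ x X1 := by
  obtain ⟨g1, h1, r1⟩ := rep1 φ R
  obtain ⟨g2, h2, r2⟩ := rep2 φ R
  obtain ⟨g3, h3, r3⟩ := rep3 φ R
  obtain ⟨g4, h4, r4⟩ := rep4 φ R
  obtain ⟨g5, h5, r5⟩ := rep5 φ R
  refine ⟨g1 * g2 * g3 * g4 * g5, mul_mem (mul_mem (mul_mem (mul_mem h1 h2) h3) h4) h5, ?_⟩
  have := (((r1.mul r2).mul r3).mul r4).mul r5
  rwa [m2, m3, m4, m5] at this

/-- the element of order seven is a product of two elements of order five -/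
theorem pe_y (φ : ZMod 2 →+* F) (R : QuadraticForm F U) : PE 5 2 (slE R (Fin 3) (AA φ)) := by
  obtain ⟨x, hx, rx⟩ := exists_x φ R
  have ry : Rep (U := U) φ (slL (Fin 3) F U (AA φ)) Y1 := rep_y φ
  have rx2 : Rep φ (x * x) X2 := x2 ▸ rx.mul rx
  have rx4 : Rep φ (x * x * (x * x)) X4 := x4 ▸ rx2.mul rx2
  have rx5 : Rep φ (x * x * (x * x) * x) 1 := x5 ▸ rx4.mul rx
  have hx5 : x * x * (x * x) * x = 1 := rx5.eq Rep.one
  set z := x * x * (x * x) * slL (Fin 3) F U (AA φ) with hz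
  have rz : Rep φ z Z1 := z1 ▸ rx4.mul ry
  have rz2 : Rep φ (z * z) Z2 := z2 ▸ rz.mul rz
  have rz4 : Rep φ (z * z * (z * z)) Z4 := z4 ▸ rz2.mul rz2
  have rz5 : Rep φ (z * z * (z * z) * z) 1 := z5 ▸ rz4.mul rz
  have hz5 : z * z * (z * z) * z = 1 := rz5.eq Rep.one
  have hyE := slL_mem_E R (AA φ)
  have hzE : z ∈ E (HU (Fin 3) R) := mul_mem (mul_mem (mul_mem hx hx) (mul_mem hx hx)) hyE
  have e5 : ∀ g : Sp F U ≃ₗ[F] Sp F U, g ^ 5 ^ 1 = g * g * (g * g) * g := by
    intro g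
    rw [pow_one]
    show g ^ (4 + 1) = _
    rw [pow_succ, show g ^ 4 = g ^ 2 * g ^ 2 from (pow_add g 2 2), pow_two]
  refine ⟨⟨x, hx⟩, ⟨z, hzE⟩, ⟨1, ?_⟩, ?_, ?_⟩
  · apply Subtype.ext
    show x ^ 5 ^ 1 = 1
    rw [e5, hx5]
  · refine IsPE.pe ⟨1, ?_⟩
    apply Subtype.ext
    show z ^ 5 ^ 1 = 1
    rw [e5, hz5]
  · apply Subtype.ext
    show x * z = slL (Fin 3) F U (AA φ)
    rw [hz, ← mul_assoc]
    have : x * (x * x * (x * x)) = x * x * (x * x) * x := by group
    rw [this, hx5, one_mul]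

theorem exists_phi [Finite F] (h : Nat.card F = 2) : Nonempty (ZMod 2 →+* F) := by
  have := Fintype.ofFinite F
  have h' : Fintype.card F = 2 := by rw [← Nat.card_eq_fintype_card]; exact h
  exact ⟨(ZMod.ringEquivOfPrime F Nat.prime_two h').toRingHom⟩

/-- the polynomial `X³ + X + 1` -/
theorem aeval_A [Finite F] (φ : ZMod 2 →+* F) : aeval (AA φ).1 (X ^ 3 + X + 1 : F[X]) = 0 := by
  have h : A0.1 ^ 3 + A0.1 + 1 = 0 := by decide +kernel
  have h' := congrArg (φ.mapMatrix) h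
  rw [map_add, map_add, map_pow, map_one, map_zero] at h'
  rw [map_add, map_add, map_pow, map_one, aeval_X]
  exact h'

theorem aeval_Ai [Finite F] (φ : ZMod 2 →+* F) : aeval ((AA φ)⁻¹).1 (X ^ 3 + X + 1 : F[X]) = (AA φ).1 := by
  have h : A0i.1 ^ 3 + A0i.1 + 1 = A0.1 := by decide +kernel
  have h' := congrArg (φ.mapMatrix) h
  rw [map_add, map_add, map_pow, map_one] at h'
  rw [map_add, map_add, map_pow, map_one, aeval_X, AA_inv]
  exact h'

theorem cyclic_A (φ : ZMod 2 →+* F) :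
    Submodule.span F (Set.range fun i : ℕ => ((AA φ).1 ^ i) *ᵥ (Pi.single 0 1 : Fin 3 → F)) = ⊤ := by
  rw [eq_top_iff]
  intro v _
  have e1 : (Pi.single 1 1 : Fin 3 → F) = ((AA φ).1 ^ 1) *ᵥ (Pi.single 0 1 : Fin 3 → F) := by
    rw [pow_one, AA_val]
    funext i
    (revert i; simp only [A0, _root_.Fin.forall_fin_succ, Fin.isValue, _root_.Matrix.mulVec_single, _root_.MulOpposite.op_one, _root_.Pi.smul_apply, _root_.Matrix.col_apply, _root_.Matrix.map_apply, _root_.Matrix.of_apply, _root_.Matrix.cons_val', _root_.Matrix.cons_val_zero, _root_.Matrix.cons_val_fin_one, _root_.one_smul, _root_.ne_eq, _root_.zero_ne_one, _root_.not_false_eq_true, _root_.Pi.single_eq_of_ne, _root_.map_zero, _root_.Matrix.cons_val_succ, _root_.Fin.succ_zero_eq_one, _root_.Pi.single_eq_same, _root_.map_one, _root_.Fin.succ_one_eq_two, Fin.reduceEq, _root_.IsEmpty.forall_iff, _root_.and_self])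
  have e2 : (Pi.single 2 1 : Fin 3 → F) = ((AA φ).1 ^ 2) *ᵥ (Pi.single 0 1 : Fin 3 → F) := by
    have h : A0.1 ^ 2 = !![0, 1, 0; 0, 1, 1; 1, 0, 1] := by decide +kernel
    have h' := congrArg (φ.mapMatrix) h
    rw [map_pow] at h'
    have h'' : (AA φ).1 ^ 2 = (!![0, 1, 0; 0, 1, 1; 1, 0, 1] : Matrix (Fin 3) (Fin 3) (ZMod 2)).map φ := h'
    rw [h'']
    funext i
    (revert i; simp only [_root_.Fin.forall_fin_succ, Fin.isValue, _root_.Matrix.mulVec_single, _root_.MulOpposite.op_one, _root_.Pi.smul_apply, _root_.Matrix.col_apply, _root_.Matrix.map_apply, _root_.Matrix.of_apply, _root_.Matrix.cons_val', _root_.Matrix.cons_val_zero, _root_.Matrix.cons_val_fin_one, _root_.one_smul, _root_.ne_eq, Fin.reduceEq, _root_.not_false_eq_true, _root_.Pi.single_eq_of_ne, _root_.map_zero, _root_.Matrix.cons_val_succ, _root_.Fin.succ_zero_eq_one, _root_.map_one, _root_.Fin.succ_one_eq_two, _root_.Pi.single_eq_same, _root_.IsEmpty.forall_iff, _root_.and_self])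
  have hv : v = v 0 • (Pi.single 0 1 : Fin 3 → F) + v 1 • Pi.single 1 1 + v 2 • Pi.single 2 1 := by
    funext i
    (revert i; simp only [_root_.Fin.forall_fin_succ, Fin.isValue, _root_.Pi.add_apply, _root_.Pi.smul_apply, _root_.smul_eq_mul, _root_.Pi.single_eq_same, _root_.mul_one, _root_.ne_eq, _root_.zero_ne_one, _root_.not_false_eq_true, _root_.Pi.single_eq_of_ne, _root_.MulZeroClass.mul_zero, _root_.add_zero, Fin.reduceEq, _root_.Fin.succ_ne_zero, _root_.zero_add, _root_.Fin.succ_zero_eq_one, _root_.Fin.succ_one_eq_two, _root_.IsEmpty.forall_iff, _root_.and_self])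
  rw [hv]
  refine add_mem (add_mem (Submodule.smul_mem _ _ ?_) (Submodule.smul_mem _ _ ?_)) (Submodule.smul_mem _ _ ?_)
  · exact Submodule.subset_span ⟨0, by
      show ((AA φ).1 ^ 0) *ᵥ (Pi.single 0 1 : Fin 3 → F) = _
      rw [pow_zero, Matrix.one_mulVec]⟩
  · rw [e1]; exact Submodule.subset_span ⟨1, rfl⟩
  · rw [e2]; exact Submodule.subset_span ⟨2, rfl⟩

theorem lemmaX_eight_two [Finite F] [FiniteDimensional F U] (hF : Nat.card F = 2) {p : ℕ} (hp : p.Prime)
    (ho : orderOf ((Nat.card F : ℕ) : ZMod p) = 4) {R : QuadraticForm F U} (hR : Nondeg R)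
    (hU : finrank F U = 2) (hA : MinDeg (E (HU (Fin 3) R)) 23) : PW p 70 (E (HU (Fin 3) R)) := by
  obtain ⟨φ⟩ := exists_phi hF
  have hfin : Finite (E (HU (Fin 3) R)) := finite_E _
  -- `p = 5`
  have hp5 : p = 5 := by
    rw [hF] at ho
    have h1 : ((2 : ℕ) : ZMod p) ^ 4 = 1 := by rw [← ho]; exact pow_orderOf_eq_one _
    have h2 : ((15 : ℕ) : ZMod p) = 0 := by
      have : ((15 : ℕ) : ZMod p) = ((2 : ℕ) : ZMod p) ^ 4 - 1 := by push_cast; (set_option synthInstance.maxSize 99999 in exact Cfsg.Agent.Lib.RingK.eq (by decide +kernel))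
      rw [this, h1, sub_self]
    have h3 : p ∣ 15 := (ZMod.natCast_eq_zero_iff _ _).1 h2
    have h4 : p ∣ 3 * 5 := h3
    rcases hp.dvd_mul.1 h4 with h | h
    · have h5 : p = 3 := (Nat.prime_dvd_prime_iff_eq hp Nat.prime_three).1 h
      subst h5
      exfalso
      have h6 : ((2 : ℕ) : ZMod 3) ^ 2 = 1 := by decide
      have h7 := orderOf_dvd_of_pow_eq_one h6
      rw [ho] at h7
      omega
    · exact (Nat.prime_dvd_prime_iff_eq hp Nat.prime_five).1 h
  subst hp5
  have hperf : _root_.commutator (E (HU (Fin 3) R)) = ⊤ := perfect_of_good (good_HU hR (by omega))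
  have hc : Nat.card {y : Module.End F U // ∀ u, R (y u) = R u} ≤ 8 := by
    have h := Cfsg.Agent.H990.TC.Cent.card_iso_two R
      (fun u hu => hR u fun v => by rw [QuadraticMap.polar_comm]; exact hu v) hU
    rw [hF] at h
    exact h
  have hcent := Cfsg.Agent.H926.OgCent.lemmaB R (AA φ) (X ^ 3 + X + 1) (aeval_A φ)
    (fun x hx => by
      rw [aeval_Ai] at hx
      have h := congrArg (fun z => ((AA φ)⁻¹).1 *ᵥ z) hx
      simp only [Matrix.mulVec_mulVec, Matrix.mulVec_zero] at h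
      rwa [val_inv_mul, Matrix.one_mulVec] at h)
    (by
      have h2 := two_eq_zero φ
      have : (X ^ 3 + X + 1 : F[X]).eval 1 = 1 := by
        simp only [eval_add, eval_pow, eval_X, eval_one, one_pow]
        linear_combination h2
      rw [this]
      exact one_ne_zero)
    (Pi.single 0 1) (fun h => by simpa using congrFun h 0) (cyclic_A φ) hc
  have hcard := (card_centralizer_le (slE R (Fin 3) (AA φ))).trans hcent
  rw [hF] at hcard
  refine (PW.of_pe (m := 2) (k := 6) hperf (pe_y φ R) hA (by norm_num) ?_).mono (by norm_num)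
  exact lt_of_le_of_lt (Nat.pow_le_pow_left (Nat.sub_le_sub_right hcard 1) 6) (by norm_num)

end Cfsg.Agent.H124.Og
end

-- part: H105/Og/Rows
section
/-!
# S2454, the orthogonal rows (helper105)
-/

set_option autoImplicit false
set_option linter.unusedSectionVars false

namespace Cfsg.Agent.H105.Og

open QuadraticMap Cfsg Matrix Module Subgroup Polynomial Cfsg.Agent.LieClassical.OrthCore Cfsg.Agent.H514.DP

section

variable {F : Type} [Field F] [Finite F] {U : Type} [AddCommGroup U] [Module F U] [FiniteDimensional F U]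

theorem centB_of {n : ℕ} {R : QuadraticForm F U} {c : ℕ}
    (hc : Nat.card {y : Module.End F U // ∀ u, R (y u) = R u} ≤ c) : CentB n R c :=
  fun A P hP hP' hP1 v0 hv0 hcyc => H926.OgCent.lemmaB R A P hP hP' hP1 v0 hv0 hcyc hc

theorem nd {R : QuadraticForm F U} (hR : Nondeg R) : ∀ u, (∀ v, QuadraticMap.polar R v u = 0) → u = 0 :=
  fun u hu => hR u (fun v => by rw [polar_comm]; exact hu v)

theorem engine' {n r c : ℕ} {R : QuadraticForm F U} (hR : Nondeg R) (hr : finrank F U = r)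
    (hcase : (r = 0 ∧ 4 ≤ n ∧ c = 1) ∨ (r = 1 ∧ 3 ≤ n ∧ 3 ≤ Nat.card F ∧ c = 2) ∨ (r = 2 ∧ 3 ≤ n ∧ c = 4 * Nat.card F))
    {p : ℕ} (hy : ∀ (cc : ℕ → F) (h : (_root_.Cfsg.Agent.H514.DP.comp n cc).det = 1), PE p 10 (slE R (Fin n) (compSL n cc h))) :
    PW p 70 (E (HU (Fin n) R)) := by
  have hn : 3 ≤ n := by omega
  have hq : 2 ≤ Nat.card F := Finite.one_lt_card
  have hA := lemmaA hn hR (by omega)
  have hc : Nat.card {y : Module.End F U // ∀ u, R (y u) = R u} ≤ c := by
    rcases hcase with ⟨rfl, -, rfl⟩ | ⟨rfl, -, -, rfl⟩ | ⟨rfl, -, rfl⟩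
    · exact Cfsg.Agent.H990.TC.Cent.card_iso_zero R hr
    · exact Cfsg.Agent.H990.TC.Cent.card_iso_one R (nd hR) hr
    · exact Cfsg.Agent.H990.TC.Cent.card_iso_two R (nd hR) hr
  subst hr
  exact engine hn hR (centB_of hc) hA (H889.Og.num hn hq (by
    rcases hcase with ⟨h1, h2, h3⟩ | ⟨h1, h2, h3, h4⟩ | ⟨h1, h2, h3⟩
    · exact Or.inl ⟨h1, h2, h3⟩
    · exact Or.inr (Or.inl ⟨h1, h3, h4⟩)
    · exact Or.inr (Or.inr ⟨h1, h3⟩))) hy

theorem hy_sl {n p : ℕ} (hp : p.Prime) (hn : 3 ≤ n) (hd : p ∣ Nat.card (_root_.Matrix.SpecialLinearGroup (Fin n) F))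
    (R : QuadraticForm F U) (cc : ℕ → F) (h : (_root_.Cfsg.Agent.H514.DP.comp n cc).det = 1) :
    PE p 10 (slE R (Fin n) (compSL n cc h)) :=
  (pe_compSL hp hn hd cc h).map _

theorem hy_win {n p i : ℕ} (hp : p.Prime) (hi : 3 ≤ i) (hi1 : i + 1 ≤ n) (hi2 : n < 2 * i)
    (ho : orderOf ((Nat.card F : ℕ) : ZMod p) = 2 * i) (R : QuadraticForm F U) (cc : ℕ → F)
    (h : (_root_.Cfsg.Agent.H514.DP.comp n cc).det = 1) : PE p 10 (slE R (Fin n) (compSL n cc h)) :=
  windows hi1 hi2 R (H166.Og.lemmaX_plus hi hp ho (fun x _ => Subsingleton.elim _ _) (by simp)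
    (lemmaA (by omega) (fun x _ => Subsingleton.elim _ _) (by simp; omega))) cc h

theorem lemmaX_seven {p : ℕ} (hp : p.Prime) (ho : orderOf ((Nat.card F : ℕ) : ZMod p) = 4)
    (h2 : (2 : F) ≠ 0) {R : QuadraticForm F U} (hR : Nondeg R) (hU : finrank F U = 1) :
    PW p 70 (E (HU (Fin 3) R)) :=
  H16.Og.lemmaX_seven_of hp ho h2 hR hU (by
    have := lemmaA (n := 3) le_rfl hR (by omega)
    rwa [hU] at this)

theorem lemmaX_eight {p : ℕ} (hp : p.Prime) (ho : orderOf ((Nat.card F : ℕ) : ZMod p) = 4)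
    {R : QuadraticForm F U} (hR : Nondeg R) (hU : finrank F U = 2) (han : ∀ u, R u = 0 → u = 0) :
    PW p 70 (E (HU (Fin 3) R)) := by
  have hq : 2 ≤ Nat.card F := Finite.one_lt_card
  rcases Nat.lt_or_ge 2 (Nat.card F) with h | h
  · exact H127.Og.lemmaX_eight h hp ho hR hU han
  · have h2 : Nat.card F = 2 := le_antisymm h hq
    refine H124.Og.lemmaX_eight_two h2 hp ho hR hU ?_
    have := lemmaA (n := 3) le_rfl hR (by omega)
    rwa [hU, h2] at this

theorem pw_plus {n : ℕ} (hn : 4 ≤ n) {R : QuadraticForm F U} (hR : Nondeg R) (hU : finrank F U = 0) {p : ℕ}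
    (hp : p.Prime) (hd : p ∣ Nat.card F ^ (n * (n - 1)) * (Nat.card F ^ n - 1) *
        ∏ i ∈ Finset.range (n - 1), (Nat.card F ^ (2 * (i + 1)) - 1)) : PW p 70 (E (HU (Fin n) R)) := by
  have hq : 1 < Nat.card F := Finite.one_lt_card
  refine engine' (c := 1) hR hU (Or.inl ⟨rfl, hn, rfl⟩) ?_
  by_cases hs : p ∣ Nat.card (_root_.Matrix.SpecialLinearGroup (Fin n) F)
  · exact hy_sl hp (by omega) hs R
  · obtain ⟨h1, h2⟩ := not_dvd_of_sl (by omega) hs
    rw [hp.dvd_mul, hp.dvd_mul] at hd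
    rcases hd with (hd | hd) | hd
    · exact absurd (hp.dvd_of_dvd_pow hd) h1
    · exact absurd hd (h2 n (by omega) le_rfl)
    · obtain ⟨j, hj, hd⟩ := (Prime.dvd_finsetProd_iff hp.prime _).1 hd
      have hj' := Finset.mem_range.1 hj
      obtain ⟨h3, h4⟩ := ord_eq hp hq h1 h2 (j := j + 1) (by omega) (by omega) hd
      exact hy_win hp (by omega) (by omega) h4 h3 R

theorem pw_odd {n : ℕ} (hn : 3 ≤ n) {R : QuadraticForm F U} (hR : Nondeg R) (hU : finrank F U = 1)
    (hF : (2 : F) ≠ 0) {p : ℕ} (hp : p.Prime)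
    (hd : p ∣ Nat.card F ^ (n ^ 2) * ∏ i ∈ Finset.range n, (Nat.card F ^ (2 * (i + 1)) - 1)) :
    PW p 70 (E (HU (Fin n) R)) := by
  have hq : 1 < Nat.card F := Finite.one_lt_card
  have hq3 : 3 ≤ Nat.card F := by
    by_contra hc
    have h2 : Nat.card F = 2 := by omega
    apply hF
    have := Fintype.ofFinite F
    rw [Nat.card_eq_fintype_card] at h2
    have h3 : ((Fintype.card F : ℕ) : F) = 0 := FiniteField.cast_card_eq_zero F
    rw [h2] at h3
    exact_mod_cast h3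
  by_cases hs : p ∣ Nat.card (_root_.Matrix.SpecialLinearGroup (Fin n) F)
  · exact engine' (c := 2) hR hU (Or.inr (Or.inl ⟨rfl, hn, hq3, rfl⟩)) (hy_sl hp (by omega) hs R)
  · obtain ⟨h1, h2⟩ := not_dvd_of_sl (by omega) hs
    rw [hp.dvd_mul] at hd
    rcases hd with hd | hd
    · exact absurd (hp.dvd_of_dvd_pow hd) h1
    · obtain ⟨j, hj, hd⟩ := (Prime.dvd_finsetProd_iff hp.prime _).1 hd
      have hj' := Finset.mem_range.1 hj
      obtain ⟨h3, h4⟩ := ord_eq hp hq h1 h2 (j := j + 1) (by omega) (by omega) hd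
      rcases Nat.lt_or_ge (j + 1) n with h5 | h5
      · rcases Nat.lt_or_ge 2 (j + 1) with h6 | h6
        · exact engine' (c := 2) hR hU (Or.inr (Or.inl ⟨rfl, hn, hq3, rfl⟩)) (hy_win hp h6 (by omega) h4 h3 R)
        · obtain rfl : n = 3 := by omega
          obtain rfl : j = 1 := by omega
          exact lemmaX_seven hp h3 hF hR hU
      · obtain rfl : n = j + 1 := by omega
        exact H166.Og.lemmaX_odd hn hp h3 hF hR hU (lemmaA hn hR (by omega))

theorem pw_minus {n : ℕ} (hn : 3 ≤ n) {R : QuadraticForm F U} (hR : Nondeg R) (hU : finrank F U = 2)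
    (han : ∀ u, R u = 0 → u = 0) {p : ℕ} (hp : p.Prime)
    (hd : p ∣ Nat.card F ^ ((n + 1) * n) * (Nat.card F ^ (n + 1) + 1) *
        ∏ i ∈ Finset.range n, (Nat.card F ^ (2 * (i + 1)) - 1)) :
    PW p 70 (E (HU (Fin n) R)) := by
  have hq : 1 < Nat.card F := Finite.one_lt_card
  by_cases hs : p ∣ Nat.card (_root_.Matrix.SpecialLinearGroup (Fin n) F)
  · exact engine' hR hU (Or.inr (Or.inr ⟨rfl, hn, rfl⟩)) (hy_sl hp (by omega) hs R)
  · obtain ⟨h1, h2⟩ := not_dvd_of_sl (by omega) hs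
    rw [hp.dvd_mul, hp.dvd_mul] at hd
    rcases hd with (hd | hd) | hd
    · exact absurd (hp.dvd_of_dvd_pow hd) h1
    · exact H166.Og.lemmaX_minus hn (Or.inr rfl) hp (ord_eq' hp hq (by omega) h1 h2 hd) hR hU han
        (lemmaA hn hR (by omega))
    · obtain ⟨j, hj, hd⟩ := (Prime.dvd_finsetProd_iff hp.prime _).1 hd
      have hj' := Finset.mem_range.1 hj
      obtain ⟨h3, h4⟩ := ord_eq hp hq h1 h2 (j := j + 1) (by omega) (by omega) hd
      rcases Nat.lt_or_ge (j + 1) n with h5 | h5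
      · rcases Nat.lt_or_ge 2 (j + 1) with h6 | h6
        · exact engine' hR hU (Or.inr (Or.inr ⟨rfl, hn, rfl⟩)) (hy_win hp h6 (by omega) h4 h3 R)
        · obtain rfl : n = 3 := by omega
          obtain rfl : j = 1 := by omega
          exact lemmaX_eight hp h3 hR hU han
      · obtain rfl : n = j + 1 := by omega
        exact H166.Og.lemmaX_minus hn (Or.inl rfl) hp h3 hR hU han (lemmaA hn hR (by omega))

end

/-- **`PΩ⁺`** -/
theorem pw_omegaPlus {S : Type*} [Group S] [Finite S] [IsSimpleGroup S] {l : ℕ} (h : IsPOmegaPlusChar l S)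
    {p : ℕ} (hp : p.Prime) (hd : p ∣ Nat.card S) : PW p 70 S := by
  obtain ⟨F, _, _, U, _, _, _, n, R, hn, hU, hR, hcard, ⟨e⟩⟩ := H36.Og.transPlus h
  exact ((pw_plus hn hR hU hp (hd.trans hcard)).map (QuotientGroup.mk' _) (QuotientGroup.mk'_surjective _)).congr e

/-- **`PΩ⁻`** -/
theorem pw_omegaMinus {S : Type*} [Group S] [Finite S] [IsSimpleGroup S] {l : ℕ} (h : IsPOmegaMinusChar l S)
    {p : ℕ} (hp : p.Prime) (hd : p ∣ Nat.card S) : PW p 70 S := by
  obtain ⟨F, _, _, U, _, _, _, n, R, hn, hU, hR, han, hcard, ⟨e⟩⟩ := H926.TransMinus.transMinus h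
  exact ((pw_minus hn hR hU han hp (hd.trans hcard)).map (QuotientGroup.mk' _)
    (QuotientGroup.mk'_surjective _)).congr e

/-- **`PΩ`**, odd dimension -/
theorem pw_omegaOdd {S : Type*} [Group S] [Finite S] [IsSimpleGroup S] {l : ℕ} (h : IsPOmegaOddChar l S)
    {p : ℕ} (hp : p.Prime) (hd : p ∣ Nat.card S) : PW p 70 S := by
  obtain ⟨F, _, _, U, _, _, _, n, R, hn, hU, hR, hF, hcard, ⟨e⟩⟩ := transOdd h
  exact ((pw_odd hn hR hU hF hp (hd.trans hcard)).map (QuotientGroup.mk' _)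
    (QuotientGroup.mk'_surjective _)).congr e

end Cfsg.Agent.H105.Og
end

private theorem dce_4014e76eb75b : _root_.True := by
  try have : _root_.True := by simp only [_root_.Cfsg.Agent.H124.Og.cc.eq_1]
  try have : _root_.True := by simp only [_root_.Cfsg.Agent.H124.Og.psi.eq_1]
  try have : _root_.True := by simp only [_root_.Cfsg.Agent.H926.TransMinus.binF.eq_1]
  try have : _root_.True := by simp only [_root_.Cfsg.Agent.H124.Og.B5.eq_1]
  try have : _root_.True := by simp only [_root_.Cfsg.Agent.H124.Og.B3.eq_1]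
  try have : _root_.True := by simp only [_root_.Cfsg.Agent.H124.Og.Y1.eq_1]
  try have : _root_.True := by simp only [_root_.Cfsg.Agent.H124.Og.B1.eq_1]
  try have : _root_.True := by simp only [_root_.Cfsg.Agent.H124.Og.A0i.eq_1]
  try have : _root_.True := by simp only [_root_.Cfsg.Agent.H124.Og.B4.eq_1]
  try have : _root_.True := by simp only [_root_.Cfsg.Agent.H124.Og.AA.eq_1]
  try have : _root_.True := by simp only [_root_.Cfsg.Agent.H124.Og.A0.eq_1]
  try have : _root_.True := by simp only [_root_.Cfsg.Agent.H124.Og.ve.eq_1]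
  try have : _root_.True := by simp only [_root_.Cfsg.Agent.H124.Og.B2.eq_1]
  try have : _root_.True := by simp only [_root_.Cfsg.Agent.H124.Og.vf.eq_1]
  exact _root_.True.intro
end
end
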